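import Cfsg.Agent.Lib.Solvable.Cores
import Cfsg.Agent.Lib.Coprime.Action

/-!
# Chief factors below the Fitting subgroup of a normal subgroup

`Γ` is the ambient group (a group with operators), `G` a normal solvable subgroup.
-/

set_option autoImplicit false

namespace CfsgLib.Solvable.FPFOperators

open Subgroup CfsgLib
open scoped commutatorElement

variable {Γ : Type*} [Group Γ]

/-- `M / N` is a chief factor of `Γ`. -/
structure IsChief (N M : Subgroup Γ) : Prop where
  normalN : N.Normal
  normalM : M.Normal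
  lt : N < M
  minimal : ∀ L : Subgroup Γ, L.Normal → N ≤ L → L ≤ M → L = N ∨ L = M

/-- The Fitting subgroup of `G`, as a subgroup of `Γ`. -/
def fit (G : Subgroup Γ) : Subgroup Γ := (Cfsg.fittingSubgroup G).map G.subtype

theorem fit_le (G : Subgroup Γ) : fit G ≤ G := map_subtype_le _

instance fit_normal (G : Subgroup Γ) [hG : G.Normal] : (fit G).Normal := by
  refine ⟨fun x hx g => ?_⟩
  obtain ⟨y, hy, rfl⟩ := hx
  refine ⟨MulAut.conjNormal g y, ?_, MulAut.conjNormal_apply g y⟩
  have hchar : (Cfsg.fittingSubgroup G).map (MulAut.conjNormal g : MulAut G).toMonoidHom ≤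
      Cfsg.fittingSubgroup G := by
    rw [Cfsg.fittingSubgroup, Subgroup.map_le_iff_le_comap, sSup_le_iff]
    rintro N ⟨hN, hnil⟩
    rw [← Subgroup.map_le_iff_le_comap]
    haveI := hN
    haveI := hnil
    haveI : (N.map (MulAut.conjNormal g : MulAut G).toMonoidHom).Normal :=
      hN.map _ (MulAut.conjNormal g : MulAut G).surjective
    exact Solvable.Cores.le_fittingSubgroup
      (Group.nilpotent_of_surjective ((MulAut.conjNormal g : MulAut G).toMonoidHom.subgroupMap N)
        (MonoidHom.subgroupMap_surjective _ N))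
  exact hchar (Subgroup.mem_map_of_mem _ hy)

theorem le_fit {G E : Subgroup Γ} (hEG : E ≤ G) [hE : E.Normal] (h : Group.IsNilpotent E) :
    E ≤ fit G := by
  haveI := h
  haveI : (E.subgroupOf G).Normal := hE.subgroupOf G
  intro x hx
  refine ⟨⟨x, hEG hx⟩, ?_, rfl⟩
  exact Solvable.Cores.le_fittingSubgroup (N := E.subgroupOf G)
    (Group.nilpotent_of_mulEquiv (Subgroup.subgroupOfEquivOfLe hEG).symm) hx

theorem isNilpotent_fit [Finite Γ] (G : Subgroup Γ) : Group.IsNilpotent (fit G) := by
  have h : Group.IsNilpotent (Cfsg.fittingSubgroup G) := by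
    rw [Solvable.Cores.fittingSubgroup_eq_iSup_pCore]
    exact Solvable.Cores.iSup_pCore_isNilpotent
  haveI := h
  exact Group.nilpotent_of_surjective (G.subtype.subgroupMap _) (MonoidHom.subgroupMap_surjective _ _)

/-- The part of `G` acting trivially on all chief factors below `fit G`. -/
def chiefKernel (G : Subgroup Γ) : Subgroup Γ where
  carrier := {g | g ∈ G ∧ ∀ N M : Subgroup Γ, IsChief N M → M ≤ fit G → ∀ m ∈ M, ⁅g, m⁆ ∈ N}
  one_mem' := ⟨one_mem G, fun N _ _ _ m _ => by rw [commutatorElement_one_left]; exact one_mem N⟩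
  mul_mem' := by
    rintro a b ⟨ha, ha'⟩ ⟨hb, hb'⟩
    refine ⟨mul_mem ha hb, fun N M h hM m hm => ?_⟩
    rw [show ⁅a * b, m⁆ = a * ⁅b, m⁆ * a⁻¹ * ⁅a, m⁆ by simp only [commutatorElement_def]; group]
    exact mul_mem (h.normalN.conj_mem _ (hb' N M h hM m hm) a) (ha' N M h hM m hm)
  inv_mem' := by
    rintro a ⟨ha, ha'⟩
    refine ⟨inv_mem ha, fun N M h hM m hm => ?_⟩
    rw [show ⁅a⁻¹, m⁆ = a⁻¹ * ⁅a, m⁆⁻¹ * a by simp only [commutatorElement_def]; group]
    exact h.normalN.conj_mem' _ (inv_mem (ha' N M h hM m hm)) a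

theorem mem_chiefKernel {G : Subgroup Γ} {g : Γ} : g ∈ chiefKernel G ↔
    g ∈ G ∧ ∀ N M : Subgroup Γ, IsChief N M → M ≤ fit G → ∀ m ∈ M, ⁅g, m⁆ ∈ N := Iff.rfl

instance chiefKernel_normal (G : Subgroup Γ) [hG : G.Normal] : (chiefKernel G).Normal := by
  refine ⟨fun a ha x => ⟨hG.conj_mem a ha.1 x, fun N M h hM m hm => ?_⟩⟩
  rw [show ⁅x * a * x⁻¹, m⁆ = x * ⁅a, x⁻¹ * m * x⁆ * x⁻¹ by
    simp only [commutatorElement_def]; group]
  exact h.normalN.conj_mem _ (ha.2 N M h hM _ (h.normalM.conj_mem' m hm x)) x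

theorem fit_le_chiefKernel [Finite Γ] (G : Subgroup Γ) [G.Normal] : fit G ≤ chiefKernel G := by
  intro g hg
  refine ⟨fit_le G hg, fun N M h hM m hm => ?_⟩
  haveI := h.normalN
  haveI := h.normalM
  have hle : ⁅M, fit G⁆ ⊔ N = N := by
    refine (h.minimal _ inferInstance le_sup_right
      (sup_le (commutator_le_left M _) h.lt.le)).resolve_right fun heq => h.lt.not_ge ?_
    have key : ∀ k, M ≤ (fit G).lowerCentralSeries k ⊔ N := by
      intro k
      induction k with
      | zero => exact hM.trans le_sup_left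
      | succ k ih =>
        rw [Subgroup.lowerCentralSeries_succ]
        conv_lhs => rw [← heq]
        refine sup_le (commutator_le.2 fun u hu v hv => ?_) le_sup_right
        have hmk : QuotientGroup.mk' N u ∈ ((fit G).lowerCentralSeries k).map (QuotientGroup.mk' N) := by
          have := Subgroup.mem_map_of_mem (QuotientGroup.mk' N) (ih hu)
          rwa [Subgroup.map_sup, (Subgroup.map_eq_bot_iff N).mpr (by rw [QuotientGroup.ker_mk']),
            sup_bot_eq] at this
        obtain ⟨w, hw, hwu⟩ := hmk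
        have h1 : ⁅u, v⁆⁻¹ * ⁅w, v⁆ ∈ N := by
          rw [← QuotientGroup.eq_one_iff]
          show QuotientGroup.mk' N (⁅u, v⁆⁻¹ * ⁅w, v⁆) = 1
          rw [map_mul, map_inv, map_commutatorElement, map_commutatorElement, hwu, inv_mul_cancel]
        rw [show ⁅u, v⁆ = ⁅w, v⁆ * (⁅u, v⁆⁻¹ * ⁅w, v⁆)⁻¹ by group]
        exact mul_mem_sup (commutator_mem_commutator hw hv) (inv_mem h1)
    obtain ⟨k, hk⟩ := Subgroup.isNilpotent_iff_lowerCentralSeries _ |>.mp (isNilpotent_fit G)
    exact (key k).trans (by rw [hk, bot_sup_eq])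
  rw [← hle]
  exact mem_sup_left (by
    rw [← inv_mem_iff, commutatorElement_inv]; exact commutator_mem_commutator hm hg)

/-- A subgroup of a solvable `G` centralising all chief factors below `fit G` lies in `fit G`. -/
theorem chiefKernel_le_fit [Finite Γ] (G : Subgroup Γ) [hG : G.Normal] [Group.IsSolvable G] :
    chiefKernel G ≤ fit G := by
  by_contra hne
  set mk := QuotientGroup.mk' (fit G) with hmk
  have hne' : (chiefKernel G).map mk ≠ ⊥ := fun h => hne (by
    have := (Subgroup.map_eq_bot_iff _).mp h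
    rwa [QuotientGroup.ker_mk'] at this)
  haveI : ((chiefKernel G).map mk).Normal :=
    (chiefKernel_normal G).map mk (QuotientGroup.mk'_surjective _)
  obtain ⟨T, hTn, hT, hTle, hmin⟩ := Solvable.Basic.exists_minimal_normal_le hne'
  haveI := hTn
  have hTG : T ≤ G.map mk := hTle.trans (Subgroup.map_mono fun g hg => hg.1)
  haveI : Group.IsSolvable T := by
    haveI : Group.IsSolvable (G.map mk) :=
      Group.isSolvable_of_surjective (f := mk.subgroupMap G) (mk.subgroupMap_surjective G)
    exact Coprime.isSolvable_of_le hTG inferInstance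
  obtain ⟨hc, -⟩ := Solvable.Basic.minimal_normal_solvable T hT hmin
  let E := T.comap mk
  haveI : E.Normal := hTn.comap mk
  have hEK : E ≤ chiefKernel G := by
    refine (Subgroup.comap_mono hTle).trans ?_
    rw [Subgroup.comap_map_eq, QuotientGroup.ker_mk']
    exact sup_le le_rfl (fit_le_chiefKernel G)
  have hE1 : ⁅E, E⁆ ≤ fit G := by
    rw [commutator_le]
    intro a ha b hb
    rw [← QuotientGroup.eq_one_iff]
    show mk ⁅a, b⁆ = 1
    rw [map_commutatorElement, commutatorElement_eq_one_iff_mul_comm]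
    exact (Solvable.Basic.isMulCommutative_subgroup_iff.mp hc) _ ha _ hb
  -- the series descends to `1`
  have key : ∀ c : ℕ, ∀ M : Subgroup Γ, M.Normal → M ≤ fit G → Nat.card M = c →
      ∃ k, ∀ L ≤ M, ((fun X => ⁅X, E⁆)^[k]) L = ⊥ := by
    intro c
    induction c using Nat.strong_induction_on with
    | _ c ih =>
      intro M hMn hM hc
      by_cases hMb : M = ⊥
      · exact ⟨0, fun L hL => by rw [Function.iterate_zero, id, eq_bot_iff]; exact hMb ▸ hL⟩
      obtain ⟨N, -, ⟨hNn, hNM⟩, hmax⟩ := Finite.exists_le_maximal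
        (p := fun X : Subgroup Γ => X.Normal ∧ X < M) ⟨inferInstance, bot_lt_iff_ne_bot.2 hMb⟩
      have hch : IsChief N M := ⟨hNn, hMn, hNM, fun L hL h1 h2 => by
        rcases h2.lt_or_eq with h3 | h3
        · exact Or.inl (le_antisymm (hmax ⟨hL, h3⟩ h1) h1)
        · exact Or.inr h3⟩
      have hlt : Nat.card N < c := hc ▸ lt_of_le_of_ne (Subgroup.card_le_of_le hNM.le)
        (fun he => hNM.ne (eq_of_le_of_card_ge hNM.le he.ge))
      obtain ⟨k, hk⟩ := ih _ hlt N hNn (hNM.le.trans hM) rfl
      refine ⟨k + 1, fun L hL => ?_⟩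
      rw [Function.iterate_succ_apply]
      refine hk _ (commutator_le.2 fun l hl e he => ?_)
      rw [← inv_mem_iff, commutatorElement_inv]
      exact (hEK he).2 N M hch hM l (hL hl)
  obtain ⟨k, hk⟩ := key _ (fit G) inferInstance le_rfl rfl
  have hnil : Group.IsNilpotent E := by
    rw [Subgroup.isNilpotent_iff_lowerCentralSeries]
    refine ⟨1 + k, ?_⟩
    have : ∀ j, E.lowerCentralSeries (1 + j) = ((fun X => ⁅X, E⁆)^[j]) ⁅E, E⁆ := by
      intro j
      induction j with
      | zero => rfl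
      | succ j ihj =>
        rw [← add_assoc, Subgroup.lowerCentralSeries_succ, ihj, Function.iterate_succ_apply']
    rw [this, hk _ hE1]
  have hEG : E ≤ G := hEK.trans fun g hg => hg.1
  have hle := le_fit hEG hnil
  apply hT
  rw [← Subgroup.map_comap_eq_self_of_surjective (QuotientGroup.mk'_surjective (fit G)) T,
    Subgroup.map_eq_bot_iff, QuotientGroup.ker_mk']
  exact hle

/-- A chief factor below a solvable normal subgroup is elementary abelian. -/
theorem IsChief.elementary [Finite Γ] {G N M : Subgroup Γ} [hGs : Group.IsSolvable G]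
    (h : IsChief N M) (hMG : M ≤ G) :
    ∃ r : ℕ, r.Prime ∧ (∀ a ∈ M, a ^ r ∈ N) ∧ ∀ a ∈ M, ∀ b ∈ M, ⁅a, b⁆ ∈ N := by
  haveI := h.normalN
  haveI := h.normalM
  set mk := QuotientGroup.mk' N with hmk
  haveI : (M.map mk).Normal := h.normalM.map mk (QuotientGroup.mk'_surjective _)
  haveI : Group.IsSolvable (M.map mk) := by
    haveI : Group.IsSolvable M := Coprime.isSolvable_of_le hMG hGs
    exact Group.isSolvable_of_surjective (f := mk.subgroupMap M) (mk.subgroupMap_surjective M)
  have hne : M.map mk ≠ ⊥ := fun h0 => h.lt.not_ge (by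
    have := (Subgroup.map_eq_bot_iff _).mp h0
    rwa [QuotientGroup.ker_mk'] at this)
  obtain ⟨hc, r, hr, hexp, -⟩ := Solvable.Basic.minimal_normal_solvable _ hne fun L hL hLle => by
    rcases h.minimal (L.comap mk) (hL.comap mk) (QuotientGroup.le_comap_mk' N L) (by
      refine (Subgroup.comap_mono hLle).trans ?_
      rw [Subgroup.comap_map_eq, QuotientGroup.ker_mk', sup_eq_left.mpr h.lt.le]) with h1 | h1
    · left
      rw [← Subgroup.map_comap_eq_self_of_surjective (QuotientGroup.mk'_surjective N) L, h1,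
        Subgroup.map_eq_bot_iff, QuotientGroup.ker_mk']
    · right
      rw [← Subgroup.map_comap_eq_self_of_surjective (QuotientGroup.mk'_surjective N) L, h1]
  refine ⟨r, hr, fun a ha => ?_, fun a ha b hb => ?_⟩
  · rw [← QuotientGroup.eq_one_iff]
    show mk (a ^ r) = 1
    rw [map_pow]; exact hexp _ (Subgroup.mem_map_of_mem _ ha)
  · rw [← QuotientGroup.eq_one_iff]
    show mk ⁅a, b⁆ = 1
    rw [map_commutatorElement, commutatorElement_eq_one_iff_mul_comm]
    exact (Solvable.Basic.isMulCommutative_subgroup_iff.mp hc) _ (Subgroup.mem_map_of_mem _ ha) _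
      (Subgroup.mem_map_of_mem _ hb)

end CfsgLib.Solvable.FPFOperators
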