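import Cfsg.Agent.Lib.Coprime.Action
import Mathlib.RingTheory.SimpleModule.IsAlgClosed
import Mathlib.LinearAlgebra.GeneralLinearGroup.AlgEquiv
import Mathlib.LinearAlgebra.Matrix.ToLin
import Mathlib.Algebra.Central.End
import Mathlib.Algebra.Order.Chebyshev
import Mathlib.RingTheory.RootsOfUnity.AlgebraicallyClosed
import Mathlib.GroupTheory.GroupAction.Quotient

/-!
# An operator missing an eigenvalue over a twisted group algebra

If the images of `Q / R` span a central simple algebra of dimension `d ^ 2` on `W`, and an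
operator `s` with `s ^ N = 1` permutes the nontrivial elements of `Q / R` freely and has
`∑ s ^ i = 0` on `W`, then `d + 1 ≤ N` and `N ∣ d ^ 2 - 1`.
-/

set_option autoImplicit false

namespace CfsgLib.Solvable.FPFOperators

open Subgroup CfsgLib
open scoped commutatorElement

section Cyclic

variable {K : Type*} [Field K] {A : Type*} [Ring A] [Algebra K A]

/-- The eigenprojection of an element of finite order. -/
noncomputable def cycProj (N : ℕ) (ζ : K) (S : A) (k : ℕ) : A :=
  (N : K)⁻¹ • ∑ i ∈ Finset.range N, (ζ ^ (k * i))⁻¹ • S ^ i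

variable {N : ℕ} {ζ : K} {S : A}

theorem mul_cycProj (hζ : IsPrimitiveRoot ζ N) (hN : 0 < N) (hS : S ^ N = 1) (k : ℕ) :
    S * cycProj N ζ S k = ζ ^ k • cycProj N ζ S k := by
  have hζ0 : ζ ≠ 0 := hζ.ne_zero hN.ne'
  rw [cycProj, mul_smul_comm, smul_comm (ζ ^ k)]
  congr 1
  rw [Finset.mul_sum, Finset.smul_sum]
  have h : ∀ i, S * ((ζ ^ (k * i))⁻¹ • S ^ i) = ζ ^ k • ((ζ ^ (k * (i + 1)))⁻¹ • S ^ (i + 1)) := by
    intro i
    rw [mul_smul_comm, ← pow_succ', smul_smul]
    congr 1
    rw [mul_add, mul_one, pow_add, mul_inv, mul_comm (ζ ^ (k * i))⁻¹,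
      mul_inv_cancel_left₀ (pow_ne_zero k hζ0)]
  simp only [h]
  rw [← Finset.smul_sum, ← Finset.smul_sum]
  congr 1
  have h2 := Finset.sum_range_succ (fun i => (ζ ^ (k * i))⁻¹ • S ^ i) N
  rw [Finset.sum_range_succ' (fun i => (ζ ^ (k * i))⁻¹ • S ^ i) N, mul_zero, pow_zero, pow_zero,
    inv_one, one_smul, hS, mul_comm k N, pow_mul, hζ.pow_eq_one, one_pow, inv_one, one_smul] at h2
  exact add_right_cancel h2

theorem cycProj_mul_comm (k : ℕ) {x : A} (h : Commute S x) : Commute (cycProj N ζ S k) x := by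
  refine Commute.smul_left (Commute.sum_left _ _ _ fun i _ => ?_) _
  exact (h.pow_left i).smul_left _

theorem sum_pow_eq_ite (hζ : IsPrimitiveRoot ζ N) (m : ℕ) :
    ∑ i ∈ Finset.range N, (ζ ^ m) ^ i = if N ∣ m then (N : K) else 0 := by
  split_ifs with h
  · rw [(hζ.pow_eq_one_iff_dvd m).mpr h]; simp
  · have hne : ζ ^ m ≠ 1 := fun h1 => h ((hζ.pow_eq_one_iff_dvd m).mp h1)
    rw [geom_sum_eq hne, ← pow_mul, mul_comm, pow_mul, hζ.pow_eq_one, one_pow, sub_self, zero_div]

theorem sum_cycProj (hζ : IsPrimitiveRoot ζ N) (hN : 0 < N) (hNK : (N : K) ≠ 0) :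
    ∑ k ∈ Finset.range N, cycProj N ζ S k = 1 := by
  simp only [cycProj]
  rw [← Finset.smul_sum, Finset.sum_comm]
  have h : ∀ i ∈ Finset.range N, ∑ k ∈ Finset.range N, (ζ ^ (k * i))⁻¹ • S ^ i =
      (if i = 0 then (N : K) else 0) • S ^ i := by
    intro i hi
    rw [← Finset.sum_smul]
    congr 1
    have hζ' : IsPrimitiveRoot ζ⁻¹ N := hζ.inv
    calc ∑ k ∈ Finset.range N, (ζ ^ (k * i))⁻¹ = ∑ k ∈ Finset.range N, (ζ⁻¹ ^ i) ^ k :=
          Finset.sum_congr rfl fun k _ => by rw [← pow_mul, inv_pow, mul_comm i k]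
      _ = if N ∣ i then (N : K) else 0 := sum_pow_eq_ite hζ' i
      _ = if i = 0 then (N : K) else 0 := by
          refine if_congr ⟨fun h => ?_, fun h => h ▸ dvd_zero N⟩ rfl rfl
          exact Nat.eq_zero_of_dvd_of_lt h (Finset.mem_range.mp hi)
  rw [Finset.sum_congr rfl h]
  simp [ite_smul, Finset.sum_ite_eq', hN, smul_smul, hNK]

theorem cycProj_mul_cycProj (hζ : IsPrimitiveRoot ζ N) (hN : 0 < N) (hS : S ^ N = 1)
    {j k : ℕ} (hj : j < N) (hk : k < N) (hjk : k ≠ j) :
    cycProj N ζ S k * cycProj N ζ S j = 0 := by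
  have hζ0 : ζ ≠ 0 := hζ.ne_zero hN.ne'
  have hpow : ∀ i, S ^ i * cycProj N ζ S j = (ζ ^ j) ^ i • cycProj N ζ S j := by
    intro i
    induction i with
    | zero => simp
    | succ i ih => rw [pow_succ', mul_assoc, ih, mul_smul_comm, mul_cycProj hζ hN hS, smul_smul,
        ← pow_succ]
  have hcongr : (∑ i ∈ Finset.range N, (ζ ^ (k * i))⁻¹ * (ζ ^ j) ^ i) = 0 := by
    calc (∑ i ∈ Finset.range N, (ζ ^ (k * i))⁻¹ * (ζ ^ j) ^ i)
        = ∑ i ∈ Finset.range N, (ζ ^ (j + (N - k))) ^ i := by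
          refine Finset.sum_congr rfl fun i _ => ?_
          have e : ζ ^ (j + (N - k)) = (ζ ^ k)⁻¹ * ζ ^ j := by
            rw [eq_inv_mul_iff_mul_eq₀ (pow_ne_zero k hζ0), ← pow_add,
              show k + (j + (N - k)) = N + j by omega, pow_add, hζ.pow_eq_one, one_mul]
          rw [e, mul_pow, inv_pow, ← pow_mul, ← pow_mul]
      _ = 0 := by
          rw [sum_pow_eq_ite hζ, if_neg]
          intro hd
          obtain ⟨c, hc⟩ := hd
          rcases Nat.lt_or_ge c 2 with h2 | h2
          · interval_cases c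
            · omega
            · exact hjk (by omega)
          · have : N * 2 ≤ N * c := Nat.mul_le_mul_left N h2
            omega
  conv_lhs => rw [cycProj, smul_mul_assoc, Finset.sum_mul]
  simp only [smul_mul_assoc, hpow, smul_smul, ← Finset.sum_smul, hcongr, zero_smul, smul_zero]

end Cyclic

variable {K : Type*} [Field K] [IsAlgClosed K] {W : Type*} [AddCommGroup W] [Module K W]
  [FiniteDimensional K W] [Nontrivial W] {Γ : Type*} [Group Γ] [Finite Γ]

/-- An operator missing the eigenvalue `1` over a twisted group algebra. -/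
theorem exists_twisted_bound (θ : Γ →* Module.End K W) (Q R : Subgroup Γ) [hQn : Q.Normal]
    [hRn : R.Normal] (hRQ : R ≤ Q) {s : Γ} {N : ℕ} (hN : 0 < N) (hs : s ^ N = 1)
    (hNK : (N : K) ≠ 0)
    (hscalar : ∀ x ∈ R, ∃ c : K, θ x = c • 1)
    (hcentral : ∀ x ∈ Q, (∀ y ∈ Q, θ (x * y) = θ (y * x)) → x ∈ R)
    (hcomm : ∀ x ∈ Q, ∀ y ∈ Q, ∃ c : K, θ ⁅x, y⁆ = c • 1)
    (hfree : ∀ i, 0 < i → i < N → ∀ x ∈ Q, ⁅s ^ i, x⁆ ∈ R → x ∈ R)
    (hsum : ∑ i ∈ Finset.range N, θ (s ^ i) = 0) :
    ∃ d : ℕ, R.relIndex Q = d * d ∧ d + 1 ≤ N ∧ N ∣ d * d - 1 := by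
  classical
  have hN2 : 2 ≤ N := by
    by_contra h
    have h1 : N = 1 := by omega
    rw [h1, Finset.sum_range_one, pow_zero, map_one] at hsum
    exact one_ne_zero hsum
  by_cases hQR : Q ≤ R
  · exact ⟨1, Subgroup.relIndex_eq_one.mpr hQR, by omega, by simp⟩
  haveI hR'n : (R.subgroupOf Q).Normal := hRn.subgroupOf Q
  let Mb := Q ⧸ R.subgroupOf Q
  haveI : Fintype Mb := Fintype.ofFinite _
  let a : Mb → Γ := fun m => ((m.out : Q) : Γ)
  have haQ : ∀ m, a m ∈ Q := fun m => (m.out : Q).2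
  have hunit : ∀ g, θ g * θ g⁻¹ = 1 := fun g => by rw [← map_mul, mul_inv_cancel, map_one]
  have hunit' : ∀ g, θ g⁻¹ * θ g = 1 := fun g => by rw [← map_mul, inv_mul_cancel, map_one]
  have hθne : ∀ g, θ g ≠ 0 := fun g h => by
    have := hunit g
    rw [h, zero_mul] at this
    exact zero_ne_one this
  let u : Mb → Module.End K W := fun m => θ (a m)
  -- every element of `Q` is a multiple of the representative
  have hrep : ∀ y (hy : y ∈ Q), ∃ c : K, θ y = c • u (QuotientGroup.mk (⟨y, hy⟩ : Q)) := by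
    intro y hy
    set m : Mb := QuotientGroup.mk (⟨y, hy⟩ : Q) with hm
    have h1 : (a m)⁻¹ * y ∈ R := by
      have : (m.out : Q)⁻¹ * ⟨y, hy⟩ ∈ R.subgroupOf Q := QuotientGroup.eq.mp (by
        rw [QuotientGroup.out_eq'])
      exact this
    obtain ⟨c, hc⟩ := hscalar _ h1
    refine ⟨c, ?_⟩
    calc θ y = θ (a m) * θ ((a m)⁻¹ * y) := by rw [← map_mul, mul_inv_cancel_left]
      _ = c • u m := by rw [hc, mul_smul_comm, mul_one]
  have hconj : ∀ y ∈ Q, ∀ m, ∃ c : K, θ y * u m * θ y⁻¹ = c • u m := by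
    intro y hy m
    obtain ⟨c, hc⟩ := hcomm y hy (a m) (haQ m)
    refine ⟨c, ?_⟩
    calc θ y * u m * θ y⁻¹ = θ (⁅y, a m⁆ * a m) := by
          rw [← map_mul, ← map_mul, commutatorElement_def, inv_mul_cancel_right]
      _ = c • u m := by rw [map_mul, hc, smul_mul_assoc, one_mul]
  choose χ hχ using hconj
  have hsep : ∀ m m', (∀ y (hy : y ∈ Q), χ y hy m = χ y hy m') → m = m' := by
    intro m m' h
    have hw : (a m)⁻¹ * a m' ∈ R := by
      refine hcentral _ (Q.mul_mem (Q.inv_mem (haQ m)) (haQ m')) fun y hy => ?_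
      have e1 : θ y * θ (a m) * θ y⁻¹ = χ y hy m • θ (a m) := hχ y hy m
      have e2 : θ y * θ (a m') * θ y⁻¹ = χ y hy m • θ (a m') := by rw [h y hy]; exact hχ y hy m'
      have e3 : θ y * θ ((a m)⁻¹ * a m') * θ y⁻¹ = θ ((a m)⁻¹ * a m') := by
        have h4 : θ y * θ (a m) * θ y⁻¹ * (θ y * θ ((a m)⁻¹ * a m') * θ y⁻¹) =
            θ y * θ (a m') * θ y⁻¹ := by
          simp only [← map_mul]; congr 1; group
        rw [e1, e2, smul_mul_assoc] at h4
        have hc0 : χ y hy m ≠ 0 := fun h0 => by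
          rw [h0, zero_smul] at e1
          refine hθne (y * a m * y⁻¹) ?_
          rw [map_mul, map_mul]; exact e1
        have h5 := smul_right_injective (Module.End K W) hc0 h4
        calc θ y * θ ((a m)⁻¹ * a m') * θ y⁻¹
            = θ (a m)⁻¹ * (θ (a m) * (θ y * θ ((a m)⁻¹ * a m') * θ y⁻¹)) := by
              rw [← mul_assoc (θ (a m)⁻¹), hunit', one_mul]
          _ = θ ((a m)⁻¹ * a m') := by rw [h5, ← map_mul]
      calc θ ((a m)⁻¹ * a m' * y) = θ ((a m)⁻¹ * a m') * θ y := map_mul _ _ _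
        _ = θ y * θ ((a m)⁻¹ * a m') * θ y⁻¹ * θ y := by rw [e3]
        _ = θ y * θ ((a m)⁻¹ * a m') := by rw [mul_assoc, hunit', mul_one]
        _ = θ (y * ((a m)⁻¹ * a m')) := (map_mul _ _ _).symm
    have : (m.out : Q)⁻¹ * (m'.out : Q) ∈ R.subgroupOf Q := hw
    have h2 := QuotientGroup.eq.mpr this
    rwa [QuotientGroup.out_eq', QuotientGroup.out_eq'] at h2
  -- invariant subspaces contain a basis element
  have key : ∀ J : Submodule K (Module.End K W),
      (∀ y ∈ Q, ∀ x ∈ J, θ y * x * θ y⁻¹ ∈ J) → ∀ (n : ℕ) (s₀ : Finset Mb), s₀.card = n →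
      ∀ c : Mb → K, ∑ m ∈ s₀, c m • u m ∈ J → ∀ m₀ ∈ s₀, c m₀ ≠ 0 → ∃ m', u m' ∈ J := by
    intro J hJ n
    induction n using Nat.strong_induction_on with
    | _ n ihn =>
      intro s₀ hn c hx m₀ hm₀ hc₀
      by_cases hone : ∀ m ∈ s₀, m ≠ m₀ → c m = 0
      · rw [Finset.sum_eq_single_of_mem m₀ hm₀ fun m hm hne => by rw [hone m hm hne, zero_smul]] at hx
        refine ⟨m₀, ?_⟩
        have := J.smul_mem (c m₀)⁻¹ hx
        rwa [smul_smul, inv_mul_cancel₀ hc₀, one_smul] at this
      push Not at hone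
      obtain ⟨m₁, hm₁, hne, hc₁⟩ := hone
      obtain ⟨y, hy, hy'⟩ : ∃ (y : Γ) (hy : y ∈ Q), χ y hy m₁ ≠ χ y hy m₀ := by
        by_contra hno
        push Not at hno
        exact hne (hsep m₁ m₀ hno)
      have hx' : ∑ m ∈ s₀.erase m₀, (c m * (χ y hy m - χ y hy m₀)) • u m ∈ J := by
        have h1 := J.sub_mem (hJ y hy _ hx) (J.smul_mem (χ y hy m₀) hx)
        have e : θ y * (∑ m ∈ s₀, c m • u m) * θ y⁻¹ - χ y hy m₀ • ∑ m ∈ s₀, c m • u m =
            ∑ m ∈ s₀, (c m * (χ y hy m - χ y hy m₀)) • u m := by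
          rw [Finset.mul_sum, Finset.sum_mul, Finset.smul_sum, ← Finset.sum_sub_distrib]
          refine Finset.sum_congr rfl fun m _ => ?_
          rw [mul_smul_comm, smul_mul_assoc, hχ y hy, smul_smul, smul_smul, ← sub_smul]
          congr 1; ring
        rw [e, ← Finset.add_sum_erase _ _ hm₀, sub_self, mul_zero, zero_smul, zero_add] at h1
        exact h1
      exact ihn _ (hn ▸ Finset.card_erase_lt_of_mem hm₀) _ rfl _ hx' m₁
        (Finset.mem_erase.mpr ⟨hne, hm₁⟩) (mul_ne_zero hc₁ (sub_ne_zero.mpr hy'))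
  have hli : LinearIndependent K u := by
    rw [Fintype.linearIndependent_iff]
    intro c hc m
    by_contra hm
    obtain ⟨m', hm'⟩ := key ⊥ (fun y _ x hx => by rw [(Submodule.mem_bot K).mp hx]; simp) _ _ rfl c
      (by rw [hc]; exact Submodule.zero_mem _) m (Finset.mem_univ m) hm
    exact hθne _ ((Submodule.mem_bot K).mp hm')
  -- the algebra
  have hmem : ∀ y ∈ Q, θ y ∈ Submodule.span K (Set.range u) := fun y hy => by
    obtain ⟨c, hc⟩ := hrep y hy
    rw [hc]
    exact Submodule.smul_mem _ _ (Submodule.subset_span ⟨_, rfl⟩)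
  let B : Subalgebra K (Module.End K W) :=
    (Submodule.span K (Set.range u)).toSubalgebra (by rw [← map_one θ]; exact hmem 1 (one_mem Q))
      (fun x y hx hy => by
        induction hx using Submodule.span_induction with
        | zero => rw [zero_mul]; exact Submodule.zero_mem _
        | add v w _ _ hv hw => rw [add_mul]; exact Submodule.add_mem _ hv hw
        | smul c v _ hv => rw [smul_mul_assoc]; exact Submodule.smul_mem _ c hv
        | mem v hv =>
          obtain ⟨m, rfl⟩ := hv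
          induction hy using Submodule.span_induction with
          | zero => rw [mul_zero]; exact Submodule.zero_mem _
          | add v w _ _ hv hw => rw [mul_add]; exact Submodule.add_mem _ hv hw
          | smul c v _ hv => rw [mul_smul_comm]; exact Submodule.smul_mem _ c hv
          | mem w hw =>
            obtain ⟨m', rfl⟩ := hw
            show θ (a m) * θ (a m') ∈ _
            rw [← map_mul]
            exact hmem _ (Q.mul_mem (haQ m) (haQ m')))
  have hmemB : ∀ y ∈ Q, θ y ∈ B := hmem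
  have hBsum : ∀ b ∈ B, ∃ c : Mb → K, b = ∑ m, c m • u m := fun b hb => by
    obtain ⟨c, hc⟩ := (Submodule.mem_span_range_iff_exists_fun K).mp
      (show b ∈ Submodule.span K (Set.range u) from hb)
    exact ⟨c, hc.symm⟩
  have hinB : ∀ J : Submodule K (Module.End K W), (∀ y ∈ Q, ∀ x ∈ J, θ y * x * θ y⁻¹ ∈ J) →
      ∀ b ∈ B, b ∈ J → b ≠ 0 → ∃ m', u m' ∈ J := by
    intro J hJ b hb hbJ hb0
    obtain ⟨c, rfl⟩ := hBsum b hb
    obtain ⟨m, hm⟩ : ∃ m, c m ≠ 0 := by
      by_contra hno
      push Not at hno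
      exact hb0 (Finset.sum_eq_zero fun m _ => by rw [hno m, zero_smul])
    exact key J hJ _ _ rfl c hbJ m (Finset.mem_univ m) hm
  haveI : Nontrivial B := ⟨⟨0, 1, fun h => zero_ne_one (congrArg Subtype.val h)⟩⟩
  haveI : IsSimpleRing B := by
    refine IsSimpleRing.of_eq_bot_or_eq_top fun I => or_iff_not_imp_left.mpr fun hI => ?_
    let J : Submodule K (Module.End K W) :=
      { carrier := {x | ∃ b ∈ I, (b : Module.End K W) = x}
        zero_mem' := ⟨0, I.zero_mem, rfl⟩
        add_mem' := by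
          rintro _ _ ⟨b, hb, rfl⟩ ⟨b', hb', rfl⟩; exact ⟨b + b', I.add_mem hb hb', rfl⟩
        smul_mem' := by
          rintro c _ ⟨b, hb, rfl⟩
          refine ⟨c • b, ?_, rfl⟩
          rw [Algebra.smul_def]; exact I.mul_mem_left _ _ hb }
    obtain ⟨b, hb, hb0⟩ : ∃ b ∈ I, b ≠ 0 := by
      by_contra hno
      push Not at hno
      exact hI (eq_bot_iff.mpr fun x hx => (TwoSidedIdeal.mem_bot _).mpr (hno x hx))
    obtain ⟨m, b', hb', hbm⟩ := hinB J (fun y hy x hx => by
      obtain ⟨c, hc, rfl⟩ := hx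
      exact ⟨⟨θ y, hmemB y hy⟩ * c * ⟨θ y⁻¹, hmemB _ (Q.inv_mem hy)⟩,
        I.mul_mem_right _ _ (I.mul_mem_left _ _ hc), rfl⟩) b b.2 ⟨b, hb, rfl⟩
      (fun h => hb0 (Subtype.ext h))
    rw [← TwoSidedIdeal.one_mem_iff]
    have : (⟨θ (a m)⁻¹, hmemB _ (Q.inv_mem (haQ m))⟩ : B) * b' = 1 := Subtype.ext (by
      show θ (a m)⁻¹ * (b' : Module.End K W) = 1
      rw [hbm]; exact hunit' _)
    rw [← this]
    exact I.mul_mem_left _ _ hb'
  have hBdim : Module.finrank K B = Fintype.card Mb := finrank_span_eq_card hli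
  obtain ⟨d, hd0, ⟨e₀⟩⟩ := IsSimpleRing.exists_algEquiv_matrix_of_isAlgClosed K B
  let e : B ≃ₐ[K] Module.End K (Fin d → K) := e₀.trans (Matrix.toLinAlgEquiv' (R := K))
  have hdd : Fintype.card Mb = d * d := by
    rw [← hBdim, e.toLinearEquiv.finrank_eq, Module.finrank_linearMap,
      Module.finrank_fintype_fun_eq_card, Fintype.card_fin]
  have hrel : R.relIndex Q = d * d := by
    rw [← hdd, ← Nat.card_eq_fintype_card]; rfl
  -- conjugation by `s`
  have hsQ : ∀ y ∈ Q, s * y * s⁻¹ ∈ Q := fun y hy => hQn.conj_mem y hy s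
  let φ₀ : B →ₐ[K] B :=
    { toFun := fun b => ⟨θ s * (b : Module.End K W) * θ s⁻¹, by
        obtain ⟨c, hc⟩ := hBsum b b.2
        rw [hc, Finset.mul_sum, Finset.sum_mul]
        refine Subalgebra.sum_mem _ fun m _ => ?_
        rw [mul_smul_comm, smul_mul_assoc]
        refine Subalgebra.smul_mem _ ?_ _
        show θ s * θ (a m) * θ s⁻¹ ∈ B
        rw [← map_mul, ← map_mul]
        exact hmemB _ (hsQ _ (haQ m))⟩
      map_one' := Subtype.ext (by show θ s * 1 * θ s⁻¹ = 1; rw [mul_one, hunit])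
      map_mul' := fun x y => Subtype.ext (by
        show θ s * ((x : Module.End K W) * y) * θ s⁻¹ = θ s * x * θ s⁻¹ * (θ s * y * θ s⁻¹)
        simp only [mul_assoc]
        rw [← mul_assoc (θ s⁻¹) (θ s), hunit', one_mul])
      map_zero' := Subtype.ext (by show θ s * 0 * θ s⁻¹ = 0; simp)
      map_add' := fun x y => Subtype.ext (by
        show θ s * ((x : Module.End K W) + y) * θ s⁻¹ = θ s * x * θ s⁻¹ + θ s * y * θ s⁻¹
        rw [mul_add, add_mul])
      commutes' := fun c => Subtype.ext (by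
        show θ s * algebraMap K (Module.End K W) c * θ s⁻¹ = algebraMap K (Module.End K W) c
        rw [← Algebra.commutes, mul_assoc, hunit, mul_one]) }
  have hφ₀ : Function.Injective φ₀ := fun x y h => Subtype.ext (by
    have h' : θ s * (x : Module.End K W) * θ s⁻¹ = θ s * y * θ s⁻¹ := congrArg Subtype.val h
    have h'' := congrArg (fun z => θ s⁻¹ * z * θ s) h'
    simpa [mul_assoc, hunit', ← mul_assoc (θ s⁻¹) (θ s)] using h'')
  let φ : B ≃ₐ[K] B := AlgEquiv.ofBijective φ₀
    ⟨hφ₀, (LinearMap.injective_iff_surjective (f := φ₀.toLinearMap)).mp hφ₀⟩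
  have hφ : ∀ b : B, (φ b : Module.End K W) = θ s * b * θ s⁻¹ := fun b => rfl
  obtain ⟨T₀, hT₀⟩ := ((e.symm.trans φ).trans e).eq_linearEquivConjAlgEquiv
  let S' : B := e.symm T₀.toLinearMap
  let S'' : B := e.symm T₀.symm.toLinearMap
  have hSS : S' * S'' = 1 := by
    rw [← map_mul, ← map_one e.symm]; congr 1
    exact LinearMap.ext fun v => T₀.apply_symm_apply v
  have hSS' : S'' * S' = 1 := by
    rw [← map_mul, ← map_one e.symm]; congr 1
    exact LinearMap.ext fun v => T₀.symm_apply_apply v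
  have hφS : ∀ b : B, φ b * S' = S' * b := by
    intro b
    apply e.injective
    rw [map_mul, map_mul, AlgEquiv.apply_symm_apply]
    have h := AlgEquiv.congr_fun hT₀ (e b)
    simp only [AlgEquiv.trans_apply, AlgEquiv.symm_apply_apply, LinearEquiv.conjAlgEquiv_apply] at h
    rw [h]
    refine LinearMap.ext fun v => ?_
    simp [Module.End.mul_apply]
  -- normalise the inner element
  have hφpow : ∀ (i : ℕ) (b : B), θ s ^ i * (b : Module.End K W) * (θ s⁻¹) ^ i * (S' ^ i : B) =
      (S' ^ i : B) * b := by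
    intro i
    induction i with
    | zero => intro b; simp
    | succ i ih =>
      intro b
      have h1 := ih (φ b)
      rw [hφ] at h1
      have h2 : ((φ b : B) : Module.End K W) * (S' : B) = (S' : B) * b :=
        congrArg Subtype.val (hφS b)
      rw [hφ] at h2
      rw [pow_succ, pow_succ', pow_succ' S', Subalgebra.coe_mul]
      calc θ s ^ i * θ s * (b : Module.End K W) * (θ s⁻¹ * (θ s⁻¹) ^ i) *
            ((S' : Module.End K W) * (S' ^ i : B))
          = θ s ^ i * (θ s * b * θ s⁻¹) * (θ s⁻¹) ^ i * ((S' ^ i : B) * (S' : Module.End K W)) := by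
            rw [show (S' : Module.End K W) * (S' ^ i : B) = (S' ^ i : B) * (S' : Module.End K W) by
              rw [← Subalgebra.coe_mul, ← Subalgebra.coe_mul, ← pow_succ, ← pow_succ']]
            simp only [mul_assoc]
        _ = (S' ^ i : B) * (θ s * b * θ s⁻¹ * (S' : Module.End K W)) := by
            rw [← mul_assoc _ ((S' ^ i : B) : Module.End K W), h1]
            simp only [mul_assoc]
        _ = (S' ^ i : B) * ((S' : Module.End K W) * b) := by rw [h2]
        _ = (S' : Module.End K W) * (S' ^ i : B) * b := by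
            rw [← mul_assoc]
            congr 1
            rw [← Subalgebra.coe_mul, ← Subalgebra.coe_mul, ← pow_succ, ← pow_succ']
  have hθsN : θ s ^ N = 1 := by rw [← map_pow, hs, map_one]
  have hθsN' : (θ s⁻¹) ^ N = 1 := by rw [← map_pow, inv_pow, hs, inv_one, map_one]
  obtain ⟨c₀, hc₀⟩ : ∃ c₀ : K, S' ^ N = algebraMap K B c₀ := by
    have hcen : e (S' ^ N) ∈ Subalgebra.center K (Module.End K (Fin d → K)) := by
      rw [Subalgebra.mem_center_iff]
      intro x
      obtain ⟨b, rfl⟩ := e.surjective x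
      rw [← map_mul, ← map_mul]
      congr 1
      apply Subtype.ext
      have h := hφpow N b
      rw [hθsN, hθsN', one_mul, mul_one] at h
      exact h
    rw [Algebra.IsCentral.center_eq_bot, Algebra.mem_bot] at hcen
    obtain ⟨c₀, hc₀⟩ := hcen
    exact ⟨c₀, e.injective (by rw [← hc₀, AlgEquiv.commutes])⟩
  have hc₀0 : c₀ ≠ 0 := by
    rintro rfl
    rw [map_zero] at hc₀
    have hu : IsUnit (S' ^ N) := (IsUnit.pow N ⟨⟨S', S'', hSS, hSS'⟩, rfl⟩)
    exact not_isUnit_zero (hc₀ ▸ hu)
  obtain ⟨z, hz⟩ := IsAlgClosed.exists_pow_nat_eq c₀⁻¹ hN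
  let S : B := z • S'
  have hSN : S ^ N = 1 := by
    rw [smul_pow, hz, hc₀, Algebra.algebraMap_eq_smul_one, smul_smul, inv_mul_cancel₀ hc₀0, one_smul]
  have hφS1 : ∀ b : B, φ b * S = S * b := fun b => by
    rw [mul_smul_comm, hφS, smul_mul_assoc]
  have hSpow : ∀ i, S ^ (N - 1) * S ^ (i + 1) = S ^ i := fun i => by
    rw [← pow_add, show N - 1 + (i + 1) = N + i by omega, pow_add, hSN, one_mul]
  have hSinv : S ^ (N - 1) * S = 1 := by rw [← pow_succ, Nat.sub_add_cancel hN, hSN]
  have hSinv' : S * S ^ (N - 1) = 1 := by rw [← pow_succ', Nat.sub_add_cancel hN, hSN]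
  let t : Module.End K W := θ s * (S ^ (N - 1) : B)
  have htB : ∀ b : B, Commute t b := fun b => by
    have h1 : φ (S ^ (N - 1) * b * S) = b := by
      have h := hφS1 (S ^ (N - 1) * b * S)
      have h2 : S * (S ^ (N - 1) * b * S) = b * S := by
        rw [← mul_assoc, ← mul_assoc, hSinv', one_mul]
      rw [h2] at h
      have h3 := congrArg (· * S ^ (N - 1)) h
      simpa [mul_assoc, hSinv'] using h3
    have h2 : θ s * ((S ^ (N - 1) * b * S : B) : Module.End K W) * θ s⁻¹ = b := by
      rw [← hφ, h1]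
    show θ s * ((S ^ (N - 1) : B) : Module.End K W) * b = b * (θ s * (S ^ (N - 1) : B))
    calc θ s * ((S ^ (N - 1) : B) : Module.End K W) * b
        = θ s * ((S ^ (N - 1) * b * (S * S ^ (N - 1)) : B) : Module.End K W) := by
          rw [hSinv', mul_one, Subalgebra.coe_mul, mul_assoc]
      _ = θ s * ((S ^ (N - 1) * b * S : B) : Module.End K W) * θ s⁻¹ *
          (θ s * (S ^ (N - 1) : B)) := by
          rw [mul_assoc (θ s * _), ← mul_assoc (θ s⁻¹), hunit', one_mul, mul_assoc (θ s),
            ← Subalgebra.coe_mul, mul_assoc (S ^ (N - 1) * b)]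
      _ = b * (θ s * (S ^ (N - 1) : B)) := by rw [h2]
  have hts : θ s = t * (S : Module.End K W) := by
    show θ s = θ s * ((S ^ (N - 1) : B) : Module.End K W) * (S : Module.End K W)
    rw [mul_assoc, ← Subalgebra.coe_mul, hSinv, Subalgebra.coe_one, mul_one]
  have htS : ∀ i, θ s ^ i = t ^ i * ((S ^ i : B) : Module.End K W) := fun i => by
    rw [hts, (htB S).mul_pow, SubmonoidClass.coe_pow]
  have htN : t ^ N = 1 := by
    have h := htS N
    rw [hθsN, hSN, Subalgebra.coe_one, mul_one] at h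
    exact h.symm
  -- projections
  haveI : NeZero (N : K) := ⟨hNK⟩
  obtain ⟨ζ, hζ⟩ := HasEnoughRootsOfUnity.exists_primitiveRoot K N
  let P : ℕ → B := fun k => cycProj N ζ S k
  let T : ℕ → Module.End K W := fun k => cycProj N ζ t k
  obtain ⟨b₀, hb₀, hTb⟩ : ∃ k < N, T k ≠ 0 := by
    by_contra hno
    push Not at hno
    have h := sum_cycProj (S := t) hζ hN hNK
    rw [Finset.sum_eq_zero fun k hk => hno k (Finset.mem_range.mp hk)] at h
    exact zero_ne_one h
  let a₀ := (N - b₀) % N
  have ha₀ : a₀ < N := Nat.mod_lt _ hN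
  have hab : N ∣ a₀ + b₀ := by
    rcases Nat.eq_zero_or_pos b₀ with h0 | h0
    · simp [a₀, h0]
    · simp only [a₀, Nat.mod_eq_of_lt (show N - b₀ < N by omega)]
      rw [Nat.sub_add_cancel hb₀.le]
  have hP0 : P a₀ = 0 := by
    have hPT : ((P a₀ : B) : Module.End K W) * T b₀ = 0 := by
      have hpowP : ∀ i, S ^ i * P a₀ = (ζ ^ a₀) ^ i • P a₀ := by
        intro i
        induction i with
        | zero => simp
        | succ i ih => rw [pow_succ', mul_assoc, ih, mul_smul_comm, mul_cycProj hζ hN hSN,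
            smul_smul, ← pow_succ]
      have hpowT : ∀ i, t ^ i * T b₀ = (ζ ^ b₀) ^ i • T b₀ := by
        intro i
        induction i with
        | zero => simp
        | succ i ih => rw [pow_succ', mul_assoc, ih, mul_smul_comm, mul_cycProj hζ hN htN,
            smul_smul, ← pow_succ]
      have h1 : ∀ i, θ (s ^ i) * (((P a₀ : B) : Module.End K W) * T b₀) =
          ((P a₀ : B) : Module.End K W) * T b₀ := by
        intro i
        rw [map_pow, htS, mul_assoc, ← mul_assoc ((S ^ i : B) : Module.End K W), ← Subalgebra.coe_mul,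
          hpowP, Subalgebra.coe_smul, smul_mul_assoc, mul_smul_comm, ← mul_assoc,
          ((htB (P a₀)).pow_left i).eq, mul_assoc, hpowT, mul_smul_comm, smul_smul, ← mul_pow,
          ← pow_add, (hζ.pow_eq_one_iff_dvd _).mpr hab, one_pow, one_smul]
      have h2 := congrArg (· * (((P a₀ : B) : Module.End K W) * T b₀)) hsum
      simp only [Finset.sum_mul, h1, Finset.sum_const, Finset.card_range, zero_mul] at h2
      rw [← Nat.cast_smul_eq_nsmul K] at h2
      exact (smul_eq_zero.mp h2).resolve_left hNK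
    by_contra hP
    let J : Submodule K (Module.End K W) := LinearMap.ker (LinearMap.mulRight K (T b₀))
    obtain ⟨m, hm⟩ := hinB J (fun y hy x hx => by
      have hx' : x * T b₀ = 0 := hx
      show θ y * x * θ y⁻¹ * T b₀ = 0
      rw [mul_assoc, ((cycProj_mul_comm b₀ (htB ⟨θ y⁻¹, hmemB _ (Q.inv_mem hy)⟩)).eq).symm,
        ← mul_assoc, mul_assoc (θ y), hx', mul_zero, zero_mul]) _ (P a₀).2 hPT
      (fun h => hP (Subtype.ext h))
    have hm' : u m * T b₀ = 0 := hm
    refine hTb ?_
    calc T b₀ = θ (a m)⁻¹ * (u m * T b₀) := by rw [← mul_assoc, hunit', one_mul]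
      _ = 0 := by rw [hm', mul_zero]
  -- the fixed algebra of the conjugation is large
  let SV : Module.End K (Fin d → K) := e S
  have hSVN : SV ^ N = 1 := by rw [← map_pow, hSN, map_one]
  let PV : ℕ → Module.End K (Fin d → K) := fun k => cycProj N ζ SV k
  have hPV0 : PV a₀ = 0 := by
    have : e (P a₀) = PV a₀ := by
      simp only [P, PV, SV, cycProj, map_smul, map_sum, map_pow]
    rw [← this, hP0, map_zero]
  let ι := {k : Fin N // k.1 ≠ a₀}
  let V : ι → Submodule K (Fin d → K) := fun k => LinearMap.range (PV k.1.1)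
  let Fix : Submodule K B := LinearMap.ker (φ.toLinearMap - LinearMap.id)
  let L : (Π k : ι, Module.End K (V k)) →ₗ[K] Module.End K (Fin d → K) :=
    { toFun := fun f => ∑ k : ι, (V k).subtype ∘ₗ f k ∘ₗ (PV k.1.1).rangeRestrict
      map_add' := fun f g => by
        rw [← Finset.sum_add_distrib]
        exact Finset.sum_congr rfl fun k _ => LinearMap.ext fun v => by simp
      map_smul' := fun c f => by
        rw [RingHom.id_apply, Finset.smul_sum]
        exact Finset.sum_congr rfl fun k _ => LinearMap.ext fun v => by simp }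
  have hPVS : ∀ k v, SV (PV k v) = ζ ^ k • PV k v := fun k v =>
    LinearMap.congr_fun (mul_cycProj hζ hN hSVN k) v
  have hPVS' : ∀ k v, PV k (SV v) = ζ ^ k • PV k v := fun k v => by
    rw [← Module.End.mul_apply, (cycProj_mul_comm k (Commute.refl SV)).eq]
    exact hPVS k v
  have hPVsum : ∀ v, ∑ k : ι, PV k.1.1 v = v := fun v => by
    have h := LinearMap.congr_fun (sum_cycProj (S := SV) hζ hN hNK) v
    rw [LinearMap.sum_apply, Module.End.one_apply, ← Fin.sum_univ_eq_sum_range (fun k => PV k v) N,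
      ← Finset.sum_erase Finset.univ (a := (⟨a₀, ha₀⟩ : Fin N))
        (by show PV a₀ v = 0; rw [hPV0]; rfl)] at h
    refine Eq.trans ?_ h
    refine (Finset.sum_subtype _ (fun k => ?_) fun k : Fin N => PV k.1 v).symm
    simp [Fin.ext_iff]
  have hPVdiag : ∀ (j k : ι) (w : V j), (PV k.1.1).rangeRestrict (w : Fin d → K) =
      if h : k = j then h ▸ w else 0 := by
    intro j k w
    obtain ⟨v, hv⟩ := w.2
    split_ifs with h
    · subst h
      apply Subtype.ext
      show PV k.1.1 (w : Fin d → K) = w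
      rw [← hv]
      conv_rhs => rw [← hPVsum (PV k.1.1 v)]
      rw [Finset.sum_eq_single k]
      · intro l _ hl
        rw [← Module.End.mul_apply, cycProj_mul_cycProj hζ hN hSVN k.1.2 l.1.2
          (fun h => hl (Subtype.ext (Fin.ext h))), LinearMap.zero_apply]
      · intro h; exact absurd (Finset.mem_univ k) h
    · apply Subtype.ext
      show PV k.1.1 (w : Fin d → K) = 0
      rw [← hv, ← Module.End.mul_apply, cycProj_mul_cycProj hζ hN hSVN j.1.2 k.1.2
        (fun h' => h (Subtype.ext (Fin.ext h'))), LinearMap.zero_apply]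
  have hLinj : Function.Injective L := by
    intro f g hfg
    funext j
    refine LinearMap.ext fun w => Subtype.ext ?_
    have h := LinearMap.congr_fun hfg (w : Fin d → K)
    simp only [L, LinearMap.coe_mk, AddHom.coe_mk, LinearMap.sum_apply, LinearMap.comp_apply,
      hPVdiag] at h
    rw [Finset.sum_eq_single j (fun l _ hl => by simp [hl]) (fun h => absurd (Finset.mem_univ j) h),
      Finset.sum_eq_single j (fun l _ hl => by simp [hl]) (fun h => absurd (Finset.mem_univ j) h)] at h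
    simpa using h
  have hLcomm : ∀ f, L f * SV = SV * L f := by
    intro f
    refine LinearMap.ext fun v => ?_
    simp only [L, LinearMap.coe_mk, AddHom.coe_mk, Module.End.mul_apply, LinearMap.sum_apply,
      LinearMap.comp_apply, map_sum, Submodule.subtype_apply]
    refine Finset.sum_congr rfl fun k _ => ?_
    obtain ⟨w, hw⟩ := (f k ((PV k.1.1).rangeRestrict v)).2
    have h1 : (PV k.1.1).rangeRestrict (SV v) = ζ ^ k.1.1 • (PV k.1.1).rangeRestrict v :=
      Subtype.ext (hPVS' _ _)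
    rw [h1, map_smul, Submodule.coe_smul, ← hw, hPVS]
  let Lf : (Π k : ι, Module.End K (V k)) →ₗ[K] Fix :=
    LinearMap.codRestrict Fix (e.symm.toLinearMap ∘ₗ L) fun f => by
      rw [LinearMap.mem_ker, LinearMap.sub_apply, LinearMap.id_apply, sub_eq_zero]
      show φ (e.symm (L f)) = e.symm (L f)
      have h1 : S * e.symm (L f) = e.symm (L f) * S := e.injective (by
        rw [map_mul, map_mul, AlgEquiv.apply_symm_apply]; exact (hLcomm f).symm)
      have h2 := hφS1 (e.symm (L f))
      rw [h1] at h2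
      have h3 := congrArg (· * S ^ (N - 1)) h2
      simpa [mul_assoc, hSinv'] using h3
  have hLfinj : Function.Injective Lf := fun f g h =>
    hLinj (e.symm.injective (congrArg Subtype.val h))
  let r : ι → ℕ := fun k => Module.finrank K (V k)
  have hge : ∑ k, r k ^ 2 ≤ Module.finrank K Fix := by
    have h := LinearMap.finrank_le_finrank_of_injective hLfinj
    rw [Module.finrank_pi_fintype] at h
    refine le_trans (le_of_eq (Finset.sum_congr rfl fun k _ => ?_)) h
    rw [Module.finrank_linearMap, sq]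
  have hdle : d ≤ ∑ k, r k := by
    let Sm : (Π k : ι, V k) →ₗ[K] (Fin d → K) :=
      ∑ k : ι, (V k).subtype ∘ₗ LinearMap.proj k
    have hSm : Function.Surjective Sm := fun v =>
      ⟨fun k => (PV k.1.1).rangeRestrict v, by
        simp only [Sm, LinearMap.sum_apply, LinearMap.comp_apply, LinearMap.proj_apply,
          Submodule.subtype_apply]
        exact hPVsum v⟩
    have h := LinearMap.finrank_le_finrank_of_surjective hSm
    rwa [Module.finrank_fintype_fun_eq_card, Fintype.card_fin, Module.finrank_pi_fintype] at h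
  -- the permutation of the basis
  have hord : orderOf s = N := by
    refine le_antisymm (Nat.le_of_dvd hN (orderOf_dvd_of_pow_eq_one hs)) ?_
    by_contra hlt
    push Not at hlt
    refine hQR fun x hx => hfree (orderOf s) (orderOf_pos s) hlt x hx ?_
    rw [pow_orderOf_eq_one, commutatorElement_one_left]
    exact one_mem R
  let act : MulAction (zpowers s) Mb :=
    { smul := fun g => QuotientGroup.map (R.subgroupOf Q) (R.subgroupOf Q)
        (MulAut.conjNormal (g : Γ) : MulAut Q).toMonoidHom fun x hx => by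
          show ((MulAut.conjNormal (g : Γ) x : Q) : Γ) ∈ R
          rw [MulAut.conjNormal_apply]
          exact hRn.conj_mem _ hx _
      one_smul := fun m => by
        induction m using QuotientGroup.induction_on
        show QuotientGroup.mk _ = QuotientGroup.mk _
        congr 1
        exact Subtype.ext (by
          rw [MulEquiv.coe_toMonoidHom, MulAut.conjNormal_apply]; simp)
      mul_smul := fun g k m => by
        induction m using QuotientGroup.induction_on
        show QuotientGroup.mk _ = QuotientGroup.mk _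
        congr 1
        exact Subtype.ext (by
          simp only [MulEquiv.coe_toMonoidHom, MulAut.conjNormal_apply, Subgroup.coe_mul,
            mul_inv_rev, mul_assoc]) }
  let sg : zpowers s := ⟨s, mem_zpowers s⟩
  have hact : ∀ (g : zpowers s) (y : Γ) (hy : y ∈ Q),
      g • (QuotientGroup.mk (⟨y, hy⟩ : Q) : Mb) =
        QuotientGroup.mk (⟨g * y * (g : Γ)⁻¹, hQn.conj_mem y hy g⟩ : Q) := fun g y hy => by
    show QuotientGroup.mk _ = QuotientGroup.mk _
    congr 1
  have hsmul_one : ∀ g : zpowers s, g • (1 : Mb) = 1 := fun g => by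
    show QuotientGroup.map _ _ _ _ 1 = 1
    exact map_one _
  let X : Type _ := {m : Mb // m ≠ 1}
  let actX : MulAction (zpowers s) X :=
    { smul := fun g m => ⟨g • m.1, fun h => m.2 (smul_left_cancel g (h.trans (hsmul_one g).symm))⟩
      one_smul := fun m => Subtype.ext (one_smul _ m.1)
      mul_smul := fun g k m => Subtype.ext (mul_smul g k m.1) }
  have hstab : ∀ m : X, MulAction.stabilizer (zpowers s) m = ⊥ := by
    rintro ⟨m, hm⟩
    rw [eq_bot_iff]
    intro g hg
    have hg' : g • m = m := congrArg Subtype.val (MulAction.mem_stabilizer_iff.mp hg)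
    obtain ⟨g, hgz⟩ := g
    obtain ⟨i, hi, rfl⟩ : ∃ i < N, s ^ i = g := by
      obtain ⟨i, hi⟩ := mem_powers_iff_mem_zpowers.mpr hgz
      exact ⟨i % N, Nat.mod_lt _ hN, by rw [← hord, pow_mod_orderOf]; exact hi⟩
    rw [Subgroup.mem_bot]
    by_contra hne
    have hi0 : 0 < i := Nat.pos_of_ne_zero fun h0 => hne (Subtype.ext (by simp [h0]))
    obtain ⟨⟨y, hy⟩, rfl⟩ := QuotientGroup.mk_surjective m
    rw [hact] at hg'
    refine hm ((QuotientGroup.eq_one_iff _).mpr (hfree i hi0 hi y hy ?_))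
    have h1 : (⟨y, hy⟩ : Q)⁻¹ * ⟨s ^ i * y * (s ^ i)⁻¹, _⟩ ∈ R.subgroupOf Q :=
      QuotientGroup.eq.mp hg'.symm
    have h2 : y⁻¹ * (s ^ i * y * (s ^ i)⁻¹) ∈ R := h1
    have h3 := hRn.conj_mem _ h2 y
    rwa [show y * (y⁻¹ * (s ^ i * y * (s ^ i)⁻¹)) * y⁻¹ = ⁅s ^ i, y⁆ by
      rw [commutatorElement_def]; group] at h3
  let Ω := Quotient (MulAction.orbitRel (zpowers s) X)
  haveI : Fintype Ω := Fintype.ofFinite _
  have hcardX : Nat.card X = Fintype.card Ω * N := by
    rw [Nat.card_congr (MulAction.selfEquivOrbitsQuotientProd hstab), Nat.card_prod,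
      Nat.card_zpowers, hord, Nat.card_eq_fintype_card]
  have hcardX' : Nat.card X = d * d - 1 := by
    rw [← hdd, Nat.card_eq_fintype_card, Fintype.card_subtype_compl, Fintype.card_subtype_eq]
  -- fixed elements are determined by one coefficient on each orbit
  have hspan : Submodule.span K (Set.range u) = Submodule.span K (Set.range u) := rfl
  let bas := Module.Basis.span hli
  let co : B →ₗ[K] (Mb →₀ K) :=
    { toFun := fun b => bas.repr ⟨b, b.2⟩
      map_add' := fun x y => map_add bas.repr (⟨x, x.2⟩ : Submodule.span K (Set.range u)) ⟨y, y.2⟩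
      map_smul' := fun c x => map_smul bas.repr c (⟨x, x.2⟩ : Submodule.span K (Set.range u)) }
  have hco : ∀ b : B, (b : Module.End K W) = ∑ m, co b m • u m := fun b => by
    have h := congrArg Subtype.val (bas.sum_repr ⟨b, b.2⟩)
    rw [Submodule.coe_sum] at h
    refine h.symm.trans (Finset.sum_congr rfl fun m _ => ?_)
    rw [Submodule.coe_smul, Module.Basis.span_apply]
    rfl
  have hshift : ∀ m, ∃ κ : K, θ s * u m * θ s⁻¹ = κ • u (sg • m) := fun m => by
    obtain ⟨κ, hκ⟩ := hrep (s * a m * s⁻¹) (hsQ _ (haQ m))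
    refine ⟨κ, ?_⟩
    rw [← map_mul, ← map_mul, hκ]
    congr 2
    have hm := hact sg (a m) (haQ m)
    rw [show (QuotientGroup.mk (⟨a m, haQ m⟩ : Q) : Mb) = m from QuotientGroup.out_eq' m] at hm
    exact hm.symm
  choose κ hκ using hshift
  have hfixco : ∀ b : B, b ∈ Fix → ∀ m, co b (sg • m) = co b m * κ m := by
    intro b hb m
    have hb' : θ s * (b : Module.End K W) * θ s⁻¹ = b := by
      rw [← hφ]
      rw [LinearMap.mem_ker, LinearMap.sub_apply, LinearMap.id_apply, sub_eq_zero] at hb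
      exact congrArg Subtype.val hb
    rw [hco b, Finset.mul_sum, Finset.sum_mul] at hb'
    simp only [mul_smul_comm, smul_mul_assoc, hκ, smul_smul] at hb'
    rw [Fintype.sum_equiv (MulAction.toPerm sg) _
      (fun m' => (co b (sg⁻¹ • m') * κ (sg⁻¹ • m')) • u m') fun m' => by simp] at hb'
    have h := Fintype.linearIndependent_iff.mp hli
      (fun m' => co b (sg⁻¹ • m') * κ (sg⁻¹ • m') - co b m') (by
        simp only [sub_smul, Finset.sum_sub_distrib, hb', sub_self]) (sg • m)
    rw [inv_smul_smul, sub_eq_zero] at h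
    exact h.symm
  let Ev : Fix →ₗ[K] K × (Ω → K) :=
    { toFun := fun b => (co b.1 1, fun ω => co b.1 (ω.out : X).1)
      map_add' := fun x y => by simp; rfl
      map_smul' := fun c x => by simp; rfl }
  have hEv : Function.Injective Ev := by
    rw [injective_iff_map_eq_zero]
    rintro ⟨b, hb⟩ h0
    have h1 : co b 1 = 0 := congrArg Prod.fst h0
    have h2 : ∀ ω : Ω, co b (ω.out : X).1 = 0 := fun ω => congrFun (congrArg Prod.snd h0) ω
    have hzero : ∀ (g : zpowers s) (m : Mb), co b m = 0 → co b (g • m) = 0 := by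
      rintro ⟨g, hg⟩ m hm
      obtain ⟨i, rfl⟩ := mem_powers_iff_mem_zpowers.mpr hg
      rw [show (⟨s ^ i, hg⟩ : zpowers s) = sg ^ i from Subtype.ext (by simp [sg])]
      clear hg
      induction i with
      | zero => rwa [pow_zero, one_smul]
      | succ i ih => rw [pow_succ', mul_smul, hfixco b hb, ih, zero_mul]
    apply Subtype.ext
    apply Subtype.ext
    show (b : Module.End K W) = 0
    rw [hco b]
    refine Finset.sum_eq_zero fun m _ => ?_
    by_cases hm : m = 1
    · rw [hm, h1, zero_smul]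
    · obtain ⟨g, hg⟩ : ∃ g : zpowers s, g • (Quotient.mk'' (⟨m, hm⟩ : X) : Ω).out = (⟨m, hm⟩ : X) := by
        obtain ⟨g, hg⟩ := (Quotient.mk_out' (s₁ := MulAction.orbitRel (zpowers s) X)
          (⟨m, hm⟩ : X))
        exact ⟨g⁻¹, by rw [← hg, inv_smul_smul]⟩
      have := hzero g _ (h2 (Quotient.mk'' (⟨m, hm⟩ : X)))
      rw [show g • ((Quotient.mk'' (⟨m, hm⟩ : X) : Ω).out : X).1 = m from congrArg Subtype.val hg]
        at this
      rw [this, zero_smul]
  have hFixle : Module.finrank K Fix ≤ 1 + Fintype.card Ω := by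
    refine (LinearMap.finrank_le_finrank_of_injective hEv).trans_eq ?_
    rw [Module.finrank_prod, Module.finrank_self, Module.finrank_fintype_fun_eq_card]
  -- conclusion
  have hcardι : Fintype.card ι = N - 1 := by
    rw [Fintype.card_subtype_compl, Fintype.card_fin]
    congr 1
    rw [Fintype.card_eq_one_iff]
    exact ⟨⟨⟨a₀, ha₀⟩, rfl⟩, fun k => Subtype.ext (Fin.ext k.2)⟩
  have hCS : (∑ k, r k) ^ 2 ≤ (N - 1) * ∑ k, r k ^ 2 := by
    have := sq_sum_le_card_mul_sum_sq (s := (Finset.univ : Finset ι)) (f := r)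
    rwa [Finset.card_univ, hcardι] at this
  have hkey : d * d ≤ (N - 1) * (1 + Fintype.card Ω) := by
    calc d * d = d ^ 2 := (sq d).symm
      _ ≤ (∑ k, r k) ^ 2 := Nat.pow_le_pow_left hdle 2
      _ ≤ (N - 1) * ∑ k, r k ^ 2 := hCS
      _ ≤ (N - 1) * (1 + Fintype.card Ω) := Nat.mul_le_mul_left _ (hge.trans hFixle)
  have hΩ : Fintype.card Ω * N = d * d - 1 := hcardX.symm.trans hcardX'
  refine ⟨d, hrel, ?_, ⟨Fintype.card Ω, by rw [← hΩ, mul_comm]⟩⟩
  have hdd1 : 1 ≤ d * d := by rw [← hdd]; exact Fintype.card_pos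
  obtain ⟨M, rfl⟩ : ∃ M, N = M + 1 := ⟨N - 1, by omega⟩
  simp only [Nat.add_sub_cancel] at hkey
  have h1 : (M + 1) * (d * d) ≤ M * (M + 1 + (d * d - 1)) := by
    calc (M + 1) * (d * d) ≤ (M + 1) * (M * (1 + Fintype.card Ω)) := Nat.mul_le_mul_left _ hkey
      _ = M * (M + 1 + (d * d - 1)) := by rw [← hΩ]; ring
  have h2 : d * d ≤ M * M := by
    obtain ⟨D, hD⟩ : ∃ D, d * d = D + 1 := ⟨d * d - 1, by omega⟩
    rw [hD, Nat.add_sub_cancel] at h1
    rw [hD]
    nlinarith
  exact Nat.succ_le_succ (Nat.mul_self_le_mul_self_iff.mp h2)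

end CfsgLib.Solvable.FPFOperators
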