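import Cfsg.Agent.Lib.Solvable.FPFOperators.CyclicTools
import Cfsg.Agent.Lib.Solvable.FPFOperators.Twisted
import Mathlib.GroupTheory.Nilpotent

/-!
# A cyclic group of operators of prime power order without fixed points

`s` has `s ^ p ^ (n + 1) = 1`, fixes no nontrivial element of the `q`-group `Q` and has no fixed
vector; then `s ^ p ^ n` centralises the image of `Q`, if `p` is odd or `n ≤ 1`.
-/

set_option autoImplicit false

namespace CfsgLib.Solvable.FPFOperators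

open Subgroup CfsgLib
open scoped commutatorElement

universe u v w

variable {K : Type v} [Field K] [IsAlgClosed K]

section Block

variable {Γ : Type u} [Group Γ] [Finite Γ] {W : Type w} [AddCommGroup W] [Module K W]
  [FiniteDimensional K W]

/-- The structure of a minimal counterexample. -/
structure CyclicData (p n q : ℕ) (s : Γ) (Q Z : Subgroup Γ) (ρ : Γ →* Module.End K W) : Prop where
  pow : s ^ p ^ (n + 1) = 1
  pgroup : IsPGroup q Q
  ne : q ≠ p
  castq : (q : K) ≠ 0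
  castp : (p : K) ≠ 0
  sum : ∑ i ∈ Finset.range (p ^ (n + 1)), ρ (s ^ i) = 0
  le : Z ≤ Q
  central : ∀ z ∈ Z, ∀ y ∈ Q, y * z = z * y
  comm : ∀ x ∈ Q, ∀ y ∈ Q, ⁅x, y⁆ ∈ Z
  fixed : ∀ y ∈ Q, (s ^ p ^ n * y = y * s ^ p ^ n ↔ y ∈ Z)

theorem CyclicData.commute_weightIdem {p n q : ℕ} {s : Γ} {Q Z : Subgroup Γ} [Fintype Z] [Z.Normal]
    {ρ : Γ →* Module.End K W} (h : CyclicData p n q s Q Z ρ) (l : Z →* Kˣ) :
    ∀ y ∈ Q, Commute (ρ y) (weightIdem Z ρ l) := fun y hy => by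
  show ρ y * weightIdem Z ρ l = weightIdem Z ρ l * ρ y
  rw [map_mul_weightIdem_smul,
    dual_smul_eq_self_of_commute l fun z hz => h.central z hz y hy]

/-- The block of a weight. -/
theorem CyclicData.block_bound {p n q : ℕ} {s : Γ} {Q Z : Subgroup Γ} [hQn : Q.Normal]
    [Fintype Z] [hZn : Z.Normal] {ρ : Γ →* Module.End K W} (hp : p.Prime) [Fact q.Prime]
    (h : CyclicData p n q s Q Z ρ) (l : Z →* Kˣ) (hl : weightIdem Z ρ l ≠ 0) {j : ℕ} (hjn : j ≤ n)
    (hj : ∀ k, s ^ k • l = l ↔ p ^ j ∣ k)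
    (hne : ∃ x ∈ Q, ∃ y ∈ Q, ρ ⁅x, y⁆ * weightIdem Z ρ l ≠ weightIdem Z ρ l) :
    ∃ d, (wCentral Q ρ _ (h.commute_weightIdem l)).relIndex Q = d * d ∧ 2 ≤ d ∧
      d + 1 ≤ p ^ (n + 1 - j) ∧ p ^ (n + 1 - j) ∣ d * d - 1 := by
  classical
  set e := weightIdem Z ρ l with he
  set R := wCentral Q ρ e (h.commute_weightIdem l) with hR
  have hRQ : R ≤ Q := wCentral_le ρ
  set Γ₁ := MulAction.stabilizer Γ l with hΓ₁
  have hQΓ : Q ≤ Γ₁ := fun y hy => MulAction.mem_stabilizer_iff.mpr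
    (dual_smul_eq_self_of_commute l fun z hz => h.central z hz y hy)
  have hee : e * e = e := weightIdem_mul_self ρ (by
    rw [← Nat.card_eq_fintype_card]
    exact natCast_ne_zero_of_dvd (card_dvd_of_le h.le) (natCard_cast_ne_zero h.pgroup h.castq)) l
  have hcomm : ∀ g ∈ Γ₁, ρ g * e = e * ρ g := fun g hg => by
    rw [he, map_mul_weightIdem_smul, MulAction.mem_stabilizer_iff.mp hg]
  -- the representation on the block
  set W₁ := LinearMap.range e with hW₁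
  have hmaps : ∀ g : Γ₁, ∀ v ∈ W₁, ρ (g : Γ) v ∈ W₁ := by
    rintro g _ ⟨v, rfl⟩
    exact ⟨ρ (g : Γ) v, (LinearMap.congr_fun (hcomm g g.2) v).symm⟩
  let θ : Γ₁ →* Module.End K W₁ :=
    { toFun := fun g => (ρ (g : Γ)).restrict (hmaps g)
      map_one' := LinearMap.ext fun v => Subtype.ext (by
        rw [LinearMap.restrict_coe_apply, OneMemClass.coe_one, map_one]; rfl)
      map_mul' := fun g k => LinearMap.ext fun v => Subtype.ext (by
        rw [LinearMap.restrict_coe_apply, Subgroup.coe_mul, map_mul]; rfl) }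
  have hθ : ∀ (g : Γ₁) (v : W), ((θ g ⟨e v, v, rfl⟩ : W₁) : W) = (ρ (g : Γ) * e) v := fun g v => rfl
  have hθeq : ∀ g k : Γ₁, θ g = θ k ↔ ρ (g : Γ) * e = ρ (k : Γ) * e := by
    refine fun g k => ⟨fun h' => LinearMap.ext fun v => ?_, fun h' => LinearMap.ext ?_⟩
    · rw [← hθ, ← hθ, h']
    · rintro ⟨_, v, rfl⟩
      exact Subtype.ext (by rw [hθ, hθ, h'])
  have hθscal : ∀ z (hz : z ∈ Z) (g : Γ₁), ρ (g : Γ) * e = ρ z * e → ∃ c : K, θ g = c • 1 := by
    intro z hz g hg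
    refine ⟨l ⟨z, hz⟩, LinearMap.ext ?_⟩
    rintro ⟨_, v, rfl⟩
    refine Subtype.ext ?_
    rw [hθ, hg, show ρ z * e = (l ⟨z, hz⟩ : K) • e from map_mem_mul_weightIdem ρ l ⟨z, hz⟩]
    rfl
  haveI : Nontrivial W₁ := Submodule.nontrivial_iff_ne_bot.mpr fun h0 =>
    hl (LinearMap.range_eq_bot.mp h0)
  -- the subgroups
  set Q₁ := Q.subgroupOf Γ₁ with hQ₁
  set R₁ := R.subgroupOf Γ₁ with hR₁
  haveI hQ₁n : Q₁.Normal := hQn.subgroupOf Γ₁
  haveI hR₁n : R₁.Normal := ⟨fun x hx g => by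
    have h1 : (g : Γ) * x * (g : Γ)⁻¹ ∈ R :=
      conj_mem_wCentral ρ (hcomm g g.2) (show (x : Γ) ∈ R from hx)
    exact h1⟩
  let s₁ : Γ₁ := ⟨s ^ p ^ j, MulAction.mem_stabilizer_iff.mpr ((hj _).mpr dvd_rfl)⟩
  set N := p ^ (n + 1 - j) with hN
  have hnj : n + 1 - j = n - j + 1 := by omega
  have hs₁ : s₁ ^ N = 1 := Subtype.ext (by
    show (s ^ p ^ j) ^ N = 1
    rw [hN, ← pow_mul, ← pow_add, show j + (n + 1 - j) = n + 1 by omega, h.pow])
  have hτ : ((s₁ ^ p ^ (n - j) : Γ₁) : Γ) = s ^ p ^ n := by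
    show (s ^ p ^ j) ^ p ^ (n - j) = _
    rw [← pow_mul, ← pow_add, Nat.add_sub_cancel' hjn]
  have hNK : (N : K) ≠ 0 := by rw [hN, Nat.cast_pow]; exact pow_ne_zero _ h.castp
  -- the norm vanishes on the block
  have hsum₁ : ∑ i ∈ Finset.range N, θ (s₁ ^ i) = 0 := by
    have hZK : (Fintype.card Z : K) ≠ 0 := by
      rw [← Nat.card_eq_fintype_card]
      exact natCast_ne_zero_of_dvd (card_dvd_of_le h.le) (natCard_cast_ne_zero h.pgroup h.castq)
    have h0 : ∑ i ∈ Finset.range (p ^ (n + 1)), e * ρ (s ^ i) * e = 0 := by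
      rw [← Finset.sum_mul, ← Finset.mul_sum, h.sum, mul_zero, zero_mul]
    have hsplit : p ^ (n + 1) = p ^ j * N := by
      rw [hN, ← pow_add]; congr 1; omega
    have h1 : ∑ a ∈ Finset.range N, ρ (s ^ (p ^ j * a)) * e = 0 := by
      rw [← h0]
      have hsub : (Finset.range N).image (p ^ j * ·) ⊆ Finset.range (p ^ (n + 1)) := by
        intro i hi
        obtain ⟨a, ha, rfl⟩ := Finset.mem_image.mp hi
        rw [hsplit, Finset.mem_range]
        exact Nat.mul_lt_mul_of_pos_left (Finset.mem_range.mp ha) (pow_pos hp.pos j)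
      rw [← Finset.sum_subset hsub, Finset.sum_image]
      · refine Finset.sum_congr rfl fun a _ => ?_
        rw [← hcomm _ (MulAction.mem_stabilizer_iff.mpr ((hj _).mpr (dvd_mul_right _ a))), mul_assoc,
          hee]
      · exact fun a _ b _ hab => Nat.eq_of_mul_eq_mul_left (pow_pos hp.pos j) hab
      · intro i hi hni
        rw [mul_assoc, he, map_mul_weightIdem_smul, ← mul_assoc, weightIdem_orth ρ, zero_mul]
        intro heq
        refine hni (Finset.mem_image.mpr ?_)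
        obtain ⟨a, rfl⟩ := (hj i).mp heq.symm
        refine ⟨a, Finset.mem_range.mpr ?_, rfl⟩
        rw [hsplit, Finset.mem_range] at hi
        exact Nat.lt_of_mul_lt_mul_left hi
    refine LinearMap.ext ?_
    rintro ⟨_, v, rfl⟩
    refine Subtype.ext ?_
    have h2 := LinearMap.congr_fun h1 v
    rw [LinearMap.sum_apply, LinearMap.zero_apply] at h2
    rw [LinearMap.sum_apply, Submodule.coe_sum, LinearMap.zero_apply, ZeroMemClass.coe_zero, ← h2]
    refine Finset.sum_congr rfl fun a _ => ?_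
    rw [hθ, SubmonoidClass.coe_pow, ← pow_mul]
  -- the operator of order `p`
  set τ₁ : Γ₁ := s₁ ^ p ^ (n - j) with hτ₁
  have hτp : τ₁ ^ p = 1 := by
    rw [hτ₁, ← pow_mul, ← pow_succ, ← hnj]; exact hs₁
  have hfixed : ∀ (T : Subgroup Γ₁) (K₀ : Subgroup Γ₁) [T.Normal] [K₀.Normal], T ≤ Q₁ →
      ∀ x ∈ T, QuotientGroup.mk' K₀ τ₁ * QuotientGroup.mk' K₀ x =
        QuotientGroup.mk' K₀ x * QuotientGroup.mk' K₀ τ₁ →
      ∃ y : Γ₁, (y : Γ) ∈ Z ∧ QuotientGroup.mk' K₀ y = QuotientGroup.mk' K₀ x := by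
    intro T K₀ _ _ hT x hx hc
    have hpT : IsPGroup q T :=
      IsPGroup.to_le (h.pgroup.of_equiv (subgroupOfEquivOfLe hQΓ).symm) hT
    have hcop : (Nat.card (zpowers τ₁)).Coprime (Nat.card T) := by
      rw [Nat.card_zpowers]
      exact Nat.Coprime.coprime_dvd_left (orderOf_dvd_of_pow_eq_one hτp)
        (pow_one p ▸ coprime_pow_card hp hpT h.ne 1)
    obtain ⟨y, hy, hyf, hym⟩ := exists_fixed_of_map (A := zpowers τ₁) (Q := T) (K₀ := K₀)
      (by rw [normalizer_eq_top]; exact le_top) hcop (Coprime.isSolvable_zpowers τ₁) hx fun b hb => by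
        obtain ⟨i, rfl⟩ := mem_zpowers_iff.mp hb
        rw [map_zpow]
        exact (Commute.zpow_left hc i)
    refine ⟨y, (h.fixed _ (hT hy)).mp ?_, hym⟩
    have := congrArg Subtype.val (hyf τ₁ (mem_zpowers τ₁))
    rw [Subgroup.coe_mul, Subgroup.coe_mul, hτ] at this
    exact this
  have hR₁Q₁ : R₁ ≤ Q₁ := fun x hx => hRQ hx
  have hscalar : ∀ x ∈ R₁, ∃ c : K, θ x = c • 1 := by
    intro x hx
    have hab := commute_of_abelian θ (n := n - j) hp (Q := R₁) (s := s₁) (by rw [← hnj]; exact hs₁)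
      (by rw [← hnj]; exact hsum₁) (by
        rw [Nat.card_congr (subgroupOfEquivOfLe (hRQ.trans hQΓ)).toEquiv]
        exact natCast_ne_zero_of_dvd (card_dvd_of_le hRQ) (natCard_cast_ne_zero h.pgroup h.castq))
      (fun a ha b hb => (hθeq _ _).mpr
        ((show (a : Γ) ∈ R from ha).2 b ((show (b : Γ) ∈ R from hb).1))) hx
    obtain ⟨y, hy, hym⟩ := hfixed R₁ θ.ker hR₁Q₁ x hx (by
      rw [← map_mul, ← map_mul]
      refine QuotientGroup.eq.mpr (MonoidHom.mem_ker.mpr ?_)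
      rw [map_mul, ← hab, ← map_mul, inv_mul_cancel, map_one])
    have e1 : θ x = θ y := map_eq_mul_of_map_eq θ (QuotientGroup.eq.mp hym)
    exact hθscal y hy x ((hθeq x y).mp e1)
  have hne' : ¬ Q₁ ≤ R₁ := fun hle => by
    obtain ⟨x, hx, y, hy, hxy⟩ := hne
    have hxR : x ∈ R := hle (show (⟨x, hQΓ hx⟩ : Γ₁) ∈ Q₁ from hx)
    exact hxy (((mem_wCentral ρ).mp hxR).2 y hy)
  obtain ⟨d, hd, hdN, hdvd⟩ := exists_twisted_bound θ Q₁ R₁ hR₁Q₁ (s := s₁) (N := N)
    (pow_pos hp.pos _) hs₁ hNK hscalar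
    (fun x hx hy => ⟨hx, fun y hyQ =>
      (hθeq (x * (⟨y, hQΓ hyQ⟩ : Γ₁)) ((⟨y, hQΓ hyQ⟩ : Γ₁) * x)).mp (hy ⟨y, hQΓ hyQ⟩ hyQ)⟩)
    (fun x hx y hy => hθscal _ (h.comm _ hx _ hy) ⁅x, y⁆ rfl)
    (fun i hi0 hiN x hx hix => by
      have hτz : τ₁ ∈ zpowers (s₁ ^ i) := pow_mem_zpowers_pow (n := n - j) hp
        (by rw [← hnj]; exact hs₁) (by
          rw [← hnj]
          exact fun hdv => absurd (Nat.le_of_dvd hi0 hdv) (not_le.mpr hiN))
      have hc : Commute (QuotientGroup.mk' R₁ τ₁) (QuotientGroup.mk' R₁ x) := by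
        have h1 : Commute (QuotientGroup.mk' R₁ (s₁ ^ i)) (QuotientGroup.mk' R₁ x) :=
          commutatorElement_eq_one_iff_mul_comm.mp ((map_commutatorElement _ _ _).symm.trans
            ((QuotientGroup.eq_one_iff _).mpr hix))
        obtain ⟨k, hk⟩ := mem_zpowers_iff.mp hτz
        rw [← hk, map_zpow]
        exact h1.zpow_left k
      obtain ⟨y, hy, hym⟩ := hfixed Q₁ R₁ le_rfl x hx hc
      have hyR : y ∈ R₁ := by
        refine ⟨h.le hy, fun w hw => ?_⟩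
        show ρ ((y : Γ) * w) * e = ρ (w * (y : Γ)) * e
        rw [h.central _ hy w hw]
      have h2 := R₁.mul_mem hyR (QuotientGroup.eq.mp hym)
      rwa [mul_inv_cancel_left] at h2) hsum₁
  refine ⟨d, ?_, ?_, hdN, hdvd⟩
  · rw [← hd, hR₁, hQ₁, Subgroup.relIndex_subgroupOf hQΓ]
  · by_contra hlt
    have h1 : R₁.relIndex Q₁ ≠ 0 := Subgroup.index_ne_zero_of_finite
    have h2 : d = 1 := by
      rcases Nat.eq_zero_or_pos d with h0 | h0
      · exact absurd (by rw [hd, h0]) h1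
      · omega
    exact hne' (Subgroup.relIndex_eq_one.mp (by rw [hd, h2]))

end Block

theorem natCard_diff {Γ : Type u} [Group Γ] [Finite Γ] {Q Z : Subgroup Γ} (h : Z ≤ Q) :
    Nat.card {x : Γ // x ∈ Q ∧ x ∉ Z} = Nat.card Z * (Z.relIndex Q - 1) := by
  have h1 : Nat.card {x : Γ // x ∈ Q ∧ x ∉ Z} = ((Q : Set Γ) \ Z).ncard :=
    (Nat.card_coe_set_eq ((Q : Set Γ) \ Z))
  rw [h1, Set.ncard_sdiff (show (Z : Set Γ) ⊆ Q from h), ← Nat.card_coe_set_eq,
    ← Nat.card_coe_set_eq, Nat.mul_sub, mul_one]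
  have h2 : Nat.card Z * Z.relIndex Q = Nat.card Q := by
    rw [← Subgroup.relIndex_bot_left Z, Subgroup.relIndex_mul_relIndex _ _ _ bot_le h,
      Subgroup.relIndex_bot_left]
  rw [h2]
  rfl

/-- Translating the fixed-point-free count. -/
theorem CyclicData.dvd_relIndex_sub_one {Γ : Type u} [Group Γ] [Finite Γ] {W : Type w}
    [AddCommGroup W] [Module K W] [FiniteDimensional K W] {p n q : ℕ} {s : Γ} {Q Z : Subgroup Γ}
    [hQn : Q.Normal] [hZn : Z.Normal] {ρ : Γ →* Module.End K W} (hp : p.Prime) [Fact q.Prime]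
    (h : CyclicData p n q s Q Z ρ) (hQZ : ¬ Q ≤ Z) : p ^ (n + 1) ∣ Z.relIndex Q - 1 := by
  classical
  have hord : orderOf s = p ^ (n + 1) := by
    haveI := Fact.mk hp
    refine orderOf_eq_prime_pow (fun h1 => hQZ fun y hy => (h.fixed y hy).mp ?_) h.pow
    rw [h1, one_mul, mul_one]
  let X := {x : Γ // x ∈ Q ∧ x ∉ Z}
  let act : MulAction (zpowers s) X :=
    { smul := fun g x => ⟨g * x.1 * (g : Γ)⁻¹, hQn.conj_mem _ x.2.1 g, fun hm => x.2.2 (by
        have := hZn.conj_mem _ hm (g : Γ)⁻¹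
        rwa [inv_inv, ← mul_assoc, ← mul_assoc, inv_mul_cancel, one_mul, inv_mul_cancel_right] at this)⟩
      one_smul := fun x => Subtype.ext (by
        show ((1 : zpowers s) : Γ) * x.1 * ((1 : zpowers s) : Γ)⁻¹ = x.1
        simp)
      mul_smul := fun g k x => Subtype.ext (by
        show ((g * k : zpowers s) : Γ) * x.1 * ((g * k : zpowers s) : Γ)⁻¹ =
          g * (k * x.1 * (k : Γ)⁻¹) * (g : Γ)⁻¹
        rw [Subgroup.coe_mul]; group) }
  have hstab : ∀ x : X, MulAction.stabilizer (zpowers s) x = ⊥ := by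
    intro x
    rw [eq_bot_iff]
    rintro ⟨g, hg⟩ hgx
    have hgx' : g * x.1 * g⁻¹ = x.1 := congrArg Subtype.val (MulAction.mem_stabilizer_iff.mp hgx)
    obtain ⟨i, rfl⟩ := mem_powers_iff_mem_zpowers.mpr hg
    rw [Subgroup.mem_bot]
    by_contra hne
    have hdv : ¬ p ^ (n + 1) ∣ i := fun hd => hne (Subtype.ext (by
      obtain ⟨c, rfl⟩ := hd
      show s ^ (p ^ (n + 1) * c) = 1
      rw [pow_mul, h.pow, one_pow]))
    obtain ⟨k, hk⟩ := mem_zpowers_iff.mp (pow_mem_zpowers_pow hp h.pow hdv)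
    refine x.2.2 ((h.fixed _ x.2.1).mp ?_)
    rw [← hk]
    exact (Commute.zpow_left (mul_inv_eq_iff_eq_mul.mp hgx') k)
  have hdvd : p ^ (n + 1) ∣ Nat.card X := by
    rw [Nat.card_congr (MulAction.selfEquivOrbitsQuotientProd hstab), Nat.card_prod,
      Nat.card_zpowers, hord]
    exact dvd_mul_left _ _
  rw [natCard_diff h.le] at hdvd
  exact ((coprime_pow_card hp h.pgroup h.ne (n + 1)).coprime_dvd_right
    (card_dvd_of_le h.le)).dvd_of_dvd_mul_left hdvd

/-- The minimal counterexample does not exist. -/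
theorem CyclicData.le_center {Γ : Type u} [Group Γ] [Finite Γ] {W : Type w} [AddCommGroup W]
    [Module K W] [FiniteDimensional K W] {p n q : ℕ} {s : Γ} {Q Z : Subgroup Γ}
    [hQn : Q.Normal] [hZn : Z.Normal] {ρ : Γ →* Module.End K W} (hp : p.Prime) [Fact q.Prime]
    (h : CyclicData p n q s Q Z ρ) (hcase : p ≠ 2 ∨ n ≤ 1)
    (hfix : ∀ z ∈ Z, s * z = z * s → z = 1) (hker : Q ⊓ ρ.ker = ⊥)
    (hJ : ∀ J : Subgroup Γ, J ≤ Q → J ≠ Q → (∀ x ∈ J, s * x * s⁻¹ ∈ J) → J ≤ Z)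
    (hna : ∃ x ∈ Q, ∃ y ∈ Q, ⁅x, y⁆ ≠ 1) : Q ≤ Z := by
  classical
  by_contra hQZ
  haveI : Fintype Z := Fintype.ofFinite Z
  have hZK : (Fintype.card Z : K) ≠ 0 := by
    rw [← Nat.card_eq_fintype_card]
    exact natCast_ne_zero_of_dvd (card_dvd_of_le h.le) (natCard_cast_ne_zero h.pgroup h.castq)
  have hZc : IsMulCommutative Z :=
    isMulCommutative_iff.2 fun a b => Subtype.ext (h.central b b.2 a (h.le a.2))
  have hcop : (p ^ (n + 1)).Coprime (Nat.card Z) :=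
    (coprime_pow_card hp h.pgroup h.ne _).coprime_dvd_right (card_dvd_of_le h.le)
  let e : (Z →* Kˣ) → Module.End K W := fun l => weightIdem Z ρ l
  -- a weight nontrivial on the commutators
  obtain ⟨l₀, hl₀, hne₀⟩ : ∃ l, e l ≠ 0 ∧ ∃ x ∈ Q, ∃ y ∈ Q, ρ ⁅x, y⁆ * e l ≠ e l := by
    obtain ⟨x, hx, y, hy, hxy⟩ := hna
    by_contra hno
    push Not at hno
    refine hxy ?_
    rw [← mem_bot, ← hker]
    refine ⟨h.le (h.comm x hx y hy), MonoidHom.mem_ker.mpr
      (eq_of_forall_mul_weightIdem ρ hZc hZK fun l hl => ?_)⟩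
    rw [one_mul]; exact hno l hl x hx y hy
  have hτ : ∀ l : Z →* Kˣ, s ^ p ^ n • l = l := fun l =>
    dual_smul_eq_self_of_commute l fun z hz => (h.fixed z (h.le hz)).mpr hz
  obtain ⟨j, hjn, hj⟩ := exists_stab hp (hτ l₀)
  have hj0 : 0 < j := by
    refine Nat.pos_of_ne_zero fun h0 => ?_
    obtain ⟨x, hx, y, hy, hxy⟩ := hne₀
    have h1 := weight_eq_one_of_invariant hZc (pow_pos hp.pos _) h.pow hcop hfix (l := l₀)
      (by have := (hj 1).mpr (by rw [h0, pow_zero]); rwa [pow_one] at this)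
    refine hxy ?_
    rw [show ρ ⁅x, y⁆ * e l₀ = (l₀ ⟨_, h.comm x hx y hy⟩ : K) • e l₀ from
      map_mem_mul_weightIdem ρ l₀ ⟨_, h.comm x hx y hy⟩, h1]
    simp
  -- the orbit
  let lam : ℕ → (Z →* Kˣ) := fun i => s ^ i • l₀
  have hlam : ∀ i, e (lam i) ≠ 0 := fun i h0 => hl₀ ((weightIdem_smul_eq_zero_iff ρ _ _).mp h0)
  have hlamj : ∀ i k, s ^ k • lam i = lam i ↔ p ^ j ∣ k := fun i k => by
    rw [← hj k]
    show s ^ k • s ^ i • l₀ = s ^ i • l₀ ↔ _
    rw [← mul_smul, ← pow_add, add_comm, pow_add, mul_smul, smul_left_cancel_iff]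
  have hlamne : ∀ i, ∃ x ∈ Q, ∃ y ∈ Q, ρ ⁅x, y⁆ * e (lam i) ≠ e (lam i) := by
    intro i
    obtain ⟨x, hx, y, hy, hxy⟩ := hne₀
    refine ⟨_, hQn.conj_mem x hx (s ^ i), _, hQn.conj_mem y hy (s ^ i), fun h1 => hxy ?_⟩
    rw [← show s ^ i * ⁅x, y⁆ * (s ^ i)⁻¹ = ⁅s ^ i * x * (s ^ i)⁻¹, s ^ i * y * (s ^ i)⁻¹⁆ by
      simp only [commutatorElement_def]; group] at h1
    have h2 := congrArg (ρ (s ^ i)⁻¹ * ·) h1
    simp only [← mul_assoc, ← map_mul] at h2
    rw [inv_mul_cancel, one_mul, map_mul ρ, mul_assoc] at h2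
    have h3 : ρ (s ^ i)⁻¹ * e (lam i) = e l₀ * ρ (s ^ i)⁻¹ := by
      show ρ (s ^ i)⁻¹ * weightIdem Z ρ (s ^ i • l₀) = _
      rw [map_mul_weightIdem_smul, inv_smul_smul]
    rw [h3, ← mul_assoc] at h2
    have h4 := congrArg (· * ρ (s ^ i)) h2
    rw [mul_assoc, mul_assoc (e l₀), ← map_mul, inv_mul_cancel, map_one, mul_one] at h4
    exact h4
  have hblock := fun i => h.block_bound hp (lam i) (hlam i) hjn (hlamj i) (hlamne i)
  -- the prime `p` is odd
  have hodd : p ≠ 2 := by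
    rcases hcase with hp2 | hn
    · exact hp2
    rintro rfl
    obtain ⟨d, -, hd2, hdN, -⟩ := hblock 0
    rw [show n + 1 - j = 1 by omega] at hdN
    omega
  set a := n + 1 - j with ha
  have hblock' : ∀ i, ∃ m, 0 < m ∧ q = 2 ∧ 2 ^ m + 1 = p ^ a ∧
      (wCentral Q ρ _ (h.commute_weightIdem (lam i))).relIndex Q = 2 ^ m * 2 ^ m := by
    intro i
    obtain ⟨d, hd, hd2, hdN, hdvd⟩ := hblock i
    obtain ⟨t, ht⟩ := IsPGroup.iff_card.mp h.pgroup
    have hdd : d ∣ q ^ t := by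
      rw [← ht]
      exact (dvd_mul_right d d).trans (hd ▸ Subgroup.relIndex_dvd_card _ _)
    obtain ⟨m, -, rfl⟩ := (Nat.dvd_prime_pow Fact.out).mp hdd
    have hm : 0 < m := by
      refine Nat.pos_of_ne_zero fun h0 => ?_
      rw [h0, pow_zero] at hd2; omega
    obtain ⟨hq2, he⟩ := two_pow_add_one_eq hp hodd Fact.out (by omega : 0 < a) hm hdN hdvd
    exact ⟨m, hm, hq2, he, by rw [hd, hq2]⟩
  obtain ⟨m, hm, hq2, hma, -⟩ := hblock' 0
  set R : ℕ → Subgroup Γ := fun i => wCentral Q ρ _ (h.commute_weightIdem (lam i)) with hR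
  have hRidx : ∀ i, (R i).relIndex Q = 2 ^ m * 2 ^ m := fun i => by
    obtain ⟨m', -, -, hm', hi⟩ := hblock' i
    rw [show m' = m from Nat.pow_right_injective le_rfl (by omega : 2 ^ m' = 2 ^ m)] at hi
    exact hi
  let T : ℕ → Subgroup Γ := fun k => Nat.rec Q (fun k X => X ⊓ R (k + 1)) k
  have hTidx : ∀ k, (T k).relIndex Q ≤ (2 ^ (2 * m)) ^ k := by
    intro k
    induction k with
    | zero => rw [pow_zero]; exact le_of_eq (Subgroup.relIndex_self _)
    | succ k ih =>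
      rw [pow_succ]
      refine (Subgroup.relIndex_inf_le).trans (Nat.mul_le_mul ih ?_)
      rw [hRidx, two_mul, pow_add]
  have hTQ : ∀ k, T k ≤ Q := by
    intro k
    induction k with
    | zero => exact le_rfl
    | succ k ih => exact inf_le_left.trans ih
  have hTR : ∀ k i, 0 < i → i ≤ k → T k ≤ R i := by
    intro k
    induction k with
    | zero => intro i hi hik; omega
    | succ k ih =>
      intro i hi hik
      rcases hik.lt_or_eq with h1 | h1
      · exact inf_le_left.trans (ih i hi (by omega))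
      · subst h1
        exact inf_le_right
  have hP : (0 : ℕ) < p ^ j := pow_pos hp.pos j
  have hmem : ∀ x ∈ T (p ^ j - 1), ∀ i, x ∈ R i := by
    intro x hx i
    have hxQ := hTQ _ hx
    have hmod : lam i = lam (i % p ^ j) := by
      show s ^ i • l₀ = s ^ (i % p ^ j) • l₀
      conv_lhs => rw [← Nat.mod_add_div i (p ^ j), pow_add, mul_smul]
      rw [(hj _).mpr (dvd_mul_right _ _)]
    have hpos : ∀ k, 0 < k → k < p ^ j → x ∈ R k := fun k h1 h2 => hTR _ k h1 (by omega) hx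
    refine (mem_wCentral ρ).mpr ⟨hxQ, fun y hy => ?_⟩
    let z : Z := ⟨⁅x, y⁆, h.comm x hxQ y hy⟩
    have hval : ∀ k, ρ ⁅x, y⁆ * e (lam k) = (lam k z : K) • e (lam k) := fun k =>
      map_mem_mul_weightIdem ρ (lam k) z
    have hone : ∀ k, 0 < k → k < p ^ j → lam k z = 1 := fun k h1 h2 => by
      have h3 := ((mem_wCentral ρ).mp (hpos k h1 h2)).2 y hy
      rw [hval] at h3
      have h4 : ((lam k z : K) - 1) • e (lam k) = 0 := by
        rw [sub_smul, one_smul, sub_eq_zero]; exact h3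
      exact Units.ext (sub_eq_zero.mp ((smul_eq_zero.mp h4).resolve_right (hlam k)))
    have hzero : lam 0 z = 1 := by
      have hprod := DFunLike.congr_fun (orbit_prod_eq_one hZc (pow_pos hp.pos _) h.pow hcop hfix
        (P := p ^ j) (l := l₀) ((hj _).mpr dvd_rfl)) z
      rw [MonoidHom.finset_prod_apply, Finset.prod_eq_single 0] at hprod
      · exact hprod
      · exact fun k hk hk0 => hone k (Nat.pos_of_ne_zero hk0) (Finset.mem_range.mp hk)
      · exact fun h0 => absurd (Finset.mem_range.mpr hP) h0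
    show ρ ⁅x, y⁆ * e (lam i) = e (lam i)
    rw [hval, hmod]
    rcases Nat.eq_zero_or_pos (i % p ^ j) with h0 | h0
    · rw [h0, hzero]; simp
    · rw [hone _ h0 (Nat.mod_lt _ hP)]; simp
  let J : Subgroup Γ := Q ⊓ ⨅ i, R i
  have hJne : J ≠ Q := fun hJQ => by
    obtain ⟨x, hx, y, hy, hxy⟩ := hlamne 0
    exact hxy (((mem_wCentral ρ).mp (Subgroup.mem_iInf.mp (hJQ.ge hx).2 0)).2 y hy)
  have hJinv : ∀ x ∈ J, s * x * s⁻¹ ∈ J := by
    rintro x ⟨hxQ, hx⟩
    refine ⟨hQn.conj_mem x hxQ s, Subgroup.mem_iInf.mpr fun i => ?_⟩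
    obtain ⟨i', hi'⟩ : ∃ i', s • lam i' = lam i := by
      refine ⟨i + (p ^ (n + 1) - 1), ?_⟩
      show s • s ^ (i + (p ^ (n + 1) - 1)) • l₀ = s ^ i • l₀
      rw [← mul_smul, ← pow_succ', add_assoc, Nat.sub_add_cancel (pow_pos hp.pos _), pow_add, h.pow,
        mul_one]
    refine conj_mem_wCentral ρ (e' := e (lam i)) ?_ (Subgroup.mem_iInf.mp hx i')
    show ρ s * weightIdem Z ρ (lam i') = weightIdem Z ρ (lam i) * ρ s
    rw [map_mul_weightIdem_smul, hi']
  have hTZ : T (p ^ j - 1) ≤ Z := fun x hx =>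
    hJ J inf_le_left hJne hJinv ⟨hTQ _ hx, Subgroup.mem_iInf.mpr (hmem x hx)⟩
  -- the two bounds
  haveI : Finite (↥Q ⧸ (T (p ^ j - 1)).subgroupOf Q) :=
    Finite.of_surjective _ QuotientGroup.mk_surjective
  have hle : Z.relIndex Q ≤ (2 ^ (2 * m)) ^ (p ^ j - 1) :=
    (Nat.le_of_dvd (Nat.pos_of_ne_zero
      (Subgroup.index_ne_zero_of_finite (H := (T (p ^ j - 1)).subgroupOf Q)))
      (Subgroup.relIndex_dvd_of_le_left Q hTZ)).trans (hTidx _)
  obtain ⟨t, ht⟩ := IsPGroup.iff_card.mp h.pgroup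
  obtain ⟨D, -, hD⟩ := (Nat.dvd_prime_pow Fact.out).mp (ht ▸ Subgroup.relIndex_dvd_card Z Q)
  rw [hq2] at hD
  have hD0 : 0 < D := Nat.pos_of_ne_zero fun h0 => hQZ (Subgroup.relIndex_eq_one.mp (by
    rw [hD, h0, pow_zero]))
  have hdvd := h.dvd_relIndex_sub_one hp hQZ
  rw [hD, show n + 1 = a + j by omega] at hdvd
  have hge := exponent_ge hp hodd hm hma hD0 hdvd
  rw [hD, ← pow_mul] at hle
  have hle' := (Nat.pow_le_pow_iff_right (by norm_num : 1 < 2)).mp hle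
  obtain ⟨P, hPj⟩ : ∃ P, p ^ j = P + 1 := ⟨p ^ j - 1, by omega⟩
  rw [hPj, Nat.add_sub_cancel] at hle'
  rw [hPj, mul_add, mul_one] at hge
  omega

theorem cyclic_linear_aux (k : ℕ) : ∀ {Γ : Type u} [Group Γ] [Finite Γ] {W : Type w}
    [AddCommGroup W] [Module K W] [FiniteDimensional K W] {p n q : ℕ} (_hp : p.Prime)
    [Fact q.Prime] (Q : Subgroup Γ) [Q.Normal] (ρ : Γ →* Module.End K W) (s : Γ),
    (p ≠ 2 ∨ n ≤ 1) → s ^ p ^ (n + 1) = 1 → IsPGroup q Q → q ≠ p → (q : K) ≠ 0 → (p : K) ≠ 0 →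
    (∀ y ∈ Q, s * y = y * s → y = 1) → ∑ i ∈ Finset.range (p ^ (n + 1)), ρ (s ^ i) = 0 →
    Nat.card Q = k → ∀ y ∈ Q, ρ (s ^ p ^ n * y) = ρ (y * s ^ p ^ n) := by
  induction k using Nat.strong_induction_on with
  | _ k ih =>
  intro Γ _ _ W _ _ _ p n q hp _ Q hQn ρ s hcase hs hQq hqp hqK hpK hfix hsum hk
  classical
  set τ := s ^ p ^ n with hτ
  by_cases hker : Q ⊓ ρ.ker = ⊥
  swap
  · intro y hy
    set K₀ := Q ⊓ ρ.ker with hK₀
    set mk := QuotientGroup.mk' K₀ with hmk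
    set ρ' : Γ ⧸ K₀ →* Module.End K W := QuotientGroup.lift K₀ ρ inf_le_right with hρ'
    haveI : (Q.map mk).Normal := hQn.map mk (QuotientGroup.mk'_surjective _)
    have hlt : Nat.card (Q.map mk) < k := hk ▸ card_map_mk_lt (by
      rwa [hK₀, inf_assoc, inf_comm ρ.ker Q, ← inf_assoc, inf_idem])
    have hfix' : ∀ z ∈ Q.map mk, mk s * z = z * mk s → z = 1 := by
      rintro _ ⟨z, hz, rfl⟩ hzs
      have hcop : (Nat.card (zpowers s)).Coprime (Nat.card Q) := by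
        rw [Nat.card_zpowers]
        exact Nat.Coprime.coprime_dvd_left (orderOf_dvd_of_pow_eq_one hs)
          (coprime_pow_card hp hQq hqp _)
      obtain ⟨z', hz', hzf, hzm⟩ := exists_fixed_of_map (A := zpowers s) (K₀ := K₀)
        (by rw [normalizer_eq_top]; exact le_top) hcop (Coprime.isSolvable_zpowers s) hz
        fun b hb => by
          obtain ⟨i, rfl⟩ := mem_zpowers_iff.mp hb
          rw [map_zpow]
          exact Commute.zpow_left hzs i
      rw [← hzm, hfix z' hz' (hzf s (mem_zpowers s)), map_one]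
    have := ih _ hlt hp (Q.map mk) ρ' (mk s) hcase (by rw [← map_pow, hs, map_one])
      (hQq.map mk) hqp hqK hpK hfix' (by simp only [← map_pow]; exact hsum) rfl
      (mk y) (Subgroup.mem_map_of_mem _ hy)
    rw [← map_pow, ← map_mul, ← map_mul] at this
    exact this
  -- `ρ` is injective on `Q`
  have hinj : ∀ x ∈ Q, ρ (τ * x) = ρ (x * τ) → τ * x = x * τ := fun x hx h => by
    have h1 : (x * τ)⁻¹ * (τ * x) ∈ Q ⊓ ρ.ker := by
      refine ⟨?_, MonoidHom.mem_ker.mpr ?_⟩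
      · rw [show (x * τ)⁻¹ * (τ * x) = τ⁻¹ * x⁻¹ * τ * x by group]
        exact mul_mem (hQn.conj_mem' _ (inv_mem hx) τ) hx
      · rw [map_mul, h, ← map_mul, inv_mul_cancel, map_one]
    rw [hker, mem_bot, inv_mul_eq_one] at h1
    exact h1.symm
  suffices hQτ : ∀ y ∈ Q, τ * y = y * τ from fun y hy => by rw [hQτ y hy]
  by_contra hno
  -- proper invariant subgroups are centralised
  have hprop : ∀ R : Subgroup Γ, R ≤ Q → R ≠ Q → (∀ x ∈ R, s * x * s⁻¹ ∈ R) →
      ∀ x ∈ R, τ * x = x * τ := by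
    intro R hRQ hne hinv x hx
    have hsX : s ∈ normalizer (R : Set Γ) := by
      refine Subgroup.mem_normalizer_iff.mpr fun z => ⟨hinv z, fun hz => ?_⟩
      have h2 : ∀ i, ∀ w ∈ R, s ^ i * w * (s ^ i)⁻¹ ∈ R := fun i => by
        induction i with
        | zero => intro w hw; simpa using hw
        | succ i ihi =>
          intro w hw
          rw [show s ^ (i + 1) * w * (s ^ (i + 1))⁻¹ = s * (s ^ i * w * (s ^ i)⁻¹) * s⁻¹ by
            rw [pow_succ']; group]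
          exact hinv _ (ihi w hw)
      have h3 := h2 (p ^ (n + 1) - 1) _ hz
      have h4 : s ^ (p ^ (n + 1) - 1) = s⁻¹ := by
        rw [eq_inv_iff_mul_eq_one, ← pow_succ, Nat.sub_add_cancel (pow_pos hp.pos _), hs]
      rw [h4, inv_inv, ← mul_assoc, ← mul_assoc, inv_mul_cancel, one_mul,
        inv_mul_cancel_right] at h3
      exact h3
    set X := normalizer (R : Set Γ) with hX
    have hRX : R ≤ X := le_normalizer
    haveI : (R.subgroupOf X).Normal := (normal_subgroupOf_iff_le_normalizer hRX).2 le_rfl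
    have hlt : Nat.card (R.subgroupOf X) < k := by
      rw [Nat.card_congr (subgroupOfEquivOfLe hRX).toEquiv, ← hk]
      exact lt_of_le_of_ne (Subgroup.card_le_of_le hRQ) fun he =>
        hne (eq_of_le_of_card_ge hRQ he.ge)
    refine hinj x (hRQ hx) ?_
    exact ih _ hlt hp (R.subgroupOf X) (ρ.comp X.subtype) ⟨s, hsX⟩ hcase (Subtype.ext hs)
      ((IsPGroup.to_le hQq hRQ).of_equiv (subgroupOfEquivOfLe hRX).symm) hqp hqK hpK
      (fun z hz hzs => Subtype.ext (hfix z (hRQ hz) (congrArg Subtype.val hzs)))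
      (by simpa using hsum) rfl ⟨x, hRX hx⟩ hx
  -- an invariant subgroup containing all commutators with `τ` is everything
  have hgen : ∀ R : Subgroup Γ, R ≤ Q → (∀ x ∈ R, s * x * s⁻¹ ∈ R) →
      (∀ y ∈ Q, ⁅τ, y⁆ ∈ R) → R = Q := by
    intro R hRQ hinv hmem
    by_contra hne
    refine hno fun y hy => ?_
    have hc : τ * ⁅τ, y⁆ = ⁅τ, y⁆ * τ := hprop R hRQ hne hinv _ (hmem y hy)
    have hk : ∀ i, ⁅τ ^ i, y⁆ = ⁅τ, y⁆ ^ i := by
      intro i
      induction i with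
      | zero => rw [pow_zero, pow_zero, commutatorElement_one_left]
      | succ i ihi =>
        rw [pow_succ' τ, pow_succ ⁅τ, y⁆, ← ihi,
          show ⁅τ * τ ^ i, y⁆ = τ * ⁅τ ^ i, y⁆ * τ⁻¹ * ⁅τ, y⁆ by
            simp only [commutatorElement_def]; group, ihi]
        congr 1
        rw [mul_inv_eq_iff_eq_mul]
        exact ((show Commute τ ⁅τ, y⁆ from hc).pow_right i).eq
    have h1 : ⁅τ, y⁆ ^ p = 1 := by
      rw [← hk, hτ, ← pow_mul, ← pow_succ, hs, commutatorElement_one_left]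
    obtain ⟨i, hi⟩ := hQq ⟨⁅τ, y⁆, hRQ (hmem y hy)⟩
    have h2 : ⁅τ, y⁆ ^ q ^ i = 1 := congrArg Subtype.val hi
    have h3 := pow_gcd_eq_one.mpr ⟨h1, h2⟩
    rw [((Nat.coprime_primes hp Fact.out).mpr hqp.symm).pow_right i |>.gcd_eq_one, pow_one] at h3
    exact commutatorElement_eq_one_iff_mul_comm.mp h3
  let C : Subgroup Γ := Q ⊓ centralizer ({τ} : Set Γ)
  have hCmem : ∀ x, x ∈ C ↔ x ∈ Q ∧ τ * x = x * τ := fun x => by
    show x ∈ Q ∧ x ∈ centralizer ({τ} : Set Γ) ↔ _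
    rw [mem_centralizer_iff]
    exact and_congr_right fun _ => ⟨fun h => h τ rfl, fun h t ht => by
      rw [Set.mem_singleton_iff] at ht; subst ht; exact h⟩
  have hsτ : s * τ = τ * s := (Commute.self_pow s _).eq
  have hCinv : ∀ x ∈ C, s * x * s⁻¹ ∈ C := fun x hx => by
    obtain ⟨hxQ, hxc⟩ := (hCmem x).mp hx
    refine (hCmem _).mpr ⟨hQn.conj_mem x hxQ s, ?_⟩
    rw [← mul_assoc, ← mul_assoc, ← hsτ, mul_assoc s τ, hxc, mul_assoc, mul_assoc,
      show τ * s⁻¹ = s⁻¹ * τ by rw [eq_inv_mul_iff_mul_eq, ← mul_assoc, hsτ, mul_inv_cancel_right]]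
    simp only [mul_assoc]
  -- invariant subgroups normalised by `Q` are central
  have hnorm : ∀ R : Subgroup Γ, R ≤ Q → R ≠ Q → (∀ x ∈ R, s * x * s⁻¹ ∈ R) →
      (∀ y ∈ Q, ∀ x ∈ R, y * x * y⁻¹ ∈ R) → ∀ x ∈ R, ∀ y ∈ Q, y * x = x * y := by
    intro R hRQ hne hinv hRn x hx y hy
    have hD : Q ⊓ centralizer (R : Set Γ) = Q := by
      refine hgen _ inf_le_left ?_ fun w hw => ⟨?_, ?_⟩
      · rintro w ⟨hwQ, hwc⟩
        refine ⟨hQn.conj_mem w hwQ s, mem_centralizer_iff.mpr fun r hr => ?_⟩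
        have h4 : s⁻¹ * r * s ∈ R := by
          have : ∀ i, s ^ i * r * (s ^ i)⁻¹ ∈ R := fun i => by
            induction i with
            | zero => simpa using hr
            | succ i ihi =>
              rw [show s ^ (i + 1) * r * (s ^ (i + 1))⁻¹ = s * (s ^ i * r * (s ^ i)⁻¹) * s⁻¹ by
                rw [pow_succ']; group]
              exact hinv _ ihi
          have h3 := this (p ^ (n + 1) - 1)
          rw [show s ^ (p ^ (n + 1) - 1) = s⁻¹ by
            rw [eq_inv_iff_mul_eq_one, ← pow_succ, Nat.sub_add_cancel (pow_pos hp.pos _), hs],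
            inv_inv] at h3
          exact h3
        have h5 := mem_centralizer_iff.mp hwc _ h4
        calc r * (s * w * s⁻¹) = s * (s⁻¹ * r * s * w) * s⁻¹ := by group
          _ = s * (w * (s⁻¹ * r * s)) * s⁻¹ := by rw [h5]
          _ = s * w * s⁻¹ * r := by group
      · rw [show ⁅τ, w⁆ = τ * w * τ⁻¹ * w⁻¹ from commutatorElement_def τ w]
        exact Q.mul_mem (hQn.conj_mem w hw τ) (Q.inv_mem hw)
      · refine mem_centralizer_iff.mpr fun r hr => ?_
        have e1 : τ * r * τ⁻¹ = r := by rw [hprop R hRQ hne hinv r hr, mul_inv_cancel_right]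
        have e2 : τ * (w⁻¹ * r * w) * τ⁻¹ = w⁻¹ * r * w := by
          have h6 := hRn w⁻¹ (inv_mem hw) r hr
          rw [inv_inv] at h6
          rw [hprop R hRQ hne hinv _ h6, mul_inv_cancel_right]
        rw [commutatorElement_def]
        have e3 : w * (τ⁻¹ * r * τ) * w⁻¹ = w * r * w⁻¹ := by
          rw [show τ⁻¹ * r * τ = r by rw [mul_assoc, ← hprop R hRQ hne hinv r hr, inv_mul_cancel_left]]
        calc r * (τ * w * τ⁻¹ * w⁻¹)
            = τ * w * (w⁻¹ * (τ⁻¹ * r * τ) * w) * τ⁻¹ * w⁻¹ := by group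
          _ = τ * w * (w⁻¹ * r * w) * τ⁻¹ * w⁻¹ := by
              rw [show τ⁻¹ * r * τ = r by
                rw [mul_assoc, ← hprop R hRQ hne hinv r hr, inv_mul_cancel_left]]
          _ = τ * w * τ⁻¹ * (τ * (w⁻¹ * r * w) * τ⁻¹) * w⁻¹ := by group
          _ = τ * w * τ⁻¹ * (w⁻¹ * r * w) * w⁻¹ := by rw [e2]
          _ = τ * w * τ⁻¹ * w⁻¹ * r := by group
    have := mem_centralizer_iff.mp (hD.ge hy).2 x hx
    exact this.symm
  have hCne : C ≠ Q := fun h => hno fun y hy => ((hCmem y).mp (h.ge hy)).2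
  haveI : Group.IsNilpotent Q := hQq.isNilpotent
  have hCn : ∀ y ∈ Q, ∀ x ∈ C, y * x * y⁻¹ ∈ C := by
    have hlt : C.subgroupOf Q < ⊤ := lt_top_iff_ne_top.mpr fun h =>
      hCne (le_antisymm inf_le_left (Subgroup.subgroupOf_eq_top.mp h))
    have hN := Group.normalizerCondition_of_isNilpotent (G := Q) _ hlt
    let N := Q ⊓ normalizer (C : Set Γ)
    have hNinv : ∀ x ∈ N, s * x * s⁻¹ ∈ N := by
      rintro x ⟨hxQ, hxn⟩
      have hs' : s ∈ normalizer (C : Set Γ) := by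
        refine Subgroup.mem_normalizer_iff.mpr fun z => ⟨hCinv z, fun hz => ?_⟩
        obtain ⟨hzQ, hzc⟩ := (hCmem _).mp hz
        refine (hCmem z).mpr ⟨?_, ?_⟩
        · have := hQn.conj_mem' _ hzQ s
          rwa [show s⁻¹ * (s * z * s⁻¹) * s = z by group] at this
        · have e1 : τ * (s * z * s⁻¹) = s * (τ * z) * s⁻¹ := by
            simp only [← mul_assoc, hsτ]
          have e2 : s * z * s⁻¹ * τ = s * (z * τ) * s⁻¹ := by
            rw [mul_assoc (s * z), show s⁻¹ * τ = τ * s⁻¹ by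
              rw [inv_mul_eq_iff_eq_mul, ← mul_assoc, hsτ, mul_inv_cancel_right]]
            simp only [mul_assoc]
          rw [e1, e2] at hzc
          exact mul_left_cancel (mul_right_cancel hzc)
      exact ⟨hQn.conj_mem x hxQ s, (normalizer (C : Set Γ)).mul_mem ((normalizer (C : Set Γ)).mul_mem hs' hxn) ((normalizer (C : Set Γ)).inv_mem hs')⟩
    by_cases hNQ : N = Q
    · exact fun y hy x hx => (Subgroup.mem_normalizer_iff.mp (hNQ.ge hy).2 x).mp hx
    exfalso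
    refine hN.not_ge fun y hy => ?_
    have hy' : (y : Γ) ∈ N := by
      refine ⟨y.2, Subgroup.mem_normalizer_iff.mpr fun z => ?_⟩
      constructor
      · intro hz
        exact (Subgroup.mem_normalizer_iff.mp hy ⟨z, inf_le_left (α := Subgroup Γ) hz⟩).mp hz
      · intro hz
        have hzQ : z ∈ Q := by
          have := hQn.conj_mem' _ (inf_le_left (α := Subgroup Γ) hz) (y : Γ)
          rwa [show (y : Γ)⁻¹ * (y * z * (y : Γ)⁻¹) * y = z by group] at this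
        exact (Subgroup.mem_normalizer_iff.mp hy ⟨z, hzQ⟩).mpr hz
    exact (hCmem _).mpr ⟨y.2, hprop N inf_le_left hNQ hNinv _ hy'⟩
  have hCcentral : ∀ x ∈ C, ∀ y ∈ Q, y * x = x * y := hnorm C inf_le_left hCne hCinv hCn
  let Z : Subgroup Γ := (Subgroup.center Q).map Q.subtype
  have hZQ : Z ≤ Q := map_subtype_le _
  have hZc : ∀ z ∈ Z, ∀ y ∈ Q, y * z = z * y := by
    rintro _ ⟨c, hc, rfl⟩ y hy
    exact congrArg Subtype.val (mem_center_iff.1 hc ⟨y, hy⟩)
  have hCZ : C ≤ Z := fun x hx => ⟨⟨x, inf_le_left (α := Subgroup Γ) hx⟩,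
    mem_center_iff.2 fun y => Subtype.ext (hCcentral x hx y y.2), rfl⟩
  have hnab : ¬ Q ≤ Z := fun hle => hno fun y hy => hinj y hy
    (commute_of_abelian ρ hp hs hsum (natCard_cast_ne_zero hQq hqK)
      (fun a ha b hb => by rw [hZc b (hle hb) a ha]) hy)
  haveI hZn : Z.Normal := by
    refine ⟨fun z hz g => ?_⟩
    refine ⟨⟨g * z * g⁻¹, hQn.conj_mem _ (hZQ hz) g⟩, mem_center_iff.2 fun y => Subtype.ext ?_, rfl⟩
    show (y : Γ) * (g * z * g⁻¹) = g * z * g⁻¹ * y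
    calc (y : Γ) * (g * z * g⁻¹) = g * (g⁻¹ * y * g * z) * g⁻¹ := by group
      _ = g * (z * (g⁻¹ * y * g)) * g⁻¹ := by rw [hZc z hz _ (hQn.conj_mem' _ y.2 g)]
      _ = g * z * g⁻¹ * y := by group
  have hfixed : ∀ y ∈ Q, (τ * y = y * τ ↔ y ∈ Z) := fun y hy =>
    ⟨fun h => hCZ ((hCmem y).mpr ⟨hy, h⟩), fun h => hprop Z hZQ (fun he => hnab he.ge)
      (fun x hx => hZn.conj_mem x hx s) y h⟩
  have hQ' : ⁅Q, Q⁆ ≤ Q := commutator_le_self Q
  have hQ'ne : ⁅Q, Q⁆ ≠ Q := by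
    haveI : Nontrivial Q := (Subgroup.nontrivial_iff_ne_bot Q).2 fun h => hnab (h ▸ bot_le)
    intro he
    have h1 := Group.IsSolvable.commutator_lt_top_of_nontrivial Q
    refine h1.ne (Subgroup.map_injective Q.subtype_injective ?_)
    rw [← MonoidHom.range_eq_map, Subgroup.range_subtype, Subgroup.map_subtype_commutator]
    exact he
  have hcomm : ∀ x ∈ Q, ∀ y ∈ Q, ⁅x, y⁆ ∈ Z := fun x hx y hy => by
    have hm := commutator_mem_commutator hx hy
    exact ⟨⟨_, hQ' hm⟩, mem_center_iff.2 fun w => Subtype.ext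
      (hnorm ⁅Q, Q⁆ hQ' hQ'ne (fun a ha => (commutator_normal Q Q).conj_mem a ha s)
        (fun w' _ a ha => (commutator_normal Q Q).conj_mem a ha w') _ hm w w.2), rfl⟩
  have hdata : CyclicData p n q s Q Z ρ :=
    ⟨hs, hQq, hqp, hqK, hpK, hsum, hZQ, hZc, hcomm, hfixed⟩
  refine hnab (hdata.le_center hp hcase (fun z hz => hfix z (hZQ hz)) hker ?_ ?_)
  · exact fun J hJQ hJne hJinv x hx =>
      hCZ ((hCmem x).mpr ⟨hJQ hx, hprop J hJQ hJne hJinv x hx⟩)
  · by_contra hab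
    push Not at hab
    exact hnab fun x hx => ⟨⟨x, hx⟩, mem_center_iff.2 fun y => Subtype.ext
      (commutatorElement_eq_one_iff_mul_comm.mp (hab y y.2 x hx)), rfl⟩

/-- A fixed-point-free operator of order `p ^ (n + 1)`: its power of order `p` centralises. -/
theorem cyclic_linear {Γ : Type u} [Group Γ] [Finite Γ] {W : Type w} [AddCommGroup W] [Module K W]
    [FiniteDimensional K W] {p n q : ℕ} (hp : p.Prime) [Fact q.Prime] (Q : Subgroup Γ) [Q.Normal]
    (ρ : Γ →* Module.End K W) {s : Γ} (hcase : p ≠ 2 ∨ n ≤ 1) (hs : s ^ p ^ (n + 1) = 1)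
    (hQ : IsPGroup q Q) (hqp : q ≠ p) (hqK : (q : K) ≠ 0) (hpK : (p : K) ≠ 0)
    (hfix : ∀ y ∈ Q, s * y = y * s → y = 1)
    (hsum : ∑ i ∈ Finset.range (p ^ (n + 1)), ρ (s ^ i) = 0) {y : Γ} (hy : y ∈ Q) :
    ρ (s ^ p ^ n * y) = ρ (y * s ^ p ^ n) :=
  cyclic_linear_aux _ hp Q ρ s hcase hs hQ hqp hqK hpK hfix hsum rfl y hy

end CfsgLib.Solvable.FPFOperators
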