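import Cfsg.Agent.Lib.Solvable.FPFOperators.Layer
import Cfsg.Agent.Lib.Solvable.FPFOperators.Cyclic

/-!
# The Fitting height under a fixed-point-free automorphism of prime power order
-/

set_option autoImplicit false

namespace CfsgLib.Solvable.FPFOperators

open Subgroup CfsgLib
open scoped commutatorElement

universe u

/-- A commutator with an element of order dividing `p` commuting with it is trivial, if coprime. -/
theorem eq_one_of_commute_commutator {Γ : Type*} [Group Γ] {t g : Γ} {p : ℕ} (ht : t ^ p = 1)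
    (hc : t * ⁅t, g⁆ = ⁅t, g⁆ * t) (hcop : (orderOf ⁅t, g⁆).Coprime p) : ⁅t, g⁆ = 1 := by
  have hk : ∀ i, ⁅t ^ i, g⁆ = ⁅t, g⁆ ^ i := by
    intro i
    induction i with
    | zero => rw [pow_zero, pow_zero, commutatorElement_one_left]
    | succ i ihi =>
      rw [pow_succ' t, pow_succ ⁅t, g⁆, ← ihi,
        show ⁅t * t ^ i, g⁆ = t * ⁅t ^ i, g⁆ * t⁻¹ * ⁅t, g⁆ by
          simp only [commutatorElement_def]; group, ihi]
      congr 1
      rw [mul_inv_eq_iff_eq_mul]
      exact ((show Commute t ⁅t, g⁆ from hc).pow_right i).eq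
  have h1 : ⁅t, g⁆ ^ p = 1 := by rw [← hk, ht, commutatorElement_one_left]
  have h3 := pow_gcd_eq_one.mpr ⟨h1, pow_orderOf_eq_one ⁅t, g⁆⟩
  rwa [Nat.gcd_comm, hcop.gcd_eq_one, pow_one] at h3

/-- The operator of order `p` centralises `G / F(G)`. -/
theorem pow_commutator_mem_fit {Γ : Type*} [Group Γ] [Finite Γ] {G : Subgroup Γ} [hGn : G.Normal]
    {s : Γ} {p n : ℕ} (hp : p.Prime) (hcase : p ≠ 2 ∨ n ≤ 1) (hs : s ^ p ^ (n + 1) = 1)
    (hcopG : (Nat.card G).Coprime p) (h : OpSetup G (zpowers s)) :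
    ∀ g ∈ G, ⁅s ^ p ^ n, g⁆ ∈ fit G := by
  haveI := h.solvG
  set mk := QuotientGroup.mk' (fit G) with hmk
  set τ := s ^ p ^ n with hτ
  haveI : (top1 G).Normal := hGn.map mk (QuotientGroup.mk'_surjective _)
  haveI : Group.IsSolvable (top1 G) :=
    Group.isSolvable_of_surjective (f := mk.subgroupMap G) (mk.subgroupMap_surjective G)
  have hfixs : ∀ y ∈ G, s * y = y * s → y = 1 := fun y hy hsy => h.fix y hy fun a ha => by
    obtain ⟨i, rfl⟩ := mem_zpowers_iff.mp ha
    exact (show Commute s y from hsy).zpow_left i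
  -- `τ` centralises every core of the layer
  have hcore : ∀ q : ℕ, q.Prime → ∀ z ∈ core1 G q, mk τ * z = z * mk τ := by
    intro q hq
    haveI := Fact.mk hq
    obtain ⟨Q, hQG, hQq, hQA, hQmap, hQFn, -⟩ := exists_invariant_layer h q
    rw [← hQmap]
    rintro _ ⟨y, hy, rfl⟩
    suffices hyk : ⁅τ, y⁆ ∈ chiefKernel G by
      rw [← commutatorElement_eq_one_iff_mul_comm, ← map_commutatorElement]
      exact (QuotientGroup.eq_one_iff _).mpr (chiefKernel_le_fit G hyk)
    have hτQ : ⁅τ, y⁆ ∈ Q := by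
      rw [commutatorElement_def]
      exact Q.mul_mem (le_normalizer_iff.1 hQA τ (pow_mem (mem_zpowers s) _) y hy) (Q.inv_mem hy)
    refine ⟨hQG hτQ, fun N M hch hMF => ?_⟩
    haveI := hch.normalN
    haveI := hch.normalM
    have hMG : M ≤ G := hMF.trans (fit_le G)
    obtain ⟨r, hr, hexpM, hcommM⟩ := hch.elementary hMG
    haveI := Fact.mk hr
    by_cases hy1 : y = 1
    · subst hy1
      intro m _
      rw [commutatorElement_one_right, commutatorElement_one_left]
      exact one_mem N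
    by_cases hqr : q = r
    · subst hqr
      exact hch.trivial_of_pgroup hexpM hQq hQFn
        (fun g hg => ((fit_le_chiefKernel G) hg).2 N M hch hMF) _ hτQ
    have hrp : r ≠ p := fun hrp => hch.lt.not_ge fun m hm => by
      have hc : (orderOf m).Coprime r :=
        hrp ▸ hcopG.coprime_dvd_left (Subgroup.orderOf_dvd_natCard G (hMG hm))
      obtain ⟨k, hk⟩ := exists_pow_eq_self_of_coprime hc.symm
      rw [← hk]
      exact pow_mem (hexpM m hm) k
    have hqp : q ≠ p := fun hqp => hy1 (by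
      obtain ⟨k, hk⟩ := hQq ⟨y, hy⟩
      have h1 : y ^ p ^ k = 1 := hqp ▸ congrArg Subtype.val hk
      have h2 : (orderOf y).Coprime (p ^ k) :=
        (hcopG.coprime_dvd_left (Subgroup.orderOf_dvd_natCard G (hQG hy))).pow_right k
      exact orderOf_eq_one_iff.mp
        (h2.eq_one_of_dvd (orderOf_dvd_of_pow_eq_one h1)))
    obtain ⟨d, ρ, hρ1, -, hρfpf⟩ :=
      exists_section_rep (N := N) (M := M) r (AlgebraicClosure (ZMod r)) hexpM hcommM
    have hcast : ∀ t : ℕ, t.Prime → t ≠ r → (t : AlgebraicClosure (ZMod r)) ≠ 0 := fun t ht htr h0 =>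
      htr ((Nat.prime_dvd_prime_iff_eq hr ht).mp
        ((CharP.cast_eq_zero_iff (AlgebraicClosure (ZMod r)) r t).mp h0)).symm
    have hsum : ∑ i ∈ Finset.range (p ^ (n + 1)), ρ (s ^ i) = 0 := by
      refine hρfpf s _ hs fun m hm hsm => ?_
      obtain ⟨m', hm', hf, hmm⟩ := exists_fixed_of_map (A := zpowers s) (Q := M) (K₀ := N)
        (by rw [normalizer_eq_top]; exact le_top) (Coprime.coprime_of_le h.cop le_rfl hMG)
        (Coprime.isSolvable_zpowers s) hm fun b hb => by
          obtain ⟨i, rfl⟩ := mem_zpowers_iff.mp hb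
          rw [map_zpow]
          exact Commute.zpow_left (commutatorElement_eq_one_iff_mul_comm.mp
            ((map_commutatorElement _ _ _).symm.trans ((QuotientGroup.eq_one_iff _).mpr hsm))) i
      rw [hfixs m' (hMG hm') (hf s (mem_zpowers s)), map_one] at hmm
      exact (QuotientGroup.eq_one_iff m).mp hmm.symm
    set X := normalizer (Q : Set Γ) with hX
    have hQX : Q ≤ X := le_normalizer
    haveI : (Q.subgroupOf X).Normal := (normal_subgroupOf_iff_le_normalizer hQX).2 le_rfl
    have hρc : ρ (τ * y) = ρ (y * τ) :=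
      cyclic_linear (n := n) hp (Q.subgroupOf X) (ρ.comp X.subtype)
        (s := (⟨s, hQA (mem_zpowers s)⟩ : X)) hcase (Subtype.ext hs)
        (hQq.of_equiv (subgroupOfEquivOfLe hQX).symm) hqp (hcast q hq hqr) (hcast p hp hrp.symm)
        (fun z hz hzs => Subtype.ext (hfixs z (hQG hz) (congrArg Subtype.val hzs)))
        (by simpa using hsum) (y := (⟨y, hQX hy⟩ : X)) hy
    refine (hρ1 _).mp ?_
    rw [show ⁅τ, y⁆ = τ * y * (y * τ)⁻¹ by rw [commutatorElement_def]; group, map_mul, hρc,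
      ← map_mul, mul_inv_cancel, map_one]
  -- hence the whole layer
  have hF : ∀ z ∈ Cfsg.fittingSubgroup (top1 G), mk τ * (z : Γ ⧸ fit G) = z * mk τ := by
    intro z hz
    have hle : Cfsg.fittingSubgroup (top1 G) ≤
        (centralizer ({mk τ} : Set (Γ ⧸ fit G))).comap (top1 G).subtype := by
      rw [Solvable.Cores.fittingSubgroup_eq_iSup_pCore]
      refine iSup_le fun q w hw => Subgroup.mem_comap.mpr (mem_centralizer_iff.mpr ?_)
      rintro _ rfl
      exact hcore q q.2 _ (Subgroup.mem_map_of_mem _ hw)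
    exact mem_centralizer_iff.mp (Subgroup.mem_comap.mp (hle hz)) _ rfl
  intro g hg
  rw [← QuotientGroup.eq_one_iff]
  show mk ⁅τ, g⁆ = 1
  rw [map_commutatorElement]
  have hgT : mk g ∈ top1 G := Subgroup.mem_map_of_mem mk hg
  have hcT : ⁅mk τ, mk g⁆ ∈ top1 G := by
    rw [commutatorElement_def]
    exact mul_mem ((inferInstance : (top1 G).Normal).conj_mem _ hgT (mk τ)) (inv_mem hgT)
  have hcF : (⟨_, hcT⟩ : top1 G) ∈ Cfsg.fittingSubgroup (top1 G) := by
    refine Solvable.Cores.centralizer_fittingSubgroup_le (mem_centralizer_iff.mpr fun f hf => ?_)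
    apply Subtype.ext
    show (f : Γ ⧸ fit G) * ⁅mk τ, mk g⁆ = ⁅mk τ, mk g⁆ * f
    have hf' : (Cfsg.fittingSubgroup (top1 G)).Normal := inferInstance
    have e2 := hF _ (hf'.conj_mem' _ hf ⟨mk g, hgT⟩)
    simp only [Subgroup.coe_mul, InvMemClass.coe_inv] at e2
    have e1 := hF f hf
    rw [commutatorElement_def]
    calc (f : Γ ⧸ fit G) * (mk τ * mk g * (mk τ)⁻¹ * (mk g)⁻¹)
        = mk τ * f * mk g * (mk τ)⁻¹ * (mk g)⁻¹ := by simp only [← mul_assoc, ← e1]
      _ = mk τ * mk g * ((mk g)⁻¹ * f * mk g) * (mk τ)⁻¹ * (mk g)⁻¹ := by group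
      _ = mk τ * mk g * ((mk τ)⁻¹ * (mk τ * ((mk g)⁻¹ * f * mk g))) * (mk τ)⁻¹ * (mk g)⁻¹ := by group
      _ = mk τ * mk g * ((mk τ)⁻¹ * ((mk g)⁻¹ * f * mk g * mk τ)) * (mk τ)⁻¹ * (mk g)⁻¹ := by
          rw [e2]
      _ = mk τ * mk g * (mk τ)⁻¹ * (mk g)⁻¹ * f := by group
  refine eq_one_of_commute_commutator (p := p) ?_ (hF _ hcF) ?_
  · rw [← map_pow, hτ, ← pow_mul, ← pow_succ, hs, map_one]
  · exact (hcopG.coprime_dvd_left (G.card_map_dvd mk)).coprime_dvd_left
      (Subgroup.orderOf_dvd_natCard _ hcT)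

/-- The version for automorphisms. -/
theorem pow_apply_mem_fittingSubgroup {H : Type*} [Group H] [Finite H] (hH : Group.IsSolvable H)
    {p n : ℕ} (hp : p.Prime) (hcase : p ≠ 2 ∨ n ≤ 1) {σ : MulAut H} (hσ : σ ^ p ^ (n + 1) = 1)
    (hfpf : ∀ h : H, σ h = h → h = 1) (h : H) :
    (σ ^ p ^ n) h * h⁻¹ ∈ Cfsg.fittingSubgroup H := by
  haveI := Fact.mk hp
  let A := zpowers σ
  let ι : H →* H ⋊[A.subtype] A := SemidirectProduct.inl
  let a : A := ⟨σ, mem_zpowers σ⟩
  let s : H ⋊[A.subtype] A := SemidirectProduct.inr a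
  have hι : Function.Injective ι := SemidirectProduct.inl_injective
  haveI : Finite (H ⋊[A.subtype] A) := Finite.of_equiv _ SemidirectProduct.equivProd.symm
  haveI hιn : ι.range.Normal := by
    show (SemidirectProduct.inl : H →* H ⋊[A.subtype] A).range.Normal
    rw [SemidirectProduct.range_inl_eq_ker_rightHom]; infer_instance
  have hAp : IsPGroup p A := by
    obtain ⟨k, -, hk⟩ := (Nat.dvd_prime_pow hp).mp (orderOf_dvd_of_pow_eq_one hσ)
    exact IsPGroup.of_card (by rw [Nat.card_zpowers, hk])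
  have hcop := coprime_card_of_fpf A hAp fun g hg => hfpf g (hg σ (mem_zpowers σ))
  have hcard : Nat.card ι.range = Nat.card H := Nat.card_congr (MonoidHom.ofInjective hι).symm.toEquiv
  have hs : s ^ p ^ (n + 1) = 1 := by
    rw [← map_pow, show a ^ p ^ (n + 1) = 1 from Subtype.ext hσ, map_one]
  have hset : OpSetup ι.range (zpowers s) := by
    refine ⟨hιn, ?_, Coprime.isSolvable_zpowers s, ?_, ?_⟩
    · exact Group.isSolvable_of_surjective (f := (MonoidHom.ofInjective hι).toMonoidHom)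
        (MonoidHom.ofInjective hι).surjective
    · rw [Nat.card_zpowers, hcard]
      exact Nat.Coprime.coprime_dvd_left (orderOf_dvd_of_pow_eq_one hs) (hcop.symm.pow_left _)
    · rintro _ ⟨g, rfl⟩ hg
      rw [hfpf g (hι ?_), map_one]
      show SemidirectProduct.inl ((A.subtype a) g) = _
      rw [SemidirectProduct.inl_aut, map_inv]
      exact mul_inv_eq_iff_eq_mul.mpr (hg s (mem_zpowers s))
  have key := pow_commutator_mem_fit hp hcase hs (hcard ▸ hcop) hset (ι h) ⟨h, rfl⟩
  have hconj : ι ((σ ^ p ^ n) h * h⁻¹) = ⁅s ^ p ^ n, ι h⁆ := by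
    rw [commutatorElement_def, map_mul, map_inv]
    show SemidirectProduct.inl ((A.subtype (a ^ p ^ n)) h) * _ = _
    rw [SemidirectProduct.inl_aut, map_inv, map_pow]
  haveI : ((fit ι.range).comap ι).Normal := (fit_normal ι.range).comap ι
  haveI : Group.IsNilpotent (((fit ι.range).comap ι).map ι) := by
    haveI := isNilpotent_fit ι.range
    rw [Subgroup.map_comap_eq, inf_eq_right.mpr (fit_le _)]
    infer_instance
  exact Solvable.Cores.le_fittingSubgroup
    (Group.nilpotent_of_mulEquiv (((fit ι.range).comap ι).equivMapOfInjective ι hι).symm)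
    (Subgroup.mem_comap.mpr (hconj.symm ▸ key))

/-- The induced automorphism of `H / F(H)`. -/
theorem exists_induced {H : Type*} [Group H] [Finite H] (σ : MulAut H)
    (hfpf : ∀ h : H, σ h = h → h = 1) :
    ∃ σ' : MulAut (H ⧸ Cfsg.fittingSubgroup H),
      (∀ h, σ' (QuotientGroup.mk h) = QuotientGroup.mk (σ h)) ∧ ∀ x, σ' x = x → x = 1 := by
  set F := Cfsg.fittingSubgroup H with hF
  have hmap : F.map σ.toMonoidHom = F := Subgroup.characteristic_iff_map_eq.mp inferInstance σ
  refine ⟨QuotientGroup.congr F F σ hmap, fun h => rfl, fun x hx => ?_⟩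
  induction x using QuotientGroup.induction_on with
  | H h =>
    have h1 : h⁻¹ * σ h ∈ F := QuotientGroup.eq.mp hx.symm
    have hmem : ∀ f ∈ F, σ f ∈ F := fun f hf => hmap.le (Subgroup.mem_map_of_mem σ.toMonoidHom hf)
    have key : ∀ a b : H, a⁻¹ * σ a = b⁻¹ * σ b → a = b := by
      intro a b e
      have e2 : σ b = b * a⁻¹ * σ a := by rw [mul_assoc, e, mul_inv_cancel_left]
      have h2 : b * a⁻¹ = 1 := hfpf _ (by rw [map_mul, map_inv, e2, mul_inv_cancel_right])
      exact (mul_inv_eq_one.mp h2).symm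
    let d : F → F := fun f => ⟨(f : H)⁻¹ * σ f, mul_mem (inv_mem f.2) (hmem f f.2)⟩
    have hd : Function.Injective d := fun f g hfg =>
      Subtype.ext (key f g (congrArg Subtype.val hfg))
    obtain ⟨f, hf⟩ := (Finite.injective_iff_surjective.mp hd) ⟨_, h1⟩
    rw [← key f h (congrArg Subtype.val hf)]
    exact (QuotientGroup.eq_one_iff _).mpr f.2

/-- A fixed-point-free involution forces a group to be abelian. -/
theorem commute_of_fpf_involution {H : Type*} [Group H] [Finite H] (σ : MulAut H)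
    (hσ : σ ^ 2 = 1) (hfpf : ∀ h : H, σ h = h → h = 1) (x y : H) : x * y = y * x := by
  have hinj : Function.Injective fun a : H => a⁻¹ * σ a := fun a b e => by
    have e2 : σ b = b * a⁻¹ * σ a := by
      rw [mul_assoc, show a⁻¹ * σ a = b⁻¹ * σ b from e, mul_inv_cancel_left]
    have h2 : b * a⁻¹ = 1 := hfpf _ (by rw [map_mul, map_inv, e2, mul_inv_cancel_right])
    exact (mul_inv_eq_one.mp h2).symm
  have hinv : ∀ z, σ z = z⁻¹ := by
    intro z
    obtain ⟨a, rfl⟩ := (Finite.injective_iff_surjective.mp hinj) z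
    have h2 : σ (σ a) = a := by
      rw [← MulAut.mul_apply, ← sq, hσ, MulAut.one_apply]
    show σ (a⁻¹ * σ a) = (a⁻¹ * σ a)⁻¹
    rw [map_mul, map_inv, h2, mul_inv_rev, inv_inv]
  have h := hinv (x * y)
  rw [map_mul, hinv x, hinv y, ← mul_inv_rev, inv_inj] at h
  exact h.symm

/-- A chain with nilpotent factors, one step longer. -/
theorem exists_chain_of_pow {p : ℕ} (hp : p.Prime) (hp2 : p ≠ 2) : ∀ (n : ℕ) {H : Type u}
    [Group H] [Finite H], Group.IsSolvable H → ∀ σ : MulAut H, σ ^ p ^ n = 1 →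
    (∀ h : H, σ h = h → h = 1) → ∃ F : Fin (n + 1) → Subgroup H, F 0 = ⊥ ∧ F (Fin.last n) = ⊤ ∧
      Monotone F ∧ (∀ i, (F i).Normal) ∧
      ∀ i : Fin n, ∃ k : ℕ, (F i.succ).lowerCentralSeries k ≤ F i.castSucc := by
  intro n
  induction n with
  | zero =>
    intro H _ _ _ σ hσ hfpf
    rw [pow_zero, pow_one] at hσ
    have htriv : (⊤ : Subgroup H) = ⊥ := by
      rw [eq_bot_iff]
      exact fun x _ => hfpf x (by rw [hσ]; rfl)
    exact ⟨fun _ => ⊥, rfl, htriv.symm, monotone_const, fun _ => inferInstance, fun i => i.elim0⟩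
  | succ n ih =>
    intro H _ _ hH σ hσ hfpf
    obtain ⟨σ', hσ', hfpf'⟩ := exists_induced σ hfpf
    set F := Cfsg.fittingSubgroup H with hF
    set mk := QuotientGroup.mk' F with hmk
    have hpow : ∀ (i : ℕ) (h : H), (σ' ^ i) (mk h) = mk ((σ ^ i) h) := by
      intro i
      induction i with
      | zero => intro h; rfl
      | succ i ihi =>
        intro h
        rw [pow_succ', MulAut.mul_apply, ihi, pow_succ', MulAut.mul_apply]
        exact hσ' _
    have h1 : σ' ^ p ^ n = 1 := MulEquiv.ext fun x => by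
      induction x using QuotientGroup.induction_on with
      | H h =>
        show (σ' ^ p ^ n) (mk h) = mk h
        rw [hpow, ← mul_inv_eq_one, ← map_inv, ← map_mul]
        exact (QuotientGroup.eq_one_iff _).mpr
          (pow_apply_mem_fittingSubgroup hH hp (Or.inl hp2) hσ hfpf h)
    obtain ⟨C, hC0, hC1, hCm, hCn, hCk⟩ := ih (Group.isSolvable_of_surjective (f := mk)
      (QuotientGroup.mk'_surjective F)) σ' h1 hfpf'
    refine ⟨Fin.cons ⊥ fun i => (C i).comap mk, rfl, ?_, ?_, ?_, ?_⟩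
    · rw [show Fin.last (n + 1) = (Fin.last n).succ from rfl, Fin.cons_succ, hC1, Subgroup.comap_top]
    · refine Fin.monotone_iff_le_succ.mpr fun i => ?_
      rcases Fin.eq_zero_or_eq_succ i with rfl | ⟨j, rfl⟩
      · exact bot_le
      · rw [Fin.cons_succ, Fin.castSucc_succ, Fin.cons_succ]
        exact Subgroup.comap_mono (hCm (Fin.castSucc_le_succ j))
    · intro i
      rcases Fin.eq_zero_or_eq_succ i with rfl | ⟨j, rfl⟩
      · exact (inferInstance : (⊥ : Subgroup H).Normal)
      · rw [Fin.cons_succ]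
        exact (hCn j).comap mk
    · intro i
      rcases Fin.eq_zero_or_eq_succ i with rfl | ⟨j, rfl⟩
      · have hnil : Group.IsNilpotent F := by
          rw [hF, Solvable.Cores.fittingSubgroup_eq_iSup_pCore]
          exact Solvable.Cores.iSup_pCore_isNilpotent
        obtain ⟨k, hk⟩ := (Subgroup.isNilpotent_iff_lowerCentralSeries _).mp hnil
        refine ⟨k, ?_⟩
        rw [Fin.cons_succ, hC0, MonoidHom.comap_bot, QuotientGroup.ker_mk', hk]
        exact bot_le
      · obtain ⟨k, hk⟩ := hCk j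
        refine ⟨k, ?_⟩
        rw [Fin.cons_succ, Fin.castSucc_succ, Fin.cons_succ, ← Subgroup.map_le_iff_le_comap,
          Subgroup.map_lowerCentralSeries,
          Subgroup.map_comap_eq_self_of_surjective (QuotientGroup.mk'_surjective F)]
        exact hk

end CfsgLib.Solvable.FPFOperators
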