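import Cfsg.Agent.Lib.Solvable.FPFOperators.TwistedExact
import Cfsg.Agent.Lib.Solvable.FPFOperators.Height
import Cfsg.Agent.Lib.PGroup.Frattini

/-!
# Two consecutive layers under an operator of two-power order

`s` has `s ^ 2 ^ (n + 1) = 1` and no fixed vector on `W`, and `τ = s ^ 2 ^ n`. If `s` normalises the
`q`-group `Q`, which normalises the `r`-group `R`, then every `⁅τ, g⁆` with `g ∈ Q` centralises the
image of `R`.
-/

set_option autoImplicit false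

namespace CfsgLib.Solvable.FPFOperators

open Subgroup CfsgLib
open scoped commutatorElement

universe u v w

/-! ### Minimal configurations -/

/-- The alternatives when the elements of `S` centralise all proper invariant subgroups. -/
theorem special_dichotomy {Γ : Type*} [Group Γ] [Finite Γ] {r : ℕ} [Fact r.Prime] (R : Subgroup Γ)
    [hRn : R.Normal] (hR : IsPGroup r R) (S O : Set Γ)
    (hSO : ∀ o ∈ O, ∀ c ∈ S, o⁻¹ * c * o ∈ closure S)
    (hord : ∀ c ∈ S, (orderOf c).Coprime r)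
    (hprop : ∀ R₀ : Subgroup Γ, R₀ ≤ R → R₀ ≠ R → (∀ o ∈ O, ∀ x ∈ R₀, o * x * o⁻¹ ∈ R₀) →
      ∀ c ∈ S, ∀ x ∈ R₀, c * x = x * c) :
    (∀ c ∈ S, ∀ x ∈ R, c * x = x * c) ∨ (∀ x ∈ R, ∀ y ∈ R, x * y = y * x) ∨
      ((∀ x ∈ R, ∀ y ∈ R, ⁅x, y⁆ ∈ R ⊓ centralizer S) ∧ (∀ x ∈ R, x ^ r ∈ R ⊓ centralizer S) ∧
        (∀ x ∈ R ⊓ centralizer S, ∀ y ∈ R, y * x = x * y) ∧
        ∀ x ∈ R, (∀ y ∈ R, y * x = x * y) → x ∈ R ⊓ centralizer S) := by
  by_cases hab : ∀ x ∈ R, ∀ y ∈ R, x * y = y * x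
  · exact Or.inr (Or.inl hab)
  refine or_iff_not_imp_left.2 fun hno => Or.inr ?_
  set D := R ⊓ centralizer S with hD
  have hDO : ∀ o ∈ O, ∀ x ∈ D, o * x * o⁻¹ ∈ D := by
    rintro o ho x ⟨hxR, hxS⟩
    refine ⟨hRn.conj_mem x hxR o, mem_centralizer_iff.2 fun c hc => ?_⟩
    have h1 : x ∈ centralizer (closure S : Set Γ) := by rw [centralizer_closure]; exact hxS
    have h2 := mem_centralizer_iff.1 h1 _ (hSO o ho c hc)
    calc c * (o * x * o⁻¹) = o * ((o⁻¹ * c * o) * x) * o⁻¹ := by group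
      _ = o * (x * (o⁻¹ * c * o)) * o⁻¹ := by rw [h2]
      _ = o * x * o⁻¹ * c := by group
  have hmemD : ∀ R₀ : Subgroup Γ, R₀ ≤ R → R₀ ≠ R → (∀ o ∈ O, ∀ x ∈ R₀, o * x * o⁻¹ ∈ R₀) →
      R₀ ≤ D := fun R₀ h1 h2 h3 x hx =>
    ⟨h1 hx, mem_centralizer_iff.2 fun c hc => hprop R₀ h1 h2 h3 c hc x hx⟩
  -- the Frattini subgroup is centralised
  haveI : Nontrivial R := (Subgroup.nontrivial_iff_ne_bot R).2 fun h => hab fun x hx y _ => by
    rw [h, mem_bot] at hx; rw [hx, one_mul, mul_one]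
  let Φ := (frattini R).map R.subtype
  have hΦR : Φ ≤ R := map_subtype_le _
  haveI : Φ.Normal := by
    haveI : (frattini R).Characteristic := inferInstance
    infer_instance
  have hΦne : Φ ≠ R := by
    intro h
    obtain ⟨M, hM⟩ : ∃ M : Subgroup R, IsCoatom M :=
      (eq_top_or_exists_le_coatom (⊥ : Subgroup R)).resolve_left bot_ne_top |>.imp fun M h => h.1
    refine hM.1 (top_le_iff.1 fun x _ => frattini_le_coatom hM ?_)
    obtain ⟨y, hy, e⟩ := h.ge x.2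
    rwa [show y = x from Subtype.ext e] at hy
  have hΦD : Φ ≤ D := hmemD Φ hΦR hΦne fun o _ x hx => (inferInstance : Φ.Normal).conj_mem x hx o
  have hcommD : ∀ x ∈ R, ∀ y ∈ R, ⁅x, y⁆ ∈ D := fun x hx y hy =>
    hΦD ⟨_, PGroup.Frattini.commutatorElement_mem_frattini hR ⟨x, hx⟩ ⟨y, hy⟩, rfl⟩
  refine ⟨hcommD, fun x hx => hΦD ⟨_, PGroup.Frattini.pow_mem_frattini hR ⟨x, hx⟩, rfl⟩, ?_, ?_⟩
  · -- `D` is central
    intro d hd y hy
    have hDn : ∀ z ∈ R, ∀ e ∈ D, z * e * z⁻¹ ∈ D := fun z hz e he => by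
      rw [show z * e * z⁻¹ = ⁅z, e⁆ * e by rw [commutatorElement_def]; group]
      exact mul_mem (hcommD z hz e he.1) he
    let E := R ⊓ centralizer (D : Set Γ)
    have hEinv : ∀ o ∈ O, ∀ x ∈ E, o * x * o⁻¹ ∈ E := by
      rintro o ho x ⟨hxR, hxD⟩
      have hoD : ∀ e ∈ D, o⁻¹ * e * o ∈ D := by
        have hpow : ∀ (i : ℕ), ∀ e ∈ D, o ^ i * e * (o ^ i)⁻¹ ∈ D := by
          intro i
          induction i with
          | zero => intro e he; simpa using he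
          | succ i ih =>
            intro e he
            rw [show o ^ (i + 1) * e * (o ^ (i + 1))⁻¹ = o * (o ^ i * e * (o ^ i)⁻¹) * o⁻¹ by
              rw [pow_succ']; group]
            exact hDO o ho _ (ih e he)
        intro e he
        have h := hpow (orderOf o - 1) e he
        rwa [show o ^ (orderOf o - 1) = o⁻¹ by
          rw [eq_inv_iff_mul_eq_one, ← pow_succ, Nat.sub_add_cancel (orderOf_pos o), pow_orderOf_eq_one],
          inv_inv] at h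
      refine ⟨hRn.conj_mem x hxR o, mem_centralizer_iff.2 fun e he => ?_⟩
      have h2 := mem_centralizer_iff.1 hxD _ (hoD e he)
      calc e * (o * x * o⁻¹) = o * ((o⁻¹ * e * o) * x) * o⁻¹ := by group
        _ = o * (x * (o⁻¹ * e * o)) * o⁻¹ := by rw [h2]
        _ = o * x * o⁻¹ * e := by group
    by_cases hE : E = R
    · exact (mem_centralizer_iff.1 (hE.ge hy).2 d hd).symm
    exfalso
    have hED : E ≤ D := hmemD E inf_le_left hE hEinv
    refine hno fun c hc x hx => ?_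
    have hcD : ∀ e ∈ D, c * e = e * c := fun e he => mem_centralizer_iff.1 he.2 c hc
    have hxc : ⁅c, x⁆ ∈ E := by
      refine Subgroup.mem_inf.2 ⟨by rw [commutatorElement_def]; exact mul_mem (hRn.conj_mem x hx c) (inv_mem hx),
        mem_centralizer_iff.2 fun e he => ?_⟩
      -- both conjugates act alike on `D`
      have h1 : c * (x⁻¹ * e * x) = x⁻¹ * e * x * c := by
        refine hcD _ ?_
        have := hDn x⁻¹ (inv_mem hx) e he
        rwa [inv_inv] at this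
      rw [commutatorElement_def]
      calc e * (c * x * c⁻¹ * x⁻¹) = (e * c) * x * c⁻¹ * x⁻¹ := by group
        _ = (c * e) * x * c⁻¹ * x⁻¹ := by rw [hcD e he]
        _ = c * x * (x⁻¹ * e * x) * c⁻¹ * x⁻¹ := by group
        _ = c * x * (c⁻¹ * (c * (x⁻¹ * e * x))) * c⁻¹ * x⁻¹ := by group
        _ = c * x * (c⁻¹ * (x⁻¹ * e * x * c)) * c⁻¹ * x⁻¹ := by rw [h1]
        _ = c * x * c⁻¹ * x⁻¹ * e := by group
    have h2 := eq_one_of_commute_commutator (pow_orderOf_eq_one c) (hcD _ (hED hxc)) (by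
      obtain ⟨k, hk⟩ := hR ⟨_, hxc.1⟩
      exact ((hord c hc).pow_right k).symm.coprime_dvd_left
        (orderOf_dvd_of_pow_eq_one (congrArg Subtype.val hk)))
    exact commutatorElement_eq_one_iff_mul_comm.1 h2
  · intro x hx hxc
    let Z := R ⊓ centralizer (R : Set Γ)
    have hZne : Z ≠ R := fun h => hab fun a ha b hb => (mem_centralizer_iff.1 (h.ge hb).2 a ha)
    refine hmemD Z inf_le_left hZne (fun o _ a ha => ⟨hRn.conj_mem a ha.1 o,
      (inferInstance : (centralizer (R : Set Γ)).Normal).conj_mem a ha.2 o⟩)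
      ⟨hx, mem_centralizer_iff.2 hxc⟩

/-! ### Blocks -/

section Block

variable {K : Type v} [Field K] {Γ : Type u} [Group Γ] {W : Type w} [AddCommGroup W] [Module K W]

/-- The representation on the range of an idempotent. -/
theorem exists_range_rep (ρ : Γ →* Module.End K W) (e : Module.End K W) (Γ₁ : Subgroup Γ)
    (hcomm : ∀ g ∈ Γ₁, ρ g * e = e * ρ g) :
    ∃ θ : Γ₁ →* Module.End K (LinearMap.range e),
      (∀ (g : Γ₁) (v : LinearMap.range e), ((θ g v : LinearMap.range e) : W) = ρ (g : Γ) (v : W)) ∧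
      (∀ g k : Γ₁, θ g = θ k ↔ ρ (g : Γ) * e = ρ (k : Γ) * e) ∧
      (∀ (g : Γ₁) (c : K), θ g = c • 1 ↔ ρ (g : Γ) * e = c • e) ∧
      ∀ (t : Finset ℕ) (c : ℕ → K) (g : ℕ → Γ₁),
        ∑ i ∈ t, c i • θ (g i) = 0 ↔ (∑ i ∈ t, c i • ρ (g i : Γ)) * e = 0 := by
  have hmaps : ∀ g : Γ₁, ∀ v ∈ LinearMap.range e, ρ (g : Γ) v ∈ LinearMap.range e := by
    rintro g _ ⟨v, rfl⟩
    exact ⟨ρ (g : Γ) v, (LinearMap.congr_fun (hcomm g g.2) v).symm⟩
  let θ : Γ₁ →* Module.End K (LinearMap.range e) :=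
    { toFun := fun g => (ρ (g : Γ)).restrict (hmaps g)
      map_one' := LinearMap.ext fun v => Subtype.ext (by
        rw [LinearMap.restrict_coe_apply, OneMemClass.coe_one, map_one]; rfl)
      map_mul' := fun g k => LinearMap.ext fun v => Subtype.ext (by
        rw [LinearMap.restrict_coe_apply, Subgroup.coe_mul, map_mul]; rfl) }
  have hθ : ∀ (g : Γ₁) (v : W),
      ((θ g ⟨e v, v, rfl⟩ : LinearMap.range e) : W) = (ρ (g : Γ) * e) v := fun g v => rfl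
  refine ⟨θ, fun g v => rfl, fun g k => ⟨fun h => LinearMap.ext fun v => ?_, fun h => LinearMap.ext ?_⟩,
    fun g c => ⟨fun h => LinearMap.ext fun v => ?_, fun h => LinearMap.ext ?_⟩,
    fun t c g => ⟨fun h => LinearMap.ext fun v => ?_, fun h => LinearMap.ext ?_⟩⟩
  · rw [← hθ, ← hθ, h]
  · rintro ⟨_, v, rfl⟩
    exact Subtype.ext (by rw [hθ, hθ, h])
  · rw [← hθ, h]; rfl
  · rintro ⟨_, v, rfl⟩
    exact Subtype.ext (by rw [hθ, h]; rfl)
  · have h1 := congrArg (fun f : Module.End K (LinearMap.range e) =>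
      ((f ⟨e v, v, rfl⟩ : LinearMap.range e) : W)) h
    simp only [LinearMap.sum_apply, LinearMap.smul_apply, Submodule.coe_sum, Submodule.coe_smul, hθ,
      LinearMap.zero_apply, ZeroMemClass.coe_zero] at h1
    rw [Finset.sum_mul, LinearMap.sum_apply, LinearMap.zero_apply, ← h1]
    exact Finset.sum_congr rfl fun i _ => by rw [smul_mul_assoc, LinearMap.smul_apply]
  · rintro ⟨_, v, rfl⟩
    refine Subtype.ext ?_
    have h1 := LinearMap.congr_fun h v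
    rw [Finset.sum_mul, LinearMap.sum_apply, LinearMap.zero_apply] at h1
    simp only [LinearMap.sum_apply, LinearMap.smul_apply, Submodule.coe_sum, Submodule.coe_smul, hθ,
      LinearMap.zero_apply, ZeroMemClass.coe_zero]
    rw [← h1]
    exact Finset.sum_congr rfl fun i _ => by rw [smul_mul_assoc, LinearMap.smul_apply]

variable {Z : Subgroup Γ} [Fintype Z] [Z.Normal]

/-- The norm on the block of a weight. -/
theorem sum_block (ρ : Γ →* Module.End K W) (hZK : (Fintype.card Z : K) ≠ 0) {p n j : ℕ}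
    (hp : p.Prime) {s : Γ} (hsum : ∑ i ∈ Finset.range (p ^ (n + 1)), ρ (s ^ i) = 0) (l : Z →* Kˣ)
    (hjn : j ≤ n) (hj : ∀ k, s ^ k • l = l ↔ p ^ j ∣ k) :
    (∑ a ∈ Finset.range (p ^ (n + 1 - j)), ρ ((s ^ p ^ j) ^ a)) * weightIdem Z ρ l = 0 := by
  classical
  set e := weightIdem Z ρ l with he
  have hee : e * e = e := weightIdem_mul_self ρ hZK l
  set N := p ^ (n + 1 - j) with hN
  have h0 : ∑ i ∈ Finset.range (p ^ (n + 1)), e * ρ (s ^ i) * e = 0 := by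
    rw [← Finset.sum_mul, ← Finset.mul_sum, hsum, mul_zero, zero_mul]
  have hsplit : p ^ (n + 1) = p ^ j * N := by
    rw [hN, ← pow_add]; congr 1; omega
  rw [← h0]
  have hsub : (Finset.range N).image (p ^ j * ·) ⊆ Finset.range (p ^ (n + 1)) := by
    intro i hi
    obtain ⟨a, ha, rfl⟩ := Finset.mem_image.mp hi
    rw [hsplit, Finset.mem_range]
    exact Nat.mul_lt_mul_of_pos_left (Finset.mem_range.mp ha) (pow_pos hp.pos j)
  rw [← Finset.sum_subset hsub, Finset.sum_image, Finset.sum_mul]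
  · refine Finset.sum_congr rfl fun a _ => ?_
    have hfix : (s ^ (p ^ j * a)) • l = l := (hj _).mpr (dvd_mul_right _ a)
    rw [← pow_mul, he, map_mul_weightIdem_smul, hfix, ← he, mul_assoc e, ← show ρ (s ^ (p ^ j * a)) * e
      = e * ρ (s ^ (p ^ j * a)) by rw [he, map_mul_weightIdem_smul, hfix]]
    rw [← mul_assoc, show e * ρ (s ^ (p ^ j * a)) = ρ (s ^ (p ^ j * a)) * e by
      rw [he, map_mul_weightIdem_smul, hfix], mul_assoc, hee]
  · exact fun a _ b _ hab => Nat.eq_of_mul_eq_mul_left (pow_pos hp.pos j) hab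
  · intro i hi hni
    rw [mul_assoc, he, map_mul_weightIdem_smul, ← mul_assoc, weightIdem_orth ρ, zero_mul]
    intro heq
    refine hni (Finset.mem_image.mpr ?_)
    obtain ⟨a, rfl⟩ := (hj i).mp heq.symm
    refine ⟨a, Finset.mem_range.mpr ?_, rfl⟩
    rw [hsplit, Finset.mem_range] at hi
    exact Nat.lt_of_mul_lt_mul_left hi

end Block

theorem commutator_congr {G : Type*} [Group G] {k y j t : G} (hky : Commute k y) (hkt : Commute k t)
    (hjy : Commute j y) (hjt : Commute j t) (hjk : Commute j k) : ⁅k * y, j * t⁆ = ⁅y, t⁆ := by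
  rw [commutatorElement_def, commutatorElement_def, mul_inv_rev, mul_inv_rev]
  calc k * y * (j * t) * (y⁻¹ * k⁻¹) * (t⁻¹ * j⁻¹) = k * (y * j) * t * y⁻¹ * k⁻¹ * t⁻¹ * j⁻¹ := by group
    _ = k * (j * y) * t * y⁻¹ * k⁻¹ * t⁻¹ * j⁻¹ := by rw [hjy.eq]
    _ = k * j * ((y * t * y⁻¹) * (k⁻¹ * t⁻¹)) * j⁻¹ := by group
    _ = k * j * ((y * t * y⁻¹) * (t⁻¹ * k⁻¹)) * j⁻¹ := by rw [(hkt.inv_inv).eq]
    _ = k * j * (y * t * y⁻¹ * t⁻¹) * (j * k)⁻¹ := by group
    _ = k * j * (y * t * y⁻¹ * t⁻¹) * (k * j)⁻¹ := by rw [hjk.eq]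
    _ = y * t * y⁻¹ * t⁻¹ := by
      have hc : Commute (k * j) (y * t * y⁻¹ * t⁻¹) :=
        (((hky.mul_left hjy).mul_right (hkt.mul_left hjt)).mul_right
          (hky.mul_left hjy).inv_right).mul_right (hkt.mul_left hjt).inv_right
      rw [hc.eq, mul_inv_cancel_right]

/-- The exceptional block. -/
theorem block_exact {K : Type v} [Field K] [IsAlgClosed K] {W : Type w} [AddCommGroup W] [Module K W]
    [FiniteDimensional K W] [Nontrivial W] {Γ : Type u} [Group Γ] [Finite Γ]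
    (θ : Γ →* Module.End K W) (R : Subgroup Γ) [hRn : R.Normal] {r : ℕ} [Fact r.Prime] (hr2 : r ≠ 2)
    (hR : IsPGroup r R) {s : Γ} {m : ℕ} (hs : s ^ 2 ^ (m + 1) = 1) (h2K : (2 : K) ≠ 0)
    (hcomm : ∀ x ∈ R, ∀ y ∈ R, ∃ c : K, θ ⁅x, y⁆ = c • 1) {c : K} (hc : c ^ 2 ^ (m + 1) = 1)
    (hsum : ∑ i ∈ Finset.range (2 ^ (m + 1)), c ^ i • θ (s ^ i) = 0)
    (hab : ∀ S : Subgroup Γ, S ≤ R → (∀ x ∈ S, s * x * s⁻¹ ∈ S) →
      (∀ x ∈ S, ∀ y ∈ S, θ (x * y) = θ (y * x)) → ∀ x ∈ S, θ (s ^ 2 ^ m * x) = θ (x * s ^ 2 ^ m)) :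
    (∀ x ∈ R, θ (s ^ 2 ^ m * x) = θ (x * s ^ 2 ^ m)) ∨
      ((1 ≤ m ∧ (m = 1 → r = 3)) ∧
        (∀ y ∈ R, (∀ z ∈ R, θ (⁅s ^ 2 ^ m, y⁆ * z) = θ (z * ⁅s ^ 2 ^ m, y⁆)) →
          ∀ z ∈ R, θ (⁅s, y⁆ * z) = θ (z * ⁅s, y⁆)) ∧
        ∀ c' : K, c' ^ 2 ^ (m + 1) = 1 →
          ∑ i ∈ Finset.range (2 ^ (m + 1)), c' ^ i • θ (s ^ i) = 0 → c' = c) := by
  classical
  set τ := s ^ 2 ^ m with hτ
  have hτ2 : τ * τ = 1 := by rw [hτ, ← pow_add, ← two_mul, ← pow_succ', hs]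
  have hτi : τ⁻¹ = τ := inv_eq_of_mul_eq_one_right hτ2
  set θu := θ.toHomUnits with hθu
  have hθuval : ∀ g, (θu g : Module.End K W) = θ g := fun g => rfl
  have hscal_inv : ∀ g (κ : K), θ g = κ • 1 → ∃ κ' : K, θ g⁻¹ = κ' • 1 := fun g κ h => by
    refine ⟨κ⁻¹, ?_⟩
    have hκ : κ ≠ 0 := by
      intro h0
      rw [h0, zero_smul] at h
      have h1 : θ (g * g⁻¹) = 0 := by rw [map_mul, h, zero_mul]
      rw [mul_inv_cancel, map_one] at h1
      exact one_ne_zero h1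
    have h1 : θ g * θ g⁻¹ = 1 := by rw [← map_mul, mul_inv_cancel, map_one]
    rw [h, smul_mul_assoc, one_mul] at h1
    rw [← h1, smul_smul, inv_mul_cancel₀ hκ, one_smul]
  have hodd : ∀ x ∈ R, ∃ i, x ^ r ^ i = 1 := fun x hx => by
    obtain ⟨i, hi⟩ := hR ⟨x, hx⟩
    exact ⟨i, congrArg Subtype.val hi⟩
  have hroot : ∀ x ∈ R, ∃ k : ℕ, (x * x) ^ k = x := fun x hx => by
    obtain ⟨i, hi⟩ := hodd x hx
    obtain ⟨k, hk⟩ := exists_pow_eq_self_of_coprime (x := x) (n := 2)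
      ((((Nat.coprime_primes Fact.out Nat.prime_two).2 hr2).pow_left i).symm.coprime_dvd_right
        (orderOf_dvd_of_pow_eq_one hi))
    exact ⟨k, by rwa [← sq]⟩
  -- the commutators with `τ`
  set T := closure ((fun x => ⁅τ, x⁆) '' (R : Set Γ)) with hT
  have hgenR : ∀ x ∈ R, ⁅τ, x⁆ ∈ R := fun x hx => by
    rw [commutatorElement_def]; exact mul_mem (hRn.conj_mem x hx τ) (inv_mem hx)
  have hTR : T ≤ R := by
    rw [hT, closure_le]
    rintro _ ⟨x, hx, rfl⟩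
    exact hgenR x hx
  have hconjT : ∀ g : Γ, (∀ x ∈ R, g * ⁅τ, x⁆ * g⁻¹ ∈ T) → ∀ x ∈ T, g * x * g⁻¹ ∈ T := by
    intro g hg x hx
    induction hx using Subgroup.closure_induction with
    | mem x hx => obtain ⟨y, hy, rfl⟩ := hx; exact hg y hy
    | one => simp
    | mul a b _ _ ha hb => rw [← conj_mul]; exact mul_mem ha hb
    | inv a _ ha => rw [← conj_inv]; exact inv_mem ha
  have hgenT : ∀ x ∈ R, ⁅τ, x⁆ ∈ T := fun x hx => subset_closure ⟨x, hx, rfl⟩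
  have hsT : ∀ x ∈ T, s * x * s⁻¹ ∈ T := hconjT s fun x hx => by
    rw [show s * ⁅τ, x⁆ * s⁻¹ = ⁅s * τ * s⁻¹, s * x * s⁻¹⁆ by simp only [commutatorElement_def]; group,
      show s * τ * s⁻¹ = τ by rw [hτ, (Commute.self_pow s _).eq, mul_inv_cancel_right]]
    exact hgenT _ (hRn.conj_mem x hx s)
  set Γ₂ := normalizer (T : Set Γ) with hΓ₂
  have hsΓ₂ : s ∈ Γ₂ := by
    refine mem_normalizer_iff_map_conj_eq.2 (eq_of_le_of_card_ge ?_
      (by rw [card_map_of_injective (MulAut.conj s).injective]))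
    rintro _ ⟨x, hx, rfl⟩
    exact hsT x hx
  have hRΓ₂ : ∀ y ∈ R, y ∈ Γ₂ := fun y hy => by
    refine mem_normalizer_iff_map_conj_eq.2 (eq_of_le_of_card_ge ?_
      (by rw [card_map_of_injective (MulAut.conj y).injective]))
    rintro _ ⟨x, hx, rfl⟩
    refine hconjT y (fun z hz => ?_) x hx
    rw [show y * ⁅τ, z⁆ * y⁻¹ = ⁅τ, y⁆⁻¹ * ⁅τ, y * z⁆ by simp only [commutatorElement_def]; group]
    exact mul_mem (inv_mem (hgenT y hy)) (hgenT _ (mul_mem hy hz))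
  -- `τ` inverts `T` modulo scalars
  have hinv : ∀ x ∈ T, x ∈ R ∧ ∃ κ : K, θ (τ * x * τ⁻¹ * x) = κ • 1 := by
    intro x hx
    induction hx using Subgroup.closure_induction with
    | mem x hx =>
      obtain ⟨y, hy, rfl⟩ := hx
      refine ⟨hgenR y hy, 1, ?_⟩
      rw [one_smul, ← map_one θ]
      congr 1
      simp only [commutatorElement_def, hτi]
      calc τ * (τ * y * τ * y⁻¹) * τ * (τ * y * τ * y⁻¹)
          = (τ * τ) * y * τ * y⁻¹ * (τ * τ) * y * τ * y⁻¹ := by group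
        _ = y * τ * y⁻¹ * y * τ * y⁻¹ := by rw [hτ2]; group
        _ = y * (τ * τ) * y⁻¹ := by group
        _ = 1 := by rw [hτ2]; group
    | one => exact ⟨one_mem R, 1, by simp⟩
    | mul a b _ _ iha ihb =>
      obtain ⟨haR, κa, hκa⟩ := iha
      obtain ⟨hbR, κb, hκb⟩ := ihb
      obtain ⟨κ₀, hκ₀⟩ := hcomm _ (hRn.conj_mem b hbR τ) a haR
      refine ⟨mul_mem haR hbR, κa * (κ₀ * κb), ?_⟩
      calc θ (τ * (a * b) * τ⁻¹ * (a * b))
          = θ (τ * a * τ⁻¹) * θ ⁅τ * b * τ⁻¹, a⁆ * θ a * θ (τ * b * τ⁻¹ * b) := by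
            rw [← map_mul, ← map_mul, ← map_mul]; congr 1; simp only [commutatorElement_def]; group
        _ = κ₀ • (θ (τ * a * τ⁻¹ * a) * θ (τ * b * τ⁻¹ * b)) := by
            rw [hκ₀, mul_smul_comm, mul_one, smul_mul_assoc, smul_mul_assoc, ← map_mul θ _ a]
        _ = (κa * (κ₀ * κb)) • 1 := by
            rw [hκa, hκb, smul_mul_assoc, mul_smul_comm, one_mul, smul_smul, smul_smul]
            congr 1; ring
    | inv a _ iha =>
      obtain ⟨haR, κa, hκa⟩ := iha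
      obtain ⟨κ', hκ'⟩ := hscal_inv _ κa hκa
      refine ⟨inv_mem haR, κ', ?_⟩
      rw [show τ * a⁻¹ * τ⁻¹ * a⁻¹ = a * (τ * a * τ⁻¹ * a)⁻¹ * a⁻¹ by group, map_mul, map_mul, hκ',
        mul_smul_comm, mul_one, smul_mul_assoc, ← map_mul, mul_inv_cancel, map_one]
  -- the central part of `T` is scalar
  set T₀ : Subgroup Γ := wCentral T θ 1 (fun _ _ => Commute.one_right _) with hT₀
  have hT₀T : T₀ ≤ T := wCentral_le θ
  have hT₀mem : ∀ x, x ∈ T₀ ↔ x ∈ T ∧ ∀ y ∈ T, θ (x * y) = θ (y * x) := fun x => by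
    show (x ∈ T ∧ ∀ y ∈ T, θ (x * y) * 1 = θ (y * x) * 1) ↔ _
    simp only [mul_one]
  have hconjT₀ : ∀ g ∈ Γ₂, ∀ x ∈ T₀, g * x * g⁻¹ ∈ T₀ := by
    intro g hg x hx
    obtain ⟨hxT, hxc⟩ := (hT₀mem x).1 hx
    refine (hT₀mem _).2 ⟨(mem_normalizer_iff.1 hg x).1 hxT, fun y hy => ?_⟩
    have hy' : g⁻¹ * y * g ∈ T := by
      have := (mem_normalizer_iff.1 (inv_mem hg) y).1 hy
      rwa [inv_inv] at this
    calc θ (g * x * g⁻¹ * y) = θ g * θ (x * (g⁻¹ * y * g)) * θ g⁻¹ := by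
          rw [← map_mul, ← map_mul]; congr 1; group
      _ = θ g * θ (g⁻¹ * y * g * x) * θ g⁻¹ := by rw [hxc _ hy']
      _ = θ (y * (g * x * g⁻¹)) := by rw [← map_mul, ← map_mul]; congr 1; group
  have hscal : ∀ x ∈ T₀, ∃ κ : K, θ x = κ • 1 := by
    intro x hx
    have h1 := hab T₀ (hT₀T.trans hTR) (hconjT₀ s hsΓ₂)
      (fun a ha b hb => ((hT₀mem a).1 ha).2 b (hT₀T hb)) x hx
    obtain ⟨-, κ, hκ⟩ := hinv x (hT₀T hx)
    have h2 : θ (τ * x * τ⁻¹) = θ x := by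
      rw [map_mul, h1, ← map_mul, mul_inv_cancel_right]
    rw [map_mul, h2, ← map_mul] at hκ
    obtain ⟨k, hk⟩ := hroot x (hTR (hT₀T hx))
    exact ⟨κ ^ k, by rw [← hk, map_pow, hκ, smul_pow, one_pow]⟩
  by_cases hTT₀ : T ≤ T₀
  · left
    intro x hx
    obtain ⟨κ, hκ⟩ := hscal _ (hTT₀ (hgenT x hx))
    -- the scalar is its own inverse, and has odd order
    have hu : θu ⁅τ, x⁆ * θu ⁅τ, x⁆ = 1 := by
      refine Units.ext ?_
      have h1 : τ * ⁅τ, x⁆ * τ⁻¹ = ⁅τ, x⁆⁻¹ := by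
        simp only [commutatorElement_def, hτi]
        calc τ * (τ * x * τ * x⁻¹) * τ = (τ * τ) * x * τ * x⁻¹ * τ := by group
          _ = x * τ⁻¹ * x⁻¹ * τ⁻¹ := by rw [hτ2, hτi]; group
          _ = (τ * x * τ * x⁻¹)⁻¹ := by rw [hτi, mul_inv_rev, mul_inv_rev, mul_inv_rev, hτi, inv_inv]; group
      have h2 : θ ⁅τ, x⁆⁻¹ = θ ⁅τ, x⁆ := by
        rw [← h1, map_mul, map_mul, hκ, mul_smul_comm, mul_one, smul_mul_assoc, ← map_mul,
          mul_inv_cancel, map_one]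
      show θ ⁅τ, x⁆ * θ ⁅τ, x⁆ = 1
      conv_lhs => arg 2; rw [← h2]
      rw [← map_mul, mul_inv_cancel, map_one]
    have h1 : θu ⁅τ, x⁆ = 1 := by
      obtain ⟨k, hk⟩ := hroot _ (hgenR x hx)
      rw [← hk, map_pow, map_mul, hu, one_pow]
    have h2 : θ ⁅τ, x⁆ = 1 := congrArg Units.val h1
    calc θ (τ * x) = θ ⁅τ, x⁆ * θ (x * τ) := by
          rw [← map_mul]; congr 1; rw [commutatorElement_def]; group
      _ = θ (x * τ) := by rw [h2, one_mul]
  right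
  set Q₂ := T.subgroupOf Γ₂ with hQ₂
  set R₂ := T₀.subgroupOf Γ₂ with hR₂
  haveI : Q₂.Normal := (normal_subgroupOf_iff_le_normalizer le_normalizer).2 le_rfl
  haveI : R₂.Normal := ⟨fun x hx g => hconjT₀ g g.2 x hx⟩
  let s₂ : Γ₂ := ⟨s, hsΓ₂⟩
  have hNK : ((2 ^ (m + 1) : ℕ) : K) ≠ 0 := by rw [Nat.cast_pow]; exact pow_ne_zero _ (by exact_mod_cast h2K)
  obtain ⟨hidx, hYs, huniq⟩ := exists_twisted_exact (θ.comp Γ₂.subtype) Q₂ R₂ (fun x hx => hT₀T hx)
    (s := s₂) (N := 2 ^ (m + 1)) rfl (Nat.two_pow_pos _) (Subtype.ext hs) hNK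
    (fun x hx => hscal x hx)
    (fun x hx hy => (hT₀mem _).2 ⟨hx, fun y hyT => hy ⟨y, hRΓ₂ y (hTR hyT)⟩ hyT⟩)
    (fun x hx y hy => hcomm _ (hTR hx) _ (hTR hy))
    (fun i hi0 hiN x hx hix => by
      have hτz : s₂ ^ 2 ^ m ∈ zpowers (s₂ ^ i) :=
        pow_mem_zpowers_pow (n := m) Nat.prime_two (Subtype.ext hs)
          fun hdv => absurd (Nat.le_of_dvd hi0 hdv) (not_le.mpr hiN)
      have hc' : Commute (QuotientGroup.mk' R₂ (s₂ ^ 2 ^ m)) (QuotientGroup.mk' R₂ x) := by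
        have h1 : Commute (QuotientGroup.mk' R₂ (s₂ ^ i)) (QuotientGroup.mk' R₂ x) :=
          commutatorElement_eq_one_iff_mul_comm.mp ((map_commutatorElement _ _ _).symm.trans
            ((QuotientGroup.eq_one_iff _).mpr hix))
        obtain ⟨k, hk⟩ := mem_zpowers_iff.mp hτz
        rw [← hk, map_zpow]
        exact h1.zpow_left k
      have h2 : ⁅s₂ ^ 2 ^ m, x⁆ ∈ R₂ := by
        rw [← QuotientGroup.eq_one_iff]
        exact (map_commutatorElement (QuotientGroup.mk' R₂) _ _).trans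
          (commutatorElement_eq_one_iff_mul_comm.2 hc')
      obtain ⟨κ₁, hκ₁⟩ := hscal _ (show ⁅τ, (x : Γ)⁆ ∈ T₀ from h2)
      obtain ⟨-, κ₂, hκ₂⟩ := hinv (x : Γ) hx
      rw [show τ * (x : Γ) * τ⁻¹ * x = ⁅τ, (x : Γ)⁆ * (x * x) by rw [commutatorElement_def]; group,
        map_mul, hκ₁, smul_mul_assoc, one_mul] at hκ₂
      have hκ₁0 : κ₁ ≠ 0 := fun h0 => by
        rw [h0, zero_smul] at hκ₁
        have h3 : θ (⁅τ, (x : Γ)⁆ * ⁅τ, (x : Γ)⁆⁻¹) = 0 := by rw [map_mul, hκ₁, zero_mul]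
        rw [mul_inv_cancel, map_one] at h3
        exact one_ne_zero h3
      have hxx : θ ((x : Γ) * x) = (κ₁⁻¹ * κ₂) • 1 := by
        rw [← smul_smul, ← hκ₂, smul_smul, inv_mul_cancel₀ hκ₁0, one_smul]
      obtain ⟨k, hk⟩ := hroot (x : Γ) (hTR hx)
      show (x : Γ) ∈ T₀
      refine (hT₀mem _).2 ⟨hx, fun y _ => ?_⟩
      rw [map_mul, map_mul, ← hk, map_pow, hxx, smul_pow, one_pow, smul_mul_assoc, mul_smul_comm,
        one_mul, mul_one])
    (fun h => hTT₀ fun x hx => h (show (⟨x, hRΓ₂ x (hTR hx)⟩ : Γ₂) ∈ Q₂ from hx)) hc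
    (by exact hsum)
  refine ⟨?_, ?_, fun c' hc' hs' => huniq c' hc' hs'⟩
  · have hd : (2 ^ (m + 1) - 1) * (2 ^ (m + 1) - 1) ∣ Nat.card Q₂ :=
      hidx ▸ Subgroup.relIndex_dvd_card _ _
    obtain ⟨t, ht⟩ := IsPGroup.iff_card.mp
      ((hR.to_le hTR).of_equiv (subgroupOfEquivOfLe (le_normalizer : T ≤ Γ₂)).symm)
    rw [ht] at hd
    have hm : 1 ≤ m := by
      refine Nat.pos_of_ne_zero fun h0 => hTT₀ fun x hx => ?_
      have h1 : R₂.relIndex Q₂ = 1 := by rw [hidx, h0]; norm_num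
      exact Subgroup.relIndex_eq_one.mp h1 (show (⟨x, hRΓ₂ x (hTR hx)⟩ : Γ₂) ∈ Q₂ from hx)
    refine ⟨hm, fun h1 => ?_⟩
    rw [h1] at hd
    exact ((Nat.prime_dvd_prime_iff_eq Nat.prime_three Fact.out).1
      (Nat.prime_three.dvd_of_dvd_pow ((show 3 ∣ (2 ^ (1 + 1) - 1) * (2 ^ (1 + 1) - 1) by norm_num).trans hd))).symm
  · intro y hy hyc z hz
    have hyT : ∀ t ∈ T, Commute (θ y) (θ t) := by
      intro t ht
      have htR := hTR ht
      obtain ⟨-, κj, hκj⟩ := hinv t ht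
      obtain ⟨κ, hκ⟩ := hcomm y hy t htR
      have hk : ∀ z ∈ R, Commute (θu ⁅τ, y⁆) (θu z) := fun z hz => Units.ext (by
        show θ ⁅τ, y⁆ * θ z = θ z * θ ⁅τ, y⁆
        rw [← map_mul, hyc z hz, map_mul])
      have hj : ∀ g, Commute (θu (τ * t * τ⁻¹ * t)) (θu g) := fun g => Units.ext (by
        show θ (τ * t * τ⁻¹ * t) * θ g = θ g * θ (τ * t * τ⁻¹ * t)
        rw [hκj, smul_mul_assoc, mul_smul_comm, one_mul, mul_one])
      have hu : ∀ g, Commute (θu ⁅y, t⁆) (θu g) := fun g => Units.ext (by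
        show θ ⁅y, t⁆ * θ g = θ g * θ ⁅y, t⁆
        rw [hκ, smul_mul_assoc, mul_smul_comm, one_mul, mul_one])
      have e1 : θu τ * θu ⁅y, t⁆ * (θu τ)⁻¹ = θu ⁅y, t⁆ := by rw [← (hu τ).eq, mul_inv_cancel_right]
      have e2 : θu τ * θu ⁅y, t⁆ * (θu τ)⁻¹ = (θu ⁅y, t⁆)⁻¹ := by
        rw [← map_inv θu τ, ← map_mul, ← map_mul,
          show τ * ⁅y, t⁆ * τ⁻¹ = ⁅⁅τ, y⁆ * y, (τ * t * τ⁻¹ * t) * t⁻¹⁆ by
            simp only [commutatorElement_def]; group,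
          map_commutatorElement, map_mul θu ⁅τ, y⁆ y, map_mul θu _ t⁻¹,
          commutator_congr (hk y hy) (hk _ (inv_mem htR)) (hj y) (hj t⁻¹) (hj _),
          ← map_commutatorElement, ← map_inv,
          show ⁅y, t⁻¹⁆ = t⁻¹ * ⁅y, t⁆⁻¹ * t by simp only [commutatorElement_def]; group,
          map_mul, map_mul, map_inv θu ⁅y, t⁆, mul_assoc, ((hu t).inv_left).eq, ← mul_assoc, ← map_mul,
          inv_mul_cancel, map_one, one_mul]
      have hsq : θu (⁅y, t⁆ * ⁅y, t⁆) = 1 := by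
        rw [map_mul]
        conv_lhs => arg 1; rw [← e1, e2]
        rw [inv_mul_cancel]
      have hone : θu ⁅y, t⁆ = 1 := by
        obtain ⟨k, hk'⟩ := hroot ⁅y, t⁆ (by
          rw [commutatorElement_def]; exact mul_mem (mul_mem (mul_mem hy htR) (inv_mem hy)) (inv_mem htR))
        rw [← hk', map_pow, hsq, one_pow]
      show θ y * θ t = θ t * θ y
      have h3 : θ ⁅y, t⁆ = 1 := congrArg Units.val hone
      calc θ y * θ t = θ ⁅y, t⁆ * θ (t * y) := by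
            rw [← map_mul, ← map_mul]; congr 1; rw [commutatorElement_def]; group
        _ = θ t * θ y := by rw [h3, one_mul, map_mul]
    have hys : Commute (θ y) (θ s) := hYs (θ y) fun t ht => hyT _ ht
    have h4 : θ ⁅s, y⁆ = 1 := by
      rw [commutatorElement_def, map_mul, map_mul, map_mul, ← hys.eq, mul_assoc (θ y), ← map_mul,
        mul_inv_cancel, map_one, mul_one, ← map_mul, mul_inv_cancel, map_one]
    rw [map_mul, map_mul, h4, one_mul, mul_one]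

/-! ### The upper layer -/

section Upper

variable {K : Type v} [Field K] {Γ : Type u} [Group Γ] {W : Type w} [AddCommGroup W] [Module K W]

/-- If every fixed vector of `τ` is fixed by `s`, the occurring weights are fixed by `τ`. -/
theorem weight_fixed_half {Z : Subgroup Γ} [Fintype Z] [Z.Normal]
    (ρ : Γ →* Module.End K W) (hZK : (Fintype.card Z : K) ≠ 0) {s : Γ} {m : ℕ} (hm : 1 ≤ m)
    (hs : s ^ 2 ^ (m + 1) = 1) (hH : (ρ s - 1) * (1 + ρ (s ^ 2 ^ m)) = 0) {l : Z →* Kˣ}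
    (hl : weightIdem Z ρ l ≠ 0) : s ^ 2 ^ m • l = l := by
  by_contra hne
  refine hl ?_
  set τ := s ^ 2 ^ m with hτ
  set e := weightIdem Z ρ l with he
  have hs1 : s • l ≠ l := fun h => hne
    ((zpowers_le.2 h : zpowers s ≤ MulAction.stabilizer Γ l) (pow_mem (mem_zpowers s) _))
  have hst : (s * τ) • l ≠ l := by
    intro h
    apply hs1
    have h1 : s ^ (2 ^ m + 1) ∈ MulAction.stabilizer Γ l := by
      rw [pow_succ']; exact h
    obtain ⟨k, hk⟩ := exists_pow_eq_self_of_coprime (x := s) (n := 2 ^ m + 1) (by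
      refine Nat.Coprime.coprime_dvd_right (orderOf_dvd_of_pow_eq_one hs) (Nat.Coprime.pow_right _ ?_)
      obtain ⟨m', rfl⟩ : ∃ m', m = m' + 1 := ⟨m - 1, by omega⟩
      rw [pow_succ', Nat.coprime_comm, Nat.coprime_mul_left_add_right]
      exact Nat.coprime_one_right 2)
    have h2 := pow_mem h1 k
    rwa [hk] at h2
  have horth : ∀ g : Γ, g • l ≠ l → e * ρ g * e = 0 := fun g hg => by
    rw [mul_assoc, he, map_mul_weightIdem_smul, ← mul_assoc, weightIdem_orth ρ (Ne.symm hg), zero_mul]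
  have h := congrArg (fun x => e * x * e) hH
  simp only [mul_zero, zero_mul] at h
  have hexp : e * ((ρ s - 1) * (1 + ρ τ)) * e =
      e * ρ s * e + e * ρ (s * τ) * e - e * e - e * ρ τ * e := by
    rw [map_mul]; simp only [sub_mul, mul_add, mul_sub, add_mul, mul_one, one_mul, mul_assoc]; abel
  rw [hexp, horth s hs1, horth _ hst, horth τ hne, weightIdem_mul_self ρ hZK l] at h
  simpa using h

variable [Finite Γ] [IsAlgClosed K]

/-- The case of a commutative image. -/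
theorem commute_of_abelian_half {Q : Subgroup Γ} [hQn : Q.Normal] (ρ : Γ →* Module.End K W) {s : Γ}
    {m : ℕ} (hm : 1 ≤ m) (hs : s ^ 2 ^ (m + 1) = 1)
    (hH : (ρ s - 1) * (1 + ρ (s ^ 2 ^ m)) = 0) (hQK : (Nat.card Q : K) ≠ 0)
    (hcomm : ∀ x ∈ Q, ∀ y ∈ Q, ρ (x * y) = ρ (y * x)) {y : Γ} (hy : y ∈ Q) :
    ρ (s ^ 2 ^ m * y) = ρ (y * s ^ 2 ^ m) := by
  set mk := QuotientGroup.mk' ρ.ker with hmk
  set ρ' : Γ ⧸ ρ.ker →* Module.End K W := QuotientGroup.lift ρ.ker ρ le_rfl with hρ'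
  have hρe : ∀ g, ρ' (mk g) = ρ g := fun g => rfl
  let Z : Subgroup (Γ ⧸ ρ.ker) := Q.map mk
  haveI : Z.Normal := hQn.map mk (QuotientGroup.mk'_surjective _)
  haveI : Fintype Z := Fintype.ofFinite Z
  have hZK : (Fintype.card Z : K) ≠ 0 := by
    rw [← Nat.card_eq_fintype_card]; exact natCast_ne_zero_of_dvd (Q.card_map_dvd _) hQK
  have hZc : IsMulCommutative Z := by
    refine isMulCommutative_iff.2 ?_
    rintro ⟨_, a, ha, rfl⟩ ⟨_, b, hb, rfl⟩
    apply Subtype.ext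
    show mk a * mk b = mk b * mk a
    rw [← map_mul, ← map_mul]
    refine QuotientGroup.eq.mpr (MonoidHom.mem_ker.mpr ?_)
    rw [map_mul, ← hcomm a ha b hb, ← map_mul, inv_mul_cancel, map_one]
  rw [← hρe, ← hρe (y * _), map_mul mk, map_mul mk, map_pow]
  refine eq_of_forall_mul_weightIdem ρ' hZc hZK fun l hl => ?_
  have hfix : mk s ^ 2 ^ m • l = l := weight_fixed_half ρ' hZK hm (by rw [← map_pow, hs, map_one])
    (by simp only [← map_pow, hρe]; exact hH) hl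
  let z : Z := ⟨mk y, Subgroup.mem_map_of_mem mk hy⟩
  set t := mk s ^ 2 ^ m with ht
  have h1 := map_mul_weightIdem_smul ρ' t l
  rw [hfix] at h1
  have h2 : ρ' (mk y) * weightIdem Z ρ' l = (l z : K) • weightIdem Z ρ' l :=
    map_mem_mul_weightIdem ρ' l z
  rw [map_mul, map_mul, mul_assoc, mul_assoc, h1, h2, mul_smul_comm, h1, ← smul_mul_assoc, ← h2,
    mul_assoc]

end Upper

theorem upper_aux {K : Type v} [Field K] [IsAlgClosed K] {W : Type w} [AddCommGroup W] [Module K W]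
    [FiniteDimensional K W] (k : ℕ) : ∀ {Γ : Type u} [Group Γ] [Finite Γ] {q d : ℕ} [Fact q.Prime]
    (Q : Subgroup Γ) [Q.Normal] (ρ : Γ →* Module.End K W) (s : Γ),
    s ^ 2 ^ (d + 1) = 1 → 1 ≤ d → (d = 1 → q ≠ 3) → IsPGroup q Q → q ≠ 2 → (q : K) ≠ 0 → (2 : K) ≠ 0 →
    (ρ s - 1) * (1 + ρ (s ^ 2 ^ d)) = 0 → Nat.card Q = k →
    ∀ y ∈ Q, ρ (s ^ 2 ^ d * y) = ρ (y * s ^ 2 ^ d) := by
  induction k using Nat.strong_induction_on with
  | _ k ih =>
  intro Γ _ _ q m _ Q hQn ρ s hs hm hm3 hQq hq2 hqK h2K hH hk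
  classical
  set τ := s ^ 2 ^ m with hτ
  by_cases hker : Q ⊓ ρ.ker = ⊥
  swap
  · intro y hy
    set K₀ := Q ⊓ ρ.ker with hK₀
    set mk := QuotientGroup.mk' K₀ with hmk
    set ρ' : Γ ⧸ K₀ →* Module.End K W := QuotientGroup.lift K₀ ρ inf_le_right with hρ'
    haveI : (Q.map mk).Normal := hQn.map mk (QuotientGroup.mk'_surjective _)
    have hlt : Nat.card (Q.map mk) < k := hk ▸ card_map_mk_lt (by
      rwa [hK₀, inf_assoc, inf_comm ρ.ker Q, ← inf_assoc, inf_idem])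
    have := ih _ hlt (d := m) (Q.map mk) ρ' (mk s) (by rw [← map_pow, hs, map_one]) hm hm3
      (hQq.map mk) hq2 hqK h2K (by simp only [← map_pow]; exact hH) rfl (mk y)
      (Subgroup.mem_map_of_mem _ hy)
    rw [← map_pow, ← map_mul, ← map_mul] at this
    exact this
  have hinj : ∀ x ∈ Q, ρ (τ * x) = ρ (x * τ) → τ * x = x * τ := fun x hx h => by
    have h1 : (x * τ)⁻¹ * (τ * x) ∈ Q ⊓ ρ.ker := by
      refine ⟨?_, MonoidHom.mem_ker.mpr ?_⟩
      · rw [show (x * τ)⁻¹ * (τ * x) = τ⁻¹ * x⁻¹ * τ * x by group]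
        exact mul_mem (hQn.conj_mem' _ (inv_mem hx) τ) hx
      · rw [map_mul, h, ← map_mul, inv_mul_cancel, map_one]
    rw [hker, mem_bot, inv_mul_eq_one] at h1
    exact h1.symm
  intro y hy
  have hord : ∀ c ∈ ({τ} : Set Γ), (orderOf c).Coprime q := by
    rintro c rfl
    refine Nat.Coprime.coprime_dvd_left (orderOf_dvd_of_pow_eq_one (n := 2) ?_)
      ((Nat.coprime_primes Nat.prime_two Fact.out).2 hq2.symm)
    rw [hτ, ← pow_mul, ← pow_succ, hs]
  rcases special_dichotomy Q hQq {τ} {s} (by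
      intro o ho c hc
      rw [Set.mem_singleton_iff] at ho hc
      rw [ho, hc]
      refine subset_closure ?_
      rw [Set.mem_singleton_iff, hτ, mul_assoc, ← (Commute.self_pow s _).eq, inv_mul_cancel_left]) hord
    (fun R₀ hR₀ hne hinv c hc x hx => by
      rw [Set.mem_singleton_iff] at hc
      subst hc
      have hsX : s ∈ normalizer (R₀ : Set Γ) := by
        refine mem_normalizer_iff_map_conj_eq.2 (eq_of_le_of_card_ge ?_
          (by rw [card_map_of_injective (MulAut.conj s).injective]))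
        rintro _ ⟨a, ha, rfl⟩
        exact hinv s rfl a ha
      have hRX : R₀ ≤ normalizer (R₀ : Set Γ) := le_normalizer
      haveI : (R₀.subgroupOf (normalizer (R₀ : Set Γ))).Normal :=
        (normal_subgroupOf_iff_le_normalizer hRX).2 le_rfl
      have hlt : Nat.card (R₀.subgroupOf (normalizer (R₀ : Set Γ))) < k := by
        rw [Nat.card_congr (subgroupOfEquivOfLe hRX).toEquiv, ← hk]
        exact lt_of_le_of_ne (Subgroup.card_le_of_le hR₀) fun he =>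
          hne (eq_of_le_of_card_ge hR₀ he.ge)
      exact hinj x (hR₀ hx) (ih _ hlt (d := m) (R₀.subgroupOf _) (ρ.comp (normalizer (R₀ : Set Γ)).subtype)
        ⟨s, hsX⟩ (Subtype.ext hs) hm hm3
        ((IsPGroup.to_le hQq hR₀).of_equiv (subgroupOfEquivOfLe hRX).symm) hq2 hqK h2K
        (by simpa [hτ] using hH) rfl ⟨x, hRX hx⟩ hx))
    with hcase | hcase | ⟨hcommD, -, hDc, hZD⟩
  · rw [hcase τ rfl y hy]
  · exact commute_of_abelian_half ρ hm hs hH (natCard_cast_ne_zero hQq hqK)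
      (fun a ha b hb => by rw [hcase a ha b hb]) hy
  set Z := Q ⊓ centralizer ({τ} : Set Γ) with hZdef
  have hZeq : ∀ x, x ∈ Z ↔ x ∈ Q ∧ ∀ w ∈ Q, w * x = x * w := fun x =>
    ⟨fun h => ⟨h.1, hDc x h⟩, fun h => hZD x h.1 h.2⟩
  haveI : Z.Normal := ⟨fun x hx g => by
    obtain ⟨hxQ, hxc⟩ := (hZeq x).1 hx
    refine (hZeq _).2 ⟨hQn.conj_mem x hxQ g, fun w hw => ?_⟩
    calc w * (g * x * g⁻¹) = g * ((g⁻¹ * w * g) * x) * g⁻¹ := by group
      _ = g * (x * (g⁻¹ * w * g)) * g⁻¹ := by rw [hxc _ (hQn.conj_mem' w hw g)]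
      _ = g * x * g⁻¹ * w := by group⟩
  haveI : Fintype Z := Fintype.ofFinite Z
  have hZK : (Fintype.card Z : K) ≠ 0 := by
    rw [← Nat.card_eq_fintype_card]
    exact natCast_ne_zero_of_dvd (card_dvd_of_le inf_le_left) (natCard_cast_ne_zero hQq hqK)
  have hZc : IsMulCommutative Z :=
    isMulCommutative_iff.2 fun a b => Subtype.ext (((hZeq _).1 b.2).2 a a.2.1)
  have hQfix : ∀ g ∈ Q, ∀ l : Z →* Kˣ, g • l = l := fun g hg l =>
    dual_smul_eq_self_of_commute l fun z hz => ((hZeq z).1 hz).2 g hg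
  have hτfix : ∀ l : Z →* Kˣ, τ • l = l := fun l =>
    dual_smul_eq_self_of_commute l fun z hz => mem_centralizer_iff.1 hz.2 τ rfl
  refine eq_of_forall_mul_weightIdem ρ hZc hZK fun l hl => ?_
  set e := weightIdem Z ρ l with he
  have hee : e * e = e := weightIdem_mul_self ρ hZK l
  have hcτ : ρ τ * e = e * ρ τ := by rw [he, map_mul_weightIdem_smul, hτfix]
  have hcy : ρ y * e = e * ρ y := by rw [he, map_mul_weightIdem_smul, hQfix y hy]
  by_cases hsl : s • l = l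
  swap
  · -- the block is inverted by `τ`
    have horth : e * ρ s * e = 0 := by
      rw [mul_assoc, he, map_mul_weightIdem_smul, ← mul_assoc, weightIdem_orth ρ (Ne.symm hsl), zero_mul]
    have h := congrArg (fun x => e * x * e) hH
    simp only [mul_zero, zero_mul] at h
    have hexp : e * ((ρ s - 1) * (1 + ρ τ)) * e =
        e * ρ s * e + e * ρ s * (ρ τ * e) - e * e - e * (ρ τ * e) := by
      simp only [sub_mul, mul_add, mul_sub, add_mul, mul_one, one_mul, mul_assoc]; abel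
    rw [hexp, horth, hcτ, ← mul_assoc (e * ρ s), horth, ← mul_assoc e, hee] at h
    have hneg : ρ τ * e = -e := by
      rw [hcτ]
      simp only [zero_mul, add_zero, zero_sub] at h
      exact (sub_eq_zero.1 h).symm
    rw [map_mul, map_mul, mul_assoc, mul_assoc, hneg, hcy, ← mul_assoc, hneg, neg_mul, mul_neg, hcy]
  set Γ₁ := MulAction.stabilizer Γ l with hΓ₁
  have hcΓ₁ : ∀ g ∈ Γ₁, ρ g * e = e * ρ g := fun g hg => by
    rw [he, map_mul_weightIdem_smul, MulAction.mem_stabilizer_iff.mp hg]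
  obtain ⟨θ, hθap, hθeq, hθscal, hθsum⟩ := exists_range_rep ρ e Γ₁ hcΓ₁
  haveI : Nontrivial (LinearMap.range e) := Submodule.nontrivial_iff_ne_bot.mpr fun h0 =>
    hl (LinearMap.range_eq_bot.mp h0)
  have hQΓ : Q ≤ Γ₁ := fun g hg => hQfix g hg l
  let s₁ : Γ₁ := ⟨s, hsl⟩
  set Q₁ := Q.subgroupOf Γ₁ with hQ₁
  haveI : Q₁.Normal := hQn.subgroupOf Γ₁
  have hQ₁q : IsPGroup q Q₁ := hQq.of_equiv (subgroupOfEquivOfLe hQΓ).symm
  have hθH : (θ s₁ - 1) * (1 + θ (s₁ ^ 2 ^ m)) = 0 := by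
    refine LinearMap.ext fun v => Subtype.ext ?_
    have h := LinearMap.congr_fun hH (v : W)
    simpa [hθap, s₁, hτ, -map_pow] using h
  haveI : NeZero ((2 ^ (m + 1) : ℕ) : K) := ⟨by rw [Nat.cast_pow]; exact pow_ne_zero _ (by exact_mod_cast h2K)⟩
  obtain ⟨ζ, hζ⟩ := HasEnoughRootsOfUnity.exists_primitiveRoot K (2 ^ (m + 1))
  -- the eigenvalues missing on the block
  have hmiss : ∀ c : K, c ^ 2 ^ m = 1 → c ≠ 1 →
      ∑ i ∈ Finset.range (2 ^ (m + 1)), c ^ i • θ (s₁ ^ i) = 0 := by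
    intro c hc hc1
    set τ₁ := s₁ ^ 2 ^ m
    have hfix : ∀ i, θ (s₁ ^ i) * (1 + θ τ₁) = 1 + θ τ₁ := by
      intro i
      induction i with
      | zero => simp
      | succ i ihi =>
        rw [pow_succ, map_mul, mul_assoc]
        rw [sub_mul, one_mul, sub_eq_zero] at hθH
        rw [hθH, ihi]
    calc ∑ i ∈ Finset.range (2 ^ (m + 1)), c ^ i • θ (s₁ ^ i)
        = ∑ i ∈ Finset.range (2 ^ m), c ^ i • (θ (s₁ ^ i) * (1 + θ τ₁)) := by
          rw [pow_succ, mul_two, Finset.sum_range_add, ← Finset.sum_add_distrib]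
          refine Finset.sum_congr rfl fun i _ => ?_
          rw [pow_add, hc, one_mul, mul_add, mul_one, smul_add, ← map_mul,
            show s₁ ^ i * τ₁ = s₁ ^ (2 ^ m + i) by rw [← pow_add, add_comm]]
      _ = (∑ i ∈ Finset.range (2 ^ m), c ^ i) • (1 + θ τ₁) := by
          rw [Finset.sum_smul]; exact Finset.sum_congr rfl fun i _ => by rw [hfix]
      _ = 0 := by rw [geom_sum_eq hc1, hc, sub_self, zero_div, zero_smul]
  have h4 : 4 ≤ 2 ^ (m + 1) := le_trans (le_of_eq (by norm_num))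
    (Nat.pow_le_pow_right (by norm_num : 0 < 2) (show 2 ≤ m + 1 by omega))
  have hc2 : (ζ ^ 2) ^ 2 ^ m = 1 := by rw [← pow_mul, ← pow_succ', hζ.pow_eq_one]
  have hcne : ζ ^ 2 ≠ 1 := hζ.pow_ne_one_of_pos_of_lt (by norm_num) (by omega)
  rcases block_exact θ Q₁ hq2 hQ₁q (s := s₁) (m := m) (Subtype.ext hs) h2K
    (fun a ha b hb => ⟨l ⟨_, hcommD _ ha _ hb⟩, (hθscal _ _).2
      (map_mem_mul_weightIdem ρ l ⟨_, hcommD _ ha _ hb⟩)⟩)
    (c := ζ ^ 2) (by rw [← pow_mul, mul_comm, pow_mul, hζ.pow_eq_one, one_pow]) (hmiss _ hc2 hcne)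
    (fun S hS hinv habS x hx => by
      set X := normalizer (S : Set Γ₁) with hX
      have hsX : s₁ ∈ X := by
        refine mem_normalizer_iff_map_conj_eq.2 (eq_of_le_of_card_ge ?_
          (by rw [card_map_of_injective (MulAut.conj s₁).injective]))
        rintro _ ⟨a, ha, rfl⟩
        exact hinv a ha
      haveI : (S.subgroupOf X).Normal := (normal_subgroupOf_iff_le_normalizer le_normalizer).2 le_rfl
      exact commute_of_abelian_half (θ.comp X.subtype) (s := (⟨s₁, hsX⟩ : X)) (Q := S.subgroupOf X) hm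
        (Subtype.ext (Subtype.ext hs)) (by simpa using hθH)
        (by
          rw [Nat.card_congr (subgroupOfEquivOfLe le_normalizer).toEquiv]
          exact natCard_cast_ne_zero (hQ₁q.to_le hS) hqK)
        (fun a ha b hb => habS _ ha _ hb) (y := (⟨x, le_normalizer hx⟩ : X)) hx)
    with hleft | ⟨⟨-, hm1⟩, -, huniq⟩
  · exact (hθeq (s₁ ^ 2 ^ m * ⟨y, hQΓ hy⟩) (⟨y, hQΓ hy⟩ * s₁ ^ 2 ^ m)).1 (hleft ⟨y, hQΓ hy⟩ hy)
  exfalso
  rcases Nat.lt_or_ge m 2 with h1 | h1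
  · exact hm3 (by omega) (hm1 (by omega))
  · have h8 : 8 ≤ 2 ^ (m + 1) := le_trans (le_of_eq (by norm_num))
      (Nat.pow_le_pow_right (by norm_num : 0 < 2) (show 3 ≤ m + 1 by omega))
    have hne4 : ζ ^ 4 ≠ 1 := hζ.pow_ne_one_of_pos_of_lt (by norm_num) (by omega)
    have hc4 : (ζ ^ 4) ^ 2 ^ m = 1 := by
      rw [show (4 : ℕ) = 2 * 2 from rfl, pow_mul, ← pow_mul _ 2 (2 ^ m), mul_comm 2 (2 ^ m), pow_mul, hc2,
        one_pow]
    have h := huniq (ζ ^ 4) (by rw [← pow_mul, mul_comm, pow_mul, hζ.pow_eq_one, one_pow])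
      (hmiss _ hc4 hne4)
    exact absurd (hζ.pow_inj (by omega) (by omega) h) (by norm_num)

/-! ### Two layers -/

theorem two_layer_aux {K : Type v} [Field K] [IsAlgClosed K] {W : Type w} [AddCommGroup W] [Module K W]
    [FiniteDimensional K W] (k : ℕ) : ∀ {Γ : Type u} [Group Γ] [Finite Γ] {q r n : ℕ} [Fact q.Prime]
    [Fact r.Prime] (R : Subgroup Γ) [R.Normal] (Q : Subgroup Γ) (ρ : Γ →* Module.End K W) (s : Γ),
    s ^ 2 ^ (n + 1) = 1 → IsPGroup r R → IsPGroup q Q → s ∈ normalizer (Q : Set Γ) →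
    r ≠ 2 → q ≠ 2 → r ≠ q → (r : K) ≠ 0 → (2 : K) ≠ 0 →
    ∑ i ∈ Finset.range (2 ^ (n + 1)), ρ (s ^ i) = 0 → Nat.card R = k →
    ∀ g ∈ Q, ∀ x ∈ R, ρ (⁅s ^ 2 ^ n, g⁆ * x) = ρ (x * ⁅s ^ 2 ^ n, g⁆) := by
  induction k using Nat.strong_induction_on with
  | _ k ih =>
  intro Γ _ _ q r n _ _ R hRn Q ρ s hs hRr hQq hsQ hr2 hq2 hrq hrK h2K hsum hk
  classical
  set τ := s ^ 2 ^ n with hτ
  by_cases hker : R ⊓ ρ.ker = ⊥
  swap
  · intro g hg x hx
    set K₀ := R ⊓ ρ.ker with hK₀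
    set mk := QuotientGroup.mk' K₀ with hmk
    set ρ' : Γ ⧸ K₀ →* Module.End K W := QuotientGroup.lift K₀ ρ inf_le_right with hρ'
    haveI : (R.map mk).Normal := hRn.map mk (QuotientGroup.mk'_surjective _)
    have hlt : Nat.card (R.map mk) < k := hk ▸ card_map_mk_lt (by
      rwa [hK₀, inf_assoc, inf_comm ρ.ker R, ← inf_assoc, inf_idem])
    have := ih _ hlt (n := n) (R.map mk) (Q.map mk) ρ' (mk s) (by rw [← map_pow, hs, map_one])
      (hRr.map mk) (hQq.map mk) (le_normalizer_map mk ⟨s, hsQ, rfl⟩) hr2 hq2 hrq hrK h2K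
      (by simp only [← map_pow]; exact hsum) rfl (mk g) (Subgroup.mem_map_of_mem _ hg) (mk x)
      (Subgroup.mem_map_of_mem _ hx)
    rw [← map_pow, ← map_commutatorElement, ← map_mul, ← map_mul] at this
    exact this
  have hinj : ∀ c x : Γ, x ∈ R → ρ (c * x) = ρ (x * c) → c * x = x * c := fun c x hx h => by
    have h1 : (x * c)⁻¹ * (c * x) ∈ R ⊓ ρ.ker := by
      refine ⟨?_, MonoidHom.mem_ker.mpr ?_⟩
      · rw [show (x * c)⁻¹ * (c * x) = c⁻¹ * x⁻¹ * c * x by group]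
        exact mul_mem (hRn.conj_mem' _ (inv_mem hx) c) hx
      · rw [map_mul, h, ← map_mul, inv_mul_cancel, map_one]
    rw [hker, mem_bot, inv_mul_eq_one] at h1
    exact h1.symm
  intro g hg x hx
  suffices h : ⁅τ, g⁆ * x = x * ⁅τ, g⁆ by rw [h]
  have hτ2 : τ * τ = 1 := by rw [hτ, ← pow_add, ← two_mul, ← pow_succ', hs]
  have hτi : τ⁻¹ = τ := inv_eq_of_mul_eq_one_right hτ2
  have hτQ : τ ∈ normalizer (Q : Set Γ) := pow_mem hsQ _
  have hcQ : ∀ g ∈ Q, ⁅τ, g⁆ ∈ Q := fun g hg => by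
    rw [commutatorElement_def]; exact mul_mem ((mem_normalizer_iff.1 hτQ g).1 hg) (inv_mem hg)
  set S : Set Γ := (fun g => ⁅τ, g⁆) '' (Q : Set Γ) with hS
  set O : Set Γ := insert s (Q : Set Γ) with hO
  have hτR : ∀ S₀ : Subgroup Γ, S₀ ≤ R → (∀ a ∈ S₀, s * a * s⁻¹ ∈ S₀) →
      (∀ a ∈ S₀, ∀ b ∈ S₀, a * b = b * a) → ∀ a ∈ S₀, τ * a = a * τ := by
    intro S₀ hS₀ hinv habS a ha
    set X := normalizer (S₀ : Set Γ) with hX
    have hsX : s ∈ X := by
      refine mem_normalizer_iff_map_conj_eq.2 (eq_of_le_of_card_ge ?_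
        (by rw [card_map_of_injective (MulAut.conj s).injective]))
      rintro _ ⟨b, hb, rfl⟩
      exact hinv b hb
    haveI : (S₀.subgroupOf X).Normal := (normal_subgroupOf_iff_le_normalizer le_normalizer).2 le_rfl
    exact hinj τ a (hS₀ ha) (commute_of_abelian (ρ.comp X.subtype) Nat.prime_two (n := n)
      (s := (⟨s, hsX⟩ : X)) (Q := S₀.subgroupOf X) (Subtype.ext hs) (by simpa using hsum)
      (by
        rw [Nat.card_congr (subgroupOfEquivOfLe le_normalizer).toEquiv]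
        exact natCard_cast_ne_zero (hRr.to_le hS₀) hrK)
      (fun b hb c hc => congrArg ρ (habS _ hb _ hc)) (y := (⟨a, le_normalizer ha⟩ : X)) ha)
  rcases special_dichotomy R hRr S O (by
      rintro o ho _ ⟨g, hg, rfl⟩
      rcases Set.mem_insert_iff.1 ho with rfl | ho
      · refine subset_closure ⟨o⁻¹ * g * o, ?_, ?_⟩
        · have := (mem_normalizer_iff.1 (inv_mem hsQ) g).1 hg
          rwa [inv_inv] at this
        · show ⁅τ, o⁻¹ * g * o⁆ = o⁻¹ * ⁅τ, g⁆ * o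
          have h1 : o⁻¹ * τ * o = τ := by
            rw [hτ, mul_assoc, ← (Commute.self_pow o _).eq, inv_mul_cancel_left]
          conv_lhs => rw [← h1]
          simp only [commutatorElement_def]; group
      · show o⁻¹ * ⁅τ, g⁆ * o ∈ closure S
        rw [show o⁻¹ * ⁅τ, g⁆ * o = ⁅τ, o⁻¹⁆⁻¹ * ⁅τ, o⁻¹ * g⁆ by simp only [commutatorElement_def]; group]
        exact mul_mem (inv_mem (subset_closure ⟨_, inv_mem ho, rfl⟩))
          (subset_closure ⟨_, mul_mem (inv_mem ho) hg, rfl⟩))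
    (by
      rintro _ ⟨g, hg, rfl⟩
      obtain ⟨i, hi⟩ := hQq ⟨_, hcQ g hg⟩
      exact (((Nat.coprime_primes Fact.out Fact.out).2 hrq.symm).pow_left i).coprime_dvd_left
        (orderOf_dvd_of_pow_eq_one (congrArg Subtype.val hi)))
    (fun R₀ hR₀ hne hinv => by
      rintro _ ⟨g, hg, rfl⟩ x hx
      set X := normalizer (R₀ : Set Γ) with hX
      have hnorm : ∀ o ∈ O, o ∈ X := fun o ho => by
        refine mem_normalizer_iff_map_conj_eq.2 (eq_of_le_of_card_ge ?_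
          (by rw [card_map_of_injective (MulAut.conj o).injective]))
        rintro _ ⟨a, ha, rfl⟩
        exact hinv o ho a ha
      have hRX : R₀ ≤ X := le_normalizer
      have hsX : s ∈ X := hnorm s (Set.mem_insert _ _)
      have hQX : Q ≤ X := fun a ha => hnorm a (Set.mem_insert_of_mem _ ha)
      haveI : (R₀.subgroupOf X).Normal := (normal_subgroupOf_iff_le_normalizer hRX).2 le_rfl
      have hlt : Nat.card (R₀.subgroupOf X) < k := by
        rw [Nat.card_congr (subgroupOfEquivOfLe hRX).toEquiv, ← hk]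
        exact lt_of_le_of_ne (Subgroup.card_le_of_le hR₀) fun he =>
          hne (eq_of_le_of_card_ge hR₀ he.ge)
      have hsQ' : (⟨s, hsX⟩ : X) ∈ normalizer ((Q.subgroupOf X : Subgroup X) : Set X) :=
        mem_normalizer_iff.2 fun a => mem_normalizer_iff.1 hsQ (a : Γ)
      exact hinj _ x (hR₀ hx) (ih _ hlt (n := n) (R₀.subgroupOf X) (Q.subgroupOf X) (ρ.comp X.subtype)
        ⟨s, hsX⟩ (Subtype.ext hs) ((hRr.to_le hR₀).of_equiv (subgroupOfEquivOfLe hRX).symm)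
        (hQq.of_equiv (subgroupOfEquivOfLe hQX).symm) hsQ' hr2 hq2 hrq hrK h2K
        (by simpa using hsum) rfl ⟨g, hQX hg⟩ hg ⟨x, hRX hx⟩ hx))
    with hcase | hcase | ⟨hcommD, hpowD, hDc, hZD⟩
  · exact hcase _ ⟨g, hg, rfl⟩ x hx
  · have hf := hτR R le_rfl (fun a ha => hRn.conj_mem a ha s) hcase
    have h1 : τ * (g⁻¹ * x * g) = g⁻¹ * x * g * τ := hf _ (hRn.conj_mem' x hx g)
    rw [commutatorElement_def, hτi]
    calc τ * g * τ * g⁻¹ * x = τ * g * (τ * (g⁻¹ * x * g)) * g⁻¹ := by group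
      _ = τ * g * (g⁻¹ * x * g * τ) * g⁻¹ := by rw [h1]
      _ = (τ * x) * g * τ * g⁻¹ := by group
      _ = (x * τ) * g * τ * g⁻¹ := by rw [hf x hx]
      _ = x * (τ * g * τ * g⁻¹) := by group
  set c := ⁅τ, g⁆ with hc
  have hcS : c ∈ S := ⟨g, hg, rfl⟩
  set Z := R ⊓ centralizer S with hZdef
  have hZeq : ∀ x, x ∈ Z ↔ x ∈ R ∧ ∀ w ∈ R, w * x = x * w := fun x =>
    ⟨fun h => ⟨h.1, hDc x h⟩, fun h => hZD x h.1 h.2⟩
  haveI hZn : Z.Normal := ⟨fun z hz o => by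
    obtain ⟨hzR, hzc⟩ := (hZeq z).1 hz
    refine (hZeq _).2 ⟨hRn.conj_mem z hzR o, fun w hw => ?_⟩
    calc w * (o * z * o⁻¹) = o * ((o⁻¹ * w * o) * z) * o⁻¹ := by group
      _ = o * (z * (o⁻¹ * w * o)) * o⁻¹ := by rw [hzc _ (hRn.conj_mem' w hw o)]
      _ = o * z * o⁻¹ * w := by group⟩
  haveI : Fintype Z := Fintype.ofFinite Z
  have hZK : (Fintype.card Z : K) ≠ 0 := by
    rw [← Nat.card_eq_fintype_card]
    exact natCast_ne_zero_of_dvd (card_dvd_of_le inf_le_left) (natCard_cast_ne_zero hRr hrK)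
  have hτZ : ∀ z ∈ Z, τ * z = z * τ := hτR Z inf_le_left (fun z hz => hZn.conj_mem z hz s)
    fun a ha b hb => ((hZeq b).1 hb).2 a ha.1
  have hcZ : ∀ z ∈ Z, c * z = z * c := fun z hz => mem_centralizer_iff.1 hz.2 c hcS
  have hZc : IsMulCommutative Z :=
    isMulCommutative_iff.2 fun a b => Subtype.ext (((hZeq _).1 b.2).2 a a.2.1)
  set c' := ⁅τ, c⁆ with hc'
  have hc'c : c' = c⁻¹ * c⁻¹ := by
    rw [hc', hc]
    simp only [commutatorElement_def, hτi]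
    calc τ * (τ * g * τ * g⁻¹) * τ * (τ * g * τ * g⁻¹)⁻¹
        = (τ * τ) * g * τ * g⁻¹ * τ * (g * τ⁻¹ * g⁻¹ * τ⁻¹) := by group
      _ = g * τ⁻¹ * g⁻¹ * τ⁻¹ * (g * τ⁻¹ * g⁻¹ * τ⁻¹) := by rw [hτ2, hτi]; group
      _ = (τ * g * τ * g⁻¹)⁻¹ * (τ * g * τ * g⁻¹)⁻¹ := by group
  -- `c'` centralises `R`
  have hc'R : ∀ x ∈ R, c' * x = x * c' := by
    intro x hx
    have hyR : ⁅c', x⁆ ∈ R := by
      rw [commutatorElement_def]; exact mul_mem (hRn.conj_mem x hx c') (inv_mem hx)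
    suffices hyZ : ⁅c', x⁆ ∈ Z by
      refine commutatorElement_eq_one_iff_mul_comm.1
        (eq_one_of_commute_commutator (pow_orderOf_eq_one c') ?_ ?_)
      · have hh := (((show Commute c _ from hcZ _ hyZ).inv_left).mul_left
          ((show Commute c _ from hcZ _ hyZ).inv_left)).eq
        rw [← hc'c] at hh
        exact hh
      · obtain ⟨i, hi⟩ := hRr ⟨_, hyR⟩
        obtain ⟨i', hi'⟩ := hQq ⟨c', hcQ c (hcQ g hg)⟩
        exact ((((Nat.coprime_primes Fact.out Fact.out).2 hrq).pow_left i).pow_right i').coprime_dvd_left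
          (orderOf_dvd_of_pow_eq_one (congrArg Subtype.val hi)) |>.coprime_dvd_right
          (orderOf_dvd_of_pow_eq_one (congrArg Subtype.val hi'))
    refine (hZeq _).2 ⟨hyR, fun w hw => (hinj _ w hw (eq_of_forall_mul_weightIdem ρ hZc hZK fun l hl => ?_)).symm⟩
    -- the block of `l`
    set e := weightIdem Z ρ l with he
    obtain ⟨j, hjn, hj⟩ := exists_stab (n := n) Nat.prime_two
      (show s ^ 2 ^ n • l = l from dual_smul_eq_self_of_commute l hτZ)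
    set Γ₁ := MulAction.stabilizer Γ l with hΓ₁
    have hcΓ₁ : ∀ o ∈ Γ₁, ρ o * e = e * ρ o := fun o ho => by
      rw [he, map_mul_weightIdem_smul, MulAction.mem_stabilizer_iff.mp ho]
    obtain ⟨θ, hθap, hθeq, hθscal, hθsum⟩ := exists_range_rep ρ e Γ₁ hcΓ₁
    haveI : Nontrivial (LinearMap.range e) := Submodule.nontrivial_iff_ne_bot.mpr fun h0 =>
      hl (LinearMap.range_eq_bot.mp h0)
    have hRΓ : R ≤ Γ₁ := fun o ho => dual_smul_eq_self_of_commute l fun z hz => ((hZeq z).1 hz).2 o ho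
    have hcl : c ∈ Γ₁ := dual_smul_eq_self_of_commute l hcZ
    let s₁ : Γ₁ := ⟨s ^ 2 ^ j, MulAction.mem_stabilizer_iff.mpr ((hj _).mpr dvd_rfl)⟩
    set m := n - j with hm
    have hnj : n + 1 - j = m + 1 := by omega
    have hs₁ : s₁ ^ 2 ^ (m + 1) = 1 := Subtype.ext (by
      show (s ^ 2 ^ j) ^ 2 ^ (m + 1) = 1
      rw [← pow_mul, ← pow_add, show j + (m + 1) = n + 1 by omega, hs])
    have hτ₁ : ((s₁ ^ 2 ^ m : Γ₁) : Γ) = τ := by
      show (s ^ 2 ^ j) ^ 2 ^ m = _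
      rw [← pow_mul, ← pow_add, show j + m = n by omega]
    have hsum₁ : ∑ i ∈ Finset.range (2 ^ (m + 1)), θ (s₁ ^ i) = 0 := by
      have h := sum_block ρ hZK Nat.prime_two hsum l hjn hj
      rw [hnj] at h
      have h' := (hθsum (Finset.range (2 ^ (m + 1))) (fun _ => 1) (fun i => s₁ ^ i)).2 (by
        simp only [one_smul, SubmonoidClass.coe_pow]; exact h)
      simpa using h'
    set R₁ := R.subgroupOf Γ₁ with hR₁
    haveI : R₁.Normal := hRn.subgroupOf Γ₁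
    have hR₁r : IsPGroup r R₁ := hRr.of_equiv (subgroupOfEquivOfLe hRΓ).symm
    have hscal1 : ∀ a ∈ R₁, ∀ b ∈ R₁, ∃ κ : K, θ ⁅a, b⁆ = κ • 1 := fun a ha b hb =>
      ⟨l ⟨_, hcommD _ ha _ hb⟩, (hθscal _ _).2 (map_mem_mul_weightIdem ρ l ⟨_, hcommD _ ha _ hb⟩)⟩
    -- the part central on the block
    set Rl : Subgroup Γ₁ := wCentral R₁ θ 1 (fun _ _ => Commute.one_right _) with hRl
    have hRlmem : ∀ a, a ∈ Rl ↔ a ∈ R₁ ∧ ∀ b ∈ R₁, θ (a * b) = θ (b * a) := fun a => by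
      show (a ∈ R₁ ∧ ∀ b ∈ R₁, θ (a * b) * 1 = θ (b * a) * 1) ↔ _
      simp only [mul_one]
    haveI : Rl.Normal := ⟨fun a ha o => conj_mem_wCentral θ
      (he' := fun _ _ => Commute.one_right _) (by rw [mul_one, one_mul]) ha⟩
    let c₁ : Γ₁ := ⟨c, hcl⟩
    let x₁ : Γ₁ := ⟨x, hRΓ hx⟩
    suffices hgoal : ⁅⁅s₁ ^ 2 ^ m, c₁⁆, x₁⁆ ∈ Rl by
      have h := ((hRlmem _).1 hgoal).2 ⟨w, hRΓ hw⟩ hw
      have h' := (hθeq _ _).1 h
      rw [Subgroup.coe_mul, Subgroup.coe_mul] at h'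
      rw [show ((⁅⁅s₁ ^ 2 ^ m, c₁⁆, x₁⁆ : Γ₁) : Γ) = ⁅c', x⁆ by
        show ⁅⁅((s₁ ^ 2 ^ m : Γ₁) : Γ), c⁆, x⁆ = ⁅⁅τ, c⁆, x⁆
        rw [hτ₁]] at h'
      exact h'
    rcases block_exact θ R₁ hr2 hR₁r hs₁ h2K hscal1 (c := 1) (one_pow _)
      (by simpa using hsum₁)
      (fun S₀ hS₀ hinv habS a ha => by
        set X := normalizer (S₀ : Set Γ₁) with hX
        have hsX : s₁ ∈ X := by
          refine mem_normalizer_iff_map_conj_eq.2 (eq_of_le_of_card_ge ?_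
            (by rw [card_map_of_injective (MulAut.conj s₁).injective]))
          rintro _ ⟨b, hb, rfl⟩
          exact hinv b hb
        haveI : (S₀.subgroupOf X).Normal := (normal_subgroupOf_iff_le_normalizer le_normalizer).2 le_rfl
        exact commute_of_abelian (θ.comp X.subtype) Nat.prime_two (n := m)
          (s := (⟨s₁, hsX⟩ : X)) (Q := S₀.subgroupOf X) (Subtype.ext hs₁) (by simpa using hsum₁)
          (by
            rw [Nat.card_congr (subgroupOfEquivOfLe le_normalizer).toEquiv]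
            exact natCard_cast_ne_zero (hR₁r.to_le hS₀) hrK)
          (fun b hb o ho => habS _ hb _ ho) (y := (⟨a, le_normalizer ha⟩ : X)) ha)
      with hleft | ⟨⟨hm1, hm3⟩, hfix, -⟩
    · -- `τ` centralises the block's image of `R`
      set t := s₁ ^ 2 ^ m with ht
      have hcomm : ∀ a ∈ R₁, θ (⁅t, c₁⁆ * a) = θ (a * ⁅t, c₁⁆) := by
        intro a ha
        have hL : ∀ b ∈ R₁, θ (t * b * t⁻¹) = θ b := fun b hb => by
          rw [map_mul, hleft b hb, ← map_mul, mul_inv_cancel_right]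
        have hL' : ∀ b ∈ R₁, θ (t⁻¹ * b * t) = θ b := fun b hb => by
          rw [mul_assoc, map_mul, ← hleft b hb, ← map_mul, inv_mul_cancel_left]
        have key : θ (⁅t, c₁⁆ * a * ⁅t, c₁⁆⁻¹) = θ a := by
          have hR₁n : R₁.Normal := inferInstance
          rw [show ⁅t, c₁⁆ * a * ⁅t, c₁⁆⁻¹ = t * (c₁ * (t⁻¹ * (c₁⁻¹ * a * c₁) * t) * c₁⁻¹) * t⁻¹ by
            simp only [commutatorElement_def]; group]
          rw [hL _ (hR₁n.conj_mem _ (hR₁n.conj_mem' _ (hR₁n.conj_mem' a ha c₁) t) c₁), map_mul,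
            map_mul, hL' _ (hR₁n.conj_mem' a ha c₁), ← map_mul, ← map_mul]
          congr 1; group
        calc θ (⁅t, c₁⁆ * a) = θ (⁅t, c₁⁆ * a * ⁅t, c₁⁆⁻¹) * θ ⁅t, c₁⁆ := by
              rw [← map_mul, inv_mul_cancel_right]
          _ = θ (a * ⁅t, c₁⁆) := by rw [key, map_mul]
      refine (hRlmem _).2 ⟨?_, fun b hb => ?_⟩
      · rw [commutatorElement_def]
        exact mul_mem ((inferInstance : R₁.Normal).conj_mem x₁ hx _) (inv_mem hx)
      · have h1 : θ ⁅⁅t, c₁⁆, x₁⁆ = 1 := by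
          rw [commutatorElement_def, map_mul, map_mul, hcomm x₁ hx, ← map_mul, mul_inv_cancel_right,
            ← map_mul, mul_inv_cancel, map_one]
        rw [map_mul, map_mul, h1, one_mul, mul_one]
    -- the section `R / Rl`
    have hRlR : Rl ≤ R₁ := wCentral_le θ
    have hcomml : ∀ a ∈ R₁, ∀ b ∈ R₁, ⁅a, b⁆ ∈ Rl := fun a ha b hb => by
      refine (hRlmem _).2 ⟨?_, fun o _ => ?_⟩
      · rw [commutatorElement_def]
        exact mul_mem (mul_mem (mul_mem ha hb) (inv_mem ha)) (inv_mem hb)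
      · obtain ⟨κ, hκ⟩ := hscal1 a ha b hb
        rw [map_mul, map_mul, hκ, smul_mul_assoc, mul_smul_comm, one_mul, mul_one]
    have hexpl : ∀ a ∈ R₁, a ^ r ∈ Rl := fun a ha => (hRlmem _).2 ⟨pow_mem ha _, fun o ho => by
      congr 1
      exact Subtype.ext (((hZeq _).1 (hpowD (a : Γ) ha)).2 (o : Γ) ho).symm⟩
    obtain ⟨d, ρU, hρU1, hρU2, -⟩ := exists_section_rep (N := Rl) (M := R₁) r
      (AlgebraicClosure (ZMod r)) hexpl hcomml
    have hmem : ∀ (o : Γ₁) (a : Γ₁), a ∈ R₁ → (⁅o, a⁆ ∈ Rl ↔ ∀ b ∈ R₁, θ (⁅o, a⁆ * b) = θ (b * ⁅o, a⁆)) :=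
      fun o a ha => ⟨fun h => ((hRlmem _).1 h).2, fun h => (hRlmem _).2 ⟨by
        rw [commutatorElement_def]
        exact mul_mem ((inferInstance : R₁.Normal).conj_mem a ha o) (inv_mem ha), h⟩⟩
    have hU : (ρU s₁ - 1) * (1 + ρU (s₁ ^ 2 ^ m)) = 0 := by
      have h := hρU2 (s₁ ^ 2 ^ m) 2 (by rw [← pow_mul, ← pow_succ, hs₁]) s₁ fun a ha hτa =>
        (hmem _ _ ha).2 (hfix a ha ((hmem _ _ ha).1 hτa))
      rwa [Finset.sum_range_succ, Finset.sum_range_one, pow_zero, map_one, pow_one] at h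
    -- the `q`-group of the stabiliser
    set Q₁ := Q.subgroupOf Γ₁ with hQ₁
    set Γ₂ := normalizer (Q₁ : Set Γ₁) with hΓ₂
    haveI : (Q₁.subgroupOf Γ₂).Normal := (normal_subgroupOf_iff_le_normalizer le_normalizer).2 le_rfl
    have hs₂ : s₁ ∈ Γ₂ := mem_normalizer_iff.2 fun a =>
      mem_normalizer_iff.1 (pow_mem hsQ (2 ^ j)) (a : Γ)
    have hQ₁q : IsPGroup q Q₁ := hQq.comap_subtype
    have hqr : q ≠ r := hrq.symm
    have hcast : ∀ t : ℕ, t.Prime → t ≠ r → (t : AlgebraicClosure (ZMod r)) ≠ 0 := fun t ht htr h0 =>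
      htr ((Nat.prime_dvd_prime_iff_eq (Fact.out : r.Prime) ht).mp
        ((CharP.cast_eq_zero_iff (AlgebraicClosure (ZMod r)) r t).mp h0)).symm
    have hc₂ : c₁ ∈ Q₁ := hcQ g hg
    have hB := upper_aux (Nat.card (Q₁.subgroupOf Γ₂)) (d := m) (Q₁.subgroupOf Γ₂)
      (ρU.comp Γ₂.subtype) ⟨s₁, hs₂⟩ (Subtype.ext hs₁) hm1 (fun h1 => by rw [← hm3 h1]; exact hqr)
      (hQ₁q.of_equiv (subgroupOfEquivOfLe le_normalizer).symm) hq2 (hcast q Fact.out hqr)
      (by exact_mod_cast hcast 2 Nat.prime_two hr2.symm) hU rfl ⟨c₁, le_normalizer hc₂⟩ hc₂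
    have hB' : ρU (s₁ ^ 2 ^ m * c₁) = ρU (c₁ * s₁ ^ 2 ^ m) := hB
    refine (hρU1 _).1 ?_ x₁ hx
    rw [show ⁅s₁ ^ 2 ^ m, c₁⁆ = s₁ ^ 2 ^ m * c₁ * (c₁ * s₁ ^ 2 ^ m)⁻¹ by
      rw [commutatorElement_def]; group, map_mul, hB', ← map_mul, mul_inv_cancel, map_one]
  -- so does `c`, of odd order
  have h2 : Commute (c⁻¹ * c⁻¹) x := hc'c ▸ hc'R x hx
  obtain ⟨i, hi⟩ := hQq ⟨c, hcQ g hg⟩
  have hio : (c⁻¹) ^ q ^ i = 1 := by
    rw [inv_pow, show c ^ q ^ i = 1 from congrArg Subtype.val hi, inv_one]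
  obtain ⟨k', hk'⟩ := exists_pow_eq_self_of_coprime (x := c⁻¹) (n := 2)
    ((((Nat.coprime_primes Fact.out Nat.prime_two).2 hq2).pow_left i).symm.coprime_dvd_right
      (orderOf_dvd_of_pow_eq_one hio))
  rw [sq] at hk'
  have h3 := h2.pow_left k'
  rw [hk'] at h3
  simpa using h3.inv_left.eq

/-- Two consecutive layers: `⁅τ, g⁆` centralises the image of `R`. -/
theorem two_layer {K : Type v} [Field K] [IsAlgClosed K] {W : Type w} [AddCommGroup W] [Module K W]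
    [FiniteDimensional K W] {Γ : Type u} [Group Γ] [Finite Γ] {q r n : ℕ} [Fact q.Prime] [Fact r.Prime]
    (R : Subgroup Γ) [R.Normal] (Q : Subgroup Γ) (ρ : Γ →* Module.End K W) {s : Γ}
    (hs : s ^ 2 ^ (n + 1) = 1) (hR : IsPGroup r R) (hQ : IsPGroup q Q)
    (hsQ : s ∈ normalizer (Q : Set Γ)) (hr2 : r ≠ 2) (hq2 : q ≠ 2) (hrq : r ≠ q) (hrK : (r : K) ≠ 0)
    (h2K : (2 : K) ≠ 0) (hsum : ∑ i ∈ Finset.range (2 ^ (n + 1)), ρ (s ^ i) = 0) {g x : Γ}
    (hg : g ∈ Q) (hx : x ∈ R) : ρ (⁅s ^ 2 ^ n, g⁆ * x) = ρ (x * ⁅s ^ 2 ^ n, g⁆) :=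
  two_layer_aux (Nat.card R) R Q ρ s hs hR hQ hsQ hr2 hq2 hrq hrK h2K hsum rfl g hg x hx

end CfsgLib.Solvable.FPFOperators
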