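import Cfsg.Agent.Lib.Solvable.FPFOperators.PLength
import Mathlib.FieldTheory.IsAlgClosed.AlgebraicClosure

/-!
# Theorem B on the top layer of the upper `p`-series
-/

set_option autoImplicit false

namespace CfsgLib.Solvable.FPFOperators

open Subgroup CfsgLib
open scoped commutatorElement

universe u v

variable {p : ℕ} [Fact p.Prime]

theorem sub_one_pow_pred_end {V : Type u} [AddCommGroup V] [Module (ZMod p) V]
    (f : Module.End (ZMod p) V) (n : ℕ) :
    (f - 1) ^ (p ^ n - 1) = ∑ i ∈ Finset.range (p ^ n), f ^ i := by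
  rcases subsingleton_or_nontrivial V with hV | hV
  · exact LinearMap.ext fun v => Subsingleton.elim _ _
  haveI : CharP (Module.End (ZMod p) V) p := charP_of_injective_algebraMap
    (FaithfulSMul.algebraMap_injective (ZMod p) (Module.End (ZMod p) V)) p
  exact sub_one_pow_pred f n

theorem sub_pow_pow_end {V : Type u} [AddCommGroup V] [Module (ZMod p) V]
    (f : Module.End (ZMod p) V) (n : ℕ) :
    (f - 1) ^ p ^ n = f ^ p ^ n - 1 := by
  rcases subsingleton_or_nontrivial V with hV | hV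
  · exact LinearMap.ext fun v => Subsingleton.elim _ _
  haveI : CharP (Module.End (ZMod p) V) p := charP_of_injective_algebraMap
    (FaithfulSMul.algebraMap_injective (ZMod p) (Module.End (ZMod p) V)) p
  rw [sub_pow_char_pow_of_commute p n (Commute.one_right _), one_pow]

/-- The power of a translate. -/
theorem exists_pow_translate {G : Type u} [Group G] {U : Subgroup G} [U.Normal] {V : Type u}
    [AddCommGroup V] [Module (ZMod p) V] (ρ₀ : G ⧸ U →* Module.End (ZMod p) V) (π : U → V)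
    (hadd : ∀ a b, π (a * b) = π a + π b)
    (hconj : ∀ (g : G) (a b : U), (b : G) = g * a * g⁻¹ → π b = ρ₀ (g : G ⧸ U) (π a))
    (g : G) (a : U) : ∀ k : ℕ, ∃ b : U, ((a : G) * g) ^ k = b * g ^ k ∧
      π b = (∑ i ∈ Finset.range k, ρ₀ (g : G ⧸ U) ^ i) (π a) := by
  intro k
  induction k with
  | zero =>
    refine ⟨1, by simp, ?_⟩
    have h := hadd 1 1
    rw [mul_one, left_eq_add] at h
    simp [h]
  | succ k ih =>
    obtain ⟨b, hb, hπ⟩ := ih
    let c : U := ⟨g ^ k * a * (g ^ k)⁻¹, (inferInstance : U.Normal).conj_mem a a.2 _⟩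
    refine ⟨b * c, ?_, ?_⟩
    · rw [pow_succ, hb, pow_succ, Subgroup.coe_mul]
      show _ = (b : G) * (g ^ k * a * (g ^ k)⁻¹) * (g ^ k * g)
      group
    · rw [hadd, hπ, hconj (g ^ k) a c rfl, Finset.sum_range_succ, LinearMap.add_apply,
        ← map_pow, ← QuotientGroup.mk_pow]

/-- If the Sylow subgroups have exponent dividing `p ^ e` then the norms vanish on the top layer. -/
theorem norm_eq_zero_of_exponent {G : Type u} [Group G] [Finite G] {U : Subgroup G} [U.Normal]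
    {V : Type u} [AddCommGroup V] [Module (ZMod p) V] (ρ₀ : G ⧸ U →* Module.End (ZMod p) V)
    (π : U → V) (hsurj : ∀ (P : Sylow p G) (v : V), ∃ w : U, (w : G) ∈ (P : Subgroup G) ∧ π w = v)
    (hadd : ∀ a b, π (a * b) = π a + π b)
    (hconj : ∀ (g : G) (a b : U), (b : G) = g * a * g⁻¹ → π b = ρ₀ (g : G ⧸ U) (π a))
    {e : ℕ} (hexp : ∀ P : Sylow p G, ∀ x ∈ (P : Subgroup G), x ^ p ^ e = 1)
    {x : G ⧸ U} (hx : IsPGroup p (zpowers x)) : (ρ₀ x - 1) ^ (p ^ e - 1) = 0 := by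
  obtain ⟨P, hP⟩ := exists_sylow_lift (QuotientGroup.mk' U) (QuotientGroup.mk'_surjective U) hx
  obtain ⟨g, hg, rfl⟩ := hP (mem_zpowers x)
  refine LinearMap.ext fun v => ?_
  obtain ⟨a, haP, rfl⟩ := hsurj P v
  obtain ⟨b, hb, hπ⟩ := exists_pow_translate ρ₀ π hadd hconj g a (p ^ e)
  rw [hexp P _ (mul_mem haP hg), hexp P g hg, mul_one] at hb
  have hb1 : b = 1 := Subtype.ext hb.symm
  have h0 : π 1 = 0 := by
    have h := hadd 1 1
    rwa [mul_one, left_eq_add] at h
  rw [hb1, h0] at hπ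
  rw [sub_one_pow_pred_end, LinearMap.zero_apply]
  exact hπ.symm

/-- The scalar extension to an algebraically closed field. -/
theorem exists_closure_rep {Γ : Type u} [Group Γ] {V : Type u} [AddCommGroup V] [Finite V]
    [Module (ZMod p) V] (ρ₀ : Γ →* Module.End (ZMod p) V) (hinj : Function.Injective ρ₀) :
    ∃ (W : Type u) (_ : AddCommGroup W) (_ : Module (AlgebraicClosure (ZMod p)) W)
      (_ : FiniteDimensional (AlgebraicClosure (ZMod p)) W)
      (ρ : Γ →* Module.End (AlgebraicClosure (ZMod p)) W),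
      Function.Injective ρ ∧ ∀ (g : Γ) (k : ℕ), (ρ g - 1) ^ k = 0 ↔ (ρ₀ g - 1) ^ k = 0 := by
  haveI : Module.Finite (ZMod p) V := Module.Finite.of_finite
  let bc := Module.End.baseChangeHom (ZMod p) (AlgebraicClosure (ZMod p)) V
  have hbc : Function.Injective bc :=
    LinearMap.baseChangeHom_injective (ZMod p) V (AlgebraicClosure (ZMod p))
  refine ⟨_, inferInstance, inferInstance, inferInstance, bc.toMonoidHom.comp ρ₀,
    fun a b h => hinj (hbc h), fun g k => ?_⟩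
  show (bc (ρ₀ g) - 1) ^ k = 0 ↔ _
  have h1 : (bc (ρ₀ g) - 1) ^ k = bc ((ρ₀ g - 1) ^ k) :=
    (congrArg (fun z => (bc (ρ₀ g) - z) ^ k) (map_one bc).symm).trans
      ((congrArg (· ^ k) (map_sub bc (ρ₀ g) 1).symm).trans (map_pow bc _ k).symm)
  rw [h1]
  exact ⟨fun h => hbc (h.trans (map_zero bc).symm), fun h => by rw [h, map_zero]⟩

/-- A `p`-element centralising every invariant subgroup of `O_{p'}` of prime power order is trivial. -/
theorem eq_one_of_centralizes_invariant {X : Type u} [Group X] [Finite X]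
    (hsol : Cfsg.IsPSolvable p X) (hOp : Cfsg.pCore p X = ⊥) {T : Subgroup X} (hT : IsPGroup p T)
    {c : X} (hc : c ∈ T)
    (h : ∀ q : ℕ, q.Prime → q ≠ p → ∀ Q : Subgroup X, IsPGroup q Q → T ≤ normalizer (Q : Set X) →
      ∀ y ∈ Q, c * y = y * c) : c = 1 := by
  have hp : p.Prime := Fact.out
  set R := Cfsg.pPrimeCore p X with hR
  haveI : R.Normal := Cores.pPrimeCore_normal p
  have hRcop : (Nat.card R).Coprime p := Cores.coprime_card_pPrimeCore p
  obtain ⟨i, hi⟩ := IsPGroup.iff_card.mp hT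
  have hcop : (Nat.card T).Coprime (Nat.card R) := by rw [hi]; exact hRcop.symm.pow_left i
  haveI : Group.IsNilpotent T := hT.isNilpotent
  have h5 : R ⊓ centralizer ({c} : Set X) = R := by
    refine eq_of_le_of_card_ge inf_le_left (Nat.le_of_dvd Nat.card_pos ?_)
    refine (Nat.dvd_iff_prime_pow_dvd_dvd _ _).2 fun q k hq hqk => ?_
    haveI : Fact q.Prime := ⟨hq⟩
    obtain ⟨Qq, hQq⟩ := Coprime.exists_invariant_sylow (A := T) (K := R)
      (by rw [normalizer_eq_top]; exact le_top) hcop (Or.inl inferInstance) q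
    refine (Qq.pow_dvd_card_of_pow_dvd_card hqk).trans ?_
    rcases eq_or_ne q p with rfl | hqp
    · obtain ⟨j, hj⟩ := IsPGroup.iff_card.mp Qq.isPGroup'
      rw [hj, show j = 0 from ?_, pow_zero]
      · exact one_dvd _
      by_contra hj0
      have h1 : q ∣ Nat.card R :=
        ((dvd_pow_self q hj0).trans (dvd_of_eq hj.symm)).trans (card_subgroup_dvd_card _)
      exact hq.one_lt.ne' (Nat.eq_one_of_dvd_coprimes hRcop h1 dvd_rfl)
    · have h2 := h q hq hqp _ (Qq.isPGroup'.map R.subtype) hQq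
      have h3 : (Qq : Subgroup R).map R.subtype ≤ R ⊓ centralizer ({c} : Set X) := fun y hy =>
        ⟨map_subtype_le _ hy, mem_centralizer_singleton_iff.2 (h2 y hy).symm⟩
      have h4 := card_dvd_of_le h3
      rwa [card_map_of_injective R.subtype_injective] at h4
  have h1 : c ∈ R := Fusion.FailureFactor.centralizer_pPrimeCore_le hsol hOp
    (mem_centralizer_iff.2 fun y hy =>
      mem_centralizer_singleton_iff.1 ((le_of_eq h5.symm).trans inf_le_right hy))
  have h2 : orderOf c ∣ Nat.card R := by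
    rw [← Subgroup.orderOf_mk c h1]; exact orderOf_dvd_natCard _
  have h3 : orderOf c ∣ p ^ i := by
    rw [← hi, ← Subgroup.orderOf_mk c hc]; exact orderOf_dvd_natCard _
  exact orderOf_eq_one_iff.1 (Nat.eq_one_of_dvd_coprimes (hRcop.pow_right i) h2 h3)

/-- Theorem B for a `p`-element of a `p`-solvable linear group without normal `p`-subgroup. -/
theorem exists_hallHigmanExc {X : Type u} [Group X] [Finite X] {K : Type v} [Field K] [IsAlgClosed K]
    [CharP K p] {W : Type u} [AddCommGroup W] [Module K W] [FiniteDimensional K W]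
    (hsol : Cfsg.IsPSolvable p X) (hOp : Cfsg.pCore p X = ⊥) (ρ : X →* Module.End K W)
    (hinj : Function.Injective ρ) {s : X} {n r : ℕ} (hs : s ^ p ^ (n + 1) = 1)
    (hs1 : s ^ p ^ n ≠ 1) (hr : (ρ s - 1) ^ r = 0) (hlt : r < p ^ (n + 1)) :
    ∃ q : ℕ, q.Prime ∧ q ≠ p ∧ HallHigmanExc p q n r (fun _ =>
      ∃ Q : Subgroup X, IsPGroup q Q ∧ ∃ x ∈ Q, ∃ y ∈ Q, x * y ≠ y * x) := by
  by_contra hno
  refine hs1 (eq_one_of_centralizes_invariant hsol hOp (T := zpowers s) ?_ (pow_mem (mem_zpowers s) _)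
    fun q hq hqp Q hQ hsQ y hy => ?_)
  · obtain ⟨j, -, hj⟩ := (Nat.dvd_prime_pow (Fact.out : p.Prime)).1 (orderOf_dvd_of_pow_eq_one hs)
    exact IsPGroup.of_card (by rw [Nat.card_zpowers, hj])
  by_contra hne
  haveI : Fact q.Prime := ⟨hq⟩
  rcases theoremB (n := n) hqp Q ρ (hsQ (mem_zpowers s)) hQ hs ⟨y, hy, fun h => hne (hinj h)⟩ hr with
    h | ⟨n₀, m, h1, h2, h3, h4, h5, x, hx, z, hz, hxz⟩
  · omega
  · exact hno ⟨q, hq, hqp, n₀, m, h1, h2, h3, h4, h5, Q, hQ, x, hx, z, hz, fun h => hxz (by rw [h])⟩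

/-- A nonabelian `q`-subgroup forbids abelian Sylow `q`-subgroups. -/
theorem commute_of_sylow_abelian {X : Type u} [Group X] [Finite X] {q : ℕ} [Fact q.Prime]
    (hab : ∀ S : Sylow q X, IsMulCommutative (S : Subgroup X)) {Q : Subgroup X} (hQ : IsPGroup q Q)
    {x y : X} (hx : x ∈ Q) (hy : y ∈ Q) : x * y = y * x := by
  obtain ⟨S, hS⟩ := hQ.exists_le_sylow
  exact congrArg Subtype.val (isMulCommutative_iff.1 (hab S) ⟨x, hS hx⟩ ⟨y, hS hy⟩)

/-- For odd `p` the exceptional prime is two and `p` is a Fermat prime. -/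
theorem exceptional_fermat {q n₀ m : ℕ} (hp2 : p ≠ 2) (hq : q.Prime) (hn₀ : 1 ≤ n₀) (hm : 1 ≤ m)
    (h : p ^ n₀ - 1 = q ^ m) : q = 2 ∧ ∃ k, p = 2 ^ k + 1 := by
  have hp : p.Prime := Fact.out
  have h2 : 2 ∣ p ^ n₀ - 1 :=
    even_iff_two_dvd.1 (Nat.Odd.sub_odd ((hp.odd_of_ne_two hp2).pow) odd_one)
  rw [h] at h2
  have hq2 : q = 2 :=
    ((Nat.prime_dvd_prime_iff_eq Nat.prime_two hq).1 (Nat.prime_two.dvd_of_dvd_pow h2)).symm
  subst hq2
  have h3 : p - 1 ∣ 2 ^ m := h ▸ Nat.sub_one_dvd_pow_sub_one p n₀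
  obtain ⟨k, -, hk⟩ := (Nat.dvd_prime_pow Nat.prime_two).1 h3
  exact ⟨rfl, k, by have := hp.one_lt; omega⟩

/-- The tops of two exceptional elements of a `p`-subgroup commute. -/
theorem tops_commute_all {X : Type u} [Group X] [Finite X] {K : Type v} [Field K] [IsAlgClosed K]
    [CharP K p] {W : Type u} [AddCommGroup W] [Module K W] [FiniteDimensional K W] (hp2 : p ≠ 2)
    (hsol : Cfsg.IsPSolvable p X) (hOp : Cfsg.pCore p X = ⊥) (ρ : X →* Module.End K W)
    (hinj : Function.Injective ρ) {T : Subgroup X} (hT : IsPGroup p T) {n : ℕ} {s₁ s₂ : X}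
    (hs₁T : s₁ ∈ T) (hs₂T : s₂ ∈ T) (hs₁ : s₁ ^ p ^ (n + 1) = 1) (hs₂ : s₂ ^ p ^ (n + 1) = 1)
    (hr₁ : (ρ s₁ - 1) ^ (p ^ (n + 1) - 1) = 0) (hr₂ : (ρ s₂ - 1) ^ (p ^ (n + 1) - 1) = 0) :
    s₁ ^ p ^ n * s₂ ^ p ^ n = s₂ ^ p ^ n * s₁ ^ p ^ n := by
  rw [← commutatorElement_eq_one_iff_mul_comm]
  refine eq_one_of_centralizes_invariant hsol hOp hT ?_ fun q hq hqp Q hQ hTQ y hy => ?_
  · rw [commutatorElement_def]
    exact mul_mem (mul_mem (mul_mem (pow_mem hs₁T _) (pow_mem hs₂T _)) (inv_mem (pow_mem hs₁T _)))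
      (inv_mem (pow_mem hs₂T _))
  · haveI : Fact q.Prime := ⟨hq⟩
    exact tops_commute (n := n) hp2 hqp ρ hinj hQ hT hTQ hs₁T hs₂T hs₁ hs₂ hr₁ hr₂ y hy

end CfsgLib.Solvable.FPFOperators
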