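import Cfsg.Agent.Lib.Coprime.Action
import Mathlib.Algebra.Algebra.Basic
import Mathlib.Algebra.CharP.Basic

/-!
# Passing coprime configurations to quotients
-/

set_option autoImplicit false

namespace CfsgLib.Solvable.FPFOperators

open Subgroup CfsgLib
open scoped commutatorElement

variable {Γ : Type*} [Group Γ]

/-- A fixed coset of a coprimely acted subgroup contains a fixed point. -/
theorem exists_fixed_of_map [Finite Γ] {A Q K₀ : Subgroup Γ} [hK : K₀.Normal]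
    (hQA : A ≤ normalizer (Q : Set Γ)) (hcop : (Nat.card A).Coprime (Nat.card Q))
    (hsolv : Group.IsSolvable A) {y : Γ} (hy : y ∈ Q)
    (h : ∀ a ∈ A, QuotientGroup.mk' K₀ a * QuotientGroup.mk' K₀ y =
      QuotientGroup.mk' K₀ y * QuotientGroup.mk' K₀ a) :
    ∃ y' ∈ Q, (∀ a ∈ A, a * y' = y' * a) ∧
      QuotientGroup.mk' K₀ y' = QuotientGroup.mk' K₀ y := by
  have hN : A ≤ normalizer ((K₀ ⊓ Q : Subgroup Γ) : Set Γ) :=
    (le_inf (by rw [normalizer_eq_top]; exact le_top) hQA).trans inf_normalizer_le_normalizer_inf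
  obtain ⟨n, hn, hc⟩ := Coprime.exists_mul_mem_centralizer hN
    (Coprime.coprime_of_le hcop le_rfl inf_le_right) (Or.inl hsolv) (k := y) fun a ha => by
      refine mem_inf.2 ⟨?_, ?_⟩
      · rw [← QuotientGroup.eq_one_iff]
        show QuotientGroup.mk' K₀ ⁅a, y⁆ = 1
        rw [map_commutatorElement, commutatorElement_eq_one_iff_mul_comm]
        exact h a ha
      · rw [commutatorElement_def]
        exact mul_mem (le_normalizer_iff.1 hQA a ha _ hy) (inv_mem hy)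
  refine ⟨n * y, mul_mem (mem_inf.1 hn).2 hy, fun a ha => mem_centralizer_iff.1 hc a ha, ?_⟩
  rw [map_mul]
  have : QuotientGroup.mk' K₀ n = 1 := (QuotientGroup.eq_one_iff n).2 (mem_inf.1 hn).1
  rw [this, one_mul]

theorem card_map_mk_lt [Finite Γ] {K₀ Q : Subgroup Γ} [K₀.Normal] (h : K₀ ⊓ Q ≠ ⊥) :
    Nat.card (Q.map (QuotientGroup.mk' K₀)) < Nat.card Q := by
  refine lt_of_le_of_ne (Nat.le_of_dvd Nat.card_pos (Q.card_map_dvd _)) fun he => h ?_
  rw [eq_bot_iff]
  intro x hx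
  have hb : Function.Bijective ((QuotientGroup.mk' K₀).subgroupMap Q) :=
    (Nat.bijective_iff_surjective_and_card _).mpr
      ⟨MonoidHom.subgroupMap_surjective _ Q, he.symm⟩
  exact congrArg Subtype.val (hb.1 (a₁ := ⟨x, (mem_inf.1 hx).2⟩) (a₂ := 1) (Subtype.ext (by
    show QuotientGroup.mk' K₀ x = QuotientGroup.mk' K₀ 1
    rw [map_one]; exact (QuotientGroup.eq_one_iff x).2 (mem_inf.1 hx).1)))

theorem natCast_ne_zero_of_dvd {K : Type*} [Semiring K] {m n : ℕ} (h : m ∣ n) (hn : (n : K) ≠ 0) :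
    (m : K) ≠ 0 := fun h0 => hn (by
  obtain ⟨k, rfl⟩ := h
  rw [Nat.cast_mul, h0, zero_mul])

theorem map_eq_mul_of_map_eq {R : Type*} [Monoid R] (ρ : Γ →* R) {x y : Γ} (h : x⁻¹ * y ∈ ρ.ker) :
    ρ y = ρ x := by
  have h1 : ρ (x⁻¹ * y) = 1 := MonoidHom.mem_ker.mp h
  calc ρ y = ρ x * ρ (x⁻¹ * y) := by rw [← map_mul, mul_inv_cancel_left]
    _ = ρ x := by rw [h1, mul_one]

end CfsgLib.Solvable.FPFOperators
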