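import Cfsg.Agent.Lib.Solvable.FPFOperators.Weights
import Cfsg.Agent.Lib.Solvable.FPFOperators.Descend
import Cfsg.Agent.Lib.Coprime.Generation
import Mathlib.GroupTheory.Nilpotent

/-!
# Ward's lemma

An elementary abelian group of order `p ^ 2` acts on `Q` without fixed points and each fixed
element of `Q` of a nontrivial operator acts trivially on the fixed space of that operator. Then a
coprime group `S` normalising `Q` centralises `Q` modulo the kernel as soon as centralisers of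
operators do.
-/

set_option autoImplicit false

namespace CfsgLib.Solvable.FPFOperators

open Subgroup CfsgLib
open scoped Pointwise

universe u v w

variable {K : Type v} [Field K] [IsAlgClosed K] {R : Type w} [Ring R] [Algebra K R]

/-- The configuration of Ward's lemma. -/
structure WardData {Γ : Type u} [Group Γ] (p : ℕ) (A Q S : Subgroup Γ) (ρ : Γ →* R) : Prop where
  comm : IsMulCommutative A
  pow : ∀ a ∈ A, a ^ p = 1
  card : Nat.card A = p ^ 2
  copQ : (Nat.card Q).Coprime p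
  copS : (Nat.card S).Coprime p
  normS : A ≤ normalizer (S : Set Γ)
  nilp : Group.IsNilpotent Q
  cast : (Nat.card Q : K) ≠ 0
  fix : ∀ y ∈ Q, (∀ a ∈ A, a * y = y * a) → y = 1
  fixOp : ∀ a ∈ A, a ≠ 1 → ∀ y ∈ Q, a * y = y * a →
    (ρ y - 1) * ∑ i ∈ Finset.range p, ρ (a ^ i) = 0
  centr : ∀ a ∈ A, a ≠ 1 → ∀ y ∈ Q, a * y = y * a → ∀ x ∈ S, a * x = x * a →
    ρ (y * x) = ρ (x * y)

variable {Γ : Type u} [Group Γ] [Finite Γ] {p : ℕ} {A Q S : Subgroup Γ} {ρ : Γ →* R}

theorem WardData.solvA (h : WardData (K := K) p A Q S ρ) : Group.IsSolvable A := by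
  haveI := h.comm
  exact Group.isSolvable_of_comm fun a b => mul_comm' a b

theorem WardData.cop_of (h : WardData (K := K) p A Q S ρ) {n : ℕ} (hn : n.Coprime p) :
    (Nat.card A).Coprime n := by
  rw [h.card]; exact (hn.pow_right 2).symm

theorem WardData.descend (h : WardData (K := K) p A Q S ρ) (hp : p.Prime) [hQn : Q.Normal] :
    ∃ ρ' : Γ ⧸ (Q ⊓ ρ.ker) →* R, (∀ g, ρ' (QuotientGroup.mk' _ g) = ρ g) ∧
      WardData (K := K) p (A.map (QuotientGroup.mk' (Q ⊓ ρ.ker)))
        (Q.map (QuotientGroup.mk' (Q ⊓ ρ.ker))) (S.map (QuotientGroup.mk' (Q ⊓ ρ.ker))) ρ' := by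
  set K₀ := Q ⊓ ρ.ker with hK₀
  set mk := QuotientGroup.mk' K₀ with hmk
  refine ⟨QuotientGroup.lift K₀ ρ inf_le_right, fun g => rfl, ?_⟩
  haveI := h.comm
  have hQA : A ≤ normalizer (Q : Set Γ) := by rw [normalizer_eq_top]; exact le_top
  have hcopQ : (Nat.card A).Coprime (Nat.card Q) := h.cop_of h.copQ
  have hcopS : (Nat.card A).Coprime (Nat.card S) := h.cop_of h.copS
  have hinj : ∀ a ∈ A, mk a = 1 → a = 1 := fun a ha he => by
    have h1 : a ∈ A ⊓ Q := ⟨ha, ((QuotientGroup.eq_one_iff a).mp he).1⟩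
    rwa [(disjoint_of_coprime_natCard hcopQ).eq_bot, mem_bot] at h1
  -- fixed points of single operators lift
  have lift1 : ∀ {T : Subgroup Γ}, A ≤ normalizer (T : Set Γ) →
      (Nat.card A).Coprime (Nat.card T) → ∀ a ∈ A, ∀ y ∈ T, mk a * mk y = mk y * mk a →
      ∃ y' ∈ T, a * y' = y' * a ∧ mk y' = mk y := by
    intro T hT hc a ha y hy he
    obtain ⟨y', hy', hf, hm⟩ := exists_fixed_of_map (A := zpowers a) (K₀ := K₀)
      ((zpowers_le.2 ha).trans hT) (Coprime.coprime_of_le hc (zpowers_le.2 ha) le_rfl)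
      (Coprime.isSolvable_zpowers a) hy fun b hb => by
        obtain ⟨i, rfl⟩ := mem_zpowers_iff.mp hb
        rw [map_zpow]
        exact (Commute.zpow_left he i)
    exact ⟨y', hy', hf a (mem_zpowers a), hm⟩
  exact
    { comm := inferInstance
      pow := by
        rintro _ ⟨a, ha, rfl⟩
        rw [← map_pow, h.pow a ha, map_one]
      card := by
        refine Eq.trans ?_ h.card
        refine (Nat.card_congr (Equiv.ofBijective (mk.subgroupMap A)
          ⟨(injective_iff_map_eq_one _).mpr fun a he => Subtype.ext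
            (hinj a a.2 (congrArg Subtype.val he)), mk.subgroupMap_surjective A⟩)).symm
      copQ := Nat.Coprime.coprime_dvd_left (Q.card_map_dvd _) h.copQ
      copS := Nat.Coprime.coprime_dvd_left (S.card_map_dvd _) h.copS
      normS := (Subgroup.map_mono h.normS).trans (le_normalizer_map _)
      nilp := by
        haveI := h.nilp
        exact Group.nilpotent_of_surjective (mk.subgroupMap Q) (mk.subgroupMap_surjective Q)
      cast := natCast_ne_zero_of_dvd (Q.card_map_dvd _) h.cast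
      fix := by
        rintro _ ⟨y, hy, rfl⟩ hf
        obtain ⟨y', hy', hf', hm⟩ := exists_fixed_of_map (A := A) hQA hcopQ h.solvA hy
          fun a ha => hf _ (Subgroup.mem_map_of_mem _ ha)
        rw [← hm, h.fix y' hy' hf', map_one]
      fixOp := by
        rintro _ ⟨a, ha, rfl⟩ hne _ ⟨y, hy, rfl⟩ he
        obtain ⟨y', hy', hf, hm⟩ := lift1 hQA hcopQ a ha y hy he
        rw [← hm]
        simp only [← map_pow]
        exact h.fixOp a ha (fun h1 => hne (by rw [h1, map_one])) y' hy' hf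
      centr := by
        rintro _ ⟨a, ha, rfl⟩ hne _ ⟨y, hy, rfl⟩ he _ ⟨x, hx, rfl⟩ hex
        obtain ⟨y', hy', hf, hm⟩ := lift1 hQA hcopQ a ha y hy he
        obtain ⟨x', hx', hfx, hmx⟩ := lift1 h.normS hcopS a ha x hx hex
        rw [← hm, ← hmx, ← map_mul, ← map_mul]
        exact h.centr a ha (fun h1 => hne (by rw [h1, map_one])) y' hy' hf x' hx' hfx }

theorem WardData.not_isCyclic (h : WardData (K := K) p A Q S ρ) (hp : p.Prime) : ¬ IsCyclic A := by
  intro hc
  haveI := hc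
  have h1 : Monoid.exponent A = Nat.card A := IsCyclic.exponent_eq_card
  have h2 : Monoid.exponent A ∣ p := Monoid.exponent_dvd_of_forall_pow_eq_one fun a =>
    Subtype.ext (h.pow a a.2)
  rw [h1, h.card] at h2
  have h3 := Nat.le_of_dvd hp.pos h2
  nlinarith [hp.two_le]

theorem mem_zpowers_of_pow {p : ℕ} (hp : p.Prime) {a : Γ} (ha : a ^ p = 1) {i : ℕ} (hi : 0 < i)
    (hip : i < p) : a ∈ zpowers (a ^ i) := by
  have hcop : i.Coprime (orderOf a) :=
    ((Nat.coprime_of_lt_prime hi.ne' hip hp).coprime_dvd_left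
      (orderOf_dvd_of_pow_eq_one ha)).symm
  obtain ⟨m, hm⟩ := exists_pow_eq_self_of_coprime hcop
  exact mem_zpowers_iff.mpr ⟨m, by rw [zpow_natCast, hm]⟩

theorem WardData.sup_zpowers (h : WardData (K := K) p A Q S ρ) (hp : p.Prime) {a b : Γ}
    (ha : a ∈ A) (hb : b ∈ A) (ha1 : a ≠ 1) (hb' : b ∉ zpowers a) :
    zpowers a ⊔ zpowers b = A := by
  have hle : zpowers a ⊔ zpowers b ≤ A := sup_le (zpowers_le.2 ha) (zpowers_le.2 hb)
  refine eq_of_le_of_card_ge hle ?_
  have hd : Nat.card ↥(zpowers a ⊔ zpowers b) ∣ p ^ 2 := h.card ▸ card_dvd_of_le hle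
  obtain ⟨k, hk, hck⟩ := (Nat.dvd_prime_pow hp).mp hd
  have hca : Nat.card (zpowers a) = p := by
    rw [Nat.card_zpowers]
    exact (Nat.dvd_prime hp).mp (orderOf_dvd_of_pow_eq_one (h.pow a ha)) |>.resolve_left
      fun h1 => ha1 (orderOf_eq_one_iff.mp h1)
  have hlt : p < Nat.card ↥(zpowers a ⊔ zpowers b) := by
    rw [← hca]
    refine lt_of_le_of_ne (Nat.le_of_dvd Nat.card_pos (card_dvd_of_le le_sup_left)) fun he => hb' ?_
    rw [eq_of_le_of_card_ge le_sup_left he.ge]
    exact mem_sup_right (mem_zpowers b)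
  rw [hck, h.card]
  refine Nat.pow_le_pow_right hp.pos ?_
  by_contra h2
  have : p ^ k ≤ p ^ 1 := Nat.pow_le_pow_right hp.pos (by omega)
  rw [pow_one, ← hck] at this
  omega

theorem ward_linear_aux (n : ℕ) : ∀ {Γ : Type u} [Group Γ] [Finite Γ] {p : ℕ} (hp : p.Prime)
    (A Q S : Subgroup Γ) [Q.Normal] (ρ : Γ →* R), WardData (K := K) p A Q S ρ → Nat.card Q = n →
    ∀ y ∈ Q, ∀ x ∈ S, ρ (y * x) = ρ (x * y) := by
  induction n using Nat.strong_induction_on with
  | _ n ih =>
  intro Γ _ _ p hp A Q S hQn ρ h hn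
  classical
  -- a kernel inside `Q` reduces the order
  by_cases hker : Q ⊓ ρ.ker = ⊥
  swap
  · intro y hy x hx
    obtain ⟨ρ', hρ', h'⟩ := h.descend hp
    haveI : (Q.map (QuotientGroup.mk' (Q ⊓ ρ.ker))).Normal :=
      hQn.map _ (QuotientGroup.mk'_surjective _)
    have hlt : Nat.card (Q.map (QuotientGroup.mk' (Q ⊓ ρ.ker))) < n := by
      rw [← hn]
      exact card_map_mk_lt (by rwa [inf_assoc, inf_comm ρ.ker Q, ← inf_assoc, inf_idem])
    have := ih _ hlt hp _ _ _ ρ' h' rfl _ (Subgroup.mem_map_of_mem _ hy) _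
      (Subgroup.mem_map_of_mem _ hx)
    rwa [← map_mul, ← map_mul, hρ', hρ'] at this
  by_cases hQ : Q = ⊥
  · intro y hy x hx
    rw [hQ, mem_bot] at hy
    rw [hy, one_mul, mul_one]
  haveI := h.comm
  have hAcomm : ∀ a ∈ A, ∀ b ∈ A, a * b = b * a := fun a ha b hb =>
    congrArg Subtype.val (mul_comm' (⟨a, ha⟩ : A) ⟨b, hb⟩)
  have hQA : A ≤ normalizer (Q : Set Γ) := by rw [normalizer_eq_top]; exact le_top
  -- the centre of `Q`
  let Z : Subgroup Γ := (Subgroup.center Q).map Q.subtype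
  have hZQ : Z ≤ Q := map_subtype_le _
  haveI hZn : Z.Normal := by
    refine ⟨fun z hz g => ?_⟩
    obtain ⟨c, hc, rfl⟩ := hz
    refine ⟨⟨g * c * g⁻¹, hQn.conj_mem _ c.2 g⟩, mem_center_iff.2 fun y => ?_, rfl⟩
    have h1 := mem_center_iff.1 hc ⟨g⁻¹ * y * g, hQn.conj_mem' _ y.2 g⟩
    apply Subtype.ext
    have h2 : g⁻¹ * (y : Γ) * g * c = c * (g⁻¹ * y * g) := congrArg Subtype.val h1
    show (y : Γ) * (g * c * g⁻¹) = g * c * g⁻¹ * y
    calc (y : Γ) * (g * c * g⁻¹) = g * (g⁻¹ * y * g * c) * g⁻¹ := by group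
      _ = g * (c * (g⁻¹ * y * g)) * g⁻¹ := by rw [h2]
      _ = g * c * g⁻¹ * y := by group
  have hZc : ∀ z ∈ Z, ∀ y ∈ Q, y * z = z * y := by
    rintro _ ⟨c, hc, rfl⟩ y hy
    exact congrArg Subtype.val (mem_center_iff.1 hc ⟨y, hy⟩)
  have hZcomm : IsMulCommutative Z :=
    isMulCommutative_iff.2 fun a b => Subtype.ext (hZc b b.2 a (hZQ a.2))
  have hZne : Z ≠ ⊥ := by
    haveI := h.nilp
    haveI : Nontrivial Q := (Subgroup.nontrivial_iff_ne_bot Q).2 hQ
    rw [Ne, Subgroup.map_eq_bot_iff_of_injective _ Q.subtype_injective]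
    exact Group.IsNilpotent.center_ne_bot Q
  haveI : Fintype Z := Fintype.ofFinite Z
  have hZK : (Fintype.card Z : K) ≠ 0 := by
    rw [← Nat.card_eq_fintype_card]; exact natCast_ne_zero_of_dvd (card_dvd_of_le hZQ) h.cast
  let e : (Z →* Kˣ) → R := fun l => weightIdem Z ρ l
  have he_smul : ∀ (g : Γ) (l : Z →* Kˣ), ρ g * e l = e (g • l) * ρ g := fun g l =>
    map_mul_weightIdem_smul ρ g l
  have hfixQ : ∀ y ∈ Q, ∀ l : Z →* Kˣ, y • l = l := fun y hy l =>
    dual_smul_eq_self_of_commute l fun z hz => hZc z hz y hy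
  have heQ : ∀ y ∈ Q, ∀ l, ρ y * e l = e l * ρ y := fun y hy l => by
    rw [he_smul, hfixQ y hy]
  -- (1) fixed elements of an operator moving a weight are trivial on it
  have h1 : ∀ a ∈ A, ∀ l : Z →* Kˣ, a • l ≠ l → ∀ y ∈ Q, a * y = y * a → ρ y * e l = e l := by
    intro a ha l hal y hy hay
    have ha1 : a ≠ 1 := fun h0 => hal (by rw [h0, one_smul])
    have hN : e l * (∑ i ∈ Finset.range p, ρ (a ^ i)) * e l = e l := by
      rw [Finset.mul_sum, Finset.sum_mul, Finset.sum_eq_single 0]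
      · rw [pow_zero, map_one, mul_one]; exact weightIdem_mul_self ρ hZK l
      · intro i hi hi0
        rw [mul_assoc, he_smul, ← mul_assoc]
        have hne : l ≠ a ^ i • l := fun heq => hal (by
          obtain ⟨m, hm⟩ := mem_zpowers_iff.mp (mem_zpowers_of_pow hp (h.pow a ha)
            (Nat.pos_of_ne_zero hi0) (Finset.mem_range.mp hi))
          have : zpowers (a ^ i) ≤ MulAction.stabilizer Γ l := zpowers_le.2 heq.symm
          exact this (mem_zpowers_iff.mpr ⟨m, hm⟩))
        rw [weightIdem_orth ρ hne, zero_mul]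
      · intro h0
        exact absurd (Finset.mem_range.mpr hp.pos) h0
    have h2 : (ρ y - 1) * e l = 0 := by
      calc (ρ y - 1) * e l = (ρ y - 1) * (e l * (∑ i ∈ Finset.range p, ρ (a ^ i)) * e l) := by
            rw [hN]
        _ = e l * ((ρ y - 1) * ∑ i ∈ Finset.range p, ρ (a ^ i)) * e l := by
            have hc : (ρ y - 1) * e l = e l * (ρ y - 1) := by
              rw [sub_mul, mul_sub, heQ y hy, one_mul, mul_one]
            rw [← mul_assoc, ← mul_assoc, hc, mul_assoc (e l)]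
        _ = 0 := by rw [h.fixOp a ha ha1 y hy hay, mul_zero, zero_mul]
    rw [sub_mul, one_mul, sub_eq_zero] at h2
    exact h2
  -- (2) a nontrivial weight is fixed by some operator
  have hgen : ∀ P : Γ → Prop, P 1 → (∀ u v, u ∈ Q → v ∈ Q → P u → P v → P (u * v)) →
      (∀ a ∈ A, a ≠ 1 → ∀ y ∈ Q, a * y = y * a → P y) → ∀ y ∈ Q, P y := by
    intro P hP1 hPm hPg y hy
    rw [← Coprime.iSup_centralizer_singleton (h.not_isCyclic hp) hQA (h.cop_of h.copQ),
      iSup_subtype'] at hy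
    refine (Subgroup.iSup_induction
      (fun a : {a : Γ | a ∈ A ∧ a ≠ 1} => Q ⊓ centralizer ({(a : Γ)} : Set Γ))
      (C := fun y => y ∈ Q ∧ P y) hy ?_ ⟨one_mem Q, hP1⟩ ?_).2
    · rintro ⟨a, ha, ha1⟩ y ⟨hyQ, hyc⟩
      exact ⟨hyQ, hPg a ha ha1 y hyQ (mem_centralizer_iff.1 hyc a rfl)⟩
    · rintro u v ⟨hu, hPu⟩ ⟨hv, hPv⟩
      exact ⟨mul_mem hu hv, hPm u v hu hv hPu hPv⟩
  have h2 : ∀ l : Z →* Kˣ, e l ≠ 0 → l ≠ 1 → ∃ a ∈ A, a ≠ 1 ∧ a • l = l := by
    intro l hl hl1
    by_contra hno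
    push Not at hno
    refine hl1 (MonoidHom.ext fun z => ?_)
    have hall : ∀ y ∈ Q, ρ y * e l = e l := hgen _ (by rw [map_one, one_mul])
      (fun u v _ _ hu hv => by rw [map_mul, mul_assoc, hv, hu])
      fun a ha ha1 y hy hay => h1 a ha l (hno a ha ha1) y hy hay
    have hz := hall z (hZQ z.2)
    rw [map_mem_mul_weightIdem] at hz
    have hz2 : ((l z : K) - 1) • e l = 0 := by
      rw [sub_smul, one_smul, sub_eq_zero]; exact hz
    rcases smul_eq_zero.mp hz2 with hz3 | hz3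
    · exact Units.ext (sub_eq_zero.mp hz3)
    · exact absurd hz3 hl
  -- a weight fixed by all of `A` is trivial
  have hAfix : ∀ l : Z →* Kˣ, (∀ a ∈ A, a • l = l) → l = 1 := by
    intro l hl
    refine MonoidHom.ext fun z => ?_
    haveI : Fintype A := Fintype.ofFinite A
    haveI := hZcomm
    letI : CommGroup Z := { (inferInstance : Group Z) with mul_comm := mul_comm' }
    let P : Z := ∏ a : A, MulAut.conjNormal (a : Γ) z
    have hPfix : ∀ b : A, MulAut.conjNormal (b : Γ) P = P := fun b => by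
      show MulAut.conjNormal (b : Γ) (∏ a : A, MulAut.conjNormal (a : Γ) z) = _
      rw [map_prod]
      refine Fintype.prod_equiv (Equiv.mulLeft b) _ _ fun a => ?_
      rw [← MulAut.mul_apply, ← map_mul]; rfl
    have hP1 : P = 1 := Subtype.ext (h.fix P (hZQ P.2) fun a ha => by
      have := congrArg Subtype.val (hPfix ⟨a, ha⟩)
      rw [MulAut.conjNormal_apply] at this
      conv_rhs => rw [← this]
      group)
    have hlP := congrArg l hP1
    rw [map_prod, map_one] at hlP
    have hl' : ∀ a : A, l (MulAut.conjNormal (a : Γ) z) = l z := fun a => by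
      conv_rhs => rw [← hl _ (inv_mem a.2)]
      rw [dual_smul_apply, inv_inv]
    rw [Finset.prod_congr rfl fun a _ => hl' a, Finset.prod_const, Finset.card_univ,
      ← Nat.card_eq_fintype_card, h.card] at hlP
    have hz1 : l z ^ Nat.card Z = 1 := by rw [← map_pow, pow_card_eq_one', map_one]
    have hcop : (p ^ 2).Coprime (Nat.card Z) :=
      ((h.copQ.coprime_dvd_left (card_dvd_of_le hZQ)).pow_right 2).symm
    have h3 := pow_gcd_eq_one.mpr ⟨hlP, hz1⟩
    rwa [hcop.gcd_eq_one, pow_one] at h3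
  have h2' : ∀ l : Z →* Kˣ, l ≠ 1 → ∀ a ∈ A, a ≠ 1 → a • l = l → ∀ b ∈ A, b • l = l →
      b ∈ zpowers a := by
    intro l hl a ha ha1 hal b hb hbl
    by_contra hb'
    refine hl (hAfix l fun c hc => ?_)
    rw [← h.sup_zpowers hp ha hb ha1 hb'] at hc
    exact (sup_le (zpowers_le.2 hal) (zpowers_le.2 hbl) :
      zpowers a ⊔ zpowers b ≤ MulAction.stabilizer Γ l) hc
  -- (4) `S` keeps the line of a weight
  have h4 : ∀ a ∈ A, a ≠ 1 → ∀ l : Z →* Kˣ, l ≠ 1 → e l ≠ 0 → a • l = l → ∀ x ∈ S,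
      a • x • l = x • l := by
    intro a ha ha1 l hl1 hle hal x hx
    have hxl : x • l ≠ 1 := fun h0 => hl1 (smul_left_cancel x (h0.trans (dual_smul_one x).symm))
    obtain ⟨c, hc, hc1, hcx⟩ := h2 (x • l) (fun h0 => hle ((weightIdem_smul_eq_zero_iff ρ x l).mp h0))
      hxl
    by_cases hac : a ∈ zpowers c
    · exact (zpowers_le.2 hcx : zpowers c ≤ MulAction.stabilizer Γ (x • l)) hac
    exfalso
    have hAgen := h.sup_zpowers hp hc ha hc1 hac
    let O : Set (Z →* Kˣ) := {m | ∃ t ∈ S, t • l = m}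
    have hstep : ∀ b ∈ A, ∀ m₀ ∈ O, b • m₀ = m₀ → ∀ m ∈ O, b • m ∈ O := by
      rintro b hb m₀ ⟨t₀, ht₀, rfl⟩ hbm m ⟨t, ht, rfl⟩
      refine ⟨(b * (t * t₀⁻¹) * b⁻¹) * t₀, mul_mem
        (le_normalizer_iff.1 h.normS b hb _ (mul_mem ht (inv_mem ht₀))) ht₀, ?_⟩
      calc (b * (t * t₀⁻¹) * b⁻¹ * t₀) • l = (b * (t * t₀⁻¹) * b⁻¹) • (b • t₀ • l) := by
            rw [hbm, mul_smul]
        _ = b • t • l := by rw [← mul_smul, ← mul_smul, ← mul_smul]; congr 1; group
    have hstab : ∀ b ∈ A, ∀ m₀ ∈ O, b • m₀ = m₀ → b ∈ MulAction.stabilizer Γ O := by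
      intro b hb m₀ hm₀ hbm
      rw [MulAction.mem_stabilizer_iff]
      have hfin : O.Finite :=
        (Set.toFinite ((fun t => t • l) '' (S : Set Γ))).subset fun m ⟨t, ht, e⟩ => ⟨t, ht, e⟩
      refine Set.eq_of_subset_of_ncard_le ?_ ?_ hfin
      · rintro _ ⟨m, hm, rfl⟩
        exact hstep b hb m₀ hm₀ hbm m hm
      · exact (Set.ncard_smul_set b O).ge
    have hOA : ∀ b ∈ A, ∀ m ∈ O, b • m ∈ O := by
      intro b hb m hm
      rw [← hAgen] at hb
      have hb' : b ∈ MulAction.stabilizer Γ O :=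
        sup_le (zpowers_le.2 (hstab c hc _ ⟨x, hx, rfl⟩ hcx))
          (zpowers_le.2 (hstab a ha _ ⟨1, one_mem S, one_smul _ _⟩ hal)) hb
      rw [MulAction.mem_stabilizer_iff] at hb'
      rw [← hb']
      exact Set.smul_mem_smul_set hm
    obtain ⟨m, ⟨t, ht, rfl⟩, hm⟩ := Coprime.exists_fixed_mem h.normS (h.cop_of h.copS)
      (Or.inl h.solvA) (s := O) (x := l) ⟨1, one_mem S, one_smul _ _⟩ hOA
      (fun s hs m hm => by
        obtain ⟨t, ht, rfl⟩ := hm
        exact ⟨s * t, mul_mem hs ht, mul_smul s t l⟩)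
      (fun m hm => hm)
    exact hl1 (smul_left_cancel t ((hAfix _ hm).trans (dual_smul_one t).symm))
  haveI := (card_dual (K := K) hZcomm hZK).1
  haveI : Fintype (Z →* Kˣ) := Fintype.ofFinite _
  -- (5) on the sum of the weights of one line
  have h5 : ∀ a ∈ A, a ≠ 1 → ∀ l : Z →* Kˣ, l ≠ 1 → e l ≠ 0 → a • l = l →
      ∀ x ∈ S, ∀ y ∈ Q, ρ (x * y * x⁻¹) * e l = ρ y * e l := by
    intro a ha ha1 l₀ hl₀ hle₀ hal₀
    let P : (Z →* Kˣ) → Prop := fun l => l ≠ 1 ∧ e l ≠ 0 ∧ a • l = l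
    let f : R := ∑ l ∈ Finset.univ.filter P, e l
    have hfinv : ∀ g : Γ, (∀ l, P l → P (g • l)) → ρ g * f = f * ρ g := fun g hg => by
      rw [Finset.mul_sum, Finset.sum_mul]
      refine Finset.sum_nbij' (fun l => g • l) (fun l => g⁻¹ • l) ?_ ?_ ?_ ?_
        (fun l _ => he_smul g l)
      · intro l hl
        simp only [Finset.mem_filter, Finset.mem_univ, true_and] at hl ⊢
        exact hg l hl
      · intro l hl
        simp only [Finset.mem_filter, Finset.mem_univ, true_and] at hl ⊢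
        have hpow : ∀ k : ℕ, ∀ l, P l → P (g ^ k • l) := by
          intro k
          induction k with
          | zero => intro l hl; rwa [pow_zero, one_smul]
          | succ k ihk => intro l hl; rw [pow_succ', mul_smul]; exact hg _ (ihk l hl)
        rw [show g⁻¹ = g ^ (orderOf g - 1) from inv_eq_of_mul_eq_one_left (by
          rw [← pow_succ, Nat.sub_add_cancel (orderOf_pos g), pow_orderOf_eq_one])]
        exact hpow _ l hl
      · intro l _; exact inv_smul_smul g l
      · intro l _; exact smul_inv_smul g l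
    have hfQ : ∀ y ∈ Q, ρ y * f = f * ρ y := fun y hy => hfinv y fun l hl => by
      rw [hfixQ y hy]; exact hl
    have hfS : ∀ x ∈ S, ρ x * f = f * ρ x := fun x hx => hfinv x fun l hl =>
      ⟨fun h0 => hl.1 (smul_left_cancel x (h0.trans (dual_smul_one x).symm)),
        fun h0 => hl.2.1 ((weightIdem_smul_eq_zero_iff ρ x l).mp h0),
        h4 a ha ha1 l hl.1 hl.2.1 hl.2.2 x hx⟩
    have hfA : ρ a * f = f * ρ a := hfinv a fun l hl => by rw [hl.2.2]; exact hl
    have hmove : ∀ c ∈ A, c ∉ zpowers a → ∀ y ∈ Q, c * y = y * c → ρ y * f = f := by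
      intro c hc hca y hy hcy
      rw [Finset.mul_sum]
      refine Finset.sum_congr rfl fun l hl => ?_
      simp only [Finset.mem_filter, Finset.mem_univ, true_and] at hl
      exact h1 c hc l (fun hcl => hca (h2' l hl.1 a ha ha1 hl.2.2 c hc hcl)) y hy hcy
    let K₀ : Subgroup Γ :=
      { carrier := {g | ∀ y ∈ Q, ρ (g * y * g⁻¹) * f = ρ y * f}
        one_mem' := fun y _ => by rw [one_mul, inv_one, mul_one]
        mul_mem' := fun {g k} hg hk y hy => by
          rw [show g * k * y * (g * k)⁻¹ = g * (k * y * k⁻¹) * g⁻¹ by group,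
            hg _ (hQn.conj_mem y hy k), hk y hy]
        inv_mem' := fun {g} hg y hy => by
          have hy' := hg _ (hQn.conj_mem' y hy g)
          rw [show g * (g⁻¹ * y * g) * g⁻¹ = y by group] at hy'
          rw [inv_inv]; exact hy'.symm }
    have haK : a ∈ K₀ := by
      intro y hy
      refine hgen (fun y => ρ (a * y * a⁻¹) * f = ρ y * f) (by rw [mul_one, mul_inv_cancel]) ?_ ?_ y hy
      · intro u v hu hv hPu hPv
        rw [show a * (u * v) * a⁻¹ = (a * u * a⁻¹) * (a * v * a⁻¹) by group, map_mul, mul_assoc,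
          hPv, hfQ v hv, ← mul_assoc, hPu, mul_assoc, ← hfQ v hv, ← mul_assoc, ← map_mul]
      · intro c hc hc1 y hy hcy
        by_cases hca : c ∈ zpowers a
        · have hac : a ∈ zpowers c := by
            obtain ⟨i, rfl⟩ := mem_zpowers_iff.mp hca
            have : zpowers (a ^ i) = zpowers a := eq_of_le_of_card_ge (zpowers_le.2 hca) (by
              rw [Nat.card_zpowers, Nat.card_zpowers]
              have h3 := (Nat.dvd_prime hp).mp (orderOf_dvd_of_pow_eq_one (h.pow a ha))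
              have h4 := (Nat.dvd_prime hp).mp (orderOf_dvd_of_pow_eq_one (h.pow _ hc))
              rw [orderOf_eq_one_iff] at h3 h4
              rw [h3.resolve_left ha1, h4.resolve_left hc1])
            rw [this]; exact mem_zpowers a
          obtain ⟨i, hi⟩ := mem_zpowers_iff.mp hac
          have : a * y = y * a := hi ▸ Commute.zpow_left hcy i
          rw [this, mul_inv_cancel_right]
        · have hay : c * (a * y * a⁻¹) = a * y * a⁻¹ * c := by
            have hca' := hAcomm c hc a ha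
            have hca2 := hAcomm c hc a⁻¹ (inv_mem ha)
            calc c * (a * y * a⁻¹) = (c * a) * y * a⁻¹ := by group
              _ = a * (c * y) * a⁻¹ := by rw [hca']; group
              _ = a * y * (c * a⁻¹) := by rw [hcy]; group
              _ = a * y * a⁻¹ * c := by rw [hca2]; group
          rw [hmove c hc hca _ (hQn.conj_mem y hy a) hay, hmove c hc hca y hy hcy]
    have hSC : S ⊓ centralizer (zpowers a : Set Γ) ≤ K₀ := by
      intro x hx y hy
      have hax : a * x = x * a := mem_centralizer_iff.1 hx.2 a (mem_zpowers a)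
      refine hgen (fun y => ρ (x * y * x⁻¹) * f = ρ y * f) (by rw [mul_one, mul_inv_cancel]) ?_ ?_ y hy
      · intro u v hu hv hPu hPv
        rw [show x * (u * v) * x⁻¹ = (x * u * x⁻¹) * (x * v * x⁻¹) by group, map_mul, mul_assoc,
          hPv, hfQ v hv, ← mul_assoc, hPu, mul_assoc, ← hfQ v hv, ← mul_assoc, ← map_mul]
      · intro c hc hc1 y hy hcy
        by_cases hca : c ∈ zpowers a
        · have hcx : c * x = x * c := by
            obtain ⟨i, rfl⟩ := mem_zpowers_iff.mp hca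
            exact Commute.zpow_left hax i
          rw [map_mul, ← h.centr c hc hc1 y hy hcy x hx.1 hcx, ← map_mul, mul_inv_cancel_right]
        · have := hmove c hc hca y hy hcy
          rw [map_mul, map_mul, mul_assoc, hfS _ (inv_mem hx.1), ← mul_assoc, mul_assoc (ρ x),
            this, hfS x hx.1, mul_assoc, ← map_mul, mul_inv_cancel, map_one, mul_one]
    have hScom : ⁅S, zpowers a⁆ ≤ K₀ := by
      rw [commutator_le]
      intro t ht b hb y hy
      have hbK : b ∈ K₀ := zpowers_le.2 haK hb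
      have hconj : ∀ k ∈ K₀, t * k * t⁻¹ ∈ K₀ := by
        intro k hk y hy
        have h7 := hk _ (hQn.conj_mem' y hy t)
        have h8 : ρ t * (ρ (k * (t⁻¹ * y * t) * k⁻¹) * f) * ρ t⁻¹ =
            ρ t * (ρ (t⁻¹ * y * t) * f) * ρ t⁻¹ := by rw [h7]
        have h9 : ∀ w, ρ t * (ρ w * f) * ρ t⁻¹ = ρ (t * w * t⁻¹) * f := fun w => by
          rw [mul_assoc, mul_assoc (ρ w), ← hfS _ (inv_mem ht), ← mul_assoc (ρ w), ← mul_assoc,
            ← map_mul, ← map_mul, mul_assoc t]
        rw [h9, h9] at h8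
        rw [show t * k * t⁻¹ * y * (t * k * t⁻¹)⁻¹ = t * (k * (t⁻¹ * y * t) * k⁻¹) * t⁻¹ by group,
          h8, show t * (t⁻¹ * y * t) * t⁻¹ = y by group]
      exact K₀.mul_mem (hconj b hbK) (K₀.inv_mem hbK) y hy
    have hSK : S ≤ K₀ := by
      rw [← Coprime.commutator_sup_centralizer ((zpowers_le.2 ha).trans h.normS)
        (Coprime.coprime_of_le (h.cop_of h.copS) (zpowers_le.2 ha) le_rfl)
        (Or.inl (Coprime.isSolvable_zpowers a))]
      exact sup_le hScom hSC
    intro x hx y hy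
    have hfe : f * e l₀ = e l₀ := by
      rw [Finset.sum_mul, Finset.sum_eq_single l₀]
      · exact weightIdem_mul_self ρ hZK l₀
      · intro l _ hne; exact weightIdem_orth ρ hne
      · intro h0
        exact absurd (Finset.mem_filter.mpr ⟨Finset.mem_univ _, hl₀, hle₀, hal₀⟩) h0
    rw [← hfe, ← mul_assoc, hSK hx y hy, mul_assoc]
  -- (6) the trivial weight
  have h6 : ∀ y ∈ Q, ∀ x ∈ S, ρ (y * x) * e 1 = ρ (x * y) * e 1 := by
    have hcom : ∀ g, ρ g * e 1 = e 1 * ρ g := fun g => by rw [he_smul, dual_smul_one]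
    have hee : e 1 * e 1 = e 1 := weightIdem_mul_self ρ hZK 1
    have hmulρ : ∀ g k, ρ g * e 1 * (ρ k * e 1) = ρ (g * k) * e 1 := fun g k => by
      rw [hcom g, mul_assoc, ← mul_assoc (ρ g), ← map_mul, ← mul_assoc, ← hcom, mul_assoc, hee]
    let ρ₁ : Γ →* R :=
      { toFun := fun g => ρ g * e 1 + (1 - e 1)
        map_one' := by rw [map_one, one_mul, add_sub_cancel]
        map_mul' := fun g k => by
          rw [add_mul, mul_add, mul_add, hmulρ]
          have h3 : ρ g * e 1 * (1 - e 1) = 0 := by rw [mul_assoc, mul_sub, mul_one, hee, sub_self, mul_zero]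
          have h4 : (1 - e 1) * (ρ k * e 1) = 0 := by
            rw [hcom k, ← mul_assoc, sub_mul, one_mul, hee, sub_self, zero_mul]
          have h5 : (1 - e 1) * (1 - e 1) = 1 - e 1 := by
            rw [sub_mul, one_mul, mul_sub, mul_one, hee, sub_self, sub_zero]
          rw [h3, h4, h5, add_zero, zero_add] }
    have hρ₁e : ∀ g, ρ₁ g * e 1 = ρ g * e 1 := fun g => by
      show (ρ g * e 1 + (1 - e 1)) * e 1 = _
      rw [add_mul, sub_mul, one_mul, hee, sub_self, add_zero, mul_assoc, hee]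
    have h' : WardData (K := K) p A Q S ρ₁ :=
      { h with
        fixOp := fun a ha ha1 y hy hay => by
          have h3 : ρ₁ y - 1 = e 1 * (ρ y - 1) := by
            show ρ y * e 1 + (1 - e 1) - 1 = _
            rw [mul_sub, mul_one, hcom]; abel
          have h4 : ∀ g, e 1 * ρ₁ g = e 1 * ρ g := fun g => by
            show e 1 * (ρ g * e 1 + (1 - e 1)) = _
            rw [mul_add, mul_sub, mul_one, hee, sub_self, add_zero, ← mul_assoc, ← hcom, mul_assoc,
              hee]
            first | done | exact hcom g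
          have h5 : e 1 * (ρ y - 1) = (ρ y - 1) * e 1 := by
            rw [mul_sub, sub_mul, hcom, one_mul, mul_one]
          rw [h3, h5, mul_assoc, Finset.mul_sum]
          simp only [h4]
          rw [← Finset.mul_sum, ← mul_assoc, ← h5, mul_assoc, h.fixOp a ha ha1 y hy hay, mul_zero]
        centr := fun a ha ha1 y hy hay x hx hax => by
          show ρ (y * x) * e 1 + _ = ρ (x * y) * e 1 + _
          rw [h.centr a ha ha1 y hy hay x hx hax] }
    obtain ⟨z, hz, hz1⟩ := Z.bot_or_exists_ne_one.resolve_left hZne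
    have hzker : z ∈ Q ⊓ ρ₁.ker := ⟨hZQ hz, MonoidHom.mem_ker.mpr (by
      show ρ z * e 1 + (1 - e 1) = 1
      rw [show ρ z * e 1 = ((1 : Z →* Kˣ) ⟨z, hz⟩ : K) • e 1 from
        map_mem_mul_weightIdem ρ 1 ⟨z, hz⟩, MonoidHom.one_apply, Units.val_one, one_smul,
        add_sub_cancel])⟩
    obtain ⟨ρ', hρ', h''⟩ := h'.descend hp
    haveI : (Q.map (QuotientGroup.mk' (Q ⊓ ρ₁.ker))).Normal :=
      hQn.map _ (QuotientGroup.mk'_surjective _)
    have hlt : Nat.card (Q.map (QuotientGroup.mk' (Q ⊓ ρ₁.ker))) < n := by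
      rw [← hn]
      refine card_map_mk_lt fun h0 => hz1 ?_
      rw [inf_assoc, inf_comm ρ₁.ker Q, ← inf_assoc, inf_idem] at h0
      rwa [h0, mem_bot] at hzker
    intro y hy x hx
    have := ih _ hlt hp _ _ _ ρ' h'' rfl _ (Subgroup.mem_map_of_mem _ hy) _
      (Subgroup.mem_map_of_mem _ hx)
    rw [← map_mul, ← map_mul, hρ', hρ'] at this
    rw [← hρ₁e, this, hρ₁e]
  intro y hy x hx
  refine eq_of_forall_mul_weightIdem ρ hZcomm hZK fun l hl => ?_
  by_cases hl1 : l = 1
  · subst hl1; exact h6 y hy x hx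
  obtain ⟨a, ha, ha1, hal⟩ := h2 l hl hl1
  have hxy : ∀ l', l' = x • l → ρ (x * y * x⁻¹) * e l' = ρ y * e l' := fun l' hl' => by
    subst hl'
    exact h5 a ha ha1 _ (fun h0 => hl1 (smul_left_cancel x (h0.trans (dual_smul_one x).symm)))
      (fun h0 => hl ((weightIdem_smul_eq_zero_iff ρ x l).mp h0))
      (h4 a ha ha1 l hl1 hl hal x hx) x hx y hy
  show ρ (y * x) * e l = ρ (x * y) * e l
  rw [map_mul, mul_assoc, he_smul, ← mul_assoc, ← hxy _ rfl, mul_assoc, ← he_smul, ← mul_assoc,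
    ← map_mul, inv_mul_cancel_right]

/-- Ward's lemma. -/
theorem ward_linear (hp : p.Prime) [Q.Normal] (h : WardData (K := K) p A Q S ρ) {y x : Γ}
    (hy : y ∈ Q) (hx : x ∈ S) : ρ (y * x) = ρ (x * y) :=
  ward_linear_aux _ hp A Q S ρ h rfl y hy x hx

end CfsgLib.Solvable.FPFOperators
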