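import Cfsg.Agent.Lib.Solvable.FPFOperators.Layer
import Cfsg.Agent.Lib.Solvable.FPFOperators.Ward

/-!
# Ward's theorem: Fitting height at most two
-/

set_option autoImplicit false

namespace CfsgLib.Solvable.FPFOperators

open Subgroup CfsgLib
open scoped commutatorElement

variable {Γ : Type*} [Group Γ]

/-- Centralisers of nontrivial operators are nilpotent. -/
theorem isNilpotent_centralizer [Finite Γ] {G A : Subgroup Γ} [hGn : G.Normal] {p : ℕ}
    (hp : p.Prime) (h : OpSetup G A) (hA : IsMulCommutative A) (hexp : ∀ a ∈ A, a ^ p = 1)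
    (hcard : Nat.card A = p ^ 2) {a : Γ} (ha : a ∈ A) (ha1 : a ≠ 1) :
    Group.IsNilpotent ↥(G ⊓ centralizer ({a} : Set Γ)) := by
  haveI := hA
  have hcomm : ∀ x ∈ A, ∀ y ∈ A, x * y = y * x := fun x hx y hy =>
    congrArg Subtype.val (mul_comm' (⟨x, hx⟩ : A) ⟨y, hy⟩)
  set C := G ⊓ centralizer ({a} : Set Γ) with hC
  obtain ⟨b, hb, hbz⟩ : ∃ b ∈ A, b ∉ zpowers a := by
    by_contra hno
    push Not at hno
    have h1 : Nat.card A ≤ Nat.card (zpowers a) := Subgroup.card_le_of_le hno
    rw [hcard, Nat.card_zpowers] at h1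
    have h2 := Nat.le_of_dvd hp.pos (orderOf_dvd_of_pow_eq_one (hexp a ha))
    nlinarith [hp.two_le]
  have hgen : zpowers a ⊔ zpowers b = A := by
    have hle : zpowers a ⊔ zpowers b ≤ A := sup_le (zpowers_le.2 ha) (zpowers_le.2 hb)
    refine eq_of_le_of_card_ge hle ?_
    obtain ⟨k, hk, hck⟩ := (Nat.dvd_prime_pow hp).mp (hcard ▸ card_dvd_of_le hle)
    have hca : Nat.card (zpowers a) = p := by
      rw [Nat.card_zpowers]
      exact (Nat.dvd_prime hp).mp (orderOf_dvd_of_pow_eq_one (hexp a ha)) |>.resolve_left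
        fun h1 => ha1 (orderOf_eq_one_iff.mp h1)
    have hlt : p < Nat.card ↥(zpowers a ⊔ zpowers b) := by
      rw [← hca]
      refine lt_of_le_of_ne (Nat.le_of_dvd Nat.card_pos (card_dvd_of_le le_sup_left)) fun he => hbz ?_
      rw [eq_of_le_of_card_ge le_sup_left he.ge]
      exact mem_sup_right (mem_zpowers b)
    rw [hck, hcard]
    refine Nat.pow_le_pow_right hp.pos ?_
    by_contra h2
    have : p ^ k ≤ p ^ 1 := Nat.pow_le_pow_right hp.pos (by omega)
    rw [pow_one, ← hck] at this
    omega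
  have hbC : zpowers b ≤ normalizer (C : Set Γ) := by
    refine zpowers_le.2 ?_
    have h1 : b ∈ normalizer (G : Set Γ) := by rw [normalizer_eq_top]; trivial
    have h2 : b ∈ centralizer ({a} : Set Γ) := mem_centralizer_iff.2 (by
      rintro _ rfl; exact hcomm _ ha b hb)
    exact inf_normalizer_le_normalizer_inf ⟨h1, le_normalizer h2⟩
  let α : MulAut C := Coprime.conjHom hbC ⟨b, mem_zpowers b⟩
  have hαp : α ^ p = 1 := by
    show (Coprime.conjHom hbC ⟨b, mem_zpowers b⟩) ^ p = 1
    rw [← map_pow, show (⟨b, mem_zpowers b⟩ : zpowers b) ^ p = 1 from Subtype.ext (hexp b hb),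
      map_one]
  refine Solvable.FPFNilpotent.isNilpotent_of_mulAut hp α hαp fun c hc => Subtype.ext ?_
  refine h.fix c c.2.1 fun d hd => ?_
  have hca : a * c = c * a := mem_centralizer_iff.1 c.2.2 a rfl
  have hcb : b * c = c * b := by
    have := congrArg Subtype.val hc
    rw [show ((α c : C) : Γ) = b * c * b⁻¹ from Coprime.conjHom_apply _ _ _] at this
    exact mul_inv_eq_iff_eq_mul.mp this
  rw [← hgen] at hd
  have hle : zpowers a ⊔ zpowers b ≤ centralizer ({(c : Γ)} : Set Γ) :=
    sup_le (zpowers_le.2 (mem_centralizer_iff.2 (by rintro _ rfl; exact hca.symm)))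
      (zpowers_le.2 (mem_centralizer_iff.2 (by rintro _ rfl; exact hcb.symm)))
  exact (mem_centralizer_iff.1 (hle hd) _ rfl).symm

/-- Ward's theorem. -/
theorem isNilpotent_top1 [Finite Γ] {G A : Subgroup Γ} [hGn : G.Normal] {p : ℕ} (hp : p.Prime)
    (h : OpSetup G A) (hA : IsMulCommutative A) (hexp : ∀ a ∈ A, a ^ p = 1)
    (hcard : Nat.card A = p ^ 2) : Group.IsNilpotent (top1 G) := by
  haveI := h.solvG
  set mk := QuotientGroup.mk' (fit G) with hmk
  haveI : Group.IsSolvable (top1 G) :=
    Group.isSolvable_of_surjective (f := mk.subgroupMap G) (mk.subgroupMap_surjective G)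
  refine isNilpotent_of_centralizes_pCore fun s q hs hq hsq => ?_
  haveI := Fact.mk hs
  haveI := Fact.mk hq
  haveI := Fact.mk hp
  obtain ⟨Q, hQG, hQq, hQA, hQmap, hQFn, hcov⟩ := exists_invariant_layer h q
  obtain ⟨S, P, hSG, hSQ, hSs, hSA, hSmap⟩ := exists_invariant_sylow_top h hQA hcov s
  refine ⟨P, ?_⟩
  have hpA : Nat.card A = p ^ 2 := hcard
  have hcopG : (Nat.card G).Coprime p := by
    have := h.cop
    rw [hcard, Nat.coprime_pow_left_iff (by norm_num)] at this
    exact this.symm
  -- commutators die on every chief factor below `F(G)`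
  have hker : ∀ y ∈ Q, ∀ x ∈ S, ⁅y, x⁆ ∈ chiefKernel G := by
    intro y hy x hx
    refine ⟨?_, fun N M hch hMF => ?_⟩
    · rw [commutatorElement_def]
      exact mul_mem (mul_mem (mul_mem (hQG hy) (hSG hx)) (inv_mem (hQG hy))) (inv_mem (hSG hx))
    haveI := hch.normalN
    haveI := hch.normalM
    have hMG : M ≤ G := hMF.trans (fit_le G)
    obtain ⟨r, hr, hexpM, hcommM⟩ := hch.elementary hMG
    haveI := Fact.mk hr
    have hxy : x * y * x⁻¹ ∈ Q := le_normalizer_iff.1 hSQ x hx y hy
    by_cases hqr : q = r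
    · subst hqr
      have htriv := hch.trivial_of_pgroup hexpM hQq hQFn
        fun g hg => ((fit_le_chiefKernel G) hg).2 N M hch hMF
      intro m hm
      have h1 : ⁅y, x⁆ ∈ Q := by
        rw [show ⁅y, x⁆ = y * (x * y⁻¹ * x⁻¹) by rw [commutatorElement_def]; group]
        exact mul_mem hy (le_normalizer_iff.1 hSQ x hx _ (inv_mem hy))
      exact htriv _ h1 m hm
    obtain ⟨d, ρ, hρ1, hρfix, -⟩ :=
      exists_section_rep (N := N) (M := M) r (AlgebraicClosure (ZMod r)) hexpM hcommM
    -- restrict to the normaliser of `Q`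
    set X := normalizer (Q : Set Γ) with hX
    have hQX : Q ≤ X := le_normalizer
    haveI : (Q.subgroupOf X).Normal :=
      (normal_subgroupOf_iff_le_normalizer hQX).2 le_rfl
    have hcopQ : ∀ {T : Subgroup Γ}, T ≤ G → (Nat.card T).Coprime p := fun hT =>
      hcopG.coprime_dvd_left (card_dvd_of_le hT)
    have hnil : ∀ a ∈ A, a ≠ 1 → Group.IsNilpotent ↥(G ⊓ centralizer ({a} : Set Γ)) :=
      fun a ha ha1 => isNilpotent_centralizer hp h hA hexp hcard ha ha1
    have hdata : WardData (K := AlgebraicClosure (ZMod r)) p (A.subgroupOf X) (Q.subgroupOf X)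
        (S.subgroupOf X) (ρ.comp X.subtype) := by
      haveI := hA
      refine
        { comm := ?_, pow := ?_, card := ?_, copQ := ?_, copS := ?_, normS := ?_, nilp := ?_,
          cast := ?_, fix := ?_, fixOp := ?_, centr := ?_ }
      · refine isMulCommutative_iff.2 fun u v => Subtype.ext (Subtype.ext ?_)
        show ((u : X) : Γ) * ((v : X) : Γ) = ((v : X) : Γ) * ((u : X) : Γ)
        exact congrArg Subtype.val (mul_comm' (⟨((u : X) : Γ), u.2⟩ : A) ⟨((v : X) : Γ), v.2⟩)
      · intro a ha; exact Subtype.ext (hexp _ ha)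
      · rw [Nat.card_congr (subgroupOfEquivOfLe hQA).toEquiv, hcard]
      · rw [Nat.card_congr (subgroupOfEquivOfLe hQX).toEquiv]; exact hcopQ hQG
      · rw [Nat.card_congr (subgroupOfEquivOfLe hSQ).toEquiv]; exact hcopQ hSG
      · exact le_normalizer_iff.2 fun a ha z hz => le_normalizer_iff.1 hSA a ha z hz
      · exact (hQq.of_equiv (subgroupOfEquivOfLe hQX).symm).isNilpotent
      · rw [Nat.card_congr (subgroupOfEquivOfLe hQX).toEquiv]
        obtain ⟨k, hk⟩ := IsPGroup.iff_card.mp hQq
        rw [hk, Nat.cast_pow]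
        refine pow_ne_zero k fun h0 => hqr ?_
        have := (CharP.cast_eq_zero_iff (AlgebraicClosure (ZMod r)) r q).mp h0
        exact ((Nat.prime_dvd_prime_iff_eq hr hq).mp this).symm
      · intro z hz hf
        exact Subtype.ext (h.fix _ (hQG hz) fun a ha => congrArg Subtype.val (hf ⟨a, hQA ha⟩ ha))
      · intro a ha ha1 z hz haz
        refine hρfix (a : Γ) p (hexp _ ha) (z : Γ) fun m hm ham => ?_
        have haz' : (a : Γ) * z = z * a := congrArg Subtype.val haz
        obtain ⟨n, hn, hc⟩ := Coprime.exists_mul_mem_centralizer (A := zpowers (a : Γ)) (N := N)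
          (by rw [normalizer_eq_top]; exact le_top)
          (Coprime.coprime_of_le h.cop (zpowers_le.2 ha) (hch.lt.le.trans hMG))
          (Or.inl (Coprime.isSolvable_zpowers _)) (k := m) fun b hb => by
            rw [← QuotientGroup.eq_one_iff] at ham ⊢
            have ham' : Commute (QuotientGroup.mk' N (a : Γ)) (QuotientGroup.mk' N m) :=
              commutatorElement_eq_one_iff_mul_comm.mp ((map_commutatorElement _ _ _).symm.trans ham)
            obtain ⟨i, rfl⟩ := mem_zpowers_iff.mp hb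
            show QuotientGroup.mk' N ⁅(a : Γ) ^ i, m⁆ = 1
            rw [map_commutatorElement, map_zpow, commutatorElement_eq_one_iff_mul_comm]
            exact ham'.zpow_left i
        have hnm : n * m ∈ G ⊓ centralizer ({(a : Γ)} : Set Γ) :=
          ⟨G.mul_mem (hMG (hch.lt.le hn)) (hMG hm), mem_centralizer_iff.2 (by
            rintro _ rfl; exact mem_centralizer_iff.1 hc _ (mem_zpowers _))⟩
        have hzC : (z : Γ) ∈ G ⊓ centralizer ({(a : Γ)} : Set Γ) :=
          ⟨hQG hz, mem_centralizer_iff.2 (by rintro _ rfl; exact haz')⟩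
        obtain ⟨k, hk⟩ := hQq ⟨_, hz⟩
        have h1 := commutator_mem_of_isNilpotent (N := N)
          (hnil _ ha fun h0 => ha1 (Subtype.ext h0)) hq hr hqr hzC hnm
          ⟨k, congrArg Subtype.val hk⟩ (by
            rw [← QuotientGroup.eq_one_iff]
            show QuotientGroup.mk' N ((n * m) ^ r) = 1
            rw [map_pow, map_mul, show QuotientGroup.mk' N n = 1 from (QuotientGroup.eq_one_iff _).mpr hn,
              one_mul, ← map_pow]
            exact (QuotientGroup.eq_one_iff _).mpr (hexpM m hm))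
        rw [← QuotientGroup.eq_one_iff] at h1 ⊢
        refine Eq.trans ?_ h1
        show QuotientGroup.mk' N ⁅(z : Γ), m⁆ = QuotientGroup.mk' N ⁅(z : Γ), n * m⁆
        rw [map_commutatorElement, map_commutatorElement, map_mul,
          show QuotientGroup.mk' N n = 1 from (QuotientGroup.eq_one_iff _).mpr hn, one_mul]
      · intro a ha ha1 z hz haz w hw haw
        show ρ ((z : Γ) * w) = ρ ((w : Γ) * z)
        have haz' : (a : Γ) * z = z * a := congrArg Subtype.val haz
        have haw' : (a : Γ) * w = w * a := congrArg Subtype.val haw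
        haveI : Group.IsNilpotent ↥(G ⊓ centralizer ({(a : Γ)} : Set Γ)) :=
          hnil _ ha fun h0 => ha1 (Subtype.ext h0)
        congr 1
        refine OddOrder.Basic.commute_of_mem_nilpotent (K := G ⊓ centralizer ({(a : Γ)} : Set Γ))
          ⟨hQG hz, mem_centralizer_iff.2 (by rintro _ rfl; exact haz')⟩
          ⟨hSG hw, mem_centralizer_iff.2 (by rintro _ rfl; exact haw')⟩ ?_
        obtain ⟨i, hi⟩ := hQq ⟨_, hz⟩
        obtain ⟨j, hj⟩ := hSs ⟨_, hw⟩
        exact ((((Nat.coprime_primes hq hs).mpr (Ne.symm hsq)).pow i j).coprime_dvd_left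
          (orderOf_dvd_of_pow_eq_one (congrArg Subtype.val hi))).coprime_dvd_right
          (orderOf_dvd_of_pow_eq_one (congrArg Subtype.val hj))
    have hρc : ρ (y * x) = ρ (x * y) :=
      ward_linear hp hdata (y := (⟨y, hQX hy⟩ : X)) (x := (⟨x, hSQ hx⟩ : X)) hy hx
    refine (hρ1 _).mp ?_
    rw [show ⁅y, x⁆ = y * x * (x * y)⁻¹ by rw [commutatorElement_def]; group, map_mul, hρc,
      ← map_mul, mul_inv_cancel, map_one]
  intro z hz
  refine mem_centralizer_iff.2 fun w hw => Subtype.ext ?_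
  have hz' : (z : Γ ⧸ fit G) ∈ S.map mk := hSmap ▸ ⟨z, hz, rfl⟩
  have hw' : (w : Γ ⧸ fit G) ∈ Q.map mk := hQmap ▸ ⟨w, hw, rfl⟩
  obtain ⟨x, hx, hxz⟩ := hz'
  obtain ⟨y, hy, hyw⟩ := hw'
  show (w : Γ ⧸ fit G) * z = z * w
  rw [← hxz, ← hyw, ← commutatorElement_eq_one_iff_mul_comm, ← map_commutatorElement]
  exact (QuotientGroup.eq_one_iff _).mpr (chiefKernel_le_fit G (hker y hy x hx))

/-- Nilpotency of `G / F(G)`, pulled back to a group isomorphic to `G`. -/
theorem exists_lowerCentralSeries_le {H : Type*} [Group H] [Finite H] [Finite Γ] {G : Subgroup Γ}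
    [G.Normal] (e : H ≃* G) (hnil : Group.IsNilpotent (top1 G)) :
    ∃ k, (⊤ : Subgroup H).lowerCentralSeries k ≤ Cfsg.fittingSubgroup H := by
  obtain ⟨k, hk⟩ := (Subgroup.isNilpotent_iff_lowerCentralSeries _).mp hnil
  refine ⟨k, ?_⟩
  have h1 : G.lowerCentralSeries k ≤ fit G := by
    have h0 : (G.lowerCentralSeries k).map (QuotientGroup.mk' (fit G)) = ⊥ := by
      rw [Subgroup.map_lowerCentralSeries]; exact hk
    rwa [Subgroup.map_eq_bot_iff, QuotientGroup.ker_mk'] at h0
  intro x hx
  have h2 : (⊤ : Subgroup H).lowerCentralSeries k ≤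
      ((⊤ : Subgroup G).lowerCentralSeries k).map e.symm.toMonoidHom := by
    rw [Subgroup.map_lowerCentralSeries, Subgroup.map_top_of_surjective _ e.symm.surjective]
  obtain ⟨y, hy, rfl⟩ := h2 hx
  have h3 : (y : Γ) ∈ fit G := by
    apply h1
    rw [← Subgroup.top_subtype_lowerCentralSeries]
    exact ⟨y, hy, rfl⟩
  obtain ⟨y', hy', he⟩ := h3
  rw [show y = y' from Subtype.ext he.symm]
  haveI : ((Cfsg.fittingSubgroup G).map e.symm.toMonoidHom).Normal :=
    (inferInstance : (Cfsg.fittingSubgroup G).Normal).map _ e.symm.surjective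
  have hn : Group.IsNilpotent (Cfsg.fittingSubgroup G) := by
    rw [Solvable.Cores.fittingSubgroup_eq_iSup_pCore]
    exact Solvable.Cores.iSup_pCore_isNilpotent
  haveI := hn
  exact Solvable.Cores.le_fittingSubgroup
    (Group.nilpotent_of_surjective _ (MonoidHom.subgroupMap_surjective e.symm.toMonoidHom _))
    (Subgroup.mem_map_of_mem _ hy')

end CfsgLib.Solvable.FPFOperators
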