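import Cfsg.Agent.Lib.Solvable.FPFOperators.ChiefFactor
import Mathlib.Algebra.Module.ZMod
import Mathlib.Algebra.Field.ZMod
import Mathlib.LinearAlgebra.Matrix.ToLin
import Mathlib.LinearAlgebra.Dimension.Free
import Mathlib.FieldTheory.IsAlgClosed.AlgebraicClosure

/-!
# The representation on a chief factor over an extension field
-/

set_option autoImplicit false

namespace CfsgLib.Solvable.FPFOperators

open Subgroup CfsgLib
open scoped commutatorElement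

section Extend

variable {Γ : Type*} [Group Γ] {r : ℕ} [Fact r.Prime] {V : Type*} [AddCommGroup V] [Finite V]
  [Module (ZMod r) V]

/-- Scalar extension of a representation over the prime field, with sums over subgroups. -/
theorem exists_extend' (K : Type*) [Field K] [CharP K r] (ρ₀ : Γ →* Module.End (ZMod r) V) :
    ∃ (d : ℕ) (ρ : Γ →* Module.End K (Fin d → K)),
      (∀ g, ρ g = 1 ↔ ∀ v, ρ₀ g v = v) ∧
      (∀ (a : Γ) (n : ℕ), a ^ n = 1 → ∀ y : Γ, (∀ v, ρ₀ a v = v → ρ₀ y v = v) →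
        (ρ y - 1) * ∑ i ∈ Finset.range n, ρ (a ^ i) = 0) ∧
      (∀ (a : Γ) (n : ℕ), a ^ n = 1 → (∀ v, ρ₀ a v = v → v = 0) →
        ∑ i ∈ Finset.range n, ρ (a ^ i) = 0) ∧
      ∀ (B : Subgroup Γ) (T : Finset Γ), (∀ g, g ∈ T ↔ g ∈ B) →
        (∀ v, (∀ g ∈ B, ρ₀ g v = v) → v = 0) → ∑ g ∈ T, ρ g = 0 := by
  classical
  haveI : Module.Finite (ZMod r) V := Module.Finite.of_finite
  let b := Module.finBasis (ZMod r) V
  let Φ : Module.End (ZMod r) V →+* Module.End K (Fin (Module.finrank (ZMod r) V) → K) :=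
    ((Matrix.toLinAlgEquiv' (R := K)).toRingEquiv.toRingHom.comp
      (ZMod.castHom dvd_rfl K).mapMatrix).comp (LinearMap.toMatrixAlgEquiv b).toRingEquiv.toRingHom
  have hΦ : Function.Injective Φ := by
    intro x y h
    refine (LinearMap.toMatrixAlgEquiv b).injective ?_
    have h1 := (Matrix.toLinAlgEquiv' (R := K)).injective h
    refine Matrix.ext fun i j => ?_
    exact (ZMod.castHom dvd_rfl K).injective (congrFun (congrFun h1 i) j)
  have hsum : ∀ (a : Γ) (n : ℕ), a ^ n = 1 → ∀ v,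
      ρ₀ a (∑ i ∈ Finset.range n, ρ₀ (a ^ i) v) = ∑ i ∈ Finset.range n, ρ₀ (a ^ i) v := by
    intro a n han v
    rw [map_sum]
    have h1 := Finset.sum_range_succ (fun i => ρ₀ (a ^ i) v) n
    rw [Finset.sum_range_succ' (fun i => ρ₀ (a ^ i) v) n, han, pow_zero] at h1
    rw [add_right_cancel_iff] at h1
    refine Eq.trans (Finset.sum_congr rfl fun i _ => ?_) h1
    rw [pow_succ', map_mul]
    rfl
  refine ⟨_, Φ.toMonoidHom.comp ρ₀, fun g => ?_, fun a n han y hy => ?_, fun a n han ha => ?_,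
    fun B T hT hB => ?_⟩
  · show Φ (ρ₀ g) = 1 ↔ _
    rw [← map_one Φ, hΦ.eq_iff]
    exact ⟨fun h v => by rw [h]; rfl, fun h => LinearMap.ext h⟩
  · show (Φ (ρ₀ y) - 1) * ∑ i ∈ Finset.range n, Φ (ρ₀ (a ^ i)) = 0
    rw [← map_sum, ← map_one Φ, ← map_sub, ← map_mul]
    refine (congrArg Φ (LinearMap.ext fun v => ?_)).trans (map_zero Φ)
    rw [Module.End.mul_apply, LinearMap.sum_apply, LinearMap.sub_apply, Module.End.one_apply,
      LinearMap.zero_apply, sub_eq_zero]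
    exact hy _ (hsum a n han v)
  · show ∑ i ∈ Finset.range n, Φ (ρ₀ (a ^ i)) = 0
    rw [← map_sum]
    refine (congrArg Φ (LinearMap.ext fun v => ?_)).trans (map_zero Φ)
    rw [LinearMap.sum_apply, LinearMap.zero_apply]
    exact ha _ (hsum a n han v)
  · show ∑ g ∈ T, Φ (ρ₀ g) = 0
    rw [← map_sum]
    refine (congrArg Φ (LinearMap.ext fun v => ?_)).trans (map_zero Φ)
    rw [LinearMap.sum_apply, LinearMap.zero_apply]
    refine hB _ fun g hg => ?_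
    rw [map_sum]
    refine Finset.sum_bij (fun x _ => g * x) (fun x hx => (hT _).2 (mul_mem hg ((hT x).1 hx)))
      (fun x _ y _ h => mul_left_cancel h)
      (fun x hx => ⟨g⁻¹ * x, (hT _).2 (mul_mem (inv_mem hg) ((hT x).1 hx)), by group⟩)
      fun x _ => by rw [map_mul]; rfl

/-- Scalar extension of a representation over the prime field. -/
theorem exists_extend (K : Type*) [Field K] [CharP K r] (ρ₀ : Γ →* Module.End (ZMod r) V) :
    ∃ (d : ℕ) (ρ : Γ →* Module.End K (Fin d → K)),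
      (∀ g, ρ g = 1 ↔ ∀ v, ρ₀ g v = v) ∧
      (∀ (a : Γ) (n : ℕ), a ^ n = 1 → ∀ y : Γ, (∀ v, ρ₀ a v = v → ρ₀ y v = v) →
        (ρ y - 1) * ∑ i ∈ Finset.range n, ρ (a ^ i) = 0) ∧
      ∀ (a : Γ) (n : ℕ), a ^ n = 1 → (∀ v, ρ₀ a v = v → v = 0) →
        ∑ i ∈ Finset.range n, ρ (a ^ i) = 0 := by
  obtain ⟨d, ρ, e1, e2, e3, -⟩ := exists_extend' K ρ₀
  exact ⟨d, ρ, e1, e2, e3⟩

end Extend

theorem exists_linear {Γ : Type*} [Group Γ] {r : ℕ} {A : Type*} [CommGroup A]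
    (hA : ∀ a : A, a ^ r = 1) (φ : Γ →* MulAut A) :
    ∃ (_ : Module (ZMod r) (Additive A)) (ρ₀ : Γ →* Module.End (ZMod r) (Additive A)),
      ∀ g (a : A), ρ₀ g (Additive.ofMul a) = Additive.ofMul (φ g a) := by
  have hz : ∀ v : Additive A, r • v = 0 := fun v => congrArg Additive.ofMul (hA v.toMul)
  obtain ⟨mod⟩ : Nonempty (Module (ZMod r) (Additive A)) := ⟨AddCommGroup.zmodModule hz⟩
  letI := mod
  let f : Γ → Module.End (ZMod r) (Additive A) := fun g =>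
    ((φ g).toMonoidHom.toAdditive).toZModLinearMap r
  have hf : ∀ g (a : A), f g (Additive.ofMul a) = Additive.ofMul (φ g a) := fun g a => by
    simp only [f, AddMonoidHom.coe_toZModLinearMap]
    rfl
  have h1 : f 1 = 1 := LinearMap.ext fun v => by
    obtain ⟨a, rfl⟩ := Additive.ofMul.surjective v
    rw [hf, map_one, MulAut.one_apply, Module.End.one_apply]
  have hm : ∀ g k, f (g * k) = f g * f k := fun g k => LinearMap.ext fun v => by
    obtain ⟨a, rfl⟩ := Additive.ofMul.surjective v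
    rw [hf, map_mul, MulAut.mul_apply, Module.End.mul_apply, hf, hf]
  exact ⟨mod, ⟨⟨f, h1⟩, hm⟩, hf⟩

/-- An action on an elementary abelian group is linear over the prime field. -/
theorem exists_extend_mulAut' {Γ : Type*} [Group Γ] {r : ℕ} [Fact r.Prime] {A : Type*} [CommGroup A]
    [Finite A] (K : Type*) [Field K] [CharP K r] (hA : ∀ a : A, a ^ r = 1) (φ : Γ →* MulAut A) :
    ∃ (d : ℕ) (ρ : Γ →* Module.End K (Fin d → K)),
      (∀ g, ρ g = 1 ↔ ∀ v, φ g v = v) ∧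
      (∀ (a : Γ) (n : ℕ), a ^ n = 1 → ∀ y : Γ, (∀ v, φ a v = v → φ y v = v) →
        (ρ y - 1) * ∑ i ∈ Finset.range n, ρ (a ^ i) = 0) ∧
      (∀ (a : Γ) (n : ℕ), a ^ n = 1 → (∀ v, φ a v = v → v = 1) →
        ∑ i ∈ Finset.range n, ρ (a ^ i) = 0) ∧
      ∀ (B : Subgroup Γ) (T : Finset Γ), (∀ g, g ∈ T ↔ g ∈ B) →
        (∀ v, (∀ g ∈ B, φ g v = v) → v = 1) → ∑ g ∈ T, ρ g = 0 := by
  obtain ⟨mod, ρ₀, hρ⟩ := exists_linear hA φ
  obtain ⟨d, ρ, e1, e2, e3, e4⟩ := @exists_extend' Γ _ r _ (Additive A) _ _ mod K _ _ ρ₀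
  refine ⟨d, ρ, fun g => (e1 g).trans ⟨fun h v => ?_, fun h v => ?_⟩,
    fun a n han y hy => e2 a n han y fun v hv => ?_, fun a n han ha => e3 a n han fun v hv => ?_,
    fun B T hT hB => e4 B T hT fun v hv => ?_⟩
  · exact Additive.ofMul.injective ((hρ g v).symm.trans (h _))
  · exact (hρ g v.toMul).trans (congrArg Additive.ofMul (h _))
  · exact (hρ y v.toMul).trans (congrArg Additive.ofMul
      (hy _ (Additive.ofMul.injective ((hρ a v.toMul).symm.trans hv))))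
  · exact congrArg Additive.ofMul
      (ha _ (Additive.ofMul.injective ((hρ a v.toMul).symm.trans hv)))
  · exact congrArg Additive.ofMul
      (hB _ fun g hg => Additive.ofMul.injective ((hρ g v.toMul).symm.trans (hv g hg)))

/-- An action on an elementary abelian group is linear over the prime field. -/
theorem exists_extend_mulAut {Γ : Type*} [Group Γ] {r : ℕ} [Fact r.Prime] {A : Type*} [CommGroup A]
    [Finite A] (K : Type*) [Field K] [CharP K r] (hA : ∀ a : A, a ^ r = 1) (φ : Γ →* MulAut A) :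
    ∃ (d : ℕ) (ρ : Γ →* Module.End K (Fin d → K)),
      (∀ g, ρ g = 1 ↔ ∀ v, φ g v = v) ∧
      (∀ (a : Γ) (n : ℕ), a ^ n = 1 → ∀ y : Γ, (∀ v, φ a v = v → φ y v = v) →
        (ρ y - 1) * ∑ i ∈ Finset.range n, ρ (a ^ i) = 0) ∧
      ∀ (a : Γ) (n : ℕ), a ^ n = 1 → (∀ v, φ a v = v → v = 1) →
        ∑ i ∈ Finset.range n, ρ (a ^ i) = 0 := by
  obtain ⟨d, ρ, e1, e2, e3, -⟩ := exists_extend_mulAut' K hA φ
  exact ⟨d, ρ, e1, e2, e3⟩

variable {Γ : Type*} [Group Γ] [Finite Γ]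

/-- The action on an elementary abelian section, with scalars extended and sums over subgroups. -/
theorem exists_section_rep' {N M : Subgroup Γ} [N.Normal] [M.Normal] (r : ℕ) [Fact r.Prime]
    (K : Type*) [Field K] [CharP K r]
    (hexp : ∀ a ∈ M, a ^ r ∈ N) (hcomm : ∀ a ∈ M, ∀ b ∈ M, ⁅a, b⁆ ∈ N) :
    ∃ (d : ℕ) (ρ : Γ →* Module.End K (Fin d → K)),
      (∀ g, ρ g = 1 ↔ ∀ m ∈ M, ⁅g, m⁆ ∈ N) ∧
      (∀ (a : Γ) (n : ℕ), a ^ n = 1 → ∀ y : Γ, (∀ m ∈ M, ⁅a, m⁆ ∈ N → ⁅y, m⁆ ∈ N) →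
        (ρ y - 1) * ∑ i ∈ Finset.range n, ρ (a ^ i) = 0) ∧
      (∀ (a : Γ) (n : ℕ), a ^ n = 1 → (∀ m ∈ M, ⁅a, m⁆ ∈ N → m ∈ N) →
        ∑ i ∈ Finset.range n, ρ (a ^ i) = 0) ∧
      ∀ (B : Subgroup Γ) (T : Finset Γ), (∀ g, g ∈ T ↔ g ∈ B) →
        (∀ m ∈ M, (∀ g ∈ B, ⁅g, m⁆ ∈ N) → m ∈ N) → ∑ g ∈ T, ρ g = 0 := by
  let mk := QuotientGroup.mk' N
  haveI : (M.map mk).Normal :=
    (inferInstance : M.Normal).map mk (QuotientGroup.mk'_surjective _)
  haveI hcm : IsMulCommutative (M.map mk) := Solvable.Basic.isMulCommutative_subgroup_iff.mpr (by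
    rintro _ ⟨a, ha, rfl⟩ _ ⟨b, hb, rfl⟩
    rw [← commutatorElement_eq_one_iff_mul_comm, ← map_commutatorElement]
    exact (QuotientGroup.eq_one_iff _).mpr (hcomm a ha b hb))
  letI : CommGroup (M.map mk) :=
    { (inferInstance : Group (M.map mk)) with mul_comm := mul_comm' }
  let φ : Γ →* MulAut (M.map mk) := MulAut.conjNormal.comp mk
  have hφ : ∀ (g m : Γ) (hm : m ∈ M),
      φ g ⟨mk m, Subgroup.mem_map_of_mem mk hm⟩ = ⟨mk m, Subgroup.mem_map_of_mem mk hm⟩ ↔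
        ⁅g, m⁆ ∈ N := by
    intro g m hm
    rw [← Subtype.val_inj]
    show ((MulAut.conjNormal (mk g) (⟨mk m, _⟩ : M.map mk) : M.map mk) : Γ ⧸ N) = mk m ↔ _
    rw [MulAut.conjNormal_apply, ← QuotientGroup.eq_one_iff]
    show mk g * mk m * (mk g)⁻¹ = mk m ↔ mk ⁅g, m⁆ = 1
    rw [map_commutatorElement, commutatorElement_def, mul_inv_eq_one]
  obtain ⟨d, ρ, h1, h2, h3, h4⟩ := exists_extend_mulAut' (A := M.map mk) K (by
    rintro ⟨_, a, ha, rfl⟩
    apply Subtype.ext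
    rw [SubmonoidClass.coe_pow, ← map_pow, OneMemClass.coe_one]
    exact (QuotientGroup.eq_one_iff _).mpr (hexp a ha)) φ
  refine ⟨d, ρ, fun g => (h1 g).trans ⟨fun h m hm => (hφ g m hm).mp (h _), ?_⟩,
    fun a n han y hy => h2 a n han y ?_, fun a n han ha => h3 a n han ?_,
    fun B T hT hB => h4 B T hT ?_⟩
  · rintro h ⟨_, m, hm, rfl⟩
    exact (hφ g m hm).mpr (h m hm)
  · rintro ⟨_, m, hm, rfl⟩ h
    exact (hφ y m hm).mpr (hy m hm ((hφ a m hm).mp h))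
  · rintro ⟨_, m, hm, rfl⟩ h
    exact Subtype.ext ((QuotientGroup.eq_one_iff m).mpr (ha m hm ((hφ a m hm).mp h)))
  · rintro ⟨_, m, hm, rfl⟩ h
    exact Subtype.ext ((QuotientGroup.eq_one_iff m).mpr
      (hB m hm fun g hg => (hφ g m hm).mp (h g hg)))

/-- The action on an elementary abelian section, with scalars extended. -/
theorem exists_section_rep {N M : Subgroup Γ} [N.Normal] [M.Normal] (r : ℕ) [Fact r.Prime]
    (K : Type*) [Field K] [CharP K r]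
    (hexp : ∀ a ∈ M, a ^ r ∈ N) (hcomm : ∀ a ∈ M, ∀ b ∈ M, ⁅a, b⁆ ∈ N) :
    ∃ (d : ℕ) (ρ : Γ →* Module.End K (Fin d → K)),
      (∀ g, ρ g = 1 ↔ ∀ m ∈ M, ⁅g, m⁆ ∈ N) ∧
      (∀ (a : Γ) (n : ℕ), a ^ n = 1 → ∀ y : Γ, (∀ m ∈ M, ⁅a, m⁆ ∈ N → ⁅y, m⁆ ∈ N) →
        (ρ y - 1) * ∑ i ∈ Finset.range n, ρ (a ^ i) = 0) ∧
      ∀ (a : Γ) (n : ℕ), a ^ n = 1 → (∀ m ∈ M, ⁅a, m⁆ ∈ N → m ∈ N) →
        ∑ i ∈ Finset.range n, ρ (a ^ i) = 0 := by
  obtain ⟨d, ρ, e1, e2, e3, -⟩ := exists_section_rep' (N := N) (M := M) r K hexp hcomm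
  exact ⟨d, ρ, e1, e2, e3⟩

end CfsgLib.Solvable.FPFOperators
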