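import Cfsg.Agent.Lib.Solvable.FPFOperators.ExceptionalTops
import Cfsg.Agent.Lib.Solvable.FPFOperators.FactorRep
import Cfsg.Agent.Lib.PGroup.FrattiniFaithful
import Cfsg.Agent.Lib.Fusion.FailureFactor
import Mathlib.RingTheory.Flat.Basic
import Mathlib.RingTheory.TensorProduct.Maps
import Cfsg.Agent.Lib.OddOrder.PLengthOne

/-!
# The upper `p`-series and the theorem of Hall and Higman

`G / O_{p',p}(G)` acts faithfully on the Frattini quotient `V` of `O_{p',p}(G) / O_{p'}(G)`, and if
the Sylow `p`-subgroups of `G` have exponent dividing `p ^ e` then the norm of every `p`-element of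
`G / O_{p',p}(G)` of order dividing `p ^ e` vanishes on `V`.
-/

set_option autoImplicit false

namespace CfsgLib.Solvable.FPFOperators

open Subgroup CfsgLib
open scoped commutatorElement

universe u

variable {p : ℕ}

theorem upper_odd {G : Type*} [Group G] (k : ℕ) :
    (Cfsg.upperPSeries p G (2 * k + 1)).1 =
      (Cfsg.pPrimeCore p (G ⧸ (Cfsg.upperPSeries p G (2 * k)).1)).comap (QuotientGroup.mk' _) := by
  rw [Cfsg.upperPSeries]
  simp

theorem upper_even {G : Type*} [Group G] (k : ℕ) :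
    (Cfsg.upperPSeries p G (2 * k + 2)).1 =
      (Cfsg.pCore p (G ⧸ (Cfsg.upperPSeries p G (2 * k + 1)).1)).comap (QuotientGroup.mk' _) := by
  conv_lhs => rw [Cfsg.upperPSeries]
  simp [Nat.not_even_iff_odd]

/-- Preimages of the series of a quotient lie in the series of the group. -/
theorem comap_upper_step {G H : Type*} [Group G] [Finite G] [Group H] [Finite H] [Fact p.Prime]
    (f : G →* H) (hf : Function.Surjective f) (m n : ℕ) (hpar : Even m ↔ Even n)
    (h : (Cfsg.upperPSeries p H n).1.comap f ≤ (Cfsg.upperPSeries p G m).1) :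
    (Cfsg.upperPSeries p H (n + 1)).1.comap f ≤ (Cfsg.upperPSeries p G (m + 1)).1 := by
  set A := (Cfsg.upperPSeries p G m).1 with hA
  set B := (Cfsg.upperPSeries p H n).1 with hB
  haveI : A.Normal := (Cfsg.upperPSeries p G m).2
  haveI : B.Normal := (Cfsg.upperPSeries p H n).2
  let g := (QuotientGroup.mk' B).comp f
  have hg : Function.Surjective g := (QuotientGroup.mk'_surjective B).comp hf
  have hker : g.ker ≤ (QuotientGroup.mk' A).ker := fun x hx => by
    rw [QuotientGroup.ker_mk']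
    exact h ((QuotientGroup.eq_one_iff (f x)).1 hx)
  let χ := g.liftOfSurjective hg ⟨QuotientGroup.mk' A, hker⟩
  have hχg : ∀ x, χ (g x) = QuotientGroup.mk' A x := fun x =>
    MonoidHom.liftOfRightInverse_comp_apply _ _ _ ⟨QuotientGroup.mk' A, hker⟩ x
  have hχ : Function.Surjective χ := fun y => by
    obtain ⟨x, rfl⟩ := QuotientGroup.mk'_surjective A y
    exact ⟨g x, hχg x⟩
  rw [Cfsg.upperPSeries, Cfsg.upperPSeries]
  by_cases hm : Even m
  · simp only [hm, hpar.mp hm, if_true]
    intro x hx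
    haveI : ((Cfsg.pPrimeCore p (H ⧸ B)).map χ).Normal := Normal.map inferInstance χ hχ
    show QuotientGroup.mk' A x ∈ Cfsg.pPrimeCore p (G ⧸ A)
    rw [← hχg]
    exact Cores.le_pPrimeCore ((Cores.coprime_card_pPrimeCore p).coprime_dvd_left
      (card_map_dvd _ χ)) (mem_map_of_mem χ hx)
  · simp only [hm, mt hpar.mpr hm, if_false]
    intro x hx
    haveI : ((Cfsg.pCore p (H ⧸ B)).map χ).Normal := Normal.map inferInstance χ hχ
    show QuotientGroup.mk' A x ∈ Cfsg.pCore p (G ⧸ A)
    rw [← hχg]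
    exact Cores.le_pCore ((Cores.isPGroup_pCore p).map χ) (mem_map_of_mem χ hx)

/-- `p`-length at most `k` modulo `O_{p',p}` gives `p`-length at most `k + 1`. -/
theorem pLengthLE_succ {G : Type*} [Group G] [Finite G] [Fact p.Prime] {k : ℕ}
    (h : Cfsg.PLengthLE p k (G ⧸ (Cfsg.upperPSeries p G 2).1)) : Cfsg.PLengthLE p (k + 1) G := by
  set f := QuotientGroup.mk' (Cfsg.upperPSeries p G 2).1
  have key : ∀ n, (Cfsg.upperPSeries p (G ⧸ (Cfsg.upperPSeries p G 2).1) n).1.comap f ≤
      (Cfsg.upperPSeries p G (n + 2)).1 := by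
    intro n
    induction n with
    | zero =>
      intro x hx
      exact (QuotientGroup.eq_one_iff x).1 (Subgroup.mem_bot.1 hx)
    | succ n ih =>
      exact comap_upper_step f (QuotientGroup.mk'_surjective _) (n + 2) n (by simp [Nat.even_add]) ih
  have h1 := key (2 * k + 1)
  rw [show (Cfsg.upperPSeries p (G ⧸ (Cfsg.upperPSeries p G 2).1) (2 * k + 1)).1 = ⊤ from h,
    Subgroup.comap_top, top_le_iff] at h1
  show (Cfsg.upperPSeries p G (2 * (k + 1) + 1)).1 = ⊤
  rwa [show 2 * (k + 1) + 1 = 2 * k + 1 + 2 by ring]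

theorem coprime_card_of_coprime_relIndex {G : Type*} [Group G] [Finite G] {N M : Subgroup G} (h : N ≤ M) {k : ℕ}
    (h1 : (Nat.card N).Coprime k) (h2 : (N.relIndex M).Coprime k) : (Nat.card M).Coprime k := by
  rw [← relIndex_bot_left M, ← relIndex_mul_relIndex ⊥ N M bot_le h, relIndex_bot_left]
  exact h1.mul_left h2

/-- The first step of the series is `O_{p'}`. -/
theorem upper_one {G : Type*} [Group G] [Finite G] [Fact p.Prime] :
    (Cfsg.upperPSeries p G 1).1 = Cfsg.pPrimeCore p G := by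
  rw [Cfsg.upperPSeries]
  simp only [show Even 0 from ⟨0, rfl⟩, if_true]
  haveI : ((Cfsg.upperPSeries p G 0).1).Normal := (Cfsg.upperPSeries p G 0).2
  set q := QuotientGroup.mk' (Cfsg.upperPSeries p G 0).1 with hq
  have hqs : Function.Surjective q := QuotientGroup.mk'_surjective _
  have hqi : Function.Injective q := (MonoidHom.ker_eq_bot_iff _).mp (QuotientGroup.ker_mk' _)
  refine le_antisymm (Cores.le_pPrimeCore ?_) (Subgroup.map_le_iff_le_comap.mp ?_)
  · rw [← Subgroup.card_map_of_injective hqi, Subgroup.map_comap_eq_self_of_surjective hqs]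
    exact Cores.coprime_card_pPrimeCore p
  · haveI := (inferInstance : (Cfsg.pPrimeCore p G).Normal).map q hqs
    refine Cores.le_pPrimeCore ?_
    rw [Subgroup.card_map_of_injective hqi]
    exact Cores.coprime_card_pPrimeCore p

theorem pPrimeCore_mod_upper_one {G : Type*} [Group G] [Finite G] [Fact p.Prime] :
    Cfsg.pPrimeCore p (G ⧸ (Cfsg.upperPSeries p G 1).1) = ⊥ := by
  set U := (Cfsg.upperPSeries p G 1).1 with hU
  set f := QuotientGroup.mk' U
  have hfs : Function.Surjective f := QuotientGroup.mk'_surjective U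
  set M := (Cfsg.pPrimeCore p (G ⧸ U)).comap f with hM
  have hUM : U ≤ M := fun x hx => by
    show f x ∈ Cfsg.pPrimeCore p (G ⧸ U)
    rw [show f x = 1 from (QuotientGroup.eq_one_iff x).2 hx]
    exact one_mem _
  have hcard : (Nat.card U).Coprime p := by rw [hU, upper_one]; exact Cores.coprime_card_pPrimeCore p
  have hrel : (U.relIndex M).Coprime p := by
    rw [show U.relIndex M = ((⊥ : Subgroup (G ⧸ U)).comap f).relIndex M by
      rw [MonoidHom.comap_bot, QuotientGroup.ker_mk'], relIndex_comap, hM,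
      map_comap_eq_self_of_surjective hfs, relIndex_bot_left]
    exact Cores.coprime_card_pPrimeCore p
  have hMU : M ≤ U := by
    have hMc : M ≤ Cfsg.pPrimeCore p G :=
      Cores.le_pPrimeCore (coprime_card_of_coprime_relIndex hUM hcard hrel)
    rwa [← upper_one, ← hU] at hMc
  rw [eq_bot_iff, ← map_comap_eq_self_of_surjective hfs (Cfsg.pPrimeCore p (G ⧸ U)), ← hM]
  exact (Subgroup.map_mono hMU).trans (le_of_eq (QuotientGroup.map_mk'_self U))

theorem upper_one_le_two {G : Type*} [Group G] :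
    (Cfsg.upperPSeries p G 1).1 ≤ (Cfsg.upperPSeries p G 2).1 := by
  intro x hx
  rw [upper_even 0]
  refine Subgroup.mem_comap.2 ?_
  rw [show QuotientGroup.mk' (Cfsg.upperPSeries p G (2 * 0 + 1)).1 x = 1 from
    (QuotientGroup.eq_one_iff x).2 hx]
  exact one_mem _

theorem pCore_mod_upper_two {G : Type*} [Group G] [Finite G] [Fact p.Prime] :
    Cfsg.pCore p (G ⧸ (Cfsg.upperPSeries p G 2).1) = ⊥ := by
  set U := (Cfsg.upperPSeries p G 2).1 with hU
  set f := QuotientGroup.mk' U with hfdef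
  have hfs : Function.Surjective f := QuotientGroup.mk'_surjective U
  set U₁ := (Cfsg.upperPSeries p G 1).1 with hU1
  set g := QuotientGroup.mk' U₁ with hgdef
  set M := (Cfsg.pCore p (G ⧸ U)).comap f with hM
  have hU2 : U = (Cfsg.pCore p (G ⧸ U₁)).comap g := upper_even 0
  have hMp : IsPGroup p (M.map g) := by
    rintro ⟨_, x, hx, rfl⟩
    obtain ⟨a, ha⟩ := Cores.isPGroup_pCore p ⟨f x, hx⟩
    have h1 : x ^ p ^ a ∈ U := (QuotientGroup.eq_one_iff _).1 ((map_pow f x _).trans
      (congrArg Subtype.val ha))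
    rw [hU2] at h1
    obtain ⟨b, hb⟩ := Cores.isPGroup_pCore p ⟨_, h1⟩
    refine ⟨a + b, Subtype.ext ?_⟩
    show g x ^ p ^ (a + b) = 1
    rw [pow_add, pow_mul, ← map_pow]
    exact congrArg Subtype.val hb
  haveI : (M.map g).Normal := Normal.map inferInstance g (QuotientGroup.mk'_surjective U₁)
  have hMU : M ≤ U := fun x hx => by
    rw [hU2]; exact Cores.le_pCore hMp (mem_map_of_mem g hx)
  rw [eq_bot_iff, ← map_comap_eq_self_of_surjective hfs (Cfsg.pCore p (G ⧸ U)), ← hM]
  exact (Subgroup.map_mono hMU).trans (le_of_eq (QuotientGroup.map_mk'_self U))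

/-- A `p`-element of a quotient lifts to an element of a Sylow subgroup. -/
theorem exists_sylow_lift {G H : Type*} [Group G] [Finite G] [Group H] [Finite H] [Fact p.Prime]
    (f : G →* H) (hf : Function.Surjective f) {Q : Subgroup H} (hQ : IsPGroup p Q) :
    ∃ P : Sylow p G, Q ≤ (P : Subgroup G).map f := by
  obtain ⟨S, hS⟩ := hQ.exists_le_sylow
  obtain ⟨P₀⟩ := (inferInstance : Nonempty (Sylow p G))
  obtain ⟨h, hh⟩ := MulAction.exists_smul_eq H (P₀.mapSurjective hf) S
  obtain ⟨g, rfl⟩ := hf h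
  refine ⟨g • P₀, fun x hx => ?_⟩
  have h1 := hS hx
  rw [← hh, Sylow.coe_subgroup_smul] at h1
  obtain ⟨y, hy, rfl⟩ := h1
  obtain ⟨z, hz, rfl⟩ := hy
  refine ⟨g * z * g⁻¹, ?_, ?_⟩
  · rw [Sylow.coe_subgroup_smul]
    exact ⟨z, hz, rfl⟩
  · rw [map_mul, map_mul, map_inv]; rfl

theorem sylow_exponent_quotient {G H : Type*} [Group G] [Finite G] [Group H] [Finite H] [Fact p.Prime]
    (f : G →* H) (hf : Function.Surjective f) {e : ℕ}
    (hexp : ∀ P : Sylow p G, ∀ x ∈ (P : Subgroup G), x ^ p ^ e = 1) :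
    ∀ P : Sylow p H, ∀ x ∈ (P : Subgroup H), x ^ p ^ e = 1 := by
  intro S x hx
  obtain ⟨P, hP⟩ := exists_sylow_lift f hf S.isPGroup'
  obtain ⟨y, hy, rfl⟩ := hP hx
  rw [← map_pow, hexp P y hy, map_one]

theorem sylow_abelian_quotient {G H : Type*} [Group G] [Finite G] [Group H] [Finite H] [Fact p.Prime]
    (f : G →* H) (hf : Function.Surjective f)
    (hab : ∀ P : Sylow p G, IsMulCommutative (P : Subgroup G)) :
    ∀ P : Sylow p H, IsMulCommutative (P : Subgroup H) := by
  intro S
  refine isMulCommutative_iff.2 fun a b => Subtype.ext ?_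
  obtain ⟨P, hP⟩ := exists_sylow_lift f hf S.isPGroup'
  obtain ⟨x, hx, hxa⟩ := hP a.2
  obtain ⟨y, hy, hyb⟩ := hP b.2
  have h := congrArg Subtype.val (isMulCommutative_iff.1 (hab P) ⟨x, hx⟩ ⟨y, hy⟩)
  show (a : H) * b = b * a
  rw [← hxa, ← hyb, ← map_mul, ← map_mul]
  exact congrArg f h

theorem pLengthLE_zero {G : Type*} [Group G] [Finite G] [Fact p.Prime]
    (hexp : ∀ P : Sylow p G, ∀ x ∈ (P : Subgroup G), x ^ p ^ 0 = 1) : Cfsg.PLengthLE p 0 G := by
  show (Cfsg.upperPSeries p G 1).1 = ⊤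
  rw [upper_one, ← top_le_iff]
  refine Cores.le_pPrimeCore (((Fact.out : p.Prime).coprime_iff_not_dvd.2 fun hdvd => ?_).symm)
  rw [card_top] at hdvd
  obtain ⟨x, hx⟩ := exists_prime_orderOf_dvd_card' p hdvd
  obtain ⟨P, hP⟩ := (IsPGroup.of_card (G := zpowers x) (n := 1) (by
    rw [Nat.card_zpowers, hx, pow_one])).exists_le_sylow
  have := hexp P x (hP (mem_zpowers x))
  rw [pow_zero, pow_one] at this
  rw [this, orderOf_one] at hx
  exact (Fact.out : p.Prime).one_lt.ne hx

/-- The top layer as a representation. -/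
theorem exists_layer_rep {G : Type u} [Group G] [Finite G] [Fact p.Prime]
    (hG : Cfsg.IsPSolvable p G) :
    ∃ (V : Type u) (_ : AddCommGroup V) (_ : Finite V) (_ : Module (ZMod p) V)
      (ρ₀ : G ⧸ (Cfsg.upperPSeries p G 2).1 →* Module.End (ZMod p) V)
      (π : (Cfsg.upperPSeries p G 2).1 → V),
      Function.Injective ρ₀ ∧
      (∀ (P : Sylow p G) (v : V), ∃ w : (Cfsg.upperPSeries p G 2).1,
        (w : G) ∈ (P : Subgroup G) ∧ π w = v) ∧
      (∀ a b, π (a * b) = π a + π b) ∧
      ∀ (g : G) (a b : (Cfsg.upperPSeries p G 2).1), (b : G) = g * a * g⁻¹ →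
        π b = ρ₀ (g : G ⧸ (Cfsg.upperPSeries p G 2).1) (π a) := by
  classical
  set U₁ := (Cfsg.upperPSeries p G 1).1 with hU₁
  set U := (Cfsg.upperPSeries p G 2).1 with hU
  set f := QuotientGroup.mk' U₁ with hf
  set R := Cfsg.pCore p (G ⧸ U₁) with hR
  have hRp : IsPGroup p R := Cores.isPGroup_pCore p
  have hU2 : U = R.comap f := upper_even 0
  letI : CommGroup (R ⧸ frattini R) :=
    { QuotientGroup.Quotient.group (frattini R) with mul_comm := PGroup.Frattini.quotient_mul_comm hRp }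
  let red : MulAut R →* MulAut (R ⧸ frattini R) := MonoidHom.mk'
    (fun a => QuotientGroup.congr _ _ a (characteristic_iff_map_eq.1 inferInstance a))
    fun a b => MulEquiv.ext fun v => by
      obtain ⟨x, rfl⟩ := QuotientGroup.mk'_surjective _ v
      rfl
  let φ : G →* MulAut (R ⧸ frattini R) := (red.comp MulAut.conjNormal).comp f
  have hred : ∀ (a : MulAut R) (r : R), red a (QuotientGroup.mk r) = QuotientGroup.mk (a r) :=
    fun _ _ => rfl
  have hker : ∀ g, φ g = 1 ↔ g ∈ U := by
    intro g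
    constructor
    · intro h
      rw [hU2]
      refine PGroup.FrattiniFaithful.mem_pCore_of_commutator_mem
        (Fusion.PSolvable.psolvable_quotient hG U₁) pPrimeCore_mod_upper_one (f g) fun r hr => ?_
      have h1 : red (MulAut.conjNormal (f g)) (QuotientGroup.mk (⟨r, hr⟩ : R)) = QuotientGroup.mk ⟨r, hr⟩ :=
        DFunLike.congr_fun h _
      rw [hred, ← mul_inv_eq_one, ← QuotientGroup.mk_inv, ← QuotientGroup.mk_mul,
        QuotientGroup.eq_one_iff] at h1
      refine ⟨_, h1, ?_⟩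
      rw [map_mul, map_inv, Subgroup.coe_subtype, MulAut.conjNormal_apply, commutatorElement_def]
    · intro h
      rw [hU2] at h
      refine MulEquiv.ext fun v => ?_
      obtain ⟨⟨r, hr⟩, rfl⟩ := QuotientGroup.mk'_surjective _ v
      show (QuotientGroup.mk (MulAut.conjNormal (f g) (⟨r, hr⟩ : R)) : R ⧸ frattini R) = QuotientGroup.mk ⟨r, hr⟩
      have hc := PGroup.Frattini.commutatorElement_mem_frattini hRp ⟨f g, h⟩ ⟨r, hr⟩
      rw [← mul_inv_eq_one, ← QuotientGroup.mk_inv, ← QuotientGroup.mk_mul, QuotientGroup.eq_one_iff]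
      convert hc using 1
      refine R.subtype_injective ?_
      rw [map_mul, map_inv, map_commutatorElement, Subgroup.coe_subtype, MulAut.conjNormal_apply,
        commutatorElement_def]
  obtain ⟨mod, θ, hθ⟩ := exists_linear (r := p) (PGroup.Frattini.quotient_pow_eq_one hRp) φ
  letI := mod
  have hθ1 : ∀ g, θ g = 1 ↔ g ∈ U := by
    intro g
    rw [← hker]
    constructor
    · intro h
      refine MulEquiv.ext fun v => Additive.ofMul.injective ?_
      rw [← hθ, h]; rfl
    · intro h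
      refine LinearMap.ext fun v => ?_
      obtain ⟨w, rfl⟩ := Additive.ofMul.surjective v
      rw [hθ, h]; rfl
  let ρ₀ : G ⧸ U →* Module.End (ZMod p) (Additive (R ⧸ frattini R)) :=
    QuotientGroup.lift U θ fun g hg => (hθ1 g).2 hg
  have hmemR : ∀ a : U, f (a : G) ∈ R := fun a => by
    have h := a.2
    simp only [hU2, Subgroup.mem_comap] at h
    exact h
  refine ⟨Additive (R ⧸ frattini R), inferInstance, inferInstance, mod, ρ₀,
    fun a => Additive.ofMul (QuotientGroup.mk (⟨f (a : G), hmemR a⟩ : R)), ?_, fun P v => ?_,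
    fun a b => ?_, fun g a b hab => ?_⟩
  · refine (injective_iff_map_eq_one ρ₀).2 fun x hx => ?_
    obtain ⟨g, rfl⟩ := QuotientGroup.mk'_surjective U x
    exact (QuotientGroup.eq_one_iff g).2 ((hθ1 g).1 hx)
  · obtain ⟨r', rfl⟩ := Additive.ofMul.surjective v
    obtain ⟨⟨r, hr⟩, rfl⟩ := QuotientGroup.mk'_surjective _ r'
    have h1 := Cores.pCore_le_sylow (P.mapSurjective (QuotientGroup.mk'_surjective U₁)) hr
    rw [Sylow.coe_mapSurjective] at h1
    obtain ⟨w, hw, hwr⟩ := h1
    refine ⟨⟨w, (SetLike.ext_iff.1 hU2 w).2 (show f w ∈ R from hwr.symm ▸ hr)⟩, hw, ?_⟩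
    exact congrArg (fun x : R => Additive.ofMul (QuotientGroup.mk x : R ⧸ frattini R)) (Subtype.ext hwr)
  · show Additive.ofMul _ = Additive.ofMul _ + Additive.ofMul _
    rw [← ofMul_mul, ← QuotientGroup.mk_mul]
    exact congrArg (fun x : R => Additive.ofMul (QuotientGroup.mk x : R ⧸ frattini R))
      (Subtype.ext (map_mul f _ _))
  · show Additive.ofMul _ = θ g (Additive.ofMul _)
    rw [hθ]
    refine congrArg Additive.ofMul ?_
    show (QuotientGroup.mk _ : R ⧸ frattini R) = QuotientGroup.mk (MulAut.conjNormal (f g) (⟨f (a : G), hmemR a⟩ : R))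
    refine congrArg _ (Subtype.ext ?_)
    rw [MulAut.conjNormal_apply]
    show f (b : G) = f g * f a * (f g)⁻¹
    rw [hab, map_mul, map_mul, map_inv]

end CfsgLib.Solvable.FPFOperators
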