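import Cfsg.Agent.Lib.Solvable.FPFOperators.S3Linear
import Cfsg.Agent.Lib.Solvable.FPFOperators.FactorRep
import Cfsg.Agent.Lib.Solvable.FrattiniFitting
import Mathlib.GroupTheory.PGroup

/-!
# Subgroups acting on an elementary abelian subgroup

An element of prime order without fixed points on `V`, acting on a group normalising `V`.
-/

set_option autoImplicit false

namespace CfsgLib.Solvable.FPFOperators

open Subgroup CfsgLib
open scoped commutatorElement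

universe u

variable {G : Type u} [Group G] [Finite G]

/-- The representation of a subgroup of the normaliser of `V`, with scalars extended. -/
theorem exists_conj_rep {p : ℕ} [Fact p.Prime] {V X : Subgroup G} (hVc : IsMulCommutative V)
    (hVe : ∀ a ∈ V, a ^ p = 1) (hXV : X ≤ normalizer (V : Set G)) :
    ∃ (d : ℕ) (ρ : X →* Module.End (AlgebraicClosure (ZMod p))
        (Fin d → AlgebraicClosure (ZMod p))),
      (∀ g : X, ρ g = 1 ↔ (g : G) ∈ centralizer (V : Set G)) ∧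
      ∀ (x : X) (r : ℕ), x ^ r = 1 → V ⊓ centralizer ({(x : G)} : Set G) = ⊥ →
        ∑ i ∈ Finset.range r, ρ (x ^ i) = 0 := by
  haveI := hVc
  letI : CommGroup V := { (inferInstance : Group V) with mul_comm := mul_comm' }
  let φ : X →* MulAut V := Coprime.conjHom hXV
  have hφ : ∀ (g : X) (v : V), φ g v = v ↔ (g : G) * v = v * g := fun g v => by
    rw [← Subtype.val_inj, Coprime.conjHom_apply, mul_inv_eq_iff_eq_mul]
  obtain ⟨d, ρ, h1, -, h3⟩ := exists_extend_mulAut (A := V) (AlgebraicClosure (ZMod p))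
    (fun a => Subtype.ext (hVe a a.2)) φ
  refine ⟨d, ρ, fun g => (h1 g).trans ⟨fun h => mem_centralizer_iff.2 fun v hv => ?_,
    fun h v => (hφ g v).2 (mem_centralizer_iff.1 h v v.2).symm⟩,
    fun x r hxr hfix => h3 x r hxr fun v hv => ?_⟩
  · exact ((hφ g ⟨v, hv⟩).1 (h ⟨v, hv⟩)).symm
  · have hmem : (v : G) ∈ V ⊓ centralizer ({(x : G)} : Set G) :=
      ⟨v.2, mem_centralizer_iff.2 fun w hw => by
        rw [Set.mem_singleton_iff.mp hw]; exact (hφ x v).1 hv⟩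
    rw [hfix, mem_bot] at hmem
    exact Subtype.ext hmem

/-- A subgroup of prime order without fixed points has a generator without fixed points. -/
theorem exists_generator {X V : Subgroup G} {r : ℕ} (hr : r.Prime) (hX : Nat.card X = r)
    (hfix : V ⊓ centralizer (X : Set G) = ⊥) :
    ∃ x ∈ X, X = zpowers x ∧ x ^ r = 1 ∧ V ⊓ centralizer ({x} : Set G) = ⊥ := by
  haveI := Fact.mk hr
  obtain ⟨x, hx⟩ := exists_prime_orderOf_dvd_card' (G := X) r (hX ▸ dvd_rfl)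
  have hX' : X = zpowers (x : G) := by
    refine (eq_of_le_of_card_ge (zpowers_le.2 x.2) ?_).symm
    rw [Nat.card_zpowers, Subgroup.orderOf_coe, hx, hX]
  refine ⟨x, x.2, hX', ?_, ?_⟩
  · rw [← SubmonoidClass.coe_pow, ← hx, pow_orderOf_eq_one, OneMemClass.coe_one]
  refine le_bot_iff.mp (le_trans ?_ hfix.le)
  refine le_inf inf_le_left fun v hv => mem_centralizer_iff.2 fun y hy => ?_
  rw [hX'] at hy
  obtain ⟨i, rfl⟩ := mem_zpowers_iff.mp hy
  exact (Commute.zpow_left (show Commute (x : G) v from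
    mem_centralizer_iff.1 hv.2 _ rfl) i).eq

/-- An element of prime order `r` without fixed points on `V` centralises a faithful `q`-group,
unless `r - 1` is a power of `q` and the group is non-abelian. -/
theorem le_centralizer_of_fpf {p q r : ℕ} (hp : p.Prime) (hq : q.Prime) (hr : r.Prime)
    (hpq : p ≠ q) (hpr : p ≠ r) (hqr : q ≠ r) {X Q V : Subgroup G} (hX : Nat.card X = r)
    (hQ : IsPGroup q Q) (hXQ : X ≤ normalizer (Q : Set G)) (hVc : IsMulCommutative V)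
    (hVe : ∀ a ∈ V, a ^ p = 1) (hXV : X ≤ normalizer (V : Set G))
    (hQV : Q ≤ normalizer (V : Set G)) (hfaith : Q ⊓ centralizer (V : Set G) = ⊥)
    (hCV : V ⊓ centralizer (X : Set G) = ⊥)
    (hexc : (∀ m, 1 ≤ m → r - 1 ≠ q ^ m) ∨ IsMulCommutative Q) :
    X ≤ centralizer (Q : Set G) := by
  haveI := Fact.mk hp
  haveI := Fact.mk hq
  obtain ⟨x, hxX, hXx, hxr, hxV⟩ := exists_generator hr hX hCV
  set Γ := normalizer (Q : Set G) ⊓ normalizer (V : Set G) with hΓ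
  obtain ⟨d, ρ, hρ1, hρ2⟩ := exists_conj_rep hVc hVe (inf_le_right : Γ ≤ normalizer (V : Set G))
  set K := AlgebraicClosure (ZMod p)
  have hQΓ : Q ≤ Γ := le_inf le_normalizer hQV
  haveI : (Q.subgroupOf Γ).Normal :=
    (normal_subgroupOf_iff_le_normalizer hQΓ).2 inf_le_left
  let x₁ : Γ := ⟨x, hXQ hxX, hXV hxX⟩
  have hsum := hρ2 x₁ r (Subtype.ext hxr) hxV
  have hqK : (q : K) ≠ 0 := fun h0 =>
    hpq ((Nat.prime_dvd_prime_iff_eq hp hq).mp ((CharP.cast_eq_zero_iff K p _).mp h0))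
  have hrK : (r : K) ≠ 0 := fun h0 =>
    hpr ((Nat.prime_dvd_prime_iff_eq hp hr).mp ((CharP.cast_eq_zero_iff K p _).mp h0))
  have hQ1 : IsPGroup q (Q.subgroupOf Γ) := hQ.of_equiv (subgroupOfEquivOfLe hQΓ).symm
  have hc : ∀ y (hy : y ∈ Q), ρ (x₁ * ⟨y, hQΓ hy⟩) = ρ (⟨y, hQΓ hy⟩ * x₁) := by
    intro y hy
    rcases hexc with hexc | hab
    · exact prime_fpf_commute (Q.subgroupOf Γ) ρ hr hqr hexc hQ1 hqK hrK
        (Subtype.ext hxr) hsum (y := (⟨y, hQΓ hy⟩ : Γ)) hy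
    · have h := commute_of_abelian ρ hr (n := 0) (s := x₁) (Q := Q.subgroupOf Γ)
        (by rw [zero_add, pow_one]; exact Subtype.ext hxr) (by rw [zero_add, pow_one]; exact hsum)
        (by
          rw [Nat.card_congr (subgroupOfEquivOfLe hQΓ).toEquiv]
          exact natCard_cast_ne_zero hQ hqK)
        (fun a ha b hb => congrArg ρ (Subtype.ext (by
          show (a : G) * b = b * a
          exact congrArg Subtype.val (isMulCommutative_iff.1 hab ⟨a, ha⟩ ⟨b, hb⟩))))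
        (y := (⟨y, hQΓ hy⟩ : Γ)) hy
      rwa [pow_zero, pow_one] at h
  rw [hXx, zpowers_le]
  refine mem_centralizer_iff.2 fun y hy => ?_
  have h1 : ⁅x₁, (⟨y, hQΓ hy⟩ : Γ)⁆ ∈ ρ.ker := by
    rw [MonoidHom.mem_ker, show ⁅x₁, (⟨y, hQΓ hy⟩ : Γ)⁆ =
      x₁ * ⟨y, hQΓ hy⟩ * (⟨y, hQΓ hy⟩ * x₁)⁻¹ by rw [commutatorElement_def]; group, map_mul, hc y hy,
      ← map_mul, mul_inv_cancel, map_one]
  have h2 : ⁅x, y⁆ ∈ Q ⊓ centralizer (V : Set G) := by
    refine mem_inf.2 ⟨?_, (hρ1 _).1 (MonoidHom.mem_ker.1 h1)⟩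
    rw [commutatorElement_def]
    exact mul_mem (le_normalizer_iff.1 hXQ x hxX y hy) (inv_mem hy)
  rw [hfaith, mem_bot, commutatorElement_eq_one_iff_mul_comm] at h2
  exact h2.symm

/-- An extraspecial group with an element of prime order `r` fixed-point-free on a faithful
module and centralising only the centre: it is a `2`-group of order `2 ^ (2 n + 1)`, `r = 2 ^ n + 1`. -/
theorem extraspecial_exceptional {p q r : ℕ} (hp : p.Prime) (hq : q.Prime) (hr : r.Prime)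
    (hpq : p ≠ q) (hpr : p ≠ r) (hqr : q ≠ r) {X Q V : Subgroup G} (hX : Nat.card X = r)
    (hQ : Cfsg.IsExtraspecial q Q) (hXQ : X ≤ normalizer (Q : Set G))
    (hCQ : Q ⊓ centralizer (X : Set G) = (center Q).map Q.subtype) (hVc : IsMulCommutative V)
    (hVe : ∀ a ∈ V, a ^ p = 1) (hXV : X ≤ normalizer (V : Set G))
    (hQV : Q ≤ normalizer (V : Set G)) (hfaith : Q ⊓ centralizer (V : Set G) = ⊥)
    (hCV : V ⊓ centralizer (X : Set G) = ⊥) :
    q = 2 ∧ ∃ n : ℕ, r = 2 ^ n + 1 ∧ Nat.card Q = 2 ^ (2 * n + 1) := by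
  haveI := Fact.mk hp
  haveI := Fact.mk hq
  haveI := Fact.mk hr
  have hQp : IsPGroup q Q := hQ.1.1
  have hnab : ¬ ∀ a ∈ Q, ∀ b ∈ Q, a * b = b * a := fun hab => by
    have h1 : commutator Q = ⊥ := by
      rw [commutator_def, commutator_eq_bot_iff_le_centralizer]
      exact fun a _ => mem_centralizer_iff.2 fun b _ => Subtype.ext (hab b b.2 a a.2)
    have h2 := hQ.2
    rw [← hQ.1.2.2, h1, Subgroup.card_bot] at h2
    exact hq.one_lt.ne h2
  set Z := (center Q).map Q.subtype with hZdef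
  have hcZ : Nat.card Z = q := by
    rw [hZdef, card_map_of_injective Q.subtype_injective]; exact hQ.2
  have hZQ : Z ≤ Q := map_subtype_le _
  have hZc : ∀ c ∈ Z, ∀ w ∈ Q, w * c = c * w := by
    rintro _ ⟨c, hc, rfl⟩ w hw
    exact congrArg Subtype.val (mem_center_iff.1 hc ⟨w, hw⟩)
  have hcenter : ∀ c ∈ Q, (∀ w ∈ Q, w * c = c * w) → c ∈ Z := fun c hc h =>
    ⟨⟨c, hc⟩, mem_center_iff.2 fun w => Subtype.ext (h w w.2), rfl⟩
  have hcommZ : ∀ a ∈ Q, ∀ b ∈ Q, ⁅a, b⁆ ∈ Z := fun a ha b hb =>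
    ⟨⁅(⟨a, ha⟩ : Q), ⟨b, hb⟩⁆, hQ.1.2.2.le
      (commutator_mem_commutator (Subgroup.mem_top _) (Subgroup.mem_top _)), rfl⟩
  obtain ⟨x, hxX, hXx, hxr, hxV⟩ := exists_generator hr hX hCV
  set Γ := normalizer (Q : Set G) ⊓ normalizer (V : Set G) with hΓ
  obtain ⟨d, ρ, hρ1, hρ2⟩ := exists_conj_rep hVc hVe (inf_le_right : Γ ≤ normalizer (V : Set G))
  set K := AlgebraicClosure (ZMod p)
  have hQΓ : Q ≤ Γ := le_inf le_normalizer hQV
  have hQ₁n : (Q.subgroupOf Γ).Normal := (normal_subgroupOf_iff_le_normalizer hQΓ).2 inf_le_left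
  haveI := hQ₁n
  set Z₁ := Z.subgroupOf Γ with hZ₁
  haveI : Z₁.Normal := by
    refine ⟨fun c hc g => ?_⟩
    have hconj : ∀ w ∈ Q, ∀ o : Γ, (o : G) * w * (o : G)⁻¹ ∈ Q :=
      fun w hw o => (mem_normalizer_iff.1 o.2.1 w).1 hw
    refine hcenter _ (hconj _ (hZQ hc) g) fun w hw => ?_
    have h1 : (g : G)⁻¹ * w * g * c = c * ((g : G)⁻¹ * w * g) :=
      hZc _ hc _ (by simpa using hconj w hw g⁻¹)
    show w * ((g : G) * c * (g : G)⁻¹) = (g : G) * c * (g : G)⁻¹ * w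
    calc w * ((g : G) * c * (g : G)⁻¹) = g * (((g : G)⁻¹ * w * g) * c) * (g : G)⁻¹ := by group
      _ = g * (c * ((g : G)⁻¹ * w * g)) * (g : G)⁻¹ := by rw [h1]
      _ = _ := by group
  haveI : Fintype Z₁ := Fintype.ofFinite Z₁
  let x₁ : Γ := ⟨x, hXQ hxX, hXV hxX⟩
  have hsum := hρ2 x₁ r (Subtype.ext hxr) hxV
  have hqK : (q : K) ≠ 0 := fun h0 =>
    hpq ((Nat.prime_dvd_prime_iff_eq hp hq).mp ((CharP.cast_eq_zero_iff K p _).mp h0))
  have hrK : (r : K) ≠ 0 := fun h0 =>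
    hpr ((Nat.prime_dvd_prime_iff_eq hp hr).mp ((CharP.cast_eq_zero_iff K p _).mp h0))
  have hcZ₁ : Nat.card Z₁ = q :=
    (Nat.card_congr (subgroupOfEquivOfLe (hZQ.trans hQΓ)).toEquiv).trans hcZ
  have hZK : (Fintype.card Z₁ : K) ≠ 0 := by
    rw [← Nat.card_eq_fintype_card, hcZ₁]; exact hqK
  have hZcomm : IsMulCommutative Z₁ :=
    isMulCommutative_iff.2 fun a b => Subtype.ext (Subtype.ext (hZc _ b.2 _ (hZQ a.2)))
  -- a block on which the centre acts faithfully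
  obtain ⟨l, hl0, hl1⟩ : ∃ l : Z₁ →* Kˣ, weightIdem Z₁ ρ l ≠ 0 ∧ l ≠ 1 := by
    by_contra hno
    push Not at hno
    obtain ⟨z, hz, hz1⟩ : ∃ z ∈ Z, z ≠ 1 := by
      by_contra h0
      push Not at h0
      rw [(eq_bot_iff_forall Z).2 h0, Subgroup.card_bot] at hcZ
      exact hq.one_lt.ne hcZ
    have h1 : ρ ⟨z, hQΓ (hZQ hz)⟩ = 1 := by
      refine eq_of_forall_mul_weightIdem ρ hZcomm hZK fun l hl => ?_
      rw [map_mem_mul_weightIdem ρ l ⟨⟨z, hQΓ (hZQ hz)⟩, hz⟩, hno l hl, MonoidHom.one_apply,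
        Units.val_one, one_smul, one_mul]
    exact hz1 (mem_bot.1 (hfaith ▸ (⟨hZQ hz, (hρ1 _).1 h1⟩ : z ∈ Q ⊓ centralizer (V : Set G))))
  set e := weightIdem Z₁ ρ l with he
  set Γ₁ := MulAction.stabilizer Γ l with hΓ₁
  have hcΓ₁ : ∀ o ∈ Γ₁, ρ o * e = e * ρ o := fun o ho => by
    rw [he, map_mul_weightIdem_smul, MulAction.mem_stabilizer_iff.mp ho]
  have hQΓ₁ : Q.subgroupOf Γ ≤ Γ₁ := fun o ho =>
    dual_smul_eq_self_of_commute l fun z hz => Subtype.ext (hZc _ hz _ ho)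
  have hxΓ₁ : x₁ ∈ Γ₁ := by
    refine dual_smul_eq_self_of_commute l fun z hz => Subtype.ext ?_
    have h1 : (z : G) ∈ Q ⊓ centralizer (X : Set G) := hCQ.ge hz
    exact mem_centralizer_iff.1 h1.2 x hxX
  obtain ⟨θ, -, hθeq, hθscal, hθsum⟩ := exists_range_rep ρ e Γ₁ hcΓ₁
  haveI : Nontrivial (LinearMap.range e) := Submodule.nontrivial_iff_ne_bot.mpr fun h0 =>
    hl0 (LinearMap.range_eq_bot.mp h0)
  set R := (Q.subgroupOf Γ).subgroupOf Γ₁ with hR
  haveI : R.Normal := hQ₁n.subgroupOf Γ₁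
  let ι : ∀ y ∈ Q, Γ₁ := fun y hy => ⟨⟨y, hQΓ hy⟩, hQΓ₁ (show (⟨y, hQΓ hy⟩ : Γ) ∈ Q.subgroupOf Γ from hy)⟩
  have hker : ∀ w : Γ₁, w ∈ R → θ w = 1 → w = 1 := by
    set N := ((R ⊓ θ.ker).map Γ₁.subtype).map Γ.subtype with hN
    have hNQ : N ≤ Q := by
      rintro _ ⟨_, ⟨w, hw, rfl⟩, rfl⟩; exact hw.1
    haveI : (N.subgroupOf Q).Normal := by
      refine (normal_subgroupOf_iff_le_normalizer hNQ).2 (le_normalizer_iff.2 fun y hy z hz => ?_)
      obtain ⟨_, ⟨w, hw, rfl⟩, rfl⟩ := hz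
      exact ⟨_, ⟨ι y hy * w * (ι y hy)⁻¹, (inferInstance : (R ⊓ θ.ker).Normal).conj_mem w hw _, rfl⟩, rfl⟩
    haveI : Group.IsNilpotent Q := hQp.isNilpotent
    intro w hw hw1
    by_contra hne
    have hbot : N.subgroupOf Q ≠ ⊥ := fun h0 => hne (by
      have hmem : (⟨((w : Γ) : G), hw⟩ : Q) ∈ N.subgroupOf Q :=
        ⟨(w : Γ), ⟨w, ⟨hw, MonoidHom.mem_ker.2 hw1⟩, rfl⟩, rfl⟩
      rw [h0, mem_bot] at hmem
      exact Subtype.ext (Subtype.ext (congrArg (fun z : Q => (z : G)) hmem)))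
    obtain ⟨⟨⟨c, hc⟩, hcN, hcc⟩, hc2⟩ :=
      Subgroup.ne_bot_iff_exists_ne_one.1 (FrattiniFitting.inf_center_ne_bot (N.subgroupOf Q) hbot)
    obtain ⟨_, ⟨v, hv, rfl⟩, hvc⟩ := hcN
    have hvZ : ((v : Γ) : G) ∈ Z := ⟨⟨c, hc⟩, hcc, hvc.symm⟩
    set z₀ : Z₁ := ⟨v, hvZ⟩ with hz₀
    have h1 : θ v = (l z₀ : K) • 1 := (hθscal _ _).2 (map_mem_mul_weightIdem ρ l z₀)
    rw [MonoidHom.mem_ker.1 hv.2] at h1
    obtain ⟨b, hb⟩ : ∃ b : LinearMap.range e, b ≠ 0 := exists_ne 0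
    have h2 : (l z₀ : K) = 1 := by
      have := LinearMap.congr_fun h1 b
      rw [Module.End.one_apply, LinearMap.smul_apply, Module.End.one_apply] at this
      exact (smul_left_injective K hb (by simpa using this.symm))
    refine hl1 ?_
    have hz₀1 : z₀ ≠ 1 := fun h0 => hc2 (Subtype.ext (Subtype.ext (by
      show c = 1
      rw [show c = ((v : Γ) : G) from hvc.symm]
      exact congrArg (fun z : Z₁ => ((z : Γ) : G)) h0)))
    haveI : Fact (Nat.card Z₁).Prime := ⟨hcZ₁ ▸ hq⟩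
    refine MonoidHom.ext fun z => ?_
    obtain ⟨i, rfl⟩ := mem_zpowers_iff.1
      ((zpowers_eq_top_of_prime_card rfl hz₀1).symm ▸ Subgroup.mem_top z : z ∈ zpowers z₀)
    rw [map_zpow, show l z₀ = 1 from Units.ext h2, one_zpow, MonoidHom.one_apply]
  let x₂ : Γ₁ := ⟨x₁, hxΓ₁⟩
  have hsum₂ : ∑ i ∈ Finset.range r, θ (x₂ ^ i) = 0 := by
    have h' := (hθsum (Finset.range r) (fun _ => 1) (fun i => x₂ ^ i)).2 (by
      simp only [one_smul, SubmonoidClass.coe_pow, x₂]; rw [hsum, zero_mul])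
    simpa using h'
  rcases commute_or_exceptional θ R (t := q) hr hqr
      ((hQp.of_equiv (subgroupOfEquivOfLe hQΓ).symm).of_equiv (subgroupOfEquivOfLe hQΓ₁).symm) hqK
      hrK (s := x₂) (Subtype.ext (Subtype.ext hxr)) hsum₂
      (fun a ha b hb => ⟨l ⟨⁅(a : Γ), (b : Γ)⁆, hcommZ _ ha _ hb⟩,
        (hθscal _ _).2 (map_mem_mul_weightIdem ρ l ⟨⁅(a : Γ), (b : Γ)⁆, hcommZ _ ha _ hb⟩)⟩)
    with h1 | ⟨m, hm1, hm, T, T₀, hT₀T, hTR, hgen, hscal, hidx⟩
  · refine absurd (fun a ha b hb => hZc b (hCQ.le ⟨hb, ?_⟩) a ha) hnab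
    have h2 : ∀ y ∈ Q, x * y = y * x := fun y hy => by
      have h3 : ⁅x₂, ι y hy⁆ = 1 := by
        refine hker _ ?_ ?_
        · show ⁅x, y⁆ ∈ Q
          rw [commutatorElement_def]
          exact mul_mem (le_normalizer_iff.1 hXQ x hxX y hy) (inv_mem hy)
        · rw [show ⁅x₂, ι y hy⁆ = x₂ * ι y hy * (ι y hy * x₂)⁻¹ by
            rw [commutatorElement_def]; group, map_mul, h1 (ι y hy) hy, ← map_mul, mul_inv_cancel,
            map_one]
      rw [commutatorElement_eq_one_iff_mul_comm] at h3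
      exact congrArg (fun g : Γ₁ => ((g : Γ) : G)) h3
    refine mem_centralizer_iff.2 fun w hw => ?_
    rw [hXx] at hw
    obtain ⟨i, rfl⟩ := mem_zpowers_iff.1 hw
    exact (Commute.zpow_left (h2 b hb) i).eq
  -- `q = 2`
  have hq2 : q = 2 := by
    rcases hq.eq_two_or_odd' with h | h
    · exact h
    exfalso
    have h2 : Odd (r - 1) := hm ▸ h.pow
    rcases hr.eq_two_or_odd' with h3 | h3
    · subst h3
      have := Nat.le_self_pow (by omega : m ≠ 0) q
      have := hq.two_le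
      omega
    · obtain ⟨a, ha⟩ := h3
      obtain ⟨b, hb⟩ := h2
      omega
  refine ⟨hq2, m, ?_⟩
  subst hq2
  have hrm : r = 2 ^ m + 1 := by have := hr.two_le; omega
  refine ⟨hrm, ?_⟩
  set f := Γ.subtype.comp Γ₁.subtype with hf
  have hfinj : Function.Injective f := Γ.subtype_injective.comp Γ₁.subtype_injective
  set T' := T.map f with hT'
  have hT'Q : T' ≤ Q := by
    rintro _ ⟨w, hw, rfl⟩; exact hTR hw
  have hT₀Z : T₀.map f ≤ Z := by
    rintro _ ⟨w, hw, rfl⟩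
    obtain ⟨κ, hκ⟩ := hscal w hw
    refine hcenter _ (hTR (hT₀T hw)) fun y hy => ?_
    have h3 : ⁅ι y hy, w⁆ = 1 := by
      refine hker _ ?_ ?_
      · show ⁅y, f w⁆ ∈ Q
        exact hZQ (hcommZ y hy _ (hTR (hT₀T hw)))
      · rw [show ⁅ι y hy, w⁆ = ι y hy * w * (w * ι y hy)⁻¹ by rw [commutatorElement_def]; group,
          map_mul, map_mul θ (ι y hy) w, hκ, mul_smul_comm, mul_one,
          show (κ • θ (ι y hy)) = κ • (1 : Module.End K (LinearMap.range e)) * θ (ι y hy) by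
            rw [smul_mul_assoc, one_mul], ← hκ, ← map_mul, ← map_mul, mul_inv_cancel, map_one]
    rw [commutatorElement_eq_one_iff_mul_comm] at h3
    exact congrArg f h3
  have hXnormQ : zpowers x ≤ normalizer (Q : Set G) := hXx ▸ hXQ
  have hcop : (Nat.card (zpowers x)).Coprime (Nat.card Q) := by
    obtain ⟨j, hj⟩ := IsPGroup.iff_card.mp hQp
    rw [← hXx, hX, hj]
    exact ((Nat.coprime_primes hr hq).2 hqr.symm).pow_right j
  have hQsup : Q = T' ⊔ Z := by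
    refine le_antisymm ?_ (sup_le hT'Q hZQ)
    rw [← Coprime.commutator_sup_centralizer hXnormQ hcop (Or.inl (Coprime.isSolvable_zpowers x))]
    refine sup_le_sup (commutator_le.2 fun y hy b hb => ?_) ?_
    · obtain ⟨i, rfl⟩ := (isOfFinOrder_of_finite x).mem_powers_iff_mem_zpowers.mpr hb
      have hTn : ∀ y ∈ Q, ⁅x, y⁆ ∈ T' := fun y hy => ⟨⁅x₂, ι y hy⁆, hgen _ hy, rfl⟩
      have key : ∀ j : ℕ, ∀ y ∈ Q, ⁅x ^ j, y⁆ ∈ T' := by
        intro j
        induction j with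
        | zero => intro y _; rw [pow_zero, commutatorElement_one_left]; exact one_mem _
        | succ j ih =>
          intro y hy
          have hxy : x * y * x⁻¹ ∈ Q := le_normalizer_iff.1 hXQ x hxX y hy
          rw [show ⁅x ^ (j + 1), y⁆ = ⁅x ^ j, x * y * x⁻¹⁆ * ⁅x, y⁆ by
            rw [pow_succ]; simp only [commutatorElement_def]; group]
          exact mul_mem (ih _ hxy) (hTn y hy)
      show ⁅y, x ^ i⁆ ∈ T'
      rw [← inv_mem_iff, commutatorElement_inv]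
      exact key i y hy
    · rw [← hXx]; exact hCQ.le
  have hbound : Nat.card Q ∣ 2 * (2 ^ m * 2 ^ m) := by
    have hrel : Z.relIndex Q = Z.relIndex T' := by
      haveI : (Z.subgroupOf Q).Normal := ⟨fun c hc g => by
        show (g : G) * c * (g : G)⁻¹ ∈ Z
        have h0 : (g : G) * c = c * g := hZc _ hc _ g.2
        rw [h0, mul_inv_cancel_right]; exact hc⟩
      have h1 := Subgroup.relIndex_sup_right (T'.subgroupOf Q) (Z.subgroupOf Q)
      rw [← Subgroup.subgroupOf_sup hT'Q hZQ, ← hQsup, Subgroup.relIndex_subgroupOf (le_refl Q),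
        Subgroup.relIndex_subgroupOf hT'Q] at h1
      exact h1
    have h2 : Nat.card Q = 2 * Z.relIndex Q := by
      rw [← hcZ, ← Subgroup.relIndex_bot_left Q, ← Subgroup.relIndex_mul_relIndex ⊥ Z Q bot_le hZQ,
        Subgroup.relIndex_bot_left]
    rw [h2, hrel]
    refine Nat.mul_dvd_mul_left 2 ?_
    refine (Subgroup.relIndex_dvd_of_le_left T' hT₀Z).trans ?_
    rw [hT', Subgroup.relIndex_map_map_of_injective _ _ hfinj, hidx, hm]
  obtain ⟨j, hj⟩ := IsPGroup.iff_card.mp hQp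
  have hfixQ : Nat.card Q ≡ 2 [MOD r] := by
    let act : MulAction X Q :=
      MulAction.compHom _ (Coprime.conjHom hXQ : X →* MulAut Q)
    have h1 := IsPGroup.card_modEq_card_fixedPoints (p := r) (G := X)
      (IsPGroup.of_card (n := 1) (by rw [hX, pow_one])) Q
    have h2 : Nat.card (MulAction.fixedPoints X Q) = 2 := by
      rw [← hcZ]
      refine Nat.card_congr
        { toFun := fun y => ⟨(y : Q), hCQ.le ⟨(y : Q).2, mem_centralizer_iff.2 fun a ha => by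
            have h3 : (Coprime.conjHom hXQ ⟨a, ha⟩) (y : Q) = (y : Q) := y.2 ⟨a, ha⟩
            exact mul_inv_eq_iff_eq_mul.1 ((Coprime.conjHom_apply hXQ ⟨a, ha⟩ _).symm.trans
              (congrArg Subtype.val h3))⟩⟩
          invFun := fun c => ⟨⟨c, hZQ c.2⟩, fun a => Subtype.ext (by
            show ((Coprime.conjHom hXQ a) (⟨c, hZQ c.2⟩ : Q) : G) = c
            rw [Coprime.conjHom_apply, mul_inv_eq_iff_eq_mul]
            exact mem_centralizer_iff.1 (hCQ.ge c.2).2 a a.2)⟩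
          left_inv := fun y => rfl
          right_inv := fun c => rfl }
    rw [h2] at h1
    exact h1
  rw [hj] at hbound hfixQ ⊢
  have hjle : j ≤ 2 * m + 1 := by
    have h1 : 2 ^ j ∣ 2 ^ (2 * m + 1) := by
      rw [show 2 ^ (2 * m + 1) = 2 * (2 ^ m * 2 ^ m) by ring]; exact hbound
    exact (Nat.pow_dvd_pow_iff_le_right one_lt_two).1 h1
  have hj1 : 2 ≤ j := by
    by_contra hlt
    push Not at hlt
    refine hnab fun a ha b hb => ?_
    have h1 : Nat.card Q ≤ 2 := by rw [hj]; interval_cases j <;> norm_num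
    have h2 : Z = Q := eq_of_le_of_card_ge hZQ (by rw [hcZ]; exact h1)
    exact hZc b (h2 ▸ hb) a ha
  have hd : 2 ^ m + 1 ∣ 2 ^ (j - 1) - 1 := by
    have h1 : r ∣ 2 ^ j - 2 := (Nat.modEq_iff_dvd' (Nat.le_self_pow (by omega) 2)).1 hfixQ.symm
    rw [show 2 ^ j - 2 = 2 * (2 ^ (j - 1) - 1) by
      rw [Nat.mul_sub, ← pow_succ', show j - 1 + 1 = j by omega, mul_one]] at h1
    rw [← hrm]
    exact (((Nat.coprime_primes hr hq).2 hqr.symm)).dvd_of_dvd_mul_left h1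
  suffices h : j - 1 = 2 * m by
    rw [show j = 2 * m + 1 by omega]
  set i := j - 1 with hi
  have hipos : 1 ≤ i := by omega
  have hile : i ≤ 2 * m := by omega
  by_contra hne
  obtain ⟨a, ha⟩ := hd
  rcases le_or_gt i m with h1 | h1
  · have h2 : 2 ^ i ≤ 2 ^ m := Nat.pow_le_pow_right (by norm_num) h1
    have h3 : 2 ≤ 2 ^ i := Nat.le_self_pow (by omega) 2
    rcases Nat.eq_zero_or_pos a with ha0 | ha0
    · rw [ha0, mul_zero] at ha; omega
    · have : 2 ^ m + 1 ≤ (2 ^ m + 1) * a := Nat.le_mul_of_pos_right _ ha0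
      omega
  · obtain ⟨k, hk⟩ : ∃ k, i = m + k := ⟨i - m, by omega⟩
    have hkm : k < m := by omega
    have h2 : 2 ^ k < 2 ^ m := Nat.pow_lt_pow_right (by norm_num) hkm
    have h3 : (2 : ℕ) ^ i = 2 ^ m * 2 ^ k := by rw [hk, pow_add]
    have h4 : 1 ≤ 2 ^ m * 2 ^ k := Nat.one_le_iff_ne_zero.2 (by positivity)
    rw [h3] at ha
    -- `(2 ^ m + 1) * a + 1 = 2 ^ m * 2 ^ k`, so `a < 2 ^ k`, and `a + 1` is a multiple of `2 ^ m`
    have h5 : (2 ^ m + 1) * a + 1 = 2 ^ m * 2 ^ k := by omega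
    have h6 : a < 2 ^ k := by nlinarith
    have h7 : 2 ^ m ∣ a + 1 := by
      have h8 : 2 ^ m ∣ 2 ^ m * a + (a + 1) := ⟨2 ^ k, by linarith⟩
      exact (Nat.dvd_add_right (dvd_mul_right _ _)).1 h8
    have := Nat.le_of_dvd (by omega) h7
    omega

end CfsgLib.Solvable.FPFOperators
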