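import Cfsg.Agent.Lib.Solvable.FPFOperators.FactorRep
import Cfsg.Agent.Lib.Solvable.FPFNilpotent
import Cfsg.Agent.Lib.Coprime.Sylow
import Cfsg.Agent.Lib.OddOrder.Basic
import Mathlib.GroupTheory.SemidirectProduct

/-!
# Groups with operators without fixed points
-/

set_option autoImplicit false

namespace CfsgLib.Solvable.FPFOperators

open Subgroup CfsgLib
open scoped commutatorElement Pointwise

section Setup

variable {Γ : Type*} [Group Γ]

/-- A solvable normal subgroup with operators of coprime order and no common fixed point. -/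
structure OpSetup (G A : Subgroup Γ) : Prop where
  normalG : G.Normal
  solvG : Group.IsSolvable G
  solvA : Group.IsSolvable A
  cop : (Nat.card A).Coprime (Nat.card G)
  fix : ∀ y ∈ G, (∀ a ∈ A, a * y = y * a) → y = 1

theorem orderOf_map_le [Finite Γ] {Δ : Type*} [Group Δ] (f : Γ →* Δ) (x : Γ) :
    orderOf (f x) ∣ orderOf x :=
  orderOf_map_dvd f x

theorem mem_of_coprime_exponent [Finite Γ] {N : Subgroup Γ} [N.Normal] {r : ℕ} {m : Γ}
    (hr : r.Prime) (hm : m ^ r ∈ N) :
    ∃ k : ℕ, m⁻¹ * m ^ k ∈ N ∧ ∀ q : ℕ, q.Prime → q ≠ r → ¬ q ∣ orderOf (m ^ k) := by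
  obtain ⟨e, u, hu, hou⟩ := Nat.exists_eq_pow_mul_and_not_dvd (orderOf_pos m).ne' r hr.ne_one
  have hcop : u.Coprime r := ((hr.coprime_iff_not_dvd).mpr hu).symm
  by_cases hr1 : u = 1
  · refine ⟨1, by rw [pow_one, inv_mul_cancel]; exact one_mem N, fun q hq hqr hd => hqr ?_⟩
    rw [pow_one, hou, hr1, mul_one] at hd
    exact (Nat.prime_dvd_prime_iff_eq hq hr).mp (hq.dvd_of_dvd_pow hd)
  obtain ⟨k, hk⟩ : ∃ k : ℕ, u * k % r = 1 % r := by
    obtain ⟨k, -, hk⟩ := Nat.exists_mul_mod_eq_one_of_coprime hcop hr.one_lt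
    exact ⟨k, hk.trans (Nat.mod_eq_of_lt hr.one_lt).symm⟩
  refine ⟨u * k, ?_, fun q hq hqr hd => ?_⟩
  · obtain ⟨t, ht⟩ : ∃ t, u * k = 1 + r * t := by
      refine ⟨u * k / r, ?_⟩
      have h1 := Nat.div_add_mod (u * k) r
      rw [hk, Nat.mod_eq_of_lt hr.one_lt] at h1
      omega
    rw [ht, pow_add, pow_one, inv_mul_cancel_left, pow_mul]
    exact pow_mem hm t
  · have h1 : orderOf (m ^ (u * k)) ∣ r ^ e := orderOf_dvd_of_pow_eq_one (by
      rw [← pow_mul, show u * k * r ^ e = r ^ e * u * k by ring, pow_mul, ← hou, pow_orderOf_eq_one,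
        one_pow])
    exact hqr ((Nat.prime_dvd_prime_iff_eq hq hr).mp (hq.dvd_of_dvd_pow (hd.trans h1)))

/-- Coprime elements of nilpotent centralisers: a fixed element acts trivially on a fixed coset. -/
theorem commutator_mem_of_isNilpotent [Finite Γ] {C N : Subgroup Γ} [N.Normal]
    (hC : Group.IsNilpotent C) {q r : ℕ} (hq : q.Prime) (hr : r.Prime) (hqr : q ≠ r) {y m : Γ}
    (hy : y ∈ C) (hm : m ∈ C) (hyq : ∃ k, y ^ q ^ k = 1) (hmr : m ^ r ∈ N) : ⁅y, m⁆ ∈ N := by
  haveI := hC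
  obtain ⟨k, hk, hord⟩ := mem_of_coprime_exponent hr hmr
  obtain ⟨j, hj⟩ := hyq
  have hcop : (orderOf y).Coprime (orderOf (m ^ k)) := by
    refine Nat.Coprime.coprime_dvd_left (orderOf_dvd_of_pow_eq_one hj)
      (Nat.Coprime.pow_left j (hq.coprime_iff_not_dvd.mpr (hord q hq hqr)))
  have hcomm := OddOrder.Basic.commute_of_mem_nilpotent (K := C) hy (pow_mem hm k) hcop
  rw [← QuotientGroup.eq_one_iff]
  show QuotientGroup.mk' N ⁅y, m⁆ = 1
  have e : QuotientGroup.mk' N m = QuotientGroup.mk' N (m ^ k) := QuotientGroup.eq.mpr hk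
  rw [map_commutatorElement, e, ← map_commutatorElement,
    commutatorElement_eq_one_iff_mul_comm.mpr hcomm, map_one]

/-- A `q`-group acts trivially on a chief factor of exponent `q` if, together with `F`, it is
normal. -/
theorem IsChief.trivial_of_pgroup [Finite Γ] {N M Q F : Subgroup Γ} (h : IsChief N M) {q : ℕ}
    [Fact q.Prime] (hexp : ∀ a ∈ M, a ^ q ∈ N) (hQ : IsPGroup q Q) (hQF : (Q ⊔ F).Normal)
    (hF : ∀ g ∈ F, ∀ m ∈ M, ⁅g, m⁆ ∈ N) : ∀ g ∈ Q, ∀ m ∈ M, ⁅g, m⁆ ∈ N := by
  haveI := h.normalN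
  haveI := h.normalM
  set mk := QuotientGroup.mk' N with hmk
  haveI : (M.map mk).Normal := h.normalM.map mk (QuotientGroup.mk'_surjective _)
  let act : MulAction Q (M.map mk) := MulAction.compHom _
    ((MulAut.conjNormal.comp (mk.comp Q.subtype)) : Q →* MulAut (M.map mk))
  have hpV : IsPGroup q (M.map mk) := by
    rintro ⟨_, m, hm, rfl⟩
    exact ⟨1, Subtype.ext (by
      rw [SubmonoidClass.coe_pow, pow_one, ← map_pow, OneMemClass.coe_one]
      exact (QuotientGroup.eq_one_iff _).mpr (hexp m hm))⟩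
  have hne : M.map mk ≠ ⊥ := fun h0 => h.lt.not_ge (by
    have := (Subgroup.map_eq_bot_iff _).mp h0
    rwa [QuotientGroup.ker_mk'] at this)
  obtain ⟨k, hk⟩ := IsPGroup.iff_card.mp hpV
  have hdvd : q ∣ Nat.card (M.map mk) := by
    rw [hk]
    refine dvd_pow_self q fun h0 => hne ?_
    rw [← Subgroup.card_eq_one, hk, h0, pow_zero]
  have hone : (1 : M.map mk) ∈ MulAction.fixedPoints Q (M.map mk) := fun g => by
    show (MulAut.conjNormal (mk g) : MulAut (M.map mk)) 1 = 1
    exact map_one _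
  obtain ⟨⟨_, m₀, hm₀, rfl⟩, hfix, hne₀⟩ :=
    hQ.exists_fixed_point_of_prime_dvd_card_of_fixed_point (M.map mk) hdvd hone
  have hm₀N : m₀ ∉ N := fun h0 => hne₀ (Subtype.ext ((QuotientGroup.eq_one_iff _).mpr h0).symm)
  let C : Subgroup Γ := (Subgroup.centralizer ((Q ⊔ F).map mk : Set (Γ ⧸ N))).comap mk
  haveI : ((Q ⊔ F).map mk).Normal := hQF.map mk (QuotientGroup.mk'_surjective _)
  haveI hCn : C.Normal := (inferInstance : (Subgroup.centralizer _).Normal).comap mk
  have hmemC : ∀ {m}, m ∈ C → ∀ g ∈ Q ⊔ F, ⁅g, m⁆ ∈ N := fun {m} hm g hg => by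
    rw [← QuotientGroup.eq_one_iff]
    show mk ⁅g, m⁆ = 1
    rw [map_commutatorElement, commutatorElement_eq_one_iff_mul_comm]
    exact Subgroup.mem_centralizer_iff.mp (Subgroup.mem_comap.mp hm) _ (Subgroup.mem_map_of_mem _ hg)
  have hm₀C : m₀ ∈ C := by
    refine Subgroup.mem_comap.mpr (Subgroup.mem_centralizer_iff.mpr ?_)
    have hle : (Q ⊔ F).map mk ≤ Subgroup.centralizer ({mk m₀} : Set (Γ ⧸ N)) := by
      rw [Subgroup.map_le_iff_le_comap]
      refine sup_le (fun g hg => ?_) fun g hg => ?_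
      · have h1 : mk g * mk m₀ * (mk g)⁻¹ = mk m₀ := congrArg Subtype.val (hfix ⟨g, hg⟩)
        refine Subgroup.mem_comap.mpr (Subgroup.mem_centralizer_iff.mpr ?_)
        rintro _ rfl
        exact (mul_inv_eq_iff_eq_mul.mp h1).symm
      · refine Subgroup.mem_comap.mpr (Subgroup.mem_centralizer_iff.mpr ?_)
        rintro _ rfl
        have := (QuotientGroup.eq_one_iff _).mpr (hF g hg m₀ hm₀)
        rw [show ((⁅g, m₀⁆ : Γ) : Γ ⧸ N) = mk ⁅g, m₀⁆ from rfl, map_commutatorElement,
          commutatorElement_eq_one_iff_mul_comm] at this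
        exact this.symm
    intro z hz
    exact ((Subgroup.mem_centralizer_iff.mp (hle hz)) _ rfl).symm
  have hNC : N ≤ C := fun x hx => Subgroup.mem_comap.mpr (by
    rw [show mk x = 1 from (QuotientGroup.eq_one_iff _).mpr hx]; exact one_mem _)
  rcases h.minimal (C ⊓ M) inferInstance (le_inf hNC h.lt.le) inf_le_right with h1 | h1
  · exact absurd (h1.le ⟨hm₀C, hm₀⟩) hm₀N
  · exact fun g hg m hm => hmemC (h1.ge hm).1 g (Subgroup.mem_sup_left hg)

end Setup

/-- Operators given by automorphisms. -/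
theorem exists_model {G : Type*} [Group G] [Finite G] (A : Subgroup (MulAut G))
    (hG : Group.IsSolvable G) (hA : Group.IsSolvable A) (hcop : (Nat.card A).Coprime (Nat.card G))
    (hfix : ∀ g : G, (∀ a ∈ A, a g = g) → g = 1) :
    ∃ (G' A' : Subgroup (G ⋊[A.subtype] A)) (_ : G ≃* G'), Finite (G ⋊[A.subtype] A) ∧
      OpSetup G' A' ∧ Nonempty (A ≃* A') := by
  let ι : G →* G ⋊[A.subtype] A := SemidirectProduct.inl
  let κ : A →* G ⋊[A.subtype] A := SemidirectProduct.inr
  have hι : Function.Injective ι := SemidirectProduct.inl_injective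
  have hκ : Function.Injective κ := SemidirectProduct.inr_injective
  haveI : Finite (G ⋊[A.subtype] A) := Finite.of_equiv _ SemidirectProduct.equivProd.symm
  refine ⟨ι.range, κ.range, MonoidHom.ofInjective hι, this,
    ⟨?_, ?_, ?_, ?_, ?_⟩, ⟨MonoidHom.ofInjective hκ⟩⟩
  · show (SemidirectProduct.inl : G →* G ⋊[A.subtype] A).range.Normal
    rw [SemidirectProduct.range_inl_eq_ker_rightHom]; infer_instance
  · exact Group.isSolvable_of_surjective (f := (MonoidHom.ofInjective hι).toMonoidHom)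
      (MonoidHom.ofInjective hι).surjective
  · exact Group.isSolvable_of_surjective (f := (MonoidHom.ofInjective hκ).toMonoidHom)
      (MonoidHom.ofInjective hκ).surjective
  · rwa [Nat.card_congr (MonoidHom.ofInjective hκ).symm.toEquiv,
      Nat.card_congr (MonoidHom.ofInjective hι).symm.toEquiv]
  · rintro _ ⟨g, rfl⟩ h
    rw [hfix g fun a ha => hι ?_, map_one]
    have h1 := h (κ ⟨a, ha⟩) ⟨_, rfl⟩
    show SemidirectProduct.inl ((A.subtype ⟨a, ha⟩) g) = _
    rw [SemidirectProduct.inl_aut, map_inv]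
    exact (eq_mul_inv_of_mul_eq h1.symm).symm

/-- Operators of prime power order without fixed points have coprime order. -/
theorem coprime_card_of_fpf {G : Type*} [Group G] [Finite G] {p : ℕ} [hp : Fact p.Prime]
    (A : Subgroup (MulAut G)) (hA : IsPGroup p A) (hfix : ∀ g : G, (∀ a ∈ A, a g = g) → g = 1) :
    (Nat.card G).Coprime p := by
  have h := hA.card_modEq_card_fixedPoints G
  have h1 : Nat.card (MulAction.fixedPoints A G) = 1 := by
    rw [Nat.card_eq_one_iff_unique]
    exact ⟨⟨fun a b => Subtype.ext ((hfix a.1 fun c hc => a.2 ⟨c, hc⟩).trans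
      (hfix b.1 fun c hc => b.2 ⟨c, hc⟩).symm)⟩, ⟨⟨1, fun a => map_one (a : MulAut G)⟩⟩⟩
  rw [h1] at h
  refine (hp.out.coprime_iff_not_dvd.mpr fun hd => ?_).symm
  have h2 : Nat.card G % p = 1 % p := h
  rw [Nat.dvd_iff_mod_eq_zero.mp hd, Nat.mod_eq_of_lt hp.out.one_lt] at h2
  exact zero_ne_one h2

/-- A solvable group in which Sylow subgroups centralise the cores of other primes is nilpotent. -/
theorem isNilpotent_of_centralizes_pCore {G : Type*} [Group G] [Finite G] [Group.IsSolvable G]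
    (h : ∀ s q : ℕ, s.Prime → q.Prime → s ≠ q →
      ∃ P : Sylow s G, (P : Subgroup G) ≤ centralizer (Cfsg.pCore q G : Set G)) :
    Group.IsNilpotent G := by
  have hall : ∀ s q : ℕ, s.Prime → q.Prime → s ≠ q → ∀ P : Sylow s G,
      (P : Subgroup G) ≤ centralizer (Cfsg.pCore q G : Set G) := by
    intro s q hs hq hsq P
    haveI := Fact.mk hs
    haveI := Fact.mk hq
    haveI : (Cfsg.pCore q G).Normal := Subgroup.sSup_normal _ fun _ h => h.1
    obtain ⟨P₀, hP₀⟩ := h s q hs hq hsq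
    obtain ⟨g, rfl⟩ := MulAction.exists_smul_eq G P₀ P
    rw [Sylow.coe_subgroup_smul, Subgroup.pointwise_smul_def]
    rintro _ ⟨x, hx, rfl⟩
    exact (inferInstance : (centralizer (Cfsg.pCore q G : Set G)).Normal).conj_mem _ (hP₀ hx) g
  refine (Group.isNilpotent_of_finite_tfae.out 0 3).mpr fun s hs P => ?_
  haveI := hs
  let C : Subgroup G := ⨅ q : {q : ℕ // q.Prime ∧ q ≠ s}, centralizer (Cfsg.pCore q.1 G : Set G)
  haveI hCn : C.Normal := by
    refine ⟨fun x hx g => Subgroup.mem_iInf.mpr fun q => ?_⟩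
    haveI : (Cfsg.pCore q.1 G).Normal := Subgroup.sSup_normal _ fun _ h => h.1
    exact (inferInstance : (centralizer (Cfsg.pCore q.1 G : Set G)).Normal).conj_mem _
      (Subgroup.mem_iInf.mp hx q) g
  have hPC : ∀ P' : Sylow s G, (P' : Subgroup G) ≤ C := fun P' =>
    le_iInf fun q => hall s q.1 hs.out q.2.1 (Ne.symm q.2.2) P'
  set F := Cfsg.fittingSubgroup G with hF
  have hFN : F ≤ normalizer ((P : Subgroup G) : Set G) := by
    rw [hF, Solvable.Cores.fittingSubgroup_eq_iSup_pCore]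
    refine iSup_le fun q => ?_
    haveI := Fact.mk q.2
    by_cases hq : (q : ℕ) = s
    · rw [hq]
      exact (Solvable.Cores.pCore_le_sylow P).trans le_normalizer
    · refine le_normalizer_iff.2 fun x hx y hy => ?_
      have := Subgroup.mem_centralizer_iff.mp (hall s q hs.out q.2 (Ne.symm hq) P hy) x hx
      rw [this, mul_inv_cancel_right]
      exact hy
  have hCle : C ≤ (P : Subgroup G) ⊔ (C ⊓ F) := by
    rw [← Subgroup.subgroupOf_eq_top]
    refine Solvable.Cores.eq_top_of_sylow_le _ fun t ht => ?_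
    haveI := Fact.mk ht
    by_cases hts : t = s
    · subst hts
      refine ⟨P.subtype (hPC P), fun x hx => ?_⟩
      exact Subgroup.mem_subgroupOf.mpr (Subgroup.mem_sup_left hx)
    · obtain ⟨T⟩ : Nonempty (Sylow t C) := inferInstance
      refine ⟨T, fun x hx => Subgroup.mem_subgroupOf.mpr (Subgroup.mem_sup_right ⟨x.2, ?_⟩)⟩
      apply Solvable.Cores.centralizer_fittingSubgroup_le
      obtain ⟨T', hT'⟩ := (T.isPGroup'.map C.subtype).exists_le_sylow
      rw [Solvable.Cores.fittingSubgroup_eq_iSup_pCore]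
      have hall' : (⨆ q : Nat.Primes, Cfsg.pCore (q : ℕ) G) ≤ centralizer ({(x : G)} : Set G) := by
        refine iSup_le fun q => fun y hy => Subgroup.mem_centralizer_iff.mpr ?_
        rintro _ rfl
        by_cases hq : (q : ℕ) = s
        · have hxT : (x : G) ∈ (T' : Subgroup G) := hT' ⟨x, hx, rfl⟩
          exact (Subgroup.mem_centralizer_iff.mp
            (hall t q ht q.2 (hq ▸ hts) T' hxT) y hy).symm
        · exact (Subgroup.mem_centralizer_iff.mp
            (Subgroup.mem_iInf.mp x.2 ⟨q, q.2, hq⟩) y hy).symm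
      exact Subgroup.mem_centralizer_iff.mpr fun y hy =>
        ((Subgroup.mem_centralizer_iff.mp (hall' hy)) _ rfl).symm
  have hCN : C ≤ normalizer ((P : Subgroup G) : Set G) :=
    hCle.trans (sup_le le_normalizer (inf_le_right.trans hFN))
  refine ⟨fun x hx g => ?_⟩
  haveI : (P.subtype (hPC P) : Subgroup C).Normal :=
    (Subgroup.normal_subgroupOf_iff_le_normalizer (hPC P)).mpr hCN
  haveI := Sylow.unique_of_normal (P.subtype (hPC P)) inferInstance
  have e : (g • P).subtype (hPC _) = P.subtype (hPC P) :=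
    Subsingleton.elim (α := Sylow s C) _ _
  have e' := congrArg (fun Q : Sylow s C => (Q : Subgroup C).map C.subtype) e
  simp only [Sylow.coe_subtype, Subgroup.subgroupOf_map_subtype, inf_eq_left.mpr (hPC _)] at e'
  rw [← e', Sylow.coe_subgroup_smul, Subgroup.pointwise_smul_def]
  exact ⟨x, hx, rfl⟩

end CfsgLib.Solvable.FPFOperators
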