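import Cfsg.Agent.Lib.Solvable.FPFOperators.Weights
import Cfsg.Agent.Lib.Solvable.FPFOperators.Descend
import Mathlib.NumberTheory.Multiplicity
import Mathlib.Dynamics.PeriodicPts.Defs

/-!
# Tools for a cyclic group of operators of prime power order
-/

set_option autoImplicit false

namespace CfsgLib.Solvable.FPFOperators

open Subgroup CfsgLib
open scoped commutatorElement

variable {Γ : Type*} [Group Γ]

theorem pow_mem_zpowers_pow {p n : ℕ} (hp : p.Prime) {s : Γ} (hs : s ^ p ^ (n + 1) = 1) {i : ℕ}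
    (hi : ¬ p ^ (n + 1) ∣ i) : s ^ p ^ n ∈ zpowers (s ^ i) := by
  obtain ⟨k, hk, hg⟩ := (Nat.dvd_prime_pow hp).mp (Nat.gcd_dvd_right i (p ^ (n + 1)))
  have hkn : k ≤ n := by
    by_contra h
    have h1 : k = n + 1 := by omega
    exact hi (by rw [← h1, ← hg]; exact Nat.gcd_dvd_left _ _)
  have hmem : s ^ p ^ k ∈ zpowers (s ^ i) := by
    refine mem_zpowers_iff.mpr ⟨Nat.gcdA i (p ^ (n + 1)), ?_⟩
    have h := Nat.gcd_eq_gcd_ab i (p ^ (n + 1))
    rw [hg] at h
    rw [← zpow_natCast s (p ^ k), h, zpow_add, zpow_mul, zpow_mul, zpow_natCast, zpow_natCast, hs,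
      one_zpow, mul_one]
  rw [show p ^ n = p ^ k * p ^ (n - k) by rw [← pow_add, Nat.add_sub_cancel' hkn], pow_mul]
  exact pow_mem hmem _

theorem exists_stab {α : Type*} [MulAction Γ α] {p n : ℕ} (hp : p.Prime) {s : Γ} {a : α}
    (h : s ^ p ^ n • a = a) : ∃ j ≤ n, ∀ k, s ^ k • a = a ↔ p ^ j ∣ k := by
  obtain ⟨j, hj, he⟩ := (Nat.dvd_prime_pow hp).mp (MulAction.pow_smul_eq_iff_period_dvd.mp h)
  exact ⟨j, hj, fun k => by rw [MulAction.pow_smul_eq_iff_period_dvd, he]⟩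

theorem coprime_pow_card {Q : Subgroup Γ} [Finite Q] {q p : ℕ} [Fact q.Prime] (hp : p.Prime)
    (hQ : IsPGroup q Q) (hqp : q ≠ p) (k : ℕ) : (p ^ k).Coprime (Nat.card Q) := by
  obtain ⟨t, ht⟩ := IsPGroup.iff_card.mp hQ
  rw [ht]
  exact ((Nat.coprime_primes hp Fact.out).mpr hqp.symm).pow _ _

theorem natCard_cast_ne_zero {Q : Subgroup Γ} [Finite Q] {q : ℕ} [Fact q.Prime] {K : Type*}
    [Field K] (hQ : IsPGroup q Q) (hqK : (q : K) ≠ 0) : (Nat.card Q : K) ≠ 0 := by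
  obtain ⟨t, ht⟩ := IsPGroup.iff_card.mp hQ
  rw [ht, Nat.cast_pow]
  exact pow_ne_zero _ hqK

section Rep

variable {K : Type*} [Field K] {A : Type*} [Ring A] [Algebra K A] (ρ : Γ →* A)

/-- A weight of a normal subgroup that occurs is fixed by the element of order `p`. -/
theorem weight_fixed {p n : ℕ} (hp : p.Prime) {Z : Subgroup Γ} [Fintype Z] [Z.Normal]
    (hZK : (Fintype.card Z : K) ≠ 0) {s : Γ} (hs : s ^ p ^ (n + 1) = 1)
    (hsum : ∑ i ∈ Finset.range (p ^ (n + 1)), ρ (s ^ i) = 0) {l : Z →* Kˣ}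
    (hl : weightIdem Z ρ l ≠ 0) : s ^ p ^ n • l = l := by
  by_contra hne
  refine hl ?_
  set e := weightIdem Z ρ l with he
  have h : e * (∑ i ∈ Finset.range (p ^ (n + 1)), ρ (s ^ i)) * e = e := by
    rw [Finset.mul_sum, Finset.sum_mul, Finset.sum_eq_single 0]
    · rw [pow_zero, map_one, mul_one]; exact weightIdem_mul_self ρ hZK l
    · intro i hi hi0
      rw [mul_assoc, map_mul_weightIdem_smul, ← mul_assoc]
      have hne' : l ≠ s ^ i • l := fun heq => hne (by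
        have hd : ¬ p ^ (n + 1) ∣ i := fun hd =>
          absurd (Nat.le_of_dvd (Nat.pos_of_ne_zero hi0) hd) (not_le.mpr (Finset.mem_range.mp hi))
        exact (zpowers_le.2 heq.symm : zpowers (s ^ i) ≤ MulAction.stabilizer Γ l)
          (pow_mem_zpowers_pow hp hs hd))
      rw [weightIdem_orth ρ hne', zero_mul]
    · intro h0
      exact absurd (Finset.mem_range.mpr (pow_pos hp.pos _)) h0
  rw [← h, hsum, mul_zero, zero_mul]

/-- The case of a commutative image. -/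
theorem commute_of_abelian [Finite Γ] [IsAlgClosed K] {p n : ℕ} (hp : p.Prime) {Q : Subgroup Γ}
    [hQn : Q.Normal] {s : Γ} (hs : s ^ p ^ (n + 1) = 1)
    (hsum : ∑ i ∈ Finset.range (p ^ (n + 1)), ρ (s ^ i) = 0) (hQK : (Nat.card Q : K) ≠ 0)
    (hcomm : ∀ x ∈ Q, ∀ y ∈ Q, ρ (x * y) = ρ (y * x)) {y : Γ} (hy : y ∈ Q) :
    ρ (s ^ p ^ n * y) = ρ (y * s ^ p ^ n) := by
  set mk := QuotientGroup.mk' ρ.ker with hmk
  set ρ' : Γ ⧸ ρ.ker →* A := QuotientGroup.lift ρ.ker ρ le_rfl with hρ'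
  have hρe : ∀ g, ρ' (mk g) = ρ g := fun g => rfl
  let Z : Subgroup (Γ ⧸ ρ.ker) := Q.map mk
  haveI : Z.Normal := hQn.map mk (QuotientGroup.mk'_surjective _)
  haveI : Fintype Z := Fintype.ofFinite Z
  have hZK : (Fintype.card Z : K) ≠ 0 := by
    rw [← Nat.card_eq_fintype_card]; exact natCast_ne_zero_of_dvd (Q.card_map_dvd _) hQK
  have hZc : IsMulCommutative Z := by
    refine isMulCommutative_iff.2 ?_
    rintro ⟨_, a, ha, rfl⟩ ⟨_, b, hb, rfl⟩
    apply Subtype.ext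
    show mk a * mk b = mk b * mk a
    rw [← map_mul, ← map_mul]
    refine QuotientGroup.eq.mpr (MonoidHom.mem_ker.mpr ?_)
    rw [map_mul, ← hcomm a ha b hb, ← map_mul, inv_mul_cancel, map_one]
  rw [← hρe, ← hρe (y * _), map_mul mk, map_mul mk, map_pow]
  refine eq_of_forall_mul_weightIdem ρ' hZc hZK fun l hl => ?_
  have hfix : mk s ^ p ^ n • l = l := weight_fixed ρ' hp hZK (by rw [← map_pow, hs, map_one]) (by
    simp only [← map_pow, hρe]; exact hsum) hl
  let z : Z := ⟨mk y, Subgroup.mem_map_of_mem mk hy⟩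
  set t := mk s ^ p ^ n with ht
  have h1 := map_mul_weightIdem_smul ρ' t l
  rw [hfix] at h1
  have h2 : ρ' (mk y) * weightIdem Z ρ' l = (l z : K) • weightIdem Z ρ' l :=
    map_mem_mul_weightIdem ρ' l z
  rw [map_mul, map_mul, mul_assoc, mul_assoc, h1, h2, mul_smul_comm, h1, ← smul_mul_assoc, ← h2,
    mul_assoc]

/-- The elements of `Q` central in `Q` on the part cut out by `e`. -/
def wCentral (Q : Subgroup Γ) (ρ : Γ →* A) (e : A) (he : ∀ y ∈ Q, Commute (ρ y) e) : Subgroup Γ where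
  carrier := {x | x ∈ Q ∧ ∀ y ∈ Q, ρ (x * y) * e = ρ (y * x) * e}
  one_mem' := ⟨one_mem Q, fun y _ => by rw [one_mul, mul_one]⟩
  mul_mem' := by
    rintro a b ⟨ha, ha'⟩ ⟨hb, hb'⟩
    refine ⟨mul_mem ha hb, fun y hy => ?_⟩
    calc ρ (a * b * y) * e = ρ a * (ρ (b * y) * e) := by rw [mul_assoc a, map_mul, mul_assoc]
      _ = ρ a * (ρ (y * b) * e) := by rw [hb' y hy]
      _ = ρ (a * y) * e * ρ b := by
          rw [map_mul, map_mul, mul_assoc (ρ y), (he b hb).eq]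
          simp only [mul_assoc]
      _ = ρ (y * a) * e * ρ b := by rw [ha' y hy]
      _ = ρ (y * (a * b)) * e := by
          rw [mul_assoc, ← (he b hb).eq, ← mul_assoc, ← map_mul, mul_assoc]
  inv_mem' := by
    rintro x ⟨hx, hx'⟩
    refine ⟨inv_mem hx, fun y hy => ?_⟩
    have h := hx' (x⁻¹ * y * x⁻¹) (mul_mem (mul_mem (inv_mem hx) hy) (inv_mem hx))
    rw [← mul_assoc, mul_inv_cancel_left, inv_mul_cancel_right] at h
    exact h.symm

variable {Q : Subgroup Γ} {e : A} {he : ∀ y ∈ Q, Commute (ρ y) e}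

theorem wCentral_le : wCentral Q ρ e he ≤ Q := fun _ hx => hx.1

theorem mem_wCentral {x : Γ} : x ∈ wCentral Q ρ e he ↔
    x ∈ Q ∧ ∀ y ∈ Q, ρ ⁅x, y⁆ * e = e := by
  refine and_congr_right fun hx => forall₂_congr fun y hy => ⟨fun h => ?_, fun h => ?_⟩
  · have hc : Commute (ρ (x⁻¹ * y⁻¹)) e := he _ (mul_mem (inv_mem hx) (inv_mem hy))
    rw [show ⁅x, y⁆ = x * y * (x⁻¹ * y⁻¹) by rw [commutatorElement_def]; group, map_mul, mul_assoc,
      hc.eq, ← mul_assoc, h, mul_assoc, ← hc.eq, ← mul_assoc, ← map_mul,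
      show y * x * (x⁻¹ * y⁻¹) = 1 by group, map_one, one_mul]
  · have hc : Commute (ρ (y * x)) e := he _ (mul_mem hy hx)
    rw [show x * y = ⁅x, y⁆ * (y * x) by rw [commutatorElement_def]; group, map_mul, mul_assoc,
      hc.eq, ← mul_assoc, h]

theorem conj_mem_wCentral [hQn : Q.Normal] {g : Γ} {e' : A} {he' : ∀ y ∈ Q, Commute (ρ y) e'}
    (hg : ρ g * e = e' * ρ g) {x : Γ} (hx : x ∈ wCentral Q ρ e he) :
    g * x * g⁻¹ ∈ wCentral Q ρ e' he' := by
  refine ⟨hQn.conj_mem x hx.1 g, fun y hy => ?_⟩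
  have e1 : e' = ρ g * e * ρ g⁻¹ := by rw [hg, mul_assoc, ← map_mul, mul_inv_cancel, map_one, mul_one]
  have key : ∀ w, ρ (g * w * g⁻¹) * e' = ρ g * (ρ w * e) * ρ g⁻¹ := fun w => by
    rw [e1, ← mul_assoc, ← mul_assoc, ← map_mul, inv_mul_cancel_right, map_mul]
    simp only [mul_assoc]
  have hy' : g⁻¹ * y * g ∈ Q := hQn.conj_mem' y hy g
  rw [show g * x * g⁻¹ * y = g * (x * (g⁻¹ * y * g)) * g⁻¹ by group,
    show y * (g * x * g⁻¹) = g * (g⁻¹ * y * g * x) * g⁻¹ by group, key, key, hx.2 _ hy']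

end Rep

section Dual

variable {K : Type*} [Field K] {Z : Subgroup Γ} [Fintype Z] [Z.Normal]

theorem dual_smul_mul (g : Γ) (a b : Z →* Kˣ) : g • (a * b) = g • a * g • b :=
  MonoidHom.ext fun _ => rfl

theorem dual_smul_prod {ι : Type*} (g : Γ) (t : Finset ι) (f : ι → (Z →* Kˣ)) :
    g • ∏ i ∈ t, f i = ∏ i ∈ t, g • f i := by
  classical
  induction t using Finset.induction with
  | empty => rw [Finset.prod_empty, Finset.prod_empty]; exact dual_smul_one g
  | insert a t ha ih => rw [Finset.prod_insert ha, Finset.prod_insert ha, dual_smul_mul, ih]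

/-- An invariant weight is trivial. -/
theorem weight_eq_one_of_invariant [Finite Γ] (hZc : IsMulCommutative Z) {s : Γ} {N : ℕ}
    (hN : 0 < N) (hs : s ^ N = 1) (hcop : N.Coprime (Nat.card Z))
    (hfix : ∀ z ∈ Z, s * z = z * s → z = 1) {l : Z →* Kˣ} (hl : s • l = l) : l = 1 := by
  refine MonoidHom.ext fun z => ?_
  haveI := hZc
  letI : CommGroup Z := { (inferInstance : Group Z) with mul_comm := mul_comm' }
  let P : Z := ∏ i ∈ Finset.range N, MulAut.conjNormal (s ^ i) z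
  have hP : MulAut.conjNormal s P = P := by
    show MulAut.conjNormal s (∏ i ∈ Finset.range N, MulAut.conjNormal (s ^ i) z) = _
    rw [map_prod]
    have h := Finset.prod_range_succ (fun i => MulAut.conjNormal (s ^ i) z) N
    rw [Finset.prod_range_succ' (fun i => MulAut.conjNormal (s ^ i) z) N, hs, pow_zero] at h
    refine Eq.trans (Finset.prod_congr rfl fun i _ => ?_) (mul_right_cancel h)
    rw [← MulAut.mul_apply, ← map_mul, ← pow_succ']
  have hP1 : P = 1 := Subtype.ext (hfix P P.2 (by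
    have h := congrArg Subtype.val hP
    rw [MulAut.conjNormal_apply] at h
    exact mul_inv_eq_iff_eq_mul.mp h))
  have hlP := congrArg l hP1
  rw [map_prod, map_one] at hlP
  have hi : ∀ i, l (MulAut.conjNormal (s ^ i) z) = l z := fun i => by
    have h1 : s ^ i ∈ MulAction.stabilizer Γ l := pow_mem (MulAction.mem_stabilizer_iff.mpr hl) i
    have h2 : (s ^ i)⁻¹ • l = l := MulAction.mem_stabilizer_iff.mp (inv_mem h1)
    conv_rhs => rw [← h2]
    rw [dual_smul_apply, inv_inv]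
  rw [Finset.prod_congr rfl fun i _ => hi i, Finset.prod_const, Finset.card_range] at hlP
  have hz : l z ^ Nat.card Z = 1 := by rw [← map_pow, pow_card_eq_one', map_one]
  have h3 := pow_gcd_eq_one.mpr ⟨hlP, hz⟩
  rwa [hcop.gcd_eq_one, pow_one] at h3

/-- The product of an orbit of weights is trivial. -/
theorem orbit_prod_eq_one [Finite Γ] (hZc : IsMulCommutative Z) {s : Γ} {N P : ℕ}
    (hN : 0 < N) (hs : s ^ N = 1) (hcop : N.Coprime (Nat.card Z))
    (hfix : ∀ z ∈ Z, s * z = z * s → z = 1) {l : Z →* Kˣ} (hl : s ^ P • l = l) :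
    ∏ i ∈ Finset.range P, s ^ i • l = 1 := by
  refine weight_eq_one_of_invariant hZc hN hs hcop hfix ?_
  rw [dual_smul_prod]
  have h := Finset.prod_range_succ (fun i => s ^ i • l) P
  rw [Finset.prod_range_succ' (fun i => s ^ i • l) P, hl, pow_zero, one_smul] at h
  refine Eq.trans (Finset.prod_congr rfl fun i _ => ?_) (mul_right_cancel h)
  rw [← mul_smul, ← pow_succ']

end Dual

section Arith

theorem two_pow_add_one_eq {p a q m : ℕ} (hp : p.Prime) (hodd : p ≠ 2) (hq : q.Prime) (ha : 0 < a)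
    (hm : 0 < m) (h1 : q ^ m + 1 ≤ p ^ a) (h2 : p ^ a ∣ q ^ m * q ^ m - 1) :
    q = 2 ∧ 2 ^ m + 1 = p ^ a := by
  have hd : 2 ≤ q ^ m := le_trans hq.two_le (Nat.le_self_pow hm.ne' q)
  rw [show q ^ m * q ^ m - 1 = (q ^ m + 1) * (q ^ m - 1) by
    rw [Nat.mul_self_sub_mul_self_eq (q ^ m) 1 |>.symm, one_mul]] at h2
  have hceq : q ^ m + 1 = p ^ a := by
    by_cases hp1 : p ∣ q ^ m + 1
    · have hp2 : ¬ p ∣ q ^ m - 1 := fun hdd => by
        have h3 := Nat.dvd_sub hp1 hdd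
        rw [show q ^ m + 1 - (q ^ m - 1) = 2 by omega] at h3
        exact hodd ((Nat.prime_dvd_prime_iff_eq hp Nat.prime_two).mp h3)
      exact le_antisymm h1 (Nat.le_of_dvd (by omega)
        ((Nat.prime_iff.mp hp).pow_dvd_of_dvd_mul_right a hp2 h2))
    · have := Nat.le_of_dvd (by omega) ((Nat.prime_iff.mp hp).pow_dvd_of_dvd_mul_left a hp1 h2)
      omega
  have hq2 : q = 2 := by
    have hpo : Odd (p ^ a) := (hp.odd_of_ne_two hodd).pow
    rw [← hceq, Nat.odd_add_one, Nat.not_odd_iff_even, Nat.even_pow] at hpo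
    exact (Nat.prime_dvd_prime_iff_eq Nat.prime_two hq).mp (even_iff_two_dvd.mp hpo.1) |>.symm
  subst hq2
  exact ⟨rfl, hceq⟩

theorem exponent_ge {p a j m D : ℕ} (hp : p.Prime) (hodd : p ≠ 2) (hm : 0 < m)
    (h : 2 ^ m + 1 = p ^ a) (hD : 0 < D) (hdvd : p ^ (a + j) ∣ 2 ^ D - 1) :
    2 * m * p ^ j ≤ D := by
  haveI := Fact.mk hp
  have h2m : 2 ≤ 2 ^ m := le_trans le_rfl (Nat.le_self_pow hm.ne' 2)
  have ha : a ≠ 0 := fun h0 => by rw [h0, pow_zero] at h; omega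
  have hfac : 2 ^ (2 * m) - 1 = (2 ^ m + 1) * (2 ^ m - 1) := by
    rw [← Nat.mul_self_sub_mul_self_eq, one_mul, two_mul, pow_add]
  have hp2 : ¬ p ∣ 2 ^ m - 1 := fun hd => by
    have h3 := Nat.dvd_sub (h ▸ dvd_pow_self p ha : p ∣ 2 ^ m + 1) hd
    rw [show 2 ^ m + 1 - (2 ^ m - 1) = 2 by omega] at h3
    exact hodd ((Nat.prime_dvd_prime_iff_eq hp Nat.prime_two).mp h3)
  have hval : padicValNat p (2 ^ (2 * m) - 1) = a := by
    rw [hfac, padicValNat.mul (by omega) (by omega), h, padicValNat.prime_pow,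
      padicValNat.eq_zero_of_not_dvd hp2, add_zero]
  have hdvd2 : p ^ a ∣ 2 ^ (2 * m) - 1 := by rw [hfac, h]; exact dvd_mul_right _ _
  have hg : p ^ a ∣ 2 ^ Nat.gcd (2 * m) D - 1 := by
    rw [← Nat.pow_sub_one_gcd_pow_sub_one]
    exact Nat.dvd_gcd hdvd2 ((pow_dvd_pow p (Nat.le_add_right a j)).trans hdvd)
  have hgpos : 0 < Nat.gcd (2 * m) D := Nat.gcd_pos_of_pos_right _ hD
  have hge : Nat.gcd (2 * m) D = 2 * m := by
    obtain ⟨c, hc⟩ := Nat.gcd_dvd_left (2 * m) D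
    by_contra hne
    have hc2 : 2 ≤ c := by
      rcases Nat.lt_or_ge c 2 with hc2 | hc2
      · interval_cases c <;> omega
      · exact hc2
    have hle : Nat.gcd (2 * m) D ≤ m := by
      have := Nat.mul_le_mul_left (Nat.gcd (2 * m) D) hc2
      omega
    have h3 := Nat.le_of_dvd (by
      have : 2 ≤ 2 ^ Nat.gcd (2 * m) D := Nat.le_self_pow hgpos.ne' 2
      omega) hg
    have h4 := Nat.pow_le_pow_right (show 0 < 2 by norm_num) hle
    omega
  obtain ⟨c, hc⟩ : 2 * m ∣ D := hge ▸ Nat.gcd_dvd_right _ _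
  have hc0 : c ≠ 0 := fun h0 => by rw [h0, mul_zero] at hc; omega
  have h22 : 2 ≤ 2 ^ (2 * m) := Nat.le_self_pow (by omega) 2
  have hpx : ¬ p ∣ 2 ^ (2 * m) := fun hd =>
    hodd ((Nat.prime_dvd_prime_iff_eq hp Nat.prime_two).mp (hp.dvd_of_dvd_pow hd))
  have hlte := padicValNat.pow_sub_pow (p := p) (hp.odd_of_ne_two hodd) (x := 2 ^ (2 * m)) (y := 1)
    (by omega) ((dvd_pow_self p ha).trans hdvd2) hpx hc0
  rw [one_pow, ← pow_mul, ← hc, hval] at hlte
  have hpos : 2 ^ D - 1 ≠ 0 := by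
    have : 2 ≤ 2 ^ D := Nat.le_self_pow hD.ne' 2
    omega
  have hj : j ≤ padicValNat p c := by
    have := (padicValNat_dvd_iff_le hpos).mp hdvd
    omega
  have hpj : p ^ j ≤ c :=
    Nat.le_of_dvd (Nat.pos_of_ne_zero hc0) ((padicValNat_dvd_iff_le hc0).mpr hj)
  rw [hc]
  exact Nat.mul_le_mul_left _ hpj

end Arith

end CfsgLib.Solvable.FPFOperators
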