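import Cfsg.Agent.Lib.FrobRealize.Quaternion
import Mathlib.GroupTheory.PGroup

/-!
# Automorphisms of order `p` with an irreducible moved part

`p` odd, `Y` a `p`-group of automorphisms of an abelian group `M` of coprime order. An element `a` of
order `p` that lies in some `zpowers s`, `s ∈ Y`, such that the moved part of `a` has no proper
nontrivial `s`-invariant subgroup, centralises every abelian normal subgroup of `Y`; so two such
elements commute.
-/

set_option autoImplicit false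

namespace CfsgLib.Solvable.FPFOperators

open Subgroup
open scoped commutatorElement

variable {M : Type*} [CommGroup M]

/-- The moving map of an automorphism. -/
def moveHom (a : MulAut M) : M →* M :=
  MonoidHom.mk' (fun v => a v * v⁻¹) fun v w => by
    simp only [map_mul, mul_inv]
    exact mul_mul_mul_comm _ _ _ _

theorem moveHom_apply (a : MulAut M) (v : M) : moveHom a v = a v * v⁻¹ := rfl

theorem moveHom_commute {a h : MulAut M} (hc : a * h = h * a) (v : M) :
    moveHom a (h v) = h (moveHom a v) := by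
  rw [moveHom_apply, moveHom_apply, map_mul, map_inv, ← MulAut.mul_apply, hc, MulAut.mul_apply]

/-- A moved element fixed by an automorphism of order coprime to the group is trivial. -/
theorem eq_one_of_moved_fixed [Finite M] {p q : ℕ} (hM : IsPGroup q M) (hqp : q.Coprime p)
    {h : MulAut M} (hh : h ^ p = 1) {v : M} (hv : v ∈ (moveHom h).range) (hfix : h v = v) : v = 1 := by
  obtain ⟨w, rfl⟩ := hv
  rw [moveHom_apply] at hfix ⊢
  set v := h w * w⁻¹ with hvd
  have hw : h w = v * w := (inv_mul_cancel_right (h w) w).symm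
  have hi : ∀ i, (h ^ i) w = v ^ i * w := by
    intro i
    induction i with
    | zero => rw [pow_zero, MulAut.one_apply, pow_zero, one_mul]
    | succ i ih =>
      rw [pow_succ', MulAut.mul_apply, ih, map_mul, map_pow, hfix, pow_succ, mul_assoc]
      exact congrArg (v ^ i * ·) hw
  have h1 : v ^ p = 1 := by
    have h2 := hi p
    rw [hh, MulAut.one_apply] at h2
    exact mul_eq_right.1 h2.symm
  obtain ⟨b, hb⟩ := hM v
  exact orderOf_eq_one_iff.1 (Nat.eq_one_of_dvd_coprimes (hqp.pow_left b)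
    (orderOf_dvd_of_pow_eq_one hb) (orderOf_dvd_of_pow_eq_one h1))

theorem norm_fixed {p : ℕ} {h : MulAut M} (hh : h ^ p = 1) (v : M) :
    h (∏ i ∈ Finset.range p, (h ^ i) v) = ∏ i ∈ Finset.range p, (h ^ i) v := by
  rw [map_prod]
  have h1 := Finset.prod_range_succ (fun i => (h ^ i) v) p
  rw [Finset.prod_range_succ' (fun i => (h ^ i) v) p, hh, pow_zero, mul_left_inj] at h1
  refine Eq.trans (Finset.prod_congr rfl fun i _ => ?_) h1
  rw [pow_succ', MulAut.mul_apply]

theorem pow_apply_eq {h : MulAut M} {v : M} (hv : h v = v) : ∀ i : ℕ, (h ^ i) v = v := by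
  intro i
  induction i with
  | zero => rw [pow_zero, MulAut.one_apply]
  | succ i ih => rw [pow_succ', MulAut.mul_apply, ih, hv]

theorem fixed_of_pow_fixed {p k : ℕ} {h : MulAut M} (hh : h ^ p = 1) (hk : k.Coprime p) {v : M}
    (hv : (h ^ k) v = v) : h v = v := by
  obtain ⟨m, hm⟩ := exists_pow_eq_self_of_coprime (hk.coprime_dvd_right (orderOf_dvd_of_pow_eq_one hh))
  conv_lhs => rw [← hm]
  exact pow_apply_eq hv m

/-- `a` of order `p` whose moved part is `s`-irreducible, `a` a power of `s`. -/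
def IrreducibleMoved (p : ℕ) (Y : Subgroup (MulAut M)) (a : MulAut M) : Prop :=
  ∃ s ∈ Y, a ∈ zpowers s ∧ a ^ p = 1 ∧ ∀ L : Subgroup M, (∀ v ∈ L, s v ∈ L) →
    L ≤ (moveHom a).range → L = ⊥ ∨ (moveHom a).range ≤ L

theorem exists_order_p_fixed [Finite M] {p : ℕ} [Fact p.Prime] {Y I : Subgroup (MulAut M)}
    (hY : IsPGroup p Y) {s : MulAut M} (hs : s ∈ Y) (hI : I ≤ Y) (hsI : s ∈ normalizer (I : Set (MulAut M)))
    (hI1 : I ≠ ⊥) : ∃ z ∈ I, z ≠ 1 ∧ z ^ p = 1 ∧ s * z = z * s := by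
  set H := I ⊔ zpowers s with hH
  have hIH : I ≤ H := le_sup_left
  have hHY : H ≤ Y := sup_le hI (zpowers_le.2 hs)
  haveI : Group.IsNilpotent H := (hY.to_le hHY).isNilpotent
  haveI : (I.subgroupOf H).Normal :=
    (normal_subgroupOf_iff_le_normalizer hIH).2 (sup_le le_normalizer (zpowers_le.2 hsI))
  have hne : I.subgroupOf H ≠ ⊥ := fun h => hI1 (by
    rw [subgroupOf_eq_bot] at h
    exact le_bot_iff.1 (h.le_bot.trans' (le_inf le_rfl hIH)))
  have h1 := CfsgLib.Solvable.FrattiniFitting.inf_center_ne_bot (I.subgroupOf H) hne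
  obtain ⟨⟨z, hz⟩, hz1⟩ := ne_bot_iff_exists_ne_one.1 h1
  have hz1' : (z : MulAut M) ≠ 1 := fun h => hz1 (Subtype.ext (Subtype.ext h))
  have hzs : s * (z : MulAut M) = z * s :=
    congrArg Subtype.val (mem_center_iff.1 hz.2 ⟨s, le_sup_right (a := I) (mem_zpowers s)⟩)
  obtain ⟨k, hk⟩ := hY ⟨(z : MulAut M), hHY z.2⟩
  have hk' : (z : MulAut M) ^ p ^ k = 1 := congrArg Subtype.val hk
  have hex : ∃ i, (z : MulAut M) ^ p ^ i = 1 := ⟨k, hk'⟩
  classical
  have h0 : Nat.find hex ≠ 0 := fun h0 => hz1' (by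
    have h2 := Nat.find_spec hex
    rwa [h0, pow_zero, pow_one] at h2)
  refine ⟨(z : MulAut M) ^ p ^ (Nat.find hex - 1), pow_mem hz.1 _, Nat.find_min hex (by omega), ?_,
    ((show Commute s (z : MulAut M) from hzs).pow_right _).eq⟩
  rw [← pow_mul, ← pow_succ, Nat.sub_add_cancel (Nat.pos_of_ne_zero h0)]
  exact Nat.find_spec hex

theorem commute_of_abelian_normal [Finite M] {p q : ℕ} [Fact p.Prime] (hp2 : p ≠ 2) (hM : IsPGroup q M)
    (hqp : q.Coprime p) {Y A : Subgroup (MulAut M)} (hY : IsPGroup p Y) {a : MulAut M}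
    (ha : IrreducibleMoved p Y a) (hAY : A ≤ Y) (hAn : Y ≤ normalizer (A : Set (MulAut M)))
    (hAc : ∀ x ∈ A, ∀ y ∈ A, x * y = y * x) {g₀ : MulAut M} (hg₀ : g₀ ∈ A) : g₀ * a = a * g₀ := by
  have hp : p.Prime := Fact.out
  obtain ⟨s, hsY, has, hap, hirr⟩ := ha
  obtain ⟨i₀, rfl⟩ := mem_zpowers_iff.1 has
  set a := s ^ i₀ with hadef
  have hsa : s * a = a * s := (Commute.self_zpow s i₀).eq
  have haA : a ∈ normalizer (A : Set (MulAut M)) := hAn (zpow_mem hsY _)
  have hcA : ∀ x ∈ A, ⁅x, a⁆ ∈ A := fun x hx => by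
    rw [commutatorElement_def, mul_assoc x, mul_assoc x]
    exact A.mul_mem hx ((mem_normalizer_iff.1 haA x⁻¹).1 (A.inv_mem hx))
  let D : A →* A := MonoidHom.mk' (fun x => ⟨⁅(x : MulAut M), a⁆, hcA x x.2⟩) fun x y => Subtype.ext (by
    show ⁅(x : MulAut M) * y, a⁆ = ⁅(x : MulAut M), a⁆ * ⁅(y : MulAut M), a⁆
    rw [show ⁅(x : MulAut M) * y, a⁆ = x * ⁅(y : MulAut M), a⁆ * (x : MulAut M)⁻¹ * ⁅(x : MulAut M), a⁆ by
      simp only [commutatorElement_def]; group,
      hAc x x.2 _ (hcA y y.2), mul_inv_cancel_right, hAc _ (hcA y y.2) _ (hcA x x.2)])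
  by_contra hne
  set I := D.range.map A.subtype with hI
  have hI1 : I ≠ ⊥ := fun h => hne (commutatorElement_eq_one_iff_mul_comm.1 (by
    have h1 : ⁅g₀, a⁆ ∈ I := ⟨D ⟨g₀, hg₀⟩, ⟨⟨g₀, hg₀⟩, rfl⟩, rfl⟩
    rwa [h, mem_bot] at h1))
  have hIY : I ≤ Y := (map_subtype_le _).trans hAY
  have hsI : s ∈ normalizer (I : Set (MulAut M)) := by
    refine le_normalizer_iff.2 (fun t ht => ?_) (mem_zpowers s)
    rintro _ ⟨_, ⟨x, rfl⟩, rfl⟩
    have hta : t * a = a * t := by
      obtain ⟨j, rfl⟩ := mem_zpowers_iff.1 ht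
      exact ((show Commute s a from hsa).zpow_left j).eq
    have htY : t ∈ Y := zpowers_le.2 hsY ht
    refine ⟨_, ⟨⟨t * x * t⁻¹, (mem_normalizer_iff.1 (hAn htY) _).1 x.2⟩, rfl⟩, ?_⟩
    show ⁅t * (x : MulAut M) * t⁻¹, a⁆ = t * ⁅(x : MulAut M), a⁆ * t⁻¹
    conv_rhs => rw [commutatorElement_def]
    rw [show t * ((x : MulAut M) * a * (x : MulAut M)⁻¹ * a⁻¹) * t⁻¹ =
        ⁅t * (x : MulAut M) * t⁻¹, t * a * t⁻¹⁆ by simp only [commutatorElement_def]; group,
      hta, mul_inv_cancel_right]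
  obtain ⟨z, hzI, hz1, hzp, hsz⟩ := exists_order_p_fixed hY hsY hIY hsI hI1
  obtain ⟨_, ⟨g, rfl⟩, hgz⟩ := hzI
  have hza : a * z = z * a := ((show Commute s z from hsz).zpow_left i₀).eq
  have hgz' : ⁅(g : MulAut M), a⁆ = z := hgz
  have hga : (g : MulAut M) * a = a * z * g := by
    rw [hza, ← hgz', commutatorElement_def]; group
  have hzA : z ∈ A := hgz' ▸ hcA g g.2
  have hgzc : (g : MulAut M) * z = z * g := hAc g g.2 z hzA
  set U := (moveHom z).range with hU
  have hUinv : ∀ {h : MulAut M}, z * h = h * z → ∀ v ∈ U, h v ∈ U := by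
    rintro h hc _ ⟨w, rfl⟩
    exact ⟨h w, moveHom_commute hc w⟩
  have hzU : ∀ v ∈ U, z v = v → v = 1 := fun v hv hfix => eq_one_of_moved_fixed hM hqp hzp hv hfix
  have hpow : ∀ k : ℕ, (a * z ^ k) ^ p = 1 := fun k => by
    rw [((show Commute a z from hza).pow_right k).mul_pow, hap, ← pow_mul, mul_comm, pow_mul, hzp,
      one_pow, mul_one]
  have hzak : ∀ k : ℕ, z * (a * z ^ k) = a * z ^ k * z := fun k => by
    rw [← mul_assoc, ← hza, mul_assoc, mul_assoc, (Commute.self_pow z k).eq]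
  let L : ℕ → Subgroup M := fun k => U ⊓ MonoidHom.eqLocus (a * z ^ k).toMonoidHom (MonoidHom.id M)
  have hL : ∀ k v, v ∈ L k ↔ v ∈ U ∧ a ((z ^ k) v) = v := fun k v => Iff.rfl
  have hshift : ∀ k v, v ∈ L k → (g : MulAut M) v ∈ L (k + 1) := by
    intro k v hv
    obtain ⟨hvU, hvf⟩ := (hL k v).1 hv
    refine (hL _ _).2 ⟨hUinv hgzc.symm v hvU, ?_⟩
    have hkey : a * z ^ (k + 1) * g = g * (a * z ^ k) := by
      rw [← mul_assoc, hga, pow_succ', ← mul_assoc a z, mul_assoc (a * z) _ (g : MulAut M),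
        mul_assoc (a * z) (g : MulAut M) _, ((show Commute (g : MulAut M) z from hgzc).pow_right k).eq]
    calc a ((z ^ (k + 1)) ((g : MulAut M) v)) = (a * z ^ (k + 1) * g) v := rfl
      _ = (g : MulAut M) (a ((z ^ k) v)) := by rw [hkey]; rfl
      _ = _ := by rw [hvf]
  have hexk : ∃ k, L k ≠ ⊥ := by
    by_contra hno
    push Not at hno
    refine hz1 (MulEquiv.ext fun w => ?_)
    have hv : moveHom z w ∈ U := ⟨w, rfl⟩
    suffices h1 : ∀ v ∈ U, v ^ p = 1 → v = 1 by
      suffices h2 : ∀ v ∈ U, v ^ p = 1 by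
        have h3 := h1 _ hv (h2 _ hv)
        rw [moveHom_apply, mul_inv_eq_one] at h3
        exact h3
      intro v hv
      have hN : ∀ k, ∏ i ∈ Finset.range p, ((a * z ^ k) ^ i) v = 1 := fun k => by
        have hmem : ∏ i ∈ Finset.range p, ((a * z ^ k) ^ i) v ∈ L k :=
          (hL k _).2 ⟨U.prod_mem fun i _ => hUinv ((show Commute z (a * z ^ k) from hzak k).pow_right i).eq v hv,
            norm_fixed (hpow k) v⟩
        rwa [hno k, mem_bot] at hmem
      have h4 : ∏ i ∈ Finset.range p, (a ^ i) (∏ k ∈ Finset.range p, ((z ^ i) ^ k) v) = 1 := by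
        simp only [map_prod]
        rw [Finset.prod_comm]
        refine Finset.prod_eq_one fun k _ => Eq.trans (Finset.prod_congr rfl fun i _ => ?_) (hN k)
        rw [((show Commute a z from hza).pow_right k).mul_pow, MulAut.mul_apply, ← pow_mul, ← pow_mul,
          mul_comm]
      rw [← Finset.mul_prod_erase _ _ (Finset.mem_range.2 hp.pos)] at h4
      rw [Finset.prod_eq_one (s := (Finset.range p).erase 0) fun i hi => ?_, mul_one] at h4
      · simpa using h4
      · obtain ⟨hi0, hip⟩ := Finset.mem_erase.1 hi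
        rw [Finset.mem_range] at hip
        have hzi : (z ^ i) ^ p = 1 := by rw [← pow_mul, mul_comm, pow_mul, hzp, one_pow]
        rw [hzU _ (U.prod_mem fun k _ => hUinv ((Commute.self_pow z i).pow_right k).eq v hv)
          (fixed_of_pow_fixed hzp ((hp.coprime_iff_not_dvd.2
            (Nat.not_dvd_of_pos_of_lt (Nat.pos_of_ne_zero hi0) hip)).symm) (norm_fixed hzi v)), map_one]
    intro v _ h
    obtain ⟨b, hb⟩ := hM v
    exact orderOf_eq_one_iff.1 (Nat.eq_one_of_dvd_coprimes (hqp.pow_left b)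
      (orderOf_dvd_of_pow_eq_one hb) (orderOf_dvd_of_pow_eq_one h))
  have hall : ∀ k, L k ≠ ⊥ := by
    obtain ⟨k₀, hk₀⟩ := hexk
    have hge : ∀ i, L (k₀ + i) ≠ ⊥ := by
      intro i
      induction i with
      | zero => exact hk₀
      | succ i ih =>
        intro h
        obtain ⟨⟨v, hv⟩, hv1⟩ := ne_bot_iff_exists_ne_one.1 ih
        have h2 := hshift _ _ hv
        rw [← add_assoc] at h
        rw [h, mem_bot, MulEquiv.map_eq_one_iff] at h2
        exact hv1 (Subtype.ext h2)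
    intro k h
    refine hge (k + k₀ * p - k₀) ?_
    have hle : k₀ ≤ k + k₀ * p := le_add_left (Nat.le_mul_of_pos_right _ hp.pos)
    rw [Nat.add_sub_cancel' hle]
    rw [eq_bot_iff] at h ⊢
    refine fun v hv => h ?_
    obtain ⟨hvU, hvf⟩ := (hL _ _).1 hv
    refine (hL _ _).2 ⟨hvU, ?_⟩
    rwa [pow_add, mul_comm k₀, pow_mul, hzp, one_pow, mul_one] at hvf
  have hinv : ∀ k, ∀ v ∈ L k, s v ∈ L k := by
    intro k v hv
    obtain ⟨hvU, hvf⟩ := (hL _ _).1 hv
    refine (hL _ _).2 ⟨hUinv hsz.symm v hvU, ?_⟩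
    have hc : a * z ^ k * s = s * (a * z ^ k) :=
      (((show Commute s a from hsa).mul_right ((show Commute s z from hsz).pow_right k))).eq.symm
    calc a ((z ^ k) (s v)) = (a * z ^ k * s) v := rfl
      _ = s (a ((z ^ k) v)) := by rw [hc]; rfl
      _ = s v := by rw [hvf]
  have hLE : ∀ k, k.Coprime p → L k ≤ (moveHom a).range := by
    intro k hk v hv
    have hm : ∀ w ∈ L k, moveHom a w ∈ L k := by
      intro w hw
      refine (L k).mul_mem ((hL _ _).2 ⟨hUinv hza.symm _ ((hL _ _).1 hw).1, ?_⟩) ((L k).inv_mem hw)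
      have hc : a * z ^ k * a = a * (a * z ^ k) := by
        rw [mul_assoc a, ((show Commute a z from hza).pow_right k).eq]
      calc a ((z ^ k) (a w)) = (a * z ^ k * a) w := rfl
        _ = a (a ((z ^ k) w)) := by rw [hc]; rfl
        _ = a w := by rw [((hL _ _).1 hw).2]
    let f : L k → L k := fun w => ⟨moveHom a w, hm w w.2⟩
    have hf : Function.Injective f := by
      intro w w' h
      have h1 : moveHom a ((w : M) * (w' : M)⁻¹) = 1 := by
        rw [map_mul, map_inv, mul_inv_eq_one]; exact congrArg Subtype.val h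
      obtain ⟨hdU, hdf⟩ := (hL k _).1 ((L k).mul_mem w.2 ((L k).inv_mem w'.2))
      rw [moveHom_apply, mul_inv_eq_one] at h1
      have h2 : (z ^ k) ((w : M) * (w' : M)⁻¹) = (w : M) * (w' : M)⁻¹ :=
        a.injective (hdf.trans h1.symm)
      exact Subtype.ext (mul_inv_eq_one.1 (hzU _ hdU (fixed_of_pow_fixed hzp hk h2)))
    obtain ⟨w, hw⟩ := (Finite.injective_iff_surjective.1 hf) ⟨v, hv⟩
    exact ⟨w, congrArg Subtype.val hw⟩
  have hc1 : Nat.Coprime 1 p := Nat.coprime_one_left p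
  have hc2 : Nat.Coprime 2 p := (Nat.coprime_primes Nat.prime_two hp).2 (Ne.symm hp2)
  rcases hirr (L 1) (hinv 1) (hLE 1 hc1) with h | h
  · exact hall 1 h
  obtain ⟨⟨v, hv⟩, hv1⟩ := ne_bot_iff_exists_ne_one.1 (hall 2)
  refine hv1 (Subtype.ext (hzU v hv.1 ?_))
  have e2 : a ((z ^ 2) v) = v := ((hL 2 v).1 hv).2
  have e1 : a ((z ^ 1) v) = v := ((hL 1 v).1 (h (hLE 2 hc2 hv))).2
  have e3 := a.injective (e2.trans e1.symm)
  rw [pow_succ', pow_one, MulAut.mul_apply] at e3
  exact z.injective e3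

/-- Two automorphisms of order `p` with irreducible moved parts commute. -/
theorem commute_of_irreducible [Finite M] {p q : ℕ} [Fact p.Prime] (hp2 : p ≠ 2) (hM : IsPGroup q M)
    (hqp : q.Coprime p) {Y : Subgroup (MulAut M)} (hY : IsPGroup p Y) {a b : MulAut M}
    (ha : IrreducibleMoved p Y a) (hb : IrreducibleMoved p Y b) : a * b = b * a := by
  obtain ⟨A, hAn, hAc, hAs⟩ := CfsgLib.FrobRealize.Quaternion.exists_self_centralizing (G := Y) hY
  have hAY : A.map Y.subtype ≤ Y := map_subtype_le A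
  have hN : Y ≤ normalizer ((A.map Y.subtype : Subgroup (MulAut M)) : Set (MulAut M)) := by
    refine le_normalizer_iff.2 fun t ht => ?_
    rintro _ ⟨x, hx, rfl⟩
    exact ⟨⟨t, ht⟩ * x * ⟨t, ht⟩⁻¹, hAn.conj_mem x hx _, rfl⟩
  have hc : ∀ x ∈ A.map Y.subtype, ∀ y ∈ A.map Y.subtype, x * y = y * x := by
    rintro _ ⟨x, hx, rfl⟩ _ ⟨y, hy, rfl⟩
    exact congrArg Subtype.val (hAc x hx y hy)
  have key : ∀ {c : MulAut M}, IrreducibleMoved p Y c → ∃ hc : c ∈ Y, (⟨c, hc⟩ : Y) ∈ A := by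
    intro c hcm
    obtain ⟨s, hs, hcs, -⟩ := id hcm
    refine ⟨zpowers_le.2 hs hcs, hAs _ fun x hx => Subtype.ext ?_⟩
    exact (commute_of_abelian_normal hp2 hM hqp hY hcm hAY hN hc (mem_map_of_mem Y.subtype hx)).symm
  obtain ⟨hca, hA⟩ := key ha
  obtain ⟨hcb, hB⟩ := key hb
  exact congrArg Subtype.val (hAc _ hA _ hB)

end CfsgLib.Solvable.FPFOperators
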