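import Cfsg.Agent.Lib.Solvable.FPFOperators.HallHigmanB
import Cfsg.Agent.Lib.Solvable.FPFOperators.IrreducibleMoved
import Cfsg.Agent.Lib.PGroup.CoprimeFix

/-!
# The top elements of two exceptional operators commute

In a faithful representation in odd characteristic `p`, let `s₁`, `s₂` be elements of a `p`-subgroup
normalising a `q`-subgroup `S`, with `s_i ^ p ^ (n + 1) = 1` and vanishing norm. Then the commutator of
`s₁ ^ p ^ n` and `s₂ ^ p ^ n` centralises `S`.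
-/

set_option autoImplicit false

namespace CfsgLib.Solvable.FPFOperators

open Subgroup CfsgLib
open scoped commutatorElement

universe u v w

variable {K : Type v} [Field K] [IsAlgClosed K]

theorem commutator_mem_of_normal {Γ : Type u} [Group Γ] {C : Subgroup Γ} (hC : C.Normal) (a : Γ)
    {o : Γ} (ho : o ∈ C) : ⁅a, o⁆ ∈ C := by
  rw [commutatorElement_def]
  exact C.mul_mem (hC.conj_mem o ho a) (C.inv_mem ho)

/-- The fixed-point-free count. -/
theorem dvd_relIndex_sub_one_of_free {Γ : Type u} [Group Γ] [Finite Γ] {s : Γ} {N : ℕ} (hN : 0 < N)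
    (hs : s ^ N = 1) {R L : Subgroup Γ} (hRL : R ≤ L) (hsL : s ∈ normalizer (L : Set Γ))
    (hsR : s ∈ normalizer (R : Set Γ))
    (hfree : ∀ i, 0 < i → i < N → ∀ x ∈ L, ⁅s ^ i, x⁆ ∈ R → x ∈ R)
    (hcop : N.Coprime (Nat.card R)) : N ∣ R.relIndex L - 1 := by
  classical
  by_cases hLR : L ≤ R
  · rw [relIndex_eq_one.2 hLR]; exact dvd_zero N
  obtain ⟨x₀, hx₀, hx₀R⟩ := SetLike.not_le_iff_exists.1 hLR
  have hord : orderOf s = N := by
    rcases Nat.lt_or_ge (orderOf s) N with hlt | hge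
    · exact absurd (hfree _ (orderOf_pos s) hlt x₀ hx₀ (by
        rw [pow_orderOf_eq_one, commutatorElement_one_left]; exact one_mem R)) hx₀R
    · exact le_antisymm (Nat.le_of_dvd hN (orderOf_dvd_of_pow_eq_one hs)) hge
  let X := {x : Γ // x ∈ L ∧ x ∉ R}
  have hg : ∀ g : zpowers s, (g : Γ) ∈ normalizer (L : Set Γ) ∧ (g : Γ) ∈ normalizer (R : Set Γ) :=
    fun g => ⟨zpowers_le.2 hsL g.2, zpowers_le.2 hsR g.2⟩
  let act : MulAction (zpowers s) X :=
    { smul := fun g x => ⟨g * x.1 * (g : Γ)⁻¹, (mem_normalizer_iff.1 (hg g).1 _).1 x.2.1,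
        fun hm => x.2.2 ((mem_normalizer_iff.1 (hg g).2 _).2 hm)⟩
      one_smul := fun x => Subtype.ext (by
        show ((1 : zpowers s) : Γ) * x.1 * ((1 : zpowers s) : Γ)⁻¹ = x.1
        simp)
      mul_smul := fun g k x => Subtype.ext (by
        show ((g * k : zpowers s) : Γ) * x.1 * ((g * k : zpowers s) : Γ)⁻¹ =
          g * (k * x.1 * (k : Γ)⁻¹) * (g : Γ)⁻¹
        rw [Subgroup.coe_mul]; group) }
  have hstab : ∀ x : X, MulAction.stabilizer (zpowers s) x = ⊥ := by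
    intro x
    rw [eq_bot_iff]
    rintro ⟨g, hg'⟩ hgx
    have hgx' : g * x.1 * g⁻¹ = x.1 := congrArg Subtype.val (MulAction.mem_stabilizer_iff.mp hgx)
    obtain ⟨i, rfl⟩ := mem_powers_iff_mem_zpowers.mpr hg'
    rw [Subgroup.mem_bot]
    refine Subtype.ext ?_
    show s ^ i = 1
    by_contra hne
    have h0 : 0 < i % N := Nat.pos_of_ne_zero fun h0 => hne (by
      rw [pow_eq_pow_mod i hs, h0, pow_zero])
    refine x.2.2 (hfree _ h0 (Nat.mod_lt _ hN) x.1 x.2.1 ?_)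
    rw [← pow_eq_pow_mod i hs, commutatorElement_eq_one_iff_mul_comm.2 (mul_inv_eq_iff_eq_mul.mp hgx')]
    exact one_mem R
  have hdvd : N ∣ Nat.card X := by
    rw [Nat.card_congr (MulAction.selfEquivOrbitsQuotientProd hstab), Nat.card_prod,
      Nat.card_zpowers, hord]
    exact dvd_mul_left _ _
  rw [natCard_diff hRL] at hdvd
  exact hcop.dvd_of_dvd_mul_left hdvd

/-- On a section of order `d * d` an operator of order `d + 1` without fixed points is irreducible. -/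
theorem le_or_le_of_free {Γ : Type u} [Group Γ] [Finite Γ] {s : Γ} {d : ℕ} (hs : s ^ (d + 1) = 1)
    {R L Q : Subgroup Γ} (hRL : R ≤ L) (hLQ : L ≤ Q) (hd : R.relIndex Q = d * d)
    (hsL : s ∈ normalizer (L : Set Γ)) (hsR : s ∈ normalizer (R : Set Γ))
    (hfree : ∀ i, 0 < i → i < d + 1 → ∀ x ∈ Q, ⁅s ^ i, x⁆ ∈ R → x ∈ R)
    (hcop : (d + 1).Coprime (Nat.card R)) : L ≤ R ∨ Q ≤ L := by
  have h1 := dvd_relIndex_sub_one_of_free (Nat.succ_pos d) hs hRL hsL hsR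
    (fun i hi hiN x hx => hfree i hi hiN x (hLQ hx)) hcop
  have hmul : R.relIndex L * L.relIndex Q = d * d := by rw [relIndex_mul_relIndex R L Q hRL hLQ, hd]
  rw [← relIndex_eq_one, ← relIndex_eq_one]
  have hne : ∀ A B : Subgroup Γ, A.relIndex B ≠ 0 := fun A B => (A.subgroupOf B).index_ne_zero_of_finite
  set k := R.relIndex L
  set k' := L.relIndex Q
  rcases Nat.eq_zero_or_pos d with rfl | hd0
  · exact absurd hmul (Nat.mul_ne_zero (hne R L) (hne L Q))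
  have hk : 0 < k := Nat.pos_of_ne_zero (hne R L)
  have hk' : 0 < k' := Nat.pos_of_ne_zero (hne L Q)
  have h2 : d + 1 ∣ k' - 1 := by
    have e1 : 1 ≡ k [MOD d + 1] := (Nat.modEq_iff_dvd' hk).2 h1
    have e2 : 1 ≡ d * d [MOD d + 1] := (Nat.modEq_iff_dvd' (Nat.mul_pos hd0 hd0)).2 (by
      refine Dvd.intro (d - 1) ?_
      simpa using (Nat.mul_self_sub_mul_self_eq d 1).symm)
    refine (Nat.modEq_iff_dvd' hk').1 (e2.trans ?_)
    rw [← hmul]
    simpa using (e1.mul_right k').symm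
  by_contra hno
  push Not at hno
  have hbig : ∀ {j : ℕ}, 0 < j → j ≠ 1 → d + 1 ∣ j - 1 → d < j := fun {j} hj hj1 hdvd => by
    have := Nat.le_of_dvd (by omega) hdvd
    omega
  exact absurd hmul (Nat.mul_lt_mul_of_lt_of_lt (hbig hk hno.1 h1) (hbig hk' hno.2 h2)).ne'

theorem commutator_fixed_comm {Γ : Type u} [Group Γ] {a c w : Γ} (hw : a * w = w * a)
    (hk : a * ⁅c, w⁆ = ⁅c, w⁆ * a) (hkw : w * ⁅c, w⁆ = ⁅c, w⁆ * w)
    (hkc : c * ⁅c, w⁆ = ⁅c, w⁆ * c) (hk' : (a * c * a⁻¹) * ⁅c, w⁆ = ⁅c, w⁆ * (a * c * a⁻¹)) :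
    ⁅a, c⁆ * w = w * ⁅a, c⁆ := by
  set k := ⁅c, w⁆ with hkd
  have h1 : c * w = k * w * c := by rw [hkd, commutatorElement_def]; group
  have hwa : w * a⁻¹ = a⁻¹ * w := (show Commute a w from hw).inv_left.eq.symm
  have h2 : c⁻¹ * w = k⁻¹ * (w * c⁻¹) := by
    have e : k * c⁻¹ = c⁻¹ * k := ((show Commute c k from hkc).inv_left).eq.symm
    calc c⁻¹ * w = k⁻¹ * (k * c⁻¹) * w := by group
      _ = k⁻¹ * (c⁻¹ * (k * w * c) * c⁻¹) := by rw [e]; group
      _ = k⁻¹ * (c⁻¹ * (c * w) * c⁻¹) := by rw [h1]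
      _ = k⁻¹ * (w * c⁻¹) := by group
  have h3 : a * c * a⁻¹ * w = k * (w * (a * c * a⁻¹)) := by
    calc a * c * a⁻¹ * w = a * c * (a⁻¹ * w) := by group
      _ = a * (c * w) * a⁻¹ := by rw [← hwa]; group
      _ = a * (k * w * c) * a⁻¹ := by rw [h1]
      _ = (a * k) * w * c * a⁻¹ := by group
      _ = k * (a * w) * c * a⁻¹ := by rw [hk]; group
      _ = _ := by rw [hw]; group
  calc ⁅a, c⁆ * w = a * c * a⁻¹ * (c⁻¹ * w) := by rw [commutatorElement_def]; group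
    _ = (a * c * a⁻¹ * k⁻¹) * w * c⁻¹ := by rw [h2]; group
    _ = k⁻¹ * (a * c * a⁻¹ * w) * c⁻¹ := by
        rw [((show Commute (a * c * a⁻¹) k from hk').inv_right).eq]; group
    _ = w * ⁅a, c⁆ := by rw [h3, commutatorElement_def]; group

/-- Commutators with the top elements are central on every block. -/
theorem tops_commute_block {Γ : Type u} [Group Γ] [Finite Γ] {W : Type w} [AddCommGroup W]
    [Module K W] [FiniteDimensional K W] {p q n : ℕ} [Fact p.Prime] [Fact q.Prime] [CharP K p]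
    (hp2 : p ≠ 2) (hqp : q ≠ p) (ρ : Γ →* Module.End K W) (C Z : Subgroup Γ) [hCn : C.Normal]
    [hZn : Z.Normal] [Fintype Z] (hC : IsPGroup q C) (hZC : Z ≤ C)
    (hZc : ∀ z ∈ Z, ∀ y ∈ C, y * z = z * y) (hcomm : ∀ x ∈ C, ∀ y ∈ C, ⁅x, y⁆ ∈ Z)
    {T : Subgroup Γ} (hT : IsPGroup p T) {s₁ s₂ : Γ} (hs₁T : s₁ ∈ T) (hs₂T : s₂ ∈ T)
    (hs₁ : s₁ ^ p ^ (n + 1) = 1) (hs₂ : s₂ ^ p ^ (n + 1) = 1)
    (hr₁ : (ρ s₁ - 1) ^ (p ^ (n + 1) - 1) = 0) (hr₂ : (ρ s₂ - 1) ^ (p ^ (n + 1) - 1) = 0)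
    (hz₁ : ∀ z ∈ Z, s₁ ^ p ^ n * z = z * s₁ ^ p ^ n)
    (hz₂ : ∀ z ∈ Z, s₂ ^ p ^ n * z = z * s₂ ^ p ^ n)
    (l : Z →* Kˣ) {y : Γ} (hy : y ∈ C) :
    ∀ x ∈ C, ρ (⁅⁅s₁ ^ p ^ n, s₂ ^ p ^ n⁆, y⁆ * x) * weightIdem Z ρ l =
      ρ (x * ⁅⁅s₁ ^ p ^ n, s₂ ^ p ^ n⁆, y⁆) * weightIdem Z ρ l := by
  classical
  have hp : p.Prime := Fact.out
  have hq : q.Prime := Fact.out
  have hcopqp : q.Coprime p := (Nat.coprime_primes hq hp).2 hqp
  set e := weightIdem Z ρ l with he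
  set St := MulAction.stabilizer Γ l with hSt
  have hcSt : ∀ o ∈ St, ρ o * e = e * ρ o := fun o ho => by
    rw [he, map_mul_weightIdem_smul, MulAction.mem_stabilizer_iff.1 ho]
  have hCSt : C ≤ St := fun o ho => dual_smul_eq_self_of_commute l fun z hz => hZc z hz o ho
  have hCe : ∀ o ∈ C, Commute (ρ o) e := fun o ho => hcSt o (hCSt ho)
  set R := wCentral C ρ e hCe with hR
  have hRst : St ≤ normalizer (R : Set Γ) := le_normalizer_iff.2 fun g hg x hx =>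
    conj_mem_wCentral ρ (hcSt g hg) hx
  have hRC : R ≤ C := wCentral_le ρ
  have hZR : Z ≤ R := fun z hz => ⟨hZC hz, fun o ho => by rw [hZc z hz o ho]⟩
  haveI hRn : (R.subgroupOf C).Normal :=
    (normal_subgroupOf_iff_le_normalizer hRC).2 (hCSt.trans hRst)
  set ψ := QuotientGroup.mk' (R.subgroupOf C) with hψ
  have hψs : Function.Surjective ψ := QuotientGroup.mk'_surjective _
  have hψ1 : ∀ x : C, ψ x = 1 ↔ (x : Γ) ∈ R := fun x => QuotientGroup.eq_one_iff x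
  letI : CommGroup (C ⧸ R.subgroupOf C) :=
    { QuotientGroup.Quotient.group (R.subgroupOf C) with
      mul_comm := fun x y => by
        obtain ⟨x, rfl⟩ := hψs x
        obtain ⟨y, rfl⟩ := hψs y
        rw [← commutatorElement_eq_one_iff_mul_comm, ← map_commutatorElement, hψ1]
        exact hZR (show C.subtype ⁅x, y⁆ ∈ Z from by rw [map_commutatorElement]; exact hcomm x x.2 y y.2) }
  set Tl := T ⊓ St with hTl
  let cj : Tl → MulAut C := fun t => MulAut.conjNormal (t : Γ)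
  have hcj : ∀ (t : Tl) (x : C), ((cj t x : C) : Γ) = (t : Γ) * x * (t : Γ)⁻¹ :=
    fun t x => MulAut.conjNormal_apply _ _
  have hmapR : ∀ t : Tl, (R.subgroupOf C).map (cj t).toMonoidHom = R.subgroupOf C := by
    intro t
    ext x
    constructor
    · rintro ⟨x, hx, rfl⟩
      show ((cj t x : C) : Γ) ∈ R
      rw [hcj]
      exact (mem_normalizer_iff.1 (hRst t.2.2) _).1 hx
    · intro hx
      refine ⟨(cj t).symm x, ?_, (cj t).apply_symm_apply x⟩
      show (((cj t).symm x : C) : Γ) ∈ R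
      refine (mem_normalizer_iff.1 (hRst t.2.2) _).2 ?_
      rw [← hcj, (cj t).apply_symm_apply]
      exact hx
  let φ : Tl →* MulAut (C ⧸ R.subgroupOf C) := MonoidHom.mk'
    (fun t => QuotientGroup.congr _ _ (cj t) (hmapR t)) fun t t' => MulEquiv.ext fun v => by
      obtain ⟨x, rfl⟩ := hψs v
      show ψ (cj (t * t') x) = ψ (cj t (cj t' x))
      refine congrArg ψ (Subtype.ext ?_)
      rw [hcj, hcj, hcj, Subgroup.coe_mul]
      group
  have hφ : ∀ (t : Tl) (x : C), φ t (ψ x) = ψ (cj t x) := fun t x => rfl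
  have hmove : ∀ (t : Tl) (x : C),
      moveHom (φ t) (ψ x) = ψ ⟨⁅(t : Γ), (x : Γ)⁆, commutator_mem_of_normal hCn _ x.2⟩ := by
    intro t x
    rw [moveHom_apply, hφ, ← map_inv ψ, ← map_mul ψ]
    refine congrArg ψ (Subtype.ext ?_)
    rw [Subgroup.coe_mul, hcj]
    rfl
  have key : ∀ s : Γ, s ∈ T → s ^ p ^ (n + 1) = 1 → (ρ s - 1) ^ (p ^ (n + 1) - 1) = 0 →
      (∀ z ∈ Z, s ^ p ^ n * z = z * s ^ p ^ n) → ∀ ha : s ^ p ^ n ∈ Tl,
      φ ⟨_, ha⟩ = 1 ∨ IrreducibleMoved p φ.range (φ ⟨_, ha⟩) := by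
    intro s hsT hs hr hz ha
    set a := s ^ p ^ n with had
    have hap : a ^ p = 1 := by rw [had, ← pow_mul, ← pow_succ, hs]
    set mk := QuotientGroup.mk' Z with hmk
    have hmk1 : ∀ x, mk x = 1 ↔ x ∈ Z := fun x => QuotientGroup.eq_one_iff x
    have hCcomm : ∀ x ∈ C, ∀ o ∈ C, mk x * mk o = mk o * mk x := fun x hx o ho => by
      rw [← commutatorElement_eq_one_iff_mul_comm, ← map_commutatorElement, hmk1]
      exact hcomm x hx o ho
    let D : C →* Γ ⧸ Z := MonoidHom.mk' (fun x => mk ⁅a, (x : Γ)⁆) fun x o => by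
      show mk ⁅a, (x : Γ) * o⁆ = mk ⁅a, (x : Γ)⁆ * mk ⁅a, (o : Γ)⁆
      rw [show ⁅a, (x : Γ) * o⁆ = ⁅a, (x : Γ)⁆ * ((x : Γ) * ⁅a, (o : Γ)⁆ * (x : Γ)⁻¹) by
        simp only [commutatorElement_def]; group, map_mul, map_mul, map_mul,
        hCcomm x x.2 _ (commutator_mem_of_normal hCn _ o.2), map_inv, mul_inv_cancel_right]
    set Qa := D.range.comap mk with hQa
    have hQamem : ∀ {x : Γ}, x ∈ Qa ↔ ∃ o ∈ C, mk x = mk ⁅a, o⁆ := fun {x} =>
      ⟨fun ⟨o, ho⟩ => ⟨o, o.2, ho.symm⟩, fun ⟨o, ho, h⟩ => ⟨⟨o, ho⟩, h.symm⟩⟩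
    have hQC : Qa ≤ C := by
      intro x hx
      obtain ⟨o, ho, h⟩ := hQamem.1 hx
      have h1 : x⁻¹ * ⁅a, o⁆ ∈ Z := QuotientGroup.eq.1 h
      have h2 : x⁻¹ ∈ C := by
        have := C.mul_mem (hZC h1) (C.inv_mem (commutator_mem_of_normal hCn a ho))
        rwa [mul_inv_cancel_right] at this
      exact (C.inv_mem_iff).1 h2
    have hZQa : Z ≤ Qa := fun z hz => hQamem.2 ⟨1, one_mem C, by
      rw [commutatorElement_one_right, map_one, (hmk1 z).2 hz]⟩
    have hmemQa : ∀ o ∈ C, ⁅a, o⁆ ∈ Qa := fun o ho => hQamem.2 ⟨o, ho, rfl⟩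
    have hQaN : ∀ t : Γ, t * a = a * t → t ∈ normalizer (Qa : Set Γ) := by
      intro t hta
      refine le_normalizer_iff.2 (fun g hg x hx => ?_) (mem_zpowers t)
      have hga : g * a = a * g := by
        obtain ⟨i, rfl⟩ := mem_zpowers_iff.1 hg
        exact ((show Commute t a from hta).zpow_left i).eq
      obtain ⟨o, ho, h⟩ := hQamem.1 hx
      refine hQamem.2 ⟨g * o * g⁻¹, hCn.conj_mem o ho g, ?_⟩
      rw [map_mul, map_mul, h, ← map_mul, ← map_mul]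
      congr 1
      rw [show g * ⁅a, o⁆ * g⁻¹ = ⁅g * a * g⁻¹, g * o * g⁻¹⁆ by
        simp only [commutatorElement_def]; group, hga, mul_inv_cancel_right]
    have hsQa : s ∈ normalizer (Qa : Set Γ) := hQaN s (Commute.self_pow s _).eq
    have haQa : a ∈ normalizer (Qa : Set Γ) := hQaN a rfl
    have hQp : IsPGroup q Qa := hC.to_le hQC
    by_cases hne : ∃ o ∈ Qa, ρ (a * o) * e ≠ ρ (o * a) * e
    swap
    · left
      push Not at hne
      obtain ⟨θ, -, hθeq, -, -⟩ := exists_range_rep ρ e St hcSt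
      refine MulEquiv.ext fun v => ?_
      obtain ⟨x, rfl⟩ := hψs v
      show φ ⟨a, ha⟩ (ψ x) = ψ x
      rw [← mul_inv_eq_one, ← moveHom_apply, hmove, hψ1]
      set o := ⁅a, (x : Γ)⁆ with ho
      have hoC : o ∈ C := commutator_mem_of_normal hCn _ x.2
      have h1 : ⁅θ.toHomUnits ⟨a, ha.2⟩, θ.toHomUnits ⟨x, hCSt x.2⟩⁆ = 1 := by
        refine eq_one_of_commute_commutator (p := p) ?_ ?_ ?_
        · rw [← map_pow, show (⟨a, ha.2⟩ : St) ^ p = 1 from Subtype.ext hap, map_one]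
        · rw [← map_commutatorElement, ← map_mul, ← map_mul]
          refine Units.ext ((hθeq _ _).2 ?_)
          rw [Subgroup.coe_mul, Subgroup.coe_mul,
            show ((⁅(⟨a, ha.2⟩ : St), (⟨x, hCSt x.2⟩ : St)⁆ : St) : Γ) = o from
              map_commutatorElement St.subtype _ _]
          exact hne o (hmemQa x x.2)
        · rw [← map_commutatorElement]
          obtain ⟨b, hb⟩ := hC ⟨o, hoC⟩
          refine (hcopqp.pow_left b).coprime_dvd_left ((orderOf_map_dvd _ _).trans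
            (orderOf_dvd_of_pow_eq_one (St.subtype_injective ?_)))
          rw [map_pow, map_commutatorElement, map_one]
          exact congrArg Subtype.val hb
      rw [← map_commutatorElement] at h1
      have h2 : θ ⁅(⟨a, ha.2⟩ : St), (⟨x, hCSt x.2⟩ : St)⁆ = θ 1 :=
        (congrArg Units.val h1).trans θ.map_one.symm
      have h3 : ρ o * e = e := by
        have h4 := (hθeq _ _).1 h2
        rwa [show ((⁅(⟨a, ha.2⟩ : St), (⟨x, hCSt x.2⟩ : St)⁆ : St) : Γ) = o from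
              map_commutatorElement St.subtype _ _, Subgroup.coe_one, map_one, one_mul] at h4
      refine ⟨hoC, fun w hw => ?_⟩
      calc ρ (o * w) * e = ρ o * (ρ w * e) := by rw [map_mul, mul_assoc]
        _ = ρ o * e * ρ w := by rw [(hCe w hw).eq, mul_assoc]
        _ = e * ρ w := by rw [h3]
        _ = ρ w * e := (hCe w hw).eq.symm
        _ = ρ (w * o) * e := by rw [map_mul, mul_assoc, h3]
    right
    have hfix : ∀ o ∈ Qa, (a * o = o * a ↔ o ∈ Z) := by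
      refine fun o ho => ⟨fun hc => ?_, fun hoZ => hz o hoZ⟩
      obtain ⟨w, hw, h⟩ := hQamem.1 ho
      rw [← hmk1]
      obtain ⟨b, hb⟩ := hC ⟨o, hQC ho⟩
      rw [h, map_commutatorElement]
      refine eq_one_of_commute_commutator (p := p) (by rw [← map_pow, hap, map_one]) ?_ ?_
      · rw [← map_commutatorElement, ← h, ← map_mul, ← map_mul, hc]
      · rw [← map_commutatorElement, ← h]
        exact (hcopqp.pow_left b).coprime_dvd_left ((orderOf_map_dvd _ _).trans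
          (orderOf_dvd_of_pow_eq_one (congrArg Subtype.val hb)))
    obtain ⟨α, d, hαn, hαl, hdN, -, -, R', hR'mem, hd, -, hfree⟩ :=
      theoremB_block_at (n := n) (r := p ^ (n + 1) - 1) hqp ρ Qa Z hQp hZQa
        (fun z hz o ho => hZc z hz o (hQC ho)) (fun x hx o ho => hcomm x (hQC hx) o (hQC ho)) hs hsQa
        hfix l hne hr (Nat.sub_lt (pow_pos hp.pos _) Nat.one_pos)
    set s' := s ^ p ^ α with hs'
    have hs'Tl : s' ∈ Tl := ⟨pow_mem hsT _, MulAction.mem_stabilizer_iff.2 hαl⟩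
    have hs'a : s' ^ p ^ (n - α) = a := by
      rw [hs', had, ← pow_mul, ← pow_add, Nat.add_sub_cancel' hαn]
    have hs'N : s' ^ (d + 1) = 1 := by
      rw [hdN, hs', ← pow_mul, ← pow_add, show α + (n - α + 1) = n + 1 by omega, hs]
    have hdec : ∀ o ∈ C, ∃ v ∈ Qa, ∃ w ∈ C, a * w = w * a ∧ o = v * w := by
      intro o ho
      have hall : ∀ b ∈ zpowers a, ⁅b, o⁆ ∈ Qa := by
        intro b hb
        obtain ⟨i, rfl⟩ := (isOfFinOrder_of_finite a).mem_powers_iff_mem_zpowers.mpr hb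
        show ⁅a ^ i, o⁆ ∈ Qa
        clear hb
        induction i with
        | zero => rw [pow_zero, commutatorElement_one_left]; exact one_mem _
        | succ i ih =>
          rw [pow_succ', show ⁅a * a ^ i, o⁆ = a * ⁅a ^ i, o⁆ * a⁻¹ * ⁅a, o⁆ by
            simp only [commutatorElement_def]; group]
          exact Qa.mul_mem ((mem_normalizer_iff.1 haQa _).1 ih) (hmemQa o ho)
      obtain ⟨v, hv, hvc⟩ := Coprime.exists_mul_mem_centralizer (A := zpowers a) (N := Qa)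
        (zpowers_le.2 haQa) (by
          obtain ⟨i, hi⟩ := IsPGroup.iff_card.mp hQp
          rw [hi, Nat.card_zpowers]
          exact Nat.Coprime.coprime_dvd_left (orderOf_dvd_of_pow_eq_one hap) (hcopqp.symm.pow_right i))
        (Or.inl (Coprime.isSolvable_zpowers a)) hall
      exact ⟨v⁻¹, inv_mem hv, v * o, C.mul_mem (hQC hv) ho,
        mem_centralizer_iff.1 hvc a (mem_zpowers a), by group⟩
    have hcQa : ∀ x ∈ Qa, ∀ w ∈ C, a * w = w * a → x * w = w * x := by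
      intro x hx w hw hwa
      obtain ⟨o, ho, h⟩ := hQamem.1 hx
      have hzmem : x⁻¹ * ⁅a, o⁆ ∈ Z := QuotientGroup.eq.1 h
      have hkZ : ⁅o, w⁆ ∈ Z := hcomm o ho w hw
      have h1 := commutator_fixed_comm hwa (hz _ hkZ) (hZc _ hkZ w hw) (hZc _ hkZ o ho)
        (hZc _ hkZ _ (hCn.conj_mem o ho a))
      have h2 : w * (x⁻¹ * ⁅a, o⁆) = x⁻¹ * ⁅a, o⁆ * w := hZc _ hzmem w hw
      calc x * w = ⁅a, o⁆ * (x⁻¹ * ⁅a, o⁆)⁻¹ * w := by group
        _ = ⁅a, o⁆ * (w * (x⁻¹ * ⁅a, o⁆)⁻¹) := by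
            rw [mul_assoc ⁅a, o⁆, ((show Commute w (x⁻¹ * ⁅a, o⁆) from h2).inv_right).eq]
        _ = w * x := by rw [← mul_assoc, h1]; group
    have hR'R : ∀ x, x ∈ R' ↔ x ∈ Qa ∧ x ∈ R := by
      intro x
      rw [hR'mem]
      constructor
      · rintro ⟨hx, hxc⟩
        refine ⟨hx, hQC hx, fun o ho => ?_⟩
        obtain ⟨v, hv, w, hw, hwa, rfl⟩ := hdec o ho
        have hxw := hcQa x hx w hw hwa
        calc ρ (x * (v * w)) * e = ρ (x * v) * e * ρ w := by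
              rw [← mul_assoc, map_mul, mul_assoc, (hCe w hw).eq, ← mul_assoc]
          _ = ρ (v * x) * e * ρ w := by rw [hxc v hv]
          _ = ρ (v * w * x) * e := by
              rw [mul_assoc, ← (hCe w hw).eq, ← mul_assoc, ← map_mul, mul_assoc v x, hxw, mul_assoc]
      · rintro ⟨hx, -, hxc⟩
        exact ⟨hx, fun v hv => hxc v (hQC hv)⟩
    refine ⟨φ ⟨s', hs'Tl⟩, ⟨_, rfl⟩, ?_, ?_, fun L hinv hLE => ?_⟩
    · refine mem_zpowers_iff.2 ⟨(p ^ (n - α) : ℕ), ?_⟩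
      rw [zpow_natCast, ← map_pow]
      exact congrArg φ (Subtype.ext hs'a)
    · rw [← map_pow, show (⟨a, ha⟩ : Tl) ^ p = 1 from Subtype.ext hap, map_one]
    set L' := (L.comap ψ).map C.subtype with hL'
    have hL'mem : ∀ x : C, (x : Γ) ∈ L' ↔ ψ x ∈ L := fun x => by
      rw [hL', ← Subgroup.coe_subtype, mem_map_iff_mem C.subtype_injective, mem_comap]
    set L'' := Qa ⊓ L' with hL''
    have hRL : R' ≤ L'' := fun x hx => by
      obtain ⟨h1, h2⟩ := (hR'R x).1 hx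
      exact ⟨h1, (hL'mem ⟨x, hQC h1⟩).2 (by rw [(hψ1 _).2 h2]; exact L.one_mem)⟩
    have hs'Qa : s' ∈ normalizer (Qa : Set Γ) := pow_mem hsQa _
    have hs'L : s' ∈ normalizer (L'' : Set Γ) := by
      refine le_normalizer_iff.2 (fun g hg x hx => ?_) (mem_zpowers s')
      obtain ⟨i, rfl⟩ := (isOfFinOrder_of_finite s').mem_powers_iff_mem_zpowers.mpr hg
      show s' ^ i * x * (s' ^ i)⁻¹ ∈ L''
      clear hg
      induction i with
      | zero => simpa using hx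
      | succ i ih =>
        rw [show s' ^ (i + 1) * x * (s' ^ (i + 1))⁻¹ = s' * (s' ^ i * x * (s' ^ i)⁻¹) * s'⁻¹ by
          rw [pow_succ']; group]
        refine ⟨(mem_normalizer_iff.1 hs'Qa _).1 ih.1, ?_⟩
        have h1 := (hL'mem (cj ⟨s', hs'Tl⟩ ⟨_, hQC ih.1⟩)).2
          (by rw [← hφ]; exact hinv _ ((hL'mem ⟨_, hQC ih.1⟩).1 ih.2))
        rw [hcj] at h1
        exact h1
    have hs'R : s' ∈ normalizer (R' : Set Γ) := by
      rw [show R' = Qa ⊓ R from Subgroup.ext fun x => hR'R x]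
      exact inf_normalizer_le_normalizer_inf ⟨hs'Qa, hRst hs'Tl.2⟩
    have hcopR : (d + 1).Coprime (Nat.card R') := by
      obtain ⟨i, hi⟩ := IsPGroup.iff_card.mp (hQp.to_le (show R' ≤ Qa from fun x hx => ((hR'R x).1 hx).1))
      rw [hi, hdN]
      exact (hcopqp.symm.pow _ _)
    rcases le_or_le_of_free hs'N hRL inf_le_left hd hs'L hs'R
        (fun i hi hiN x hx => hfree i hi (hdN ▸ hiN) x hx) hcopR with h | h
    · left
      rw [eq_bot_iff]
      intro v hv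
      obtain ⟨u, hu⟩ := hLE hv
      obtain ⟨x, rfl⟩ := hψs u
      rw [hmove] at hu
      subst hu
      rw [Subgroup.mem_bot, hψ1]
      exact ((hR'R _).1 (h ⟨hmemQa x x.2, (hL'mem _).2 hv⟩)).2
    · right
      rintro _ ⟨u, rfl⟩
      obtain ⟨x, rfl⟩ := hψs u
      rw [hmove]
      exact (hL'mem ⟨_, _⟩).1 (h (hmemQa x x.2)).2
  have ha₁ : s₁ ^ p ^ n ∈ Tl := ⟨pow_mem hs₁T _, dual_smul_eq_self_of_commute l hz₁⟩
  have ha₂ : s₂ ^ p ^ n ∈ Tl := ⟨pow_mem hs₂T _, dual_smul_eq_self_of_commute l hz₂⟩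
  have hMq : IsPGroup q (C ⧸ R.subgroupOf C) := hC.to_quotient _
  have hTlp : IsPGroup p φ.range := (hT.to_le inf_le_left).of_surjective _ φ.rangeRestrict_surjective
  have hc : φ ⁅(⟨_, ha₁⟩ : Tl), (⟨_, ha₂⟩ : Tl)⁆ = 1 := by
    rw [map_commutatorElement, commutatorElement_eq_one_iff_mul_comm]
    rcases key s₁ hs₁T hs₁ hr₁ hz₁ ha₁ with h₁ | h₁
    · rw [h₁, one_mul, mul_one]
    rcases key s₂ hs₂T hs₂ hr₂ hz₂ ha₂ with h₂ | h₂
    · rw [h₂, one_mul, mul_one]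
    exact commute_of_irreducible hp2 hMq hcopqp hTlp h₁ h₂
  have h4 := hmove ⁅(⟨_, ha₁⟩ : Tl), (⟨_, ha₂⟩ : Tl)⁆ ⟨y, hy⟩
  rw [hc, moveHom_apply, MulAut.one_apply, mul_inv_cancel, eq_comm, hψ1] at h4
  have h5 : ⁅⁅s₁ ^ p ^ n, s₂ ^ p ^ n⁆, y⁆ ∈ R := by
    rwa [show ((⁅(⟨_, ha₁⟩ : Tl), (⟨_, ha₂⟩ : Tl)⁆ : Tl) : Γ) = ⁅s₁ ^ p ^ n, s₂ ^ p ^ n⁆ from
      map_commutatorElement Tl.subtype _ _] at h4
  exact h5.2

/-- The commutator of two tops centralises every invariant `q`-subgroup. -/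
theorem tops_commute {Γ : Type u} [Group Γ] [Finite Γ] {W : Type w} [AddCommGroup W]
    [Module K W] [FiniteDimensional K W] {p q n : ℕ} [Fact p.Prime] [Fact q.Prime] [CharP K p]
    (hp2 : p ≠ 2) (hqp : q ≠ p) (ρ : Γ →* Module.End K W) (hinj : Function.Injective ρ)
    {S T : Subgroup Γ} (hS : IsPGroup q S) (hT : IsPGroup p T) (hTS : T ≤ normalizer (S : Set Γ))
    {s₁ s₂ : Γ} (hs₁T : s₁ ∈ T) (hs₂T : s₂ ∈ T)
    (hs₁ : s₁ ^ p ^ (n + 1) = 1) (hs₂ : s₂ ^ p ^ (n + 1) = 1)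
    (hr₁ : (ρ s₁ - 1) ^ (p ^ (n + 1) - 1) = 0) (hr₂ : (ρ s₂ - 1) ^ (p ^ (n + 1) - 1) = 0) :
    ∀ y ∈ S, ⁅s₁ ^ p ^ n, s₂ ^ p ^ n⁆ * y = y * ⁅s₁ ^ p ^ n, s₂ ^ p ^ n⁆ := by
  classical
  have hp : p.Prime := Fact.out
  have hqK : (q : K) ≠ 0 := fun h0 =>
    hqp ((Nat.prime_dvd_prime_iff_eq hp Fact.out).mp ((CharP.cast_eq_zero_iff K p _).mp h0)).symm
  obtain ⟨C₀, hchar, hC2, hcrit⟩ := PGroup.CoprimeFix.exists_critical hS
  set c := ⁅s₁ ^ p ^ n, s₂ ^ p ^ n⁆ with hc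
  have hcT : c ∈ T := by
    rw [hc, commutatorElement_def]
    exact mul_mem (mul_mem (mul_mem (pow_mem hs₁T _) (pow_mem hs₂T _)) (inv_mem (pow_mem hs₁T _)))
      (inv_mem (pow_mem hs₂T _))
  set C₁ := C₀.map S.subtype with hC₁
  have hTC : T ≤ normalizer (C₁ : Set Γ) := by
    refine le_normalizer_iff.2 fun t ht => ?_
    rintro _ ⟨x, hx, rfl⟩
    exact ⟨S.normalizerMonoidHom ⟨t, hTS ht⟩ x,
      characteristic_iff_map_le.mp hchar _ ⟨x, hx, rfl⟩, rfl⟩
  set X := normalizer (C₁ : Set Γ) with hX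
  set C := C₁.subgroupOf X with hCdef
  haveI hCn : C.Normal := (normal_subgroupOf_iff_le_normalizer le_normalizer).2 le_rfl
  set Z := C ⊓ centralizer (C : Set X) with hZdef
  haveI : Z.Normal := inferInstance
  haveI : Fintype Z := Fintype.ofFinite Z
  have hCp : IsPGroup q C :=
    ((hS.to_subgroup C₀).map S.subtype).of_equiv (subgroupOfEquivOfLe le_normalizer).symm
  have hZc : ∀ z ∈ Z, ∀ y ∈ C, y * z = z * y := fun z hz y hy => mem_centralizer_iff.1 hz.2 y hy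
  have hcomm : ∀ x ∈ C, ∀ y ∈ C, ⁅x, y⁆ ∈ Z := by
    intro x hx y hy
    refine ⟨(commutator_le_right C C) (commutator_mem_commutator hx hy),
      mem_centralizer_iff.2 fun w hw => Subtype.ext ?_⟩
    obtain ⟨x', hx', hxe⟩ := hx
    obtain ⟨y', hy', hye⟩ := hy
    obtain ⟨w', hw', hwe⟩ := hw
    show (w : Γ) * X.subtype ⁅x, y⁆ = X.subtype ⁅x, y⁆ * w
    rw [map_commutatorElement, ← hxe, ← hye, ← map_commutatorElement,
      show (w : Γ) = S.subtype w' from hwe.symm, ← map_mul, ← map_mul,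
      (hC2.comm x' hx' y' hy' w' hw').eq]
  set ρX := ρ.comp X.subtype with hρX
  have hinjX : Function.Injective ρX := hinj.comp X.subtype_injective
  haveI hcharEnd : ∀ (W' : Type w) [AddCommGroup W'] [Module K W'] [Nontrivial W'],
      CharP (Module.End K W') p := fun W' _ _ _ => charP_of_injective_algebraMap
    (FaithfulSMul.algebraMap_injective K (Module.End K W')) p
  have hzc : ∀ s : Γ, s ∈ T → s ^ p ^ (n + 1) = 1 → (ρ s - 1) ^ (p ^ (n + 1) - 1) = 0 →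
      ∀ hsX : s ∈ X, ∀ z ∈ Z, (⟨s, hsX⟩ : X) ^ p ^ n * z = z * (⟨s, hsX⟩ : X) ^ p ^ n := by
    intro s _ hs hr hsX z hz
    apply hinjX
    refine commute_of_abelian ρX hp (n := n) (Q := Z) (s := (⟨s, hsX⟩ : X)) (Subtype.ext hs) ?_
      (natCard_cast_ne_zero (hCp.to_le inf_le_left) hqK)
      (fun x hx o ho => by rw [hZc o ho x hx.1]) hz
    rcases subsingleton_or_nontrivial W with hW | hW
    · exact LinearMap.ext fun v => Subsingleton.elim _ _
    haveI := hcharEnd W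
    simp only [map_pow]
    rw [← sub_one_pow_pred]
    exact hr
  have hsX₁ : s₁ ∈ X := hTC hs₁T
  have hsX₂ : s₂ ∈ X := hTC hs₂T
  set a₁ : X := (⟨s₁, hsX₁⟩ : X) ^ p ^ n with ha₁
  set a₂ : X := (⟨s₂, hsX₂⟩ : X) ^ p ^ n with ha₂
  have hz1 := hzc s₁ hs₁T hs₁ hr₁ hsX₁
  have hz2 := hzc s₂ hs₂T hs₂ hr₂ hsX₂
  have hzcen : ∀ z ∈ Z, ⁅a₁, a₂⁆ * z = z * ⁅a₁, a₂⁆ := by
    intro z hz
    have h1 : Commute a₁ z := hz1 z hz
    have h2 : Commute a₂ z := hz2 z hz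
    rw [commutatorElement_def]
    exact (((h1.mul_left h2).mul_left h1.inv_left).mul_left h2.inv_left).eq
  have hZK : (Fintype.card Z : K) ≠ 0 := by
    rw [← Nat.card_eq_fintype_card]; exact natCard_cast_ne_zero (hCp.to_le inf_le_left) hqK
  have hZcomm : IsMulCommutative Z :=
    isMulCommutative_iff.2 fun x o => Subtype.ext (hZc o o.2 x x.2.1)
  have hmain : ∀ o ∈ C, ⁅a₁, a₂⁆ * o = o * ⁅a₁, a₂⁆ := by
    intro o ho
    have hoC : ⁅⁅a₁, a₂⁆, o⁆ ∈ C := commutator_mem_of_normal hCn _ ho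
    have hmem : ⁅⁅a₁, a₂⁆, o⁆ ∈ Z := by
      refine ⟨hoC, mem_centralizer_iff.2 fun x hx => hinjX ?_⟩
      refine eq_of_forall_mul_weightIdem ρX hZcomm hZK fun l _ => ?_
      exact (tops_commute_block (n := n) hp2 hqp ρX C Z hCp inf_le_left hZc hcomm
        (T := T.subgroupOf X) (hT.of_equiv (subgroupOfEquivOfLe hTC).symm)
        (s₁ := ⟨s₁, hsX₁⟩) (s₂ := ⟨s₂, hsX₂⟩) hs₁T hs₂T (Subtype.ext hs₁) (Subtype.ext hs₂)
        hr₁ hr₂ hz1 hz2 l ho x hx).symm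
    obtain ⟨k, hk⟩ := hT ⟨c, hcT⟩
    have hval : ((⁅a₁, a₂⁆ : X) : Γ) = c := by
      show X.subtype ⁅a₁, a₂⁆ = c
      rw [map_commutatorElement, ha₁, ha₂, map_pow, map_pow]
      rfl
    rw [← commutatorElement_eq_one_iff_mul_comm]
    refine eq_one_of_commute_commutator (p := p ^ k) (Subtype.ext ?_) (hzcen _ hmem) ?_
    · rw [SubmonoidClass.coe_pow, hval]; exact congrArg Subtype.val hk
    · obtain ⟨b, hb⟩ := hCp ⟨_, hoC⟩
      exact (((Nat.coprime_primes Fact.out hp).2 hqp).pow b k).coprime_dvd_left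
        (orderOf_dvd_of_pow_eq_one (congrArg Subtype.val hb))
  -- the critical subgroup detects the action
  have hcS : c ∈ normalizer (S : Set Γ) := hTS hcT
  set f := S.normalizerMonoidHom ⟨c, hcS⟩ with hf
  have hford : (orderOf f).Coprime q := by
    obtain ⟨k, hk⟩ := hT ⟨c, hcT⟩
    refine (((Nat.coprime_primes hp Fact.out).2 hqp.symm).pow_left k).coprime_dvd_left
      ((orderOf_map_dvd _ _).trans (orderOf_dvd_of_pow_eq_one (Subtype.ext ?_)))
    show c ^ p ^ k = 1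
    simpa using congrArg Subtype.val hk
  have hf1 : f = 1 := hcrit f hford fun x hx => by
    have hxC : (S.subtype x) ∈ C₁ := mem_map_of_mem S.subtype hx
    have h := congrArg Subtype.val (hmain ⟨S.subtype x, le_normalizer hxC⟩ hxC)
    refine Subtype.ext ?_
    show c * (x : Γ) * c⁻¹ = x
    rw [mul_inv_eq_iff_eq_mul, hc]
    simpa [ha₁, ha₂, commutatorElement_def] using h
  intro y hy
  have h := congrArg Subtype.val (DFunLike.congr_fun hf1 (⟨y, hy⟩ : S))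
  have h' : c * y * c⁻¹ = y := h
  exact mul_inv_eq_iff_eq_mul.mp h'

end CfsgLib.Solvable.FPFOperators
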