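import Cfsg.Agent.Lib.Solvable.FPFOperators.CyclicTools
import Cfsg.Agent.Lib.Solvable.FPFOperators.Twisted
import Cfsg.Agent.Lib.Solvable.FPFOperators.FactorRep
import Cfsg.Agent.Lib.Solvable.FPFOperators.Height
import Mathlib.LinearAlgebra.TensorProduct.Tower
import Mathlib.RingTheory.Flat.Basic

/-!
# Tools for operators forming a group of order `p * q`
-/

set_option autoImplicit false

namespace CfsgLib.Solvable.FPFOperators

open Subgroup CfsgLib
open scoped commutatorElement TensorProduct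

universe u v w

variable {K : Type v} [Field K]

/-- An operator of prime order `N` without fixed vector over scalar commutators centralises, unless
`N - 1` is a power of the prime. -/
theorem commute_or_exceptional [IsAlgClosed K] {W : Type w} [AddCommGroup W] [Module K W]
    [FiniteDimensional K W] [Nontrivial W] {Γ : Type u} [Group Γ] [Finite Γ]
    (θ : Γ →* Module.End K W) (R : Subgroup Γ) [hRn : R.Normal] {t N : ℕ} [Fact t.Prime]
    (hN : N.Prime) (htN : t ≠ N) (hR : IsPGroup t R) (htK : (t : K) ≠ 0) (hNK : (N : K) ≠ 0)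
    {s : Γ} (hs : s ^ N = 1) (hsum : ∑ i ∈ Finset.range N, θ (s ^ i) = 0)
    (hcomm : ∀ x ∈ R, ∀ y ∈ R, ∃ c : K, θ ⁅x, y⁆ = c • 1) :
    (∀ x ∈ R, θ (s * x) = θ (x * s)) ∨
      ∃ m, 1 ≤ m ∧ N - 1 = t ^ m ∧ ∃ T T₀ : Subgroup Γ, T₀ ≤ T ∧ T ≤ R ∧
        (∀ x ∈ R, ⁅s, x⁆ ∈ T) ∧ (∀ x ∈ T₀, ∃ c : K, θ x = c • 1) ∧
        T₀.relIndex T = (N - 1) * (N - 1) := by
  classical
  set θu := θ.toHomUnits with hθu
  have hθne : ∀ g, θ g ≠ 0 := fun g h0 => by
    have h1 : θ (g * g⁻¹) = 0 := by rw [map_mul, h0, zero_mul]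
    rw [mul_inv_cancel, map_one] at h1
    exact one_ne_zero h1
  have hcop : ∀ g ∈ R, (orderOf (θu g)).Coprime N := fun g hg => by
    obtain ⟨i, hi⟩ := hR ⟨g, hg⟩
    exact (((Nat.coprime_primes Fact.out hN).2 htN).pow_left i).coprime_dvd_left
      ((orderOf_map_dvd θu g).trans (orderOf_dvd_of_pow_eq_one (congrArg Subtype.val hi)))
  have hgenR : ∀ x ∈ R, ⁅s, x⁆ ∈ R := fun x hx => by
    rw [commutatorElement_def]; exact mul_mem (hRn.conj_mem x hx s) (inv_mem hx)
  have hkill : ∀ y ∈ R, θ (s * ⁅s, y⁆) = θ (⁅s, y⁆ * s) → θ ⁅s, y⁆ = 1 := by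
    intro y hy hc
    have h1 : ⁅θu s, θu y⁆ = 1 := eq_one_of_commute_commutator (p := N)
      (by rw [← map_pow, hs, map_one])
      (by rw [← map_commutatorElement, ← map_mul, ← map_mul]; exact Units.ext hc)
      (by rw [← map_commutatorElement]; exact hcop _ (hgenR y hy))
    rw [← map_commutatorElement] at h1
    exact congrArg Units.val h1
  set T := closure ((fun x => ⁅s, x⁆) '' (R : Set Γ)) with hT
  have hgenT : ∀ x ∈ R, ⁅s, x⁆ ∈ T := fun x hx => subset_closure ⟨x, hx, rfl⟩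
  have hTR : T ≤ R := by
    rw [hT, closure_le]
    rintro _ ⟨x, hx, rfl⟩
    exact hgenR x hx
  have hconjT : ∀ g : Γ, (∀ x ∈ R, g * ⁅s, x⁆ * g⁻¹ ∈ T) → ∀ x ∈ T, g * x * g⁻¹ ∈ T := by
    intro g hg x hx
    induction hx using Subgroup.closure_induction with
    | mem x hx => obtain ⟨y, hy, rfl⟩ := hx; exact hg y hy
    | one => simp
    | mul a b _ _ ha hb => rw [← conj_mul]; exact mul_mem ha hb
    | inv a _ ha => rw [← conj_inv]; exact inv_mem ha
  set Γ₂ := normalizer (T : Set Γ) with hΓ₂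
  have hsΓ₂ : s ∈ Γ₂ := by
    refine mem_normalizer_iff_map_conj_eq.2 (eq_of_le_of_card_ge ?_
      (by rw [card_map_of_injective (MulAut.conj s).injective]))
    rintro _ ⟨x, hx, rfl⟩
    refine hconjT s (fun z hz => ?_) x hx
    rw [show s * ⁅s, z⁆ * s⁻¹ = ⁅s, s * z * s⁻¹⁆ by simp only [commutatorElement_def]; group]
    exact hgenT _ (hRn.conj_mem z hz s)
  have hRΓ₂ : ∀ y ∈ R, y ∈ Γ₂ := fun y hy => by
    refine mem_normalizer_iff_map_conj_eq.2 (eq_of_le_of_card_ge ?_
      (by rw [card_map_of_injective (MulAut.conj y).injective]))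
    rintro _ ⟨x, hx, rfl⟩
    refine hconjT y (fun z hz => ?_) x hx
    rw [show y * ⁅s, z⁆ * y⁻¹ = ⁅s, y⁆⁻¹ * ⁅s, y * z⁆ by simp only [commutatorElement_def]; group]
    exact mul_mem (inv_mem (hgenT y hy)) (hgenT _ (mul_mem hy hz))
  -- up to scalars, every element of `T` is one commutator
  have hrepr : ∀ x ∈ T, ∃ y ∈ R, ∃ κ : K, θ x = κ • θ ⁅s, y⁆ := by
    have hmul : ∀ y ∈ R, ∀ y' ∈ R, ∃ κ : K, κ ≠ 0 ∧
        θ ⁅s, y * y'⁆ = κ • (θ ⁅s, y⁆ * θ ⁅s, y'⁆) := by
      intro y hy y' hy'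
      obtain ⟨κ, hκ⟩ := hcomm y hy _ (hgenR y' hy')
      refine ⟨κ, fun h0 => hθne _ (by rw [hκ, h0, zero_smul]), ?_⟩
      rw [show ⁅s, y * y'⁆ = ⁅s, y⁆ * ⁅y, ⁅s, y'⁆⁆ * ⁅s, y'⁆ by
        simp only [commutatorElement_def]; group, map_mul, map_mul, hκ, mul_smul_comm, mul_one,
        smul_mul_assoc]
    intro x hx
    induction hx using Subgroup.closure_induction with
    | mem x hx => obtain ⟨y, hy, rfl⟩ := hx; exact ⟨y, hy, 1, (one_smul K _).symm⟩
    | one => exact ⟨1, one_mem R, 1, by simp⟩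
    | mul a b _ _ iha ihb =>
      obtain ⟨y, hy, κ, ha⟩ := iha
      obtain ⟨y', hy', κ', hb⟩ := ihb
      obtain ⟨μ, hμ0, hμ⟩ := hmul y hy y' hy'
      refine ⟨y * y', mul_mem hy hy', κ * κ' * μ⁻¹, ?_⟩
      rw [map_mul, ha, hb, hμ, smul_mul_assoc, mul_smul_comm, smul_smul, smul_smul]
      congr 1
      field_simp
    | inv a _ iha =>
      obtain ⟨y, hy, κ, ha⟩ := iha
      obtain ⟨μ, hμ0, hμ⟩ := hmul y hy y⁻¹ (inv_mem hy)
      rw [mul_inv_cancel, commutatorElement_one_right, map_one] at hμ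
      have hκ : κ ≠ 0 := fun h0 => hθne a (by rw [ha, h0, zero_smul])
      refine ⟨y⁻¹, inv_mem hy, μ * κ⁻¹, ?_⟩
      have h1 : θ a * ((μ * κ⁻¹) • θ ⁅s, y⁻¹⁆) = 1 := by
        rw [ha, smul_mul_assoc, mul_smul_comm, smul_smul, show κ * (μ * κ⁻¹) = μ by field_simp]
        exact hμ.symm
      calc θ a⁻¹ = θ a⁻¹ * (θ a * ((μ * κ⁻¹) • θ ⁅s, y⁻¹⁆)) := by rw [h1, mul_one]
        _ = _ := by rw [← mul_assoc, ← map_mul, inv_mul_cancel, map_one, one_mul]
  have hscalT : ∀ x ∈ T, θ (s * x) = θ (x * s) → ∃ κ : K, θ x = κ • 1 := by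
    intro x hx hc
    obtain ⟨y, hy, κ, hκ⟩ := hrepr x hx
    refine ⟨κ, ?_⟩
    rw [hκ, hkill y hy ?_]
    have hκ0 : κ ≠ 0 := fun h0 => hθne x (by rw [hκ, h0, zero_smul])
    rw [map_mul, map_mul, hκ, mul_smul_comm, smul_mul_assoc] at hc
    rw [map_mul, map_mul]
    exact smul_right_injective (Module.End K W) hκ0 hc
  -- the central part of `T`
  set T₀ : Subgroup Γ := wCentral T θ 1 (fun _ _ => Commute.one_right _) with hT₀
  have hT₀T : T₀ ≤ T := wCentral_le θ
  have hT₀mem : ∀ x, x ∈ T₀ ↔ x ∈ T ∧ ∀ y ∈ T, θ (x * y) = θ (y * x) := fun x => by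
    show (x ∈ T ∧ ∀ y ∈ T, θ (x * y) * 1 = θ (y * x) * 1) ↔ _
    simp only [mul_one]
  have hconjT₀ : ∀ g ∈ Γ₂, ∀ x ∈ T₀, g * x * g⁻¹ ∈ T₀ := by
    intro g hg x hx
    obtain ⟨hxT, hxc⟩ := (hT₀mem x).1 hx
    refine (hT₀mem _).2 ⟨(mem_normalizer_iff.1 hg x).1 hxT, fun y hy => ?_⟩
    have hy' : g⁻¹ * y * g ∈ T := by
      have := (mem_normalizer_iff.1 (inv_mem hg) y).1 hy
      rwa [inv_inv] at this
    calc θ (g * x * g⁻¹ * y) = θ g * θ (x * (g⁻¹ * y * g)) * θ g⁻¹ := by
          rw [← map_mul, ← map_mul]; congr 1; group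
      _ = θ g * θ (g⁻¹ * y * g * x) * θ g⁻¹ := by rw [hxc _ hy']
      _ = θ (y * (g * x * g⁻¹)) := by rw [← map_mul, ← map_mul]; congr 1; group
  set Q₂ := T.subgroupOf Γ₂ with hQ₂
  set R₂ := T₀.subgroupOf Γ₂ with hR₂
  haveI : Q₂.Normal := (normal_subgroupOf_iff_le_normalizer le_normalizer).2 le_rfl
  haveI : R₂.Normal := ⟨fun x hx g => hconjT₀ g g.2 x hx⟩
  let s₂ : Γ₂ := ⟨s, hsΓ₂⟩
  have hs₂ : s₂ ^ N ^ (0 + 1) = 1 := by rw [zero_add, pow_one]; exact Subtype.ext hs
  have hscal : ∀ x ∈ T₀, ∃ κ : K, θ x = κ • 1 := by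
    intro x hx
    refine hscalT x (hT₀T hx) ?_
    have h := commute_of_abelian (θ.comp Γ₂.subtype) hN (n := 0) (s := s₂) (Q := R₂) hs₂
      (by rw [zero_add, pow_one]; simpa [s₂] using hsum)
      (by
        rw [Nat.card_congr (subgroupOfEquivOfLe (hT₀T.trans le_normalizer)).toEquiv]
        exact natCard_cast_ne_zero (hR.to_le (hT₀T.trans hTR)) htK)
      (fun a ha b hb => ((hT₀mem _).1 ha).2 _ ((hT₀mem _).1 hb).1)
      (y := (⟨x, le_normalizer (hT₀T hx)⟩ : Γ₂)) hx
    simpa [s₂] using h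
  obtain ⟨d, hd, hdN, hdvd⟩ := exists_twisted_bound (θ.comp Γ₂.subtype) Q₂ R₂
    (fun x hx => hT₀T hx) (s := s₂) (N := N) hN.pos (Subtype.ext hs) hNK
    (fun x hx => hscal x hx)
    (fun x hx hy => (hT₀mem _).2 ⟨hx, fun y hyT => hy ⟨y, hRΓ₂ y (hTR hyT)⟩ hyT⟩)
    (fun x hx y hy => hcomm _ (hTR hx) _ (hTR hy))
    (fun i hi0 hiN x hx hix => by
      have hmem : s₂ ∈ zpowers (s₂ ^ i) := by
        have := pow_mem_zpowers_pow (n := 0) hN hs₂ (i := i) (by
          rw [zero_add, pow_one]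
          exact fun hdv => absurd (Nat.le_of_dvd hi0 hdv) (not_le.mpr hiN))
        rwa [pow_zero, pow_one] at this
      have hc' : Commute (QuotientGroup.mk' R₂ s₂) (QuotientGroup.mk' R₂ x) := by
        have h1 : Commute (QuotientGroup.mk' R₂ (s₂ ^ i)) (QuotientGroup.mk' R₂ x) :=
          commutatorElement_eq_one_iff_mul_comm.mp ((map_commutatorElement _ _ _).symm.trans
            ((QuotientGroup.eq_one_iff _).mpr hix))
        obtain ⟨k, hk⟩ := mem_zpowers_iff.mp hmem
        rw [← hk, map_zpow]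
        exact h1.zpow_left k
      have h2 : ⁅s₂, x⁆ ∈ R₂ := by
        rw [← QuotientGroup.eq_one_iff]
        exact (map_commutatorElement (QuotientGroup.mk' R₂) _ _).trans
          (commutatorElement_eq_one_iff_mul_comm.2 hc')
      obtain ⟨κ, hκ⟩ := hscal _ (show ⁅s, (x : Γ)⁆ ∈ T₀ from h2)
      set u := θu (x : Γ) with hu
      set σ := θu s with hσ
      have hscal_comm : ∀ {z : Γ} {c : K}, θ z = c • 1 → ∀ g, Commute (θu z) (θu g) :=
        fun {z c} hz g => Units.ext (by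
          show θ z * θ g = θ g * θ z
          rw [hz, smul_mul_assoc, mul_smul_comm, one_mul, mul_one])
      show (x : Γ) ∈ T₀
      refine (hT₀mem _).2 ⟨hx, fun y hy => ?_⟩
      suffices hc : Commute u (θu y) by
        have := congrArg Units.val hc.eq
        rw [map_mul, map_mul]; exact this
      have hgen : ∀ z ∈ R, Commute u (θu ⁅s, z⁆) := by
        intro z hz
        set g := θu z with hg
        obtain ⟨cg, hcg⟩ := hcomm _ (hTR hx) z hz
        have hcgc := hscal_comm hcg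
        have hkc : ∀ g', Commute ⁅σ, u⁆ (θu g') := fun g' => by
          rw [hσ, hu, ← map_commutatorElement]; exact hscal_comm hκ g'
        have e1 : σ⁻¹ * u * σ = ⁅σ, u⁆⁻¹ * u := by
          have h3 : σ⁻¹ * u * σ = σ⁻¹ * (⁅σ, u⁆⁻¹ * (σ * u * σ⁻¹)) * σ := by
            rw [commutatorElement_def]; group
          rw [h3, ← mul_assoc σ⁻¹, show σ⁻¹ * ⁅σ, u⁆⁻¹ = ⁅σ, u⁆⁻¹ * σ⁻¹ by
            rw [hσ, ← map_inv θu s]; exact ((hkc s⁻¹).inv_left.eq).symm]
          group
        have e2 : u * (σ * g * σ⁻¹) * u⁻¹ = ⁅u, g⁆ * (σ * g * σ⁻¹) := by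
          have h3 : (σ⁻¹ * u * σ) * g * (σ⁻¹ * u * σ)⁻¹ = u * g * u⁻¹ := by
            have hk : Commute ⁅σ, u⁆⁻¹ (u * g * u⁻¹) := by
              rw [hu, hg, ← map_inv θu (x : Γ), ← map_mul, ← map_mul]
              exact (hkc _).inv_left
            rw [e1]
            calc ⁅σ, u⁆⁻¹ * u * g * (⁅σ, u⁆⁻¹ * u)⁻¹ = ⁅σ, u⁆⁻¹ * (u * g * u⁻¹) * ⁅σ, u⁆ := by group
              _ = u * g * u⁻¹ := by rw [hk.eq]; group
          have h4 : Commute ⁅u, g⁆ σ := by rw [hu, hg, ← map_commutatorElement]; exact hcgc s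
          calc u * (σ * g * σ⁻¹) * u⁻¹
              = σ * ((σ⁻¹ * u * σ) * g * (σ⁻¹ * u * σ)⁻¹) * σ⁻¹ := by group
            _ = σ * (u * g * u⁻¹) * σ⁻¹ := by rw [h3]
            _ = σ * ⁅u, g⁆ * (g * σ⁻¹) := by rw [commutatorElement_def]; group
            _ = ⁅u, g⁆ * σ * (g * σ⁻¹) := by rw [h4.eq]
            _ = _ := by group
        have h5 : u * ⁅σ, g⁆ * u⁻¹ = ⁅σ, g⁆ := by
          have h6 : Commute ⁅u, g⁆ (σ * g * σ⁻¹) := by
            rw [hu, hg, hσ, ← map_inv θu s, ← map_mul, ← map_mul, ← map_commutatorElement]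
            exact hcgc _
          calc u * ⁅σ, g⁆ * u⁻¹ = u * (σ * g * σ⁻¹) * u⁻¹ * (u * g * u⁻¹)⁻¹ := by
                rw [commutatorElement_def]; group
            _ = ⁅u, g⁆ * (σ * g * σ⁻¹) * (u * g * u⁻¹)⁻¹ := by rw [e2]
            _ = σ * g * σ⁻¹ * ⁅u, g⁆ * (u * g * u⁻¹)⁻¹ := by rw [h6.eq]
            _ = σ * g * σ⁻¹ * (⁅u, g⁆ * g⁻¹) * ⁅u, g⁆⁻¹ := by
                simp only [commutatorElement_def]; group
            _ = σ * g * σ⁻¹ * (g⁻¹ * ⁅u, g⁆) * ⁅u, g⁆⁻¹ := by
                rw [show Commute ⁅u, g⁆ g⁻¹ by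
                  rw [hu, hg, ← map_commutatorElement]; exact (hcgc z).inv_right]
            _ = ⁅σ, g⁆ := by simp only [commutatorElement_def]; group
        have h7 : θu ⁅s, z⁆ = ⁅σ, g⁆ := by rw [hσ, hg, map_commutatorElement]
        rw [h7]
        exact mul_inv_eq_iff_eq_mul.mp h5
      clear_value u
      induction hy using Subgroup.closure_induction with
      | mem y hy => obtain ⟨z, hz, rfl⟩ := hy; exact hgen z hz
      | one => rw [map_one]; exact Commute.one_right _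
      | mul a b _ _ ha hb => rw [map_mul]; exact ha.mul_right hb
      | inv a _ ha => rw [map_inv]; exact ha.inv_right)
    (by simpa [s₂] using hsum)
  have hrel : R₂.relIndex Q₂ = T₀.relIndex T :=
    Subgroup.relIndex_subgroupOf (L := Γ₂) (H := T₀) le_normalizer
  rcases Nat.lt_or_ge d 2 with hd1 | hd1
  · left
    intro x hx
    have hle : T ≤ T₀ := Subgroup.relIndex_eq_one.mp (by
      rw [← hrel, hd]
      have hd0 : d ≠ 0 := fun h0 => Subgroup.index_ne_zero_of_finite (H := R₂.subgroupOf Q₂) (hd.trans (by rw [h0, mul_zero]))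
      interval_cases d
      · exact absurd rfl hd0
      · rfl)
    obtain ⟨κ, hκ⟩ := hscal _ (hle (hgenT x hx))
    have h1 := hkill x hx (by
      rw [map_mul, map_mul, hκ, mul_smul_comm, smul_mul_assoc, one_mul, mul_one])
    calc θ (s * x) = θ ⁅s, x⁆ * θ (x * s) := by
          rw [← map_mul]; congr 1; rw [commutatorElement_def]; group
      _ = θ (x * s) := by rw [h1, one_mul]
  right
  have hdN' : d + 1 = N := by
    have h1 : N ∣ (d + 1) * (d - 1) := by
      rw [show (d + 1) * (d - 1) = d * d - 1 by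
        rw [← Nat.mul_self_sub_mul_self_eq, one_mul]]
      exact hdvd
    rcases hN.dvd_mul.mp h1 with h2 | h2
    · exact le_antisymm hdN (Nat.le_of_dvd (Nat.succ_pos d) h2)
    · exact absurd (Nat.le_of_dvd (by omega) h2) (by omega)
  obtain ⟨a, ha⟩ := IsPGroup.iff_card.mp (hR.to_le hTR)
  have hdd : d ∣ t ^ a := by
    rw [← ha]
    refine (Dvd.intro d hd.symm).trans ?_
    rw [hrel]
    exact Subgroup.relIndex_dvd_card _ _
  obtain ⟨m, -, hm⟩ := (Nat.dvd_prime_pow Fact.out).mp hdd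
  have hm1 : 1 ≤ m := Nat.pos_of_ne_zero fun h0 => by rw [h0, pow_zero] at hm; omega
  refine ⟨m, hm1, by omega, T, T₀, hT₀T, hTR, hgenT, hscal, ?_⟩
  rw [← hrel, hd, ← hdN', Nat.add_sub_cancel]

/-- A group acting coprimely on a section on which an operator of prime order has no fixed
point. -/
theorem sec_trivial {Γ : Type u} [Group Γ] [Finite Γ] {N M : Subgroup Γ} [hNn : N.Normal]
    [M.Normal] {t p : ℕ} [Fact t.Prime] (hp : p.Prime) (htp : t ≠ p)
    (hexp : ∀ a ∈ M, a ^ t ∈ N) (hMc : ∀ a ∈ M, ∀ b ∈ M, ⁅a, b⁆ ∈ N) {a : Γ} (ha : a ^ p = 1)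
    {S : Subgroup Γ} (haS : a ∈ normalizer (S : Set Γ)) (hSp : (Nat.card S).Coprime p)
    (hSt : (Nat.card S).Coprime t)
    (hSc : ∀ x ∈ S, ∀ y ∈ S, ∀ m ∈ M, ⁅⁅x, y⁆, m⁆ ∈ N)
    (hfix : ∀ m ∈ M, ⁅a, m⁆ ∈ N → m ∈ N)
    (hS0 : ∀ x ∈ S, a * x = x * a → ∀ m ∈ M, ⁅x, m⁆ ∈ N) : ∀ x ∈ S, ∀ m ∈ M, ⁅x, m⁆ ∈ N := by
  classical
  obtain ⟨d, ρ, hρ1, -, hρ3⟩ :=
    exists_section_rep (N := N) (M := M) t (AlgebraicClosure (ZMod t)) hexp hMc
  set X := normalizer (S : Set Γ) with hX
  haveI : (S.subgroupOf X).Normal := (normal_subgroupOf_iff_le_normalizer le_normalizer).2 le_rfl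
  have hcast : ((Nat.card S : ℕ) : AlgebraicClosure (ZMod t)) ≠ 0 := fun h0 =>
    (Fact.out : t.Prime).ne_one
      (hSt.symm.eq_one_of_dvd ((CharP.cast_eq_zero_iff (AlgebraicClosure (ZMod t)) t _).mp h0))
  have hstab : ∀ x ∈ S, ρ (a * x) = ρ (x * a) := by
    intro x hx
    have h := commute_of_abelian (ρ.comp X.subtype) hp (n := 0) (s := (⟨a, haS⟩ : X))
      (Q := S.subgroupOf X) (by rw [zero_add, pow_one]; exact Subtype.ext ha)
      (by rw [zero_add, pow_one]; simpa using hρ3 a p ha hfix)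
      (by rw [Nat.card_congr (subgroupOfEquivOfLe (le_normalizer (H := S))).toEquiv]; exact hcast)
      (fun y hy z hz => by
        show ρ ((y : Γ) * z) = ρ ((z : Γ) * y)
        rw [show (y : Γ) * z = ⁅(y : Γ), (z : Γ)⁆ * (z * y) by rw [commutatorElement_def]; group,
          map_mul, (hρ1 _).2 (hSc (y : Γ) hy (z : Γ) hz), one_mul])
      (y := (⟨x, le_normalizer hx⟩ : X)) hx
    simpa using h
  let K₀ : Subgroup Γ := ρ.ker
  have hcomm : ⁅S, zpowers a⁆ ≤ K₀ := by
    rw [commutator_le]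
    intro x hx b hb
    obtain ⟨i, rfl⟩ := mem_zpowers_iff.mp hb
    refine MonoidHom.mem_ker.mpr ?_
    have h1 : Commute (ρ.toHomUnits a) (ρ.toHomUnits x) := Units.ext (by
      show ρ a * ρ x = ρ x * ρ a
      rw [← map_mul, hstab x hx, map_mul])
    have h2 : ρ.toHomUnits ⁅x, a ^ i⁆ = 1 := by
      rw [map_commutatorElement, map_zpow, commutatorElement_eq_one_iff_mul_comm]
      exact (h1.zpow_left i).eq.symm
    exact congrArg Units.val h2
  have hcent : S ⊓ centralizer (zpowers a : Set Γ) ≤ K₀ := fun x hx =>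
    MonoidHom.mem_ker.mpr ((hρ1 x).2 (hS0 x hx.1 (mem_centralizer_iff.1 hx.2 a (mem_zpowers a))))
  intro x hx
  refine (hρ1 x).1 (MonoidHom.mem_ker.mp ?_)
  have hcop : (Nat.card (zpowers a)).Coprime (Nat.card S) := by
    rw [Nat.card_zpowers]
    exact Nat.Coprime.coprime_dvd_left (orderOf_dvd_of_pow_eq_one ha) hSp.symm
  rw [← Coprime.commutator_sup_centralizer (zpowers_le.2 haS) hcop
    (Or.inl (Coprime.isSolvable_zpowers a))] at hx
  exact (sup_le hcomm hcent) hx

/-- In a Frobenius action the fixed space of a complement is small. -/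
theorem fixed_finrank_mul_le [IsAlgClosed K] {W : Type w} [AddCommGroup W] [Module K W]
    [FiniteDimensional K W] {U : Type*} [AddCommGroup U] [Module K U] [FiniteDimensional K U]
    {Γ : Type u} [Group Γ] [Finite Γ] (ρ : Γ →* Module.End K W) {p : ℕ} (hp : p.Prime) {h : Γ}
    (hh : h ^ p = 1) {S : Subgroup Γ} [S.Normal] (hSK : (Nat.card S : K) ≠ 0)
    (hSc : ∀ x ∈ S, ∀ y ∈ S, ρ (x * y) = ρ (y * x))
    (hsum : ∀ [Fintype S], ∑ x : S, ρ (x : Γ) = 0) (hSh : S ≤ ⁅S, zpowers h⁆) (ι : U →ₗ[K] W)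
    (hι : Function.Injective ι) (hι' : ∀ z, ρ h (ι z) = ι z) :
    p * Module.finrank K U ≤ Module.finrank K W := by
  classical
  -- the image of `S` is commutative
  set mk := QuotientGroup.mk' ρ.ker with hmk
  set ρ' : Γ ⧸ ρ.ker →* Module.End K W :=
    QuotientGroup.lift ρ.ker ρ le_rfl with hρ'
  have hρe : ∀ g, ρ' (mk g) = ρ g := fun g => rfl
  let Z : Subgroup (Γ ⧸ ρ.ker) := S.map mk
  haveI : Z.Normal := (inferInstance : S.Normal).map mk (QuotientGroup.mk'_surjective _)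
  haveI : Fintype Z := Fintype.ofFinite Z
  have hZK : (Fintype.card Z : K) ≠ 0 := by
    rw [← Nat.card_eq_fintype_card]; exact natCast_ne_zero_of_dvd (S.card_map_dvd mk) hSK
  have hZc : IsMulCommutative Z := by
    refine isMulCommutative_iff.2 ?_
    rintro ⟨_, a, ha, rfl⟩ ⟨_, b, hb, rfl⟩
    apply Subtype.ext
    show mk a * mk b = mk b * mk a
    rw [← map_mul, ← map_mul]
    refine QuotientGroup.eq.mpr (MonoidHom.mem_ker.mpr ?_)
    rw [map_mul, ← hSc a ha b hb, ← map_mul, inv_mul_cancel, map_one]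
  -- the trivial weight does not occur
  let e : (Z →* Kˣ) → Module.End K W := fun l => weightIdem Z ρ' l
  have he1 : e 1 = 0 := by
    haveI : Fintype S := Fintype.ofFinite S
    have h2 : (Fintype.card S : K) • e 1 = 0 := by
      calc (Fintype.card S : K) • e 1 = ∑ _x : S, e 1 := by
            rw [Finset.sum_const, Finset.card_univ, Nat.cast_smul_eq_nsmul]
        _ = ∑ x : S, ρ (x : Γ) * e 1 := Finset.sum_congr rfl fun x _ => by
            rw [← hρe]
            refine ((map_mem_mul_weightIdem ρ' 1 ⟨mk x, Subgroup.mem_map_of_mem mk x.2⟩).trans ?_).symm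
            rw [MonoidHom.one_apply, Units.val_one, one_smul]
        _ = 0 := by rw [← Finset.sum_mul, hsum, zero_mul]
    refine (smul_eq_zero.mp h2).resolve_left ?_
    rw [← Nat.card_eq_fintype_card]; exact hSK
  -- `h` moves all weights that occur
  have hmove : ∀ l : Z →* Kˣ, mk h • l = l → l = 1 := by
    intro l hl
    refine MonoidHom.ext ?_
    rintro ⟨_, x, hx, rfl⟩
    show l _ = 1
    have hker : ∀ z ∈ ⁅S, zpowers h⁆, ∀ hz : mk z ∈ Z, l ⟨mk z, hz⟩ = 1 := by
      intro z hz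
      induction hz using Subgroup.closure_induction with
      | mem z hz =>
        obtain ⟨a, ha, b, hb, rfl⟩ := hz
        intro hz'
        have hbl : mk b • l = l := (zpowers_le.2 hl : zpowers (mk h) ≤ MulAction.stabilizer _ l) (by
          obtain ⟨i, rfl⟩ := mem_zpowers_iff.mp hb
          exact mem_zpowers_iff.mpr ⟨i, (map_zpow mk h i).symm⟩)
        let za : Z := ⟨mk a, Subgroup.mem_map_of_mem mk ha⟩
        have e2 : (⟨mk ⁅a, b⁆, hz'⟩ : Z) = za * (MulAut.conjNormal (mk b) za)⁻¹ := Subtype.ext (by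
          show mk ⁅a, b⁆ = mk a * (mk b * mk a * (mk b)⁻¹)⁻¹
          rw [map_commutatorElement, commutatorElement_def]; group)
        have e3 : l (MulAut.conjNormal (mk b) za) = l za := by
          conv_rhs => rw [← inv_smul_eq_iff.mpr hbl.symm]
          rw [dual_smul_apply, inv_inv]
        rw [e2, map_mul, map_inv, e3, mul_inv_cancel]
      | one =>
        intro hz
        rw [show (⟨mk 1, hz⟩ : Z) = 1 from Subtype.ext (map_one mk), map_one]
      | mul a b ha' hb' iha ihb =>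
        intro hz
        have ha : mk a ∈ Z := Subgroup.mem_map_of_mem mk
          ((Subgroup.commutator_le.2 fun u hu v hv => by
            rw [commutatorElement_def, mul_assoc u v, mul_assoc u]
            exact mul_mem hu ((inferInstance : S.Normal).conj_mem _ (inv_mem hu) v)) ha')
        have hb : mk b ∈ Z := Subgroup.mem_map_of_mem mk
          ((Subgroup.commutator_le.2 fun u hu v hv => by
            rw [commutatorElement_def, mul_assoc u v, mul_assoc u]
            exact mul_mem hu ((inferInstance : S.Normal).conj_mem _ (inv_mem hu) v)) hb')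
        rw [show (⟨mk (a * b), hz⟩ : Z) = ⟨mk a, ha⟩ * ⟨mk b, hb⟩ from Subtype.ext (map_mul mk a b),
          map_mul, iha ha, ihb hb, mul_one]
      | inv a _ iha =>
        intro hz
        have ha : mk a ∈ Z := by
          rw [← inv_mem_iff, ← map_inv]; exact hz
        rw [show (⟨mk a⁻¹, hz⟩ : Z) = ⟨mk a, ha⟩⁻¹ from Subtype.ext (map_inv mk a),
          map_inv, iha ha, inv_one]
    exact hker x (hSh hx) _
  -- representatives of the orbits
  haveI := (card_dual (K := K) hZc hZK).1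
  haveI : Fintype (Z →* Kˣ) := Fintype.ofFinite _
  set H := zpowers (mk h) with hH
  let π : (Z →* Kˣ) → MulAction.orbitRel.Quotient H (Z →* Kˣ) := fun l => Quotient.mk'' l
  let P : (Z →* Kˣ) → Prop := fun l => e l ≠ 0 ∧ (π l).out = l
  let f := ∑ l ∈ Finset.univ.filter P, e l
  have hgp : ρ' (mk h) ^ p = 1 := by rw [hρe, ← map_pow, hh, map_one]
  have hsmul : ∀ (i : ℕ) (l : Z →* Kˣ), ρ' (mk h) ^ i * e l = e (mk h ^ i • l) * ρ' (mk h) ^ i :=
    fun i l => by rw [← map_pow]; exact map_mul_weightIdem_smul ρ' (mk h ^ i) l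
  have horth : ∀ i, 0 < i → i < p → f * ρ' (mk h) ^ i * f = 0 := by
    intro i hi0 hip
    rw [Finset.sum_mul, Finset.sum_mul]
    refine Finset.sum_eq_zero fun l hl => ?_
    rw [Finset.mul_sum]
    refine Finset.sum_eq_zero fun l' hl' => ?_
    rw [mul_assoc, hsmul, ← mul_assoc]
    have hne : l ≠ mk h ^ i • l' := by
      intro heq
      obtain ⟨-, ho⟩ := (Finset.mem_filter.mp hl).2
      obtain ⟨hl'0, ho'⟩ := (Finset.mem_filter.mp hl').2
      have hπ : π l = π l' := Quotient.sound'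
        ⟨⟨mk h ^ i, pow_mem (mem_zpowers _) i⟩, heq.symm⟩
      have hll : l = l' := by rw [← ho, hπ, ho']
      subst hll
      refine hl'0 ?_
      rw [hmove l ?_]
      · exact he1
      · have hcop : i.Coprime (orderOf (mk h)) :=
          ((Nat.coprime_of_lt_prime hi0.ne' hip hp).coprime_dvd_left
            (orderOf_dvd_of_pow_eq_one (by rw [← map_pow, hh, map_one]))).symm
        obtain ⟨k, hk⟩ := exists_pow_eq_self_of_coprime hcop
        have h1 : mk h ^ i ∈ MulAction.stabilizer _ l := heq.symm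
        have h2 := pow_mem h1 k
        rw [hk] at h2
        exact h2
    rw [weightIdem_orth ρ' hne, zero_mul]
  have hfix0 : ∀ w, ρ' (mk h) w = w → f w = 0 → w = 0 := by
    intro w hw hfw
    have hpw : ∀ i, (ρ' (mk h) ^ i) w = w := by
      intro i
      induction i with
      | zero => simp
      | succ i ihi => rw [pow_succ, Module.End.mul_apply, hw, ihi]
    have hel : ∀ l, e l w = 0 := by
      intro l
      by_cases hl0 : e l = 0
      · rw [hl0, LinearMap.zero_apply]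
      set l₀ := (π l).out with hl₀
      obtain ⟨⟨g, hg⟩, hgl⟩ := (Quotient.mk_out (s := MulAction.orbitRel H (Z →* Kˣ)) l)
      obtain ⟨i, hi⟩ : ∃ i : ℕ, mk h ^ i = g := (isOfFinOrder_of_finite (mk h)).mem_powers_iff_mem_zpowers.mpr hg
      have hgl' : mk h ^ i • l = l₀ := by rw [hi]; exact hgl
      have hl₀0 : e l₀ ≠ 0 := fun h0 => hl0
        ((weightIdem_smul_eq_zero_iff ρ' (mk h ^ i) l).mp (by rw [hgl']; exact h0))
      have hP : l₀ ∈ Finset.univ.filter P := Finset.mem_filter.mpr ⟨Finset.mem_univ _, hl₀0,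
        by rw [hl₀, show π (π l).out = π l from Quotient.out_eq' _]⟩
      have h1 : e l₀ w = 0 := by
        have h2 : e l₀ * f = e l₀ := by
          rw [Finset.mul_sum, Finset.sum_eq_single l₀]
          · exact weightIdem_mul_self ρ' hZK l₀
          · intro b _ hb; exact weightIdem_orth ρ' (Ne.symm hb)
          · intro hn; exact absurd hP hn
        rw [← h2, Module.End.mul_apply, hfw, map_zero]
      have h3 := LinearMap.congr_fun (hsmul i l) w
      rw [Module.End.mul_apply, Module.End.mul_apply, hpw, hgl', h1] at h3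
      have h4 := LinearMap.congr_fun
        (show ρ' (mk h ^ i)⁻¹ * (ρ' (mk h) ^ i) = 1 by
          rw [← map_pow ρ', ← map_mul, inv_mul_cancel, map_one]) (e l w)
      rw [Module.End.mul_apply, h3, map_zero] at h4
      exact h4.symm
    calc w = (∑ l : Z →* Kˣ, e l) w := by rw [sum_weightIdem ρ' hZc hZK]; rfl
      _ = 0 := by rw [LinearMap.sum_apply]; exact Finset.sum_eq_zero fun l _ => hel l
  let g : (Fin p → U) →ₗ[K] W :=
    ∑ i : Fin p, ((ρ' (mk h) ^ (i : ℕ) * f : Module.End K W).comp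
      (ι.comp (LinearMap.proj i)))
  have hg : Function.Injective g := by
    refine (injective_iff_map_eq_zero g).mpr fun w hw => funext fun j => hι ?_
    rw [Pi.zero_apply, map_zero]
    refine hfix0 _ (hι' _) ?_
    have hff : f * f = f := by
      rw [Finset.mul_sum]
      refine Finset.sum_congr rfl fun l hl => ?_
      rw [Finset.sum_mul, Finset.sum_eq_single l]
      · exact weightIdem_mul_self ρ' hZK l
      · intro b _ hb; exact weightIdem_orth ρ' hb
      · intro hn; exact absurd hl hn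
    have h0 := congrArg (f * ρ' (mk h) ^ (p - (j : ℕ))) hw
    rw [map_zero, LinearMap.sum_apply, map_sum, Finset.sum_eq_single j] at h0
    · rw [LinearMap.comp_apply, LinearMap.comp_apply, LinearMap.proj_apply] at h0
      rw [← Module.End.mul_apply, mul_assoc f, ← mul_assoc (ρ' (mk h) ^ (p - (j : ℕ))),
        ← pow_add, Nat.sub_add_cancel j.2.le, hgp, one_mul, hff] at h0
      exact h0
    · intro i _ hij
      rw [LinearMap.comp_apply, ← Module.End.mul_apply, mul_assoc f,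
        ← mul_assoc (ρ' (mk h) ^ (p - (j : ℕ))), ← pow_add]
      have hmod : ρ' (mk h) ^ (p - (j : ℕ) + i) = ρ' (mk h) ^ ((p - (j : ℕ) + i) % p) :=
        pow_eq_pow_mod _ hgp
      rw [hmod, ← mul_assoc, horth _ (Nat.pos_of_ne_zero fun h0 => hij (Fin.ext ?_))
        (Nat.mod_lt _ hp.pos), LinearMap.zero_apply]
      have hi := i.2
      have hj := j.2
      obtain ⟨c, hc⟩ := Nat.dvd_of_mod_eq_zero h0
      rcases c with _ | _ | c
      · omega
      · omega
      · rw [mul_add, mul_add, mul_one] at hc; omega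
    · intro hn; exact absurd (Finset.mem_univ j) hn
  have hdim := LinearMap.finrank_le_finrank_of_injective hg
  rwa [Module.finrank_pi_fintype, Finset.sum_const, Finset.card_univ, Fintype.card_fin,
    smul_eq_mul] at hdim

/-- In a Frobenius action the fixed points of a complement are few. -/
theorem fixed_card_pow_le {Γ : Type u} [Group Γ] [Finite Γ] {V : Type*} [CommGroup V] [Finite V]
    {t p : ℕ} [Fact t.Prime] (hp : p.Prime) (hV : ∀ v : V, v ^ t = 1) (φ : Γ →* MulAut V)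
    {h : Γ} (hh : h ^ p = 1) {S : Subgroup Γ} [S.Normal]
    (hSt : (Nat.card S).Coprime t) (hSc : ∀ x ∈ S, ∀ y ∈ S, φ (x * y) = φ (y * x))
    (hS0 : ∀ v : V, (∀ x ∈ S, φ x v = v) → v = 1)
    (hSh : S ≤ ⁅S, zpowers h⁆) (C : Subgroup V) (hC : ∀ v ∈ C, φ h v = v) :
    Nat.card C ^ p ≤ Nat.card V := by
  classical
  obtain ⟨mod, ρ₀, hρ₀⟩ := exists_linear hV φ
  letI := mod
  haveI : Module.Finite (ZMod t) (Additive V) := Module.Finite.of_finite
  let L := AlgebraicClosure (ZMod t)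
  let Φ : Module.End (ZMod t) (Additive V) →+* Module.End L (L ⊗[ZMod t] Additive V) :=
    (Module.End.baseChangeHom (ZMod t) L (Additive V)).toRingHom
  let ρ : Γ →* Module.End L (L ⊗[ZMod t] Additive V) := Φ.toMonoidHom.comp ρ₀
  let C₀ : Submodule (ZMod t) (Additive V) := AddSubgroup.toZModSubmodule t C.toAddSubgroup
  let ι : L ⊗[ZMod t] C₀ →ₗ[L] L ⊗[ZMod t] Additive V := C₀.subtype.baseChange L
  have hι : Function.Injective ι :=
    Module.Flat.lTensor_preserves_injective_linearMap (M := L) C₀.subtype C₀.injective_subtype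
  have hρap : ∀ (g : Γ) (a : L) (v : Additive V), ρ g (a ⊗ₜ[ZMod t] v) = a ⊗ₜ[ZMod t] ρ₀ g v :=
    fun g a v => LinearMap.baseChange_tmul (ρ₀ g) a v
  have hdim := fixed_finrank_mul_le (K := L) ρ hp hh (S := S)
    (fun h0 => (Fact.out : t.Prime).ne_one
      (hSt.symm.eq_one_of_dvd ((CharP.cast_eq_zero_iff L t _).mp h0)))
    (fun x hx y hy => by
      show Φ (ρ₀ (x * y)) = Φ (ρ₀ (y * x))
      refine congrArg Φ (LinearMap.ext fun v => ?_)
      obtain ⟨v, rfl⟩ := Additive.ofMul.surjective v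
      rw [hρ₀, hρ₀, hSc x hx y hy])
    (fun {hF} => by
      show ∑ x : S, Φ (ρ₀ (x : Γ)) = 0
      rw [← map_sum]
      refine (congrArg Φ (LinearMap.ext fun v => ?_)).trans (map_zero Φ)
      obtain ⟨v, rfl⟩ := Additive.ofMul.surjective v
      rw [LinearMap.sum_apply, LinearMap.zero_apply]
      simp only [hρ₀]
      rw [← ofMul_prod]
      refine congrArg Additive.ofMul (hS0 _ fun y hy => ?_)
      rw [map_prod]
      refine Fintype.prod_equiv (Equiv.mulLeft ⟨y, hy⟩) _ _ fun x => ?_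
      rw [← MulAut.mul_apply, ← map_mul]; rfl)
    hSh ι hι (fun z => by
      induction z using TensorProduct.induction_on with
      | zero => rw [map_zero, map_zero]
      | tmul a v =>
        show ρ h (a ⊗ₜ[ZMod t] (v : Additive V)) = a ⊗ₜ[ZMod t] (v : Additive V)
        rw [hρap]
        congr 1
        exact (hρ₀ h (v : Additive V).toMul).trans (congrArg Additive.ofMul (hC _ v.2))
      | add a b ha hb => rw [map_add, map_add, ha, hb])
  rw [Module.finrank_baseChange, Module.finrank_baseChange] at hdim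
  have hcardV : Nat.card V = t ^ Module.finrank (ZMod t) (Additive V) := by
    have h := Module.natCard_eq_pow_finrank (K := ZMod t) (V := Additive V)
    rw [Nat.card_zmod] at h; exact h
  have hcardC : Nat.card C = t ^ Module.finrank (ZMod t) C₀ := by
    have h := Module.natCard_eq_pow_finrank (K := ZMod t) (V := C₀)
    rw [Nat.card_zmod] at h; exact h
  rw [hcardC, hcardV, ← pow_mul, mul_comm]
  exact Nat.pow_le_pow_right (Fact.out : t.Prime).pos hdim

end CfsgLib.Solvable.FPFOperators
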