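import Cfsg.Agent.Lib.Solvable.FPFOperators.TwistedUnipotent
import Cfsg.Agent.Lib.Solvable.FPFOperators.TwoLayers
import Cfsg.Agent.Lib.Solvable.FPFOperators.PQTools

/-!
# Theorem B of Hall and Higman for a `q`-group

An operator `s` of order dividing `p ^ (n + 1)`, in characteristic `p`, whose power `s ^ p ^ n`
does not centralise a `q`-group: the nilpotency index of `s - 1` is at least `p ^ (n + 1)` unless
exceptional.
-/

set_option autoImplicit false

namespace CfsgLib.Solvable.FPFOperators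

open Subgroup CfsgLib
open scoped commutatorElement

universe u v w

variable {K : Type v} [Field K] [IsAlgClosed K]

theorem sub_one_pow_pred {R : Type*} [Ring R] {p : ℕ} [Fact p.Prime] [CharP R p] (x : R) (n : ℕ) :
    (x - 1) ^ (p ^ n - 1) = ∑ i ∈ Finset.range (p ^ n), x ^ i := by
  have hX : (Polynomial.X - 1 : Polynomial (ZMod p)) ≠ 0 := by
    rw [← Polynomial.C_1]; exact Polynomial.X_sub_C_ne_zero 1
  have h : (Polynomial.X - 1 : Polynomial (ZMod p)) ^ (p ^ n - 1) =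
      ∑ i ∈ Finset.range (p ^ n), Polynomial.X ^ i := by
    apply mul_right_cancel₀ hX
    rw [geom_sum_mul, ← pow_succ, Nat.sub_add_cancel (Nat.one_le_pow _ _ (Fact.out : p.Prime).pos),
      sub_pow_char_pow, one_pow]
  letI : Algebra (ZMod p) R := ZMod.algebra R p
  have h2 := congrArg (Polynomial.aeval (R := ZMod p) x) h
  simpa using h2

/-- The exceptional case of theorem B. -/
def HallHigmanExc (p q n r : ℕ) (P : ℕ → Prop) : Prop :=
  ∃ n₀ m : ℕ, 1 ≤ n₀ ∧ n₀ ≤ n + 1 ∧ 1 ≤ m ∧ p ^ n₀ - 1 = q ^ m ∧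
    p ^ (n + 1 - n₀) * (p ^ n₀ - 1) ≤ r ∧ P n₀

/-- One block, in detail. -/
theorem theoremB_block_at {Γ : Type u} [Group Γ] [Finite Γ] {W : Type w} [AddCommGroup W] [Module K W]
    [FiniteDimensional K W] {p q n r : ℕ} [Fact p.Prime] [Fact q.Prime] [CharP K p] (hqp : q ≠ p)
    (ρ : Γ →* Module.End K W) (Q Z : Subgroup Γ) [Z.Normal] [Fintype Z]
    (hQ : IsPGroup q Q) (hZQ : Z ≤ Q) (hZc : ∀ z ∈ Z, ∀ y ∈ Q, y * z = z * y)
    (hcomm : ∀ x ∈ Q, ∀ y ∈ Q, ⁅x, y⁆ ∈ Z) {s : Γ} (hs : s ^ p ^ (n + 1) = 1)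
    (hsQ : s ∈ normalizer (Q : Set Γ))
    (hfix : ∀ y ∈ Q, (s ^ p ^ n * y = y * s ^ p ^ n ↔ y ∈ Z))
    (l : Z →* Kˣ)
    (hne : ∃ y ∈ Q, ρ (s ^ p ^ n * y) * weightIdem Z ρ l ≠ ρ (y * s ^ p ^ n) * weightIdem Z ρ l)
    (hr : (ρ s - 1) ^ r = 0) (hrlt : r < p ^ (n + 1)) :
    ∃ a d : ℕ, a ≤ n ∧ s ^ p ^ a • l = l ∧ d + 1 = p ^ (n - a + 1) ∧ p ^ a * d ≤ r ∧
      ((∀ z ∈ Z, s * z = z * s) → a = 0) ∧
      ∃ R : Subgroup Γ,
        (∀ x, x ∈ R ↔ x ∈ Q ∧ ∀ y ∈ Q,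
          ρ (x * y) * weightIdem Z ρ l = ρ (y * x) * weightIdem Z ρ l) ∧
        R.relIndex Q = d * d ∧ ¬ Q ≤ R ∧
        ∀ i, 0 < i → i < p ^ (n - a + 1) → ∀ x ∈ Q, ⁅(s ^ p ^ a) ^ i, x⁆ ∈ R → x ∈ R := by
  classical
  have hp : p.Prime := Fact.out
  have hqK : (q : K) ≠ 0 := fun h0 =>
    hqp ((Nat.prime_dvd_prime_iff_eq hp Fact.out).mp ((CharP.cast_eq_zero_iff K p _).mp h0)).symm
  have hZcomm : IsMulCommutative Z :=
    isMulCommutative_iff.2 fun a b => Subtype.ext (hZc b b.2 a (hZQ a.2))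
  have hZK : (Fintype.card Z : K) ≠ 0 := by
    rw [← Nat.card_eq_fintype_card]; exact natCard_cast_ne_zero (hQ.to_le hZQ) hqK
  obtain ⟨y₀, hy₀, hlne⟩ := hne
  have hl0 : weightIdem Z ρ l ≠ 0 := fun h0 => hlne (by rw [h0, mul_zero, mul_zero])
  set e := weightIdem Z ρ l with he
  have hee : e * e = e := weightIdem_mul_self ρ hZK l
  set St₀ := MulAction.stabilizer Γ l with hSt₀
  have hτl₀ : s ^ p ^ n ∈ St₀ :=
    dual_smul_eq_self_of_commute l fun z hz => (hfix z (hZQ hz)).2 hz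
  have hex : ∃ a, s ^ p ^ a ∈ St₀ := ⟨n, hτl₀⟩
  set a := Nat.find hex with ha
  have hal₀ : s ^ p ^ a ∈ St₀ := Nat.find_spec hex
  have han : a ≤ n := Nat.find_le hτl₀
  have hamin : ∀ i, 0 < i → i < p ^ a → s ^ i ∉ St₀ := by
    intro i hi hia hmem
    obtain ⟨b, hb, hgb⟩ := (Nat.dvd_prime_pow hp).1 (Nat.gcd_dvd_right i (p ^ (n + 1)))
    have hba : b < a := by
      by_contra hge
      push Not at hge
      have h1 : p ^ a ≤ Nat.gcd i (p ^ (n + 1)) := hgb ▸ Nat.pow_le_pow_right hp.pos hge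
      have h2 := Nat.le_of_dvd hi (Nat.gcd_dvd_left i (p ^ (n + 1)))
      omega
    refine Nat.find_min hex (ha ▸ hba) ?_
    show s ^ p ^ b ∈ St₀
    have h3 := Nat.gcd_eq_gcd_ab i (p ^ (n + 1))
    rw [← hgb, ← zpow_natCast, h3, zpow_add, zpow_mul, zpow_mul, zpow_natCast, zpow_natCast]
    exact St₀.mul_mem (St₀.zpow_mem hmem _) (St₀.zpow_mem (by rw [hs]; exact St₀.one_mem) _)
  -- compress to the stabiliser
  have hcomp : ∀ d i, i + d < p ^ a →
      e * ((ρ s - 1) ^ d * ρ (s ^ i)) * e = if i = 0 then ((-1 : K) ^ d) • e else 0 := by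
    intro d
    induction d with
    | zero =>
      intro i hi
      rw [pow_zero, one_mul]
      split_ifs with h0
      · rw [h0, pow_zero, map_one, mul_one, hee, pow_zero, one_smul]
      · rw [mul_assoc, he, map_mul_weightIdem_smul, ← mul_assoc, weightIdem_orth ρ fun heq =>
          hamin i (Nat.pos_of_ne_zero h0) (by omega) (MulAction.mem_stabilizer_iff.2 heq.symm),
          zero_mul]
    | succ d ih =>
      intro i hi
      have h1 : (ρ s - 1) ^ (d + 1) * ρ (s ^ i) =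
          (ρ s - 1) ^ d * ρ (s ^ (i + 1)) - (ρ s - 1) ^ d * ρ (s ^ i) := by
        rw [pow_succ, mul_assoc, sub_mul, one_mul, ← map_mul, ← pow_succ', mul_sub]
      rw [h1, mul_sub, sub_mul, ih (i + 1) (by omega), ih i (by omega), if_neg (Nat.succ_ne_zero i)]
      split_ifs
      · rw [zero_sub, pow_succ, mul_neg_one, neg_smul]
      · exact sub_zero 0
  have hcs : ρ (s ^ p ^ a) * e = e * ρ (s ^ p ^ a) := by
    rw [he, map_mul_weightIdem_smul, MulAction.mem_stabilizer_iff.1 hal₀]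
  haveI : Nontrivial W := by
    by_contra hW
    rw [not_nontrivial_iff_subsingleton] at hW
    exact hl0 (LinearMap.ext fun v => Subsingleton.elim _ _)
  haveI : CharP (Module.End K W) p := charP_of_injective_algebraMap
    (FaithfulSMul.algebraMap_injective K (Module.End K W)) p
  set c := r / p ^ a with hc
  have hblock : (ρ (s ^ p ^ a) - 1) ^ c * e = 0 := by
    have h1 : (ρ s - 1) ^ r = (ρ s - 1) ^ (r % p ^ a) * (ρ (s ^ p ^ a) - 1) ^ c := by
      conv_lhs => rw [← Nat.mod_add_div r (p ^ a)]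
      rw [pow_add, pow_mul, sub_pow_char_pow_of_commute p a (Commute.one_right _), one_pow,
        ← map_pow]
    have h2 : Commute e ((ρ (s ^ p ^ a) - 1) ^ c) :=
      ((show Commute (ρ (s ^ p ^ a)) e from hcs).symm.sub_right (Commute.one_right e)).pow_right c
    have h3 := hcomp (r % p ^ a) 0 (by rw [zero_add]; exact Nat.mod_lt _ (pow_pos hp.pos a))
    rw [pow_zero, map_one, mul_one, if_pos rfl] at h3
    have h4 : e * (ρ s - 1) ^ r * e = 0 := by rw [hr, mul_zero, zero_mul]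
    rw [h1, ← mul_assoc, mul_assoc (e * _), ← h2.eq, ← mul_assoc, h3, smul_mul_assoc, h2.eq] at h4
    exact (smul_eq_zero.1 h4).resolve_left (pow_ne_zero _ (neg_ne_zero.2 one_ne_zero))
  -- the block as a representation
  set St := St₀ ⊓ normalizer (Q : Set Γ) with hSt
  have hal : s ^ p ^ a ∈ St := ⟨hal₀, pow_mem hsQ _⟩
  have hτl : s ^ p ^ n ∈ St := ⟨hτl₀, pow_mem hsQ _⟩
  have hcSt : ∀ o ∈ St, ρ o * e = e * ρ o := fun o ho => by
    rw [he, map_mul_weightIdem_smul, MulAction.mem_stabilizer_iff.1 ho.1]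
  have hQSt : Q ≤ St :=
    le_inf (fun o ho => dual_smul_eq_self_of_commute l fun z hz => hZc z hz o ho) le_normalizer
  obtain ⟨θ, hθap, hθeq, hθscal, -⟩ := exists_range_rep ρ e St hcSt
  haveI : Nontrivial (LinearMap.range e) := Submodule.nontrivial_iff_ne_bot.mpr fun h0 =>
    hl0 (LinearMap.range_eq_bot.mp h0)
  haveI : CharP (Module.End K (LinearMap.range e)) p := charP_of_injective_algebraMap
    (FaithfulSMul.algebraMap_injective K (Module.End K (LinearMap.range e))) p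
  let s₁ : St := ⟨s ^ p ^ a, hal⟩
  set j := n - a with hj
  set N := p ^ (j + 1) with hN
  have hs₁ : s₁ ^ N = 1 := Subtype.ext (by
    show (s ^ p ^ a) ^ N = 1
    rw [← pow_mul, hN, ← pow_add, show a + (j + 1) = n + 1 by omega, hs])
  have hcN : c < N := by
    by_contra hge
    push Not at hge
    have h1 : p ^ a * N ≤ r := (Nat.mul_le_mul_left _ hge).trans (Nat.mul_div_le r (p ^ a))
    rw [hN, ← pow_add, show a + (j + 1) = n + 1 by omega] at h1
    exact absurd h1 (not_le.2 hrlt)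
  have hk : (θ s₁ - 1) ^ c = 0 := by
    have hpow : ∀ i (v : LinearMap.range e),
        ((((θ s₁ - 1) ^ i : Module.End K (LinearMap.range e)) v : LinearMap.range e) : W) =
          ((ρ (s ^ p ^ a) - 1) ^ i : Module.End K W) (v : W) := by
      intro i
      induction i with
      | zero => intro v; rw [pow_zero, pow_zero]; rfl
      | succ i ih =>
        intro v
        rw [pow_succ', pow_succ', Module.End.mul_apply, Module.End.mul_apply, ← ih]
        simp only [LinearMap.sub_apply, Module.End.one_apply, AddSubgroupClass.coe_sub, hθap]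
        rfl
    refine LinearMap.ext fun v => Subtype.ext ?_
    obtain ⟨_, u, rfl⟩ := v
    rw [hpow]
    exact LinearMap.congr_fun hblock u
  set T := Q.subgroupOf St with hT
  haveI : T.Normal := (normal_subgroupOf_iff_le_normalizer hQSt).2 inf_le_right
  set R := wCentral T θ 1 (fun _ _ => Commute.one_right _) with hR
  have hRmem : ∀ x, x ∈ R ↔ x ∈ T ∧ ∀ y ∈ T, θ (x * y) = θ (y * x) := fun x => by
    show (x ∈ T ∧ ∀ y ∈ T, θ (x * y) * 1 = θ (y * x) * 1) ↔ _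
    simp only [mul_one]
  haveI : R.Normal := ⟨fun x hx g => by
    obtain ⟨hxT, hxc⟩ := (hRmem x).1 hx
    refine (hRmem _).2 ⟨(inferInstance : T.Normal).conj_mem x hxT g, fun y hy => ?_⟩
    have hy' : g⁻¹ * y * g ∈ T := by
      have := (inferInstance : T.Normal).conj_mem y hy g⁻¹
      rwa [inv_inv] at this
    calc θ (g * x * g⁻¹ * y) = θ g * θ (x * (g⁻¹ * y * g)) * θ g⁻¹ := by
          rw [← map_mul, ← map_mul]; congr 1; group
      _ = θ g * θ (g⁻¹ * y * g * x) * θ g⁻¹ := by rw [hxc _ hy']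
      _ = θ (y * (g * x * g⁻¹)) := by rw [← map_mul, ← map_mul]; congr 1; group⟩
  let τ₁ : St := s₁ ^ p ^ j
  have hτ₁ : (τ₁ : Γ) = s ^ p ^ n := by
    show (s ^ p ^ a) ^ p ^ j = _
    rw [← pow_mul, ← pow_add, show a + j = n by omega]
  -- fixed elements are scalar on the block
  have hlift : ∀ x ∈ T, θ ⁅τ₁, x⁆ = 1 → ∃ κ : K, θ x = κ • 1 := by
    intro x hx hx1
    set τ := s ^ p ^ n with hτ
    set N₀ := (T ⊓ θ.ker).map St.subtype with hN₀
    have hN₀n : ∀ o ∈ St, ∀ v ∈ N₀, o * v * o⁻¹ ∈ N₀ := by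
      rintro o ho _ ⟨v, hv, rfl⟩
      exact ⟨⟨o, ho⟩ * v * ⟨o, ho⟩⁻¹, (inferInstance : (T ⊓ θ.ker).Normal).conj_mem v hv _, rfl⟩
    have hA : zpowers τ ≤ normalizer (N₀ : Set Γ) := by
      refine zpowers_le.2 (mem_normalizer_iff.2 fun v => ⟨hN₀n τ hτl v, fun hv => ?_⟩)
      have h1 := hN₀n τ⁻¹ (St.inv_mem hτl) _ hv
      rwa [show τ⁻¹ * (τ * v * τ⁻¹) * τ⁻¹⁻¹ = v by group] at h1
    have hxk : ⁅τ, (x : Γ)⁆ ∈ N₀ := by
      refine ⟨⁅τ₁, x⁆, ⟨?_, MonoidHom.mem_ker.2 hx1⟩, by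
        rw [map_commutatorElement]; show ⁅(τ₁ : Γ), (x : Γ)⁆ = _; rw [hτ₁]⟩
      rw [commutatorElement_def]
      exact T.mul_mem ((inferInstance : T.Normal).conj_mem x hx τ₁) (T.inv_mem hx)
    have hcop : (Nat.card (zpowers τ)).Coprime (Nat.card N₀) := by
      have hle : N₀ ≤ Q := by rintro _ ⟨v, hv, rfl⟩; exact hv.1
      obtain ⟨i, hi⟩ := IsPGroup.iff_card.mp (hQ.to_le hle)
      rw [hi, Nat.card_zpowers]
      refine Nat.Coprime.coprime_dvd_left (orderOf_dvd_of_pow_eq_one (n := p) ?_)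
        (((Nat.coprime_primes hp Fact.out).2 hqp.symm).pow_right i)
      rw [hτ, ← pow_mul, ← pow_succ, hs]
    have hall : ∀ b ∈ zpowers τ, ⁅b, (x : Γ)⁆ ∈ N₀ := by
      intro b hb
      obtain ⟨i, rfl⟩ := (isOfFinOrder_of_finite τ).mem_powers_iff_mem_zpowers.mpr hb
      show ⁅τ ^ i, (x : Γ)⁆ ∈ N₀
      clear hb
      induction i with
      | zero => rw [pow_zero, commutatorElement_one_left]; exact one_mem _
      | succ i ih =>
        rw [pow_succ', show ⁅τ * τ ^ i, (x : Γ)⁆ = τ * ⁅τ ^ i, (x : Γ)⁆ * τ⁻¹ * ⁅τ, (x : Γ)⁆ by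
          simp only [commutatorElement_def]; group]
        exact mul_mem (hN₀n τ hτl _ ih) hxk
    obtain ⟨_, ⟨k, hk', rfl⟩, hkc⟩ := Coprime.exists_mul_mem_centralizer hA hcop
      (Or.inl (Coprime.isSolvable_zpowers τ)) hall
    have hkxZ : ((k * x : St) : Γ) ∈ Z :=
      (hfix _ (Q.mul_mem hk'.1 hx)).1 (mem_centralizer_iff.1 hkc τ (mem_zpowers τ))
    refine ⟨(l ⟨_, hkxZ⟩ : K), ?_⟩
    have h1 : θ (k * x) = (l ⟨_, hkxZ⟩ : K) • 1 :=
      (hθscal _ _).2 (map_mem_mul_weightIdem ρ l ⟨_, hkxZ⟩)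
    rwa [map_mul, MonoidHom.mem_ker.1 hk'.2, one_mul] at h1
  -- a vanishing norm
  have hsum : ∑ i ∈ Finset.range N, θ (s₁ ^ i) = 0 := by
    simp only [map_pow]
    rw [hN, ← sub_one_pow_pred, ← Nat.sub_add_cancel (show c ≤ p ^ (j + 1) - 1 by omega), pow_add,
      hk, mul_zero]
  have hscalR : ∀ x ∈ R, ∃ κ : K, θ x = κ • 1 := by
    intro x hx
    obtain ⟨hxT, hxc⟩ := (hRmem x).1 hx
    have h := commute_of_abelian θ hp (n := j) (s := s₁) (Q := R) hs₁ hsum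
      (natCard_cast_ne_zero
        ((hQ.of_equiv (subgroupOfEquivOfLe hQSt).symm).to_le fun _ h => ((hRmem _).1 h).1) hqK)
      (fun u hu v hv => ((hRmem u).1 hu).2 v ((hRmem v).1 hv).1) (y := x) hx
    refine hlift x hxT ?_
    have e1 : θ ⁅τ₁, x⁆ = θ (τ₁ * x) * θ (x * τ₁)⁻¹ := by
      rw [← map_mul]; congr 1; rw [commutatorElement_def]; group
    rw [e1, h, ← map_mul, mul_inv_cancel, map_one]
  have hcommT : ∀ x ∈ T, ∀ y ∈ T, ∃ κ : K, θ ⁅x, y⁆ = κ • 1 := fun x hx y hy =>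
    ⟨l ⟨⁅(x : Γ), (y : Γ)⁆, hcomm _ hx _ hy⟩,
      (hθscal _ _).2 (map_mem_mul_weightIdem ρ l ⟨⁅(x : Γ), (y : Γ)⁆, hcomm _ hx _ hy⟩)⟩
  have hfree : ∀ i, 0 < i → i < N → ∀ x ∈ T, ⁅s₁ ^ i, x⁆ ∈ R → x ∈ R := by
    intro i hi hiN x hx hix
    have hmem : τ₁ ∈ zpowers (s₁ ^ i) := pow_mem_zpowers_pow hp hs₁
      (fun hd => absurd (Nat.le_of_dvd hi hd) (not_le.2 hiN))
    have h2 : ⁅τ₁, x⁆ ∈ R := by
      have h1 : Commute (QuotientGroup.mk' R (s₁ ^ i)) (QuotientGroup.mk' R x) :=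
        commutatorElement_eq_one_iff_mul_comm.mp ((map_commutatorElement _ _ _).symm.trans
          ((QuotientGroup.eq_one_iff _).mpr hix))
      rw [← QuotientGroup.eq_one_iff]
      refine (map_commutatorElement (QuotientGroup.mk' R) _ _).trans
        (commutatorElement_eq_one_iff_mul_comm.2 ?_)
      obtain ⟨k, hk⟩ := mem_zpowers_iff.mp hmem
      rw [← hk, map_zpow]
      exact (h1.zpow_left k).eq
    obtain ⟨κ, hκ⟩ := hscalR _ h2
    have hord : τ₁ ^ p = 1 := by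
      show (s₁ ^ p ^ j) ^ p = 1
      rw [← pow_mul, ← pow_succ]; exact hs₁
    have h3 : ⁅θ.toHomUnits τ₁, θ.toHomUnits x⁆ = 1 := by
      refine eq_one_of_commute_commutator (p := p) (by rw [← map_pow, hord, map_one]) ?_ ?_
      · rw [← map_commutatorElement, ← map_mul, ← map_mul]
        refine Units.ext ?_
        show θ (τ₁ * ⁅τ₁, x⁆) = θ (⁅τ₁, x⁆ * τ₁)
        rw [map_mul, map_mul, hκ, mul_smul_comm, smul_mul_assoc, one_mul, mul_one]
      · rw [← map_commutatorElement]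
        obtain ⟨b, hb⟩ := hQ ⟨_, ((hRmem _).1 h2).1⟩
        exact (((Nat.coprime_primes Fact.out hp).2 hqp).pow_left b).coprime_dvd_left
          ((orderOf_map_dvd _ _).trans (orderOf_dvd_of_pow_eq_one
            (St.subtype_injective ((map_pow St.subtype _ _).trans
              ((congrArg Subtype.val hb).trans (map_one St.subtype).symm)))))
    rw [← map_commutatorElement] at h3
    obtain ⟨μ, hμ⟩ := hlift x hx (congrArg Units.val h3)
    exact (hRmem x).2 ⟨hx, fun y _ => by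
      rw [map_mul, map_mul, hμ, smul_mul_assoc, mul_smul_comm, one_mul, mul_one]⟩
  have hTR : ¬ T ≤ R := by
    intro hle
    obtain ⟨κ, hκ⟩ := hscalR _ (hle (show (⟨y₀, hQSt hy₀⟩ : St) ∈ T from hy₀))
    refine hlne ?_
    have h1 : θ (τ₁ * ⟨y₀, hQSt hy₀⟩) = θ (⟨y₀, hQSt hy₀⟩ * τ₁) := by
      rw [map_mul, map_mul, hκ, mul_smul_comm, smul_mul_assoc, one_mul, mul_one]
    have h2 := (hθeq _ _).1 h1
    rwa [Subgroup.coe_mul, Subgroup.coe_mul, hτ₁] at h2
  obtain ⟨d, hd, hdN, hdc⟩ := exists_twisted_unipotent θ T R hN hs₁ hscalR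
    (fun x hx hxc => (hRmem x).2 ⟨hx, hxc⟩) hcommT hfree hTR hcN hk
  have hQe : ∀ y ∈ Q, Commute (ρ y) e := fun y hy => hcSt y (hQSt hy)
  set RΓ := wCentral Q ρ e hQe with hRΓ
  have hRR : ∀ x : St, (x : Γ) ∈ RΓ ↔ x ∈ R := by
    intro x
    rw [hRmem]
    constructor
    · rintro ⟨h1, h2⟩
      exact ⟨h1, fun y hy => (hθeq _ _).2 (h2 (y : Γ) hy)⟩
    · rintro ⟨h1, h2⟩
      exact ⟨h1, fun y hy => (hθeq _ _).1 (h2 ⟨y, hQSt hy⟩ hy)⟩
  refine ⟨a, d, han, MulAction.mem_stabilizer_iff.1 hal₀, hdN.trans hN,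
    (Nat.mul_le_mul_left _ hdc).trans (Nat.mul_div_le r (p ^ a)), fun hcs' => ?_,
    RΓ, fun x => Iff.rfl, ?_, fun hle => hTR fun x hx => (hRR x).1 (hle hx),
    fun i hi hiN x hx hix => ?_⟩
  · exact Nat.eq_zero_of_le_zero (Nat.find_le (by
      show s ^ p ^ 0 ∈ St₀
      rw [pow_zero, pow_one]
      exact dual_smul_eq_self_of_commute l hcs'))
  · rw [← hd, show R = RΓ.subgroupOf St from Subgroup.ext fun x => (hRR x).symm, hT]
    exact (Subgroup.relIndex_subgroupOf hQSt).symm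
  · exact (hRR ⟨x, hQSt hx⟩).2 (hfree i hi hiN ⟨x, hQSt hx⟩ hx
      ((hRR ⁅s₁ ^ i, ⟨x, hQSt hx⟩⁆).1 (by
        rw [show ((⁅s₁ ^ i, (⟨x, hQSt hx⟩ : St)⁆ : St) : Γ) = ⁅(s ^ p ^ a) ^ i, x⁆ from
          map_commutatorElement St.subtype _ _]
        exact hix)))

/-- One block. -/
theorem theoremB_block {Γ : Type u} [Group Γ] [Finite Γ] {W : Type w} [AddCommGroup W] [Module K W]
    [FiniteDimensional K W] {p q n r : ℕ} [Fact p.Prime] [Fact q.Prime] [CharP K p] (hqp : q ≠ p)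
    (ρ : Γ →* Module.End K W) (Q Z : Subgroup Γ) [hQn : Q.Normal] [Z.Normal] [Fintype Z]
    (hQ : IsPGroup q Q) (hZQ : Z ≤ Q) (hZc : ∀ z ∈ Z, ∀ y ∈ Q, y * z = z * y)
    (hcomm : ∀ x ∈ Q, ∀ y ∈ Q, ⁅x, y⁆ ∈ Z) {s : Γ} (hs : s ^ p ^ (n + 1) = 1)
    (hfix : ∀ y ∈ Q, (s ^ p ^ n * y = y * s ^ p ^ n ↔ y ∈ Z))
    (hne : ∃ y ∈ Q, ρ (s ^ p ^ n * y) ≠ ρ (y * s ^ p ^ n)) (hr : (ρ s - 1) ^ r = 0) :
    p ^ (n + 1) ≤ r ∨ HallHigmanExc p q n r (fun n₀ =>
      (∃ x ∈ Q, ∃ y ∈ Q, ρ (x * y) ≠ ρ (y * x)) ∧ ((∀ z ∈ Z, s * z = z * s) → n₀ = n + 1)) := by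
  classical
  rcases Nat.lt_or_ge r (p ^ (n + 1)) with hrlt | hge
  swap
  · exact Or.inl hge
  have hp : p.Prime := Fact.out
  have hqK : (q : K) ≠ 0 := fun h0 =>
    hqp ((Nat.prime_dvd_prime_iff_eq hp Fact.out).mp ((CharP.cast_eq_zero_iff K p _).mp h0)).symm
  have hZcomm : IsMulCommutative Z :=
    isMulCommutative_iff.2 fun a b => Subtype.ext (hZc b b.2 a (hZQ a.2))
  have hZK : (Fintype.card Z : K) ≠ 0 := by
    rw [← Nat.card_eq_fintype_card]; exact natCard_cast_ne_zero (hQ.to_le hZQ) hqK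
  obtain ⟨y₀, hy₀, hne₀⟩ := hne
  obtain ⟨l, hlne⟩ : ∃ l : Z →* Kˣ,
      ρ (s ^ p ^ n * y₀) * weightIdem Z ρ l ≠ ρ (y₀ * s ^ p ^ n) * weightIdem Z ρ l := by
    by_contra hno
    push Not at hno
    exact hne₀ (eq_of_forall_mul_weightIdem ρ hZcomm hZK fun l _ => hno l)
  obtain ⟨a, d, han, -, hdN, hdr, hcs, R, hRmem, hd, hTR, -⟩ :=
    theoremB_block_at (n := n) hqp ρ Q Z hQ hZQ hZc hcomm hs
      (by rw [normalizer_eq_top]; trivial) hfix l ⟨y₀, hy₀, hlne⟩ hr hrlt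
  right
  obtain ⟨b, hb⟩ := IsPGroup.iff_card.mp hQ
  obtain ⟨m, -, hm⟩ : ∃ m ≤ b, d = q ^ m := (Nat.dvd_prime_pow Fact.out).1 (by
    rw [← hb]
    exact (Dvd.intro d hd.symm).trans (Subgroup.relIndex_dvd_card _ _))
  have hm1 : 1 ≤ m := Nat.pos_of_ne_zero fun h0 => hTR (Subgroup.relIndex_eq_one.1 (by
    rw [hd, hm, h0, pow_zero, one_mul]))
  refine ⟨n - a + 1, m, Nat.succ_pos _, by omega, hm1, by omega, ?_, ?_, fun hcs' => ?_⟩
  · rw [← hdN, show n + 1 - (n - a + 1) = a by omega, Nat.add_sub_cancel]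
    exact hdr
  · by_contra hab
    push Not at hab
    exact hTR fun x hx => (hRmem x).2 ⟨hx, fun y hy => by rw [hab x hx y hy]⟩
  · have := hcs hcs'
    omega

theorem theoremB_aux (k : ℕ) : ∀ {Γ : Type u} [Group Γ] [Finite Γ] {W : Type w} [AddCommGroup W]
    [Module K W] [FiniteDimensional K W] {p q n r : ℕ} [Fact p.Prime] [Fact q.Prime] [CharP K p]
    (_ : q ≠ p) (Q : Subgroup Γ) [Q.Normal] (ρ : Γ →* Module.End K W) (s : Γ),
    IsPGroup q Q → Function.Injective ρ → s ^ p ^ (n + 1) = 1 →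
    (∃ y ∈ Q, s ^ p ^ n * y ≠ y * s ^ p ^ n) → (ρ s - 1) ^ r = 0 → Nat.card Q = k →
    p ^ (n + 1) ≤ r ∨
      HallHigmanExc p q n r (fun _ => ∃ x ∈ Q, ∃ y ∈ Q, x * y ≠ y * x) := by
  induction k using Nat.strong_induction_on with
  | _ k ih =>
  intro Γ _ _ W _ _ _ p q n r _ _ _ hqp Q hQn ρ s hQ hinj hs hne hr hk
  have hp : p.Prime := Fact.out
  set τ := s ^ p ^ n with hτ
  -- an invariant proper subgroup on which `τ` acts
  by_cases hprop : ∃ R : Subgroup Γ, R ≤ Q ∧ R ≠ Q ∧ s ∈ normalizer (R : Set Γ) ∧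
      ∃ y ∈ R, τ * y ≠ y * τ
  · obtain ⟨R, hRQ, hRne, hsR, y, hy, hyne⟩ := hprop
    set X := normalizer (R : Set Γ) with hX
    have hRX : R ≤ X := le_normalizer
    haveI : (R.subgroupOf X).Normal := (normal_subgroupOf_iff_le_normalizer hRX).2 le_rfl
    have hlt : Nat.card (R.subgroupOf X) < k := by
      rw [Nat.card_congr (subgroupOfEquivOfLe hRX).toEquiv, ← hk]
      exact lt_of_le_of_ne (Subgroup.card_le_of_le hRQ) fun he => hRne (eq_of_le_of_card_ge hRQ he.ge)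
    rcases ih _ hlt hqp (R.subgroupOf X) (ρ.comp X.subtype) ⟨s, hsR⟩
        ((hQ.to_le hRQ).of_equiv (subgroupOfEquivOfLe hRX).symm) (hinj.comp X.subtype_injective)
        (Subtype.ext hs) ⟨⟨y, hRX hy⟩, hy, fun h => hyne (congrArg Subtype.val h)⟩ hr rfl with
      h | ⟨n₀, m, h1, h2, h3, h4, h5, x, hx, z, hz, hxz⟩
    · exact Or.inl h
    · exact Or.inr ⟨n₀, m, h1, h2, h3, h4, h5, x, hRQ hx, z, hRQ hz, fun h => hxz (Subtype.ext h)⟩
  push Not at hprop
  have hsQ : s ∈ normalizer (Q : Set Γ) := by rw [normalizer_eq_top]; trivial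
  have hτQ : zpowers τ ≤ normalizer (Q : Set Γ) := by rw [normalizer_eq_top]; exact le_top
  have hcop : (Nat.card (zpowers τ)).Coprime (Nat.card Q) := by
    obtain ⟨i, hi⟩ := IsPGroup.iff_card.mp hQ
    rw [hi, Nat.card_zpowers]
    refine Nat.Coprime.coprime_dvd_left (orderOf_dvd_of_pow_eq_one (n := p) ?_)
      (((Nat.coprime_primes hp Fact.out).2 hqp.symm).pow_right i)
    rw [hτ, ← pow_mul, ← pow_succ, hs]
  obtain ⟨y₀, hy₀, hy₀ne⟩ := hne
  have hQτ : ⁅Q, zpowers τ⁆ = Q := by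
    by_contra hneq
    refine hy₀ne ?_
    let G₀ : Subgroup Γ := centralizer ({τ} : Set Γ)
    have hs' : s ∈ normalizer ((⁅Q, zpowers τ⁆ : Subgroup Γ) : Set Γ) := by
      have hst : s ∈ normalizer ((zpowers τ : Subgroup Γ) : Set Γ) :=
        le_normalizer_iff.2 (fun g hg x hx => by
          obtain ⟨i, rfl⟩ := mem_zpowers_iff.mp hg
          obtain ⟨j, rfl⟩ := mem_zpowers_iff.mp hx
          rw [hτ, ← zpow_natCast s (p ^ n), ← zpow_mul, ← zpow_add, ← zpow_neg, ← zpow_add,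
            show i + (p ^ n : ℕ) * j + -i = (p ^ n : ℕ) * j by ring, zpow_mul]
          exact zpow_mem (mem_zpowers _) j) (mem_zpowers s)
      rw [mem_normalizer_iff_map_conj_eq, Subgroup.map_commutator,
        mem_normalizer_iff_map_conj_eq.1 hsQ, mem_normalizer_iff_map_conj_eq.1 hst]
    have hle : Q ≤ G₀ := by
      rw [← Coprime.commutator_sup_centralizer hτQ hcop (Or.inl (Coprime.isSolvable_zpowers τ))]
      refine sup_le (fun y hy => ?_) fun y hy => ?_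
      · refine mem_centralizer_singleton_iff.2 ?_
        exact (hprop _ (le_normalizer_iff_commutator_le_left.1 hτQ) hneq hs' y hy).symm
      · refine mem_centralizer_singleton_iff.2 ?_
        exact (mem_centralizer_iff.1 hy.2 τ (mem_zpowers τ)).symm
    exact (mem_centralizer_singleton_iff.1 (hle hy₀)).symm
  set D := ⁅Q, Q⁆ with hD
  have hDQ : D ≤ Q := commutator_le_right Q Q
  have hDne : D ≠ Q := by
    intro he
    haveI : Group.IsNilpotent Q := hQ.isNilpotent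
    obtain ⟨c, hc⟩ := (Subgroup.isNilpotent_iff_lowerCentralSeries Q).1 ‹_›
    have : ∀ i, Q.lowerCentralSeries i = Q := fun i => by
      induction i with
      | zero => rfl
      | succ i ihi => rw [Subgroup.lowerCentralSeries_succ, ihi]; exact he
    refine hy₀ne ?_
    have hQb := (this c).symm.trans hc
    rw [hQb, mem_bot] at hy₀
    rw [hy₀, mul_one, one_mul]
  have hτD : ∀ d ∈ D, τ * d = d * τ :=
    hprop D hDQ hDne (by rw [normalizer_eq_top]; trivial)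
  -- the fixed points are central
  set Z := Q ⊓ centralizer ({τ} : Set Γ) with hZ
  have hZmem : ∀ y, y ∈ Z ↔ y ∈ Q ∧ τ * y = y * τ := fun y => by
    rw [hZ, mem_inf, mem_centralizer_singleton_iff]; exact and_congr_right fun _ => eq_comm
  have hDZ : D ≤ Z := fun d hd => (hZmem d).2 ⟨hDQ hd, hτD d hd⟩
  have hQZ : ∀ z ∈ Z, ∀ y ∈ Q, y * z = z * y := by
    have h0 : ⁅zpowers τ, Z⁆ = ⊥ := by
      rw [commutator_eq_bot_iff_le_centralizer]
      exact zpowers_le.2 (mem_centralizer_iff.2 fun z hz => ((hZmem z).1 hz).2.symm)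
    have h3 : ⁅⁅Q, zpowers τ⁆, Z⁆ = ⊥ := by
      refine commutator_commutator_eq_bot_of_rotate ?_ ?_
      · rw [h0, commutator_bot_left]
      · refine le_bot_iff.mp ((commutator_mono ((commutator_mono inf_le_left le_rfl).trans hDZ)
          le_rfl).trans (le_of_eq ?_))
        rw [commutator_comm, h0]
    rw [hQτ, commutator_eq_bot_iff_le_centralizer] at h3
    intro z hz y hy
    exact (mem_centralizer_iff.1 (h3 hy) z hz).symm
  set X := normalizer (Q : Set Γ) ⊓ normalizer (Z : Set Γ) with hXdef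
  have hsZ : s ∈ normalizer (Z : Set Γ) := by
    refine inf_normalizer_le_normalizer_inf ⟨hsQ, le_normalizer ?_⟩
    refine mem_centralizer_singleton_iff.2 ?_
    exact (Commute.self_pow s (p ^ n)).eq
  have hQX : Q ≤ X := by
    refine le_inf le_normalizer (le_normalizer_iff.2 fun y hy z hz => ?_)
    rw [hQZ z hz y hy, mul_inv_cancel_right]; exact hz
  have hsX : s ∈ X := ⟨hsQ, hsZ⟩
  haveI : (Q.subgroupOf X).Normal := (normal_subgroupOf_iff_le_normalizer hQX).2 inf_le_left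
  haveI : (Z.subgroupOf X).Normal :=
    (normal_subgroupOf_iff_le_normalizer (inf_le_left.trans hQX)).2 inf_le_right
  haveI : Fintype (Z.subgroupOf X) := Fintype.ofFinite _
  rcases theoremB_block (n := n) hqp (ρ.comp X.subtype) (Q.subgroupOf X) (Z.subgroupOf X)
      (hQ.of_equiv (subgroupOfEquivOfLe hQX).symm) (fun z hz => inf_le_left (a := Q) hz)
      (fun z hz y hy => Subtype.ext (hQZ _ hz _ hy))
      (fun x hx y hy => show ⁅(x : Γ), (y : Γ)⁆ ∈ Z from hDZ (commutator_mem_commutator hx hy))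
      (s := ⟨s, hsX⟩) (Subtype.ext hs)
      (fun y hy => ⟨fun h => show (y : Γ) ∈ Z from (hZmem _).2 ⟨hy, congrArg Subtype.val h⟩,
        fun h => Subtype.ext ((hZmem _).1 h).2⟩)
      ⟨⟨y₀, hQX hy₀⟩, hy₀, fun h => hy₀ne (hinj h)⟩ hr with
    h | ⟨n₀, m, h1, h2, h3, h4, h5, ⟨x, hx, z, hz, hxz⟩, -⟩
  · exact Or.inl h
  · exact Or.inr ⟨n₀, m, h1, h2, h3, h4, h5, x, hx, z, hz, fun h => hxz (by
      rw [show x * z = z * x from Subtype.ext h])⟩

/-- Theorem B of Hall and Higman for a `q`-group. -/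
theorem theoremB {Γ : Type u} [Group Γ] [Finite Γ] {W : Type w} [AddCommGroup W]
    [Module K W] [FiniteDimensional K W] {p q n r : ℕ} [Fact p.Prime] [Fact q.Prime] [CharP K p]
    (hqp : q ≠ p) (Q : Subgroup Γ) (ρ : Γ →* Module.End K W) {s : Γ}
    (hsQ : s ∈ normalizer (Q : Set Γ)) (hQ : IsPGroup q Q) (hs : s ^ p ^ (n + 1) = 1)
    (hne : ∃ y ∈ Q, ρ (s ^ p ^ n * y) ≠ ρ (y * s ^ p ^ n)) (hr : (ρ s - 1) ^ r = 0) :
    p ^ (n + 1) ≤ r ∨
      HallHigmanExc p q n r (fun _ => ∃ x ∈ Q, ∃ y ∈ Q, ρ (x * y) ≠ ρ (y * x)) := by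
  set X := normalizer (Q : Set Γ) with hX
  let ρX := ρ.comp X.subtype
  set mk := QuotientGroup.mk' ρX.ker with hmk
  set ρ' : X ⧸ ρX.ker →* Module.End K W := QuotientGroup.lift ρX.ker ρX le_rfl with hρ'
  have hinj : Function.Injective ρ' := by
    intro g g' h
    obtain ⟨g, rfl⟩ := QuotientGroup.mk'_surjective _ g
    obtain ⟨g', rfl⟩ := QuotientGroup.mk'_surjective _ g'
    change ρX g = ρX g' at h
    refine QuotientGroup.eq.mpr (MonoidHom.mem_ker.mpr ?_)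
    rw [map_mul, ← h, ← map_mul, inv_mul_cancel, map_one]
  haveI hQn : (Q.subgroupOf X).Normal :=
    (normal_subgroupOf_iff_le_normalizer le_normalizer).2 le_rfl
  haveI : ((Q.subgroupOf X).map mk).Normal := hQn.map mk (QuotientGroup.mk'_surjective _)
  obtain ⟨y₀, hy₀, hne₀⟩ := hne
  rcases theoremB_aux (n := n) (r := r) _ hqp ((Q.subgroupOf X).map mk) ρ' (mk ⟨s, hsQ⟩)
      ((hQ.of_equiv (subgroupOfEquivOfLe le_normalizer).symm).map mk) hinj
      (by rw [← map_pow, show (⟨s, hsQ⟩ : X) ^ p ^ (n + 1) = 1 from Subtype.ext hs, map_one])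
      ⟨mk ⟨y₀, le_normalizer hy₀⟩, mem_map_of_mem mk hy₀, fun h => hne₀ (by
        have h1 := congrArg ρ' h
        rw [← map_pow, ← map_mul mk, ← map_mul mk] at h1
        exact h1)⟩ hr rfl with h | ⟨n₀, m, h1, h2, h3, h4, h5, x, hx, z, hz, hxz⟩
  · exact Or.inl h
  · obtain ⟨x, hx', rfl⟩ := hx
    obtain ⟨z, hz', rfl⟩ := hz
    refine Or.inr ⟨n₀, m, h1, h2, h3, h4, h5, x, hx', z, hz', fun h => hxz (hinj ?_)⟩
    rw [← map_mul mk, ← map_mul mk]
    exact h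

end CfsgLib.Solvable.FPFOperators
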