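import Cfsg.Agent.Lib.Solvable.FPFOperators.TwoLayers
import Cfsg.Agent.Lib.PGroup.EqualOrder
import Cfsg.Agent.Lib.Solvable.Schmidt

/-!
# The Fitting height under a fixed-point-free automorphism of two-power order

If `s ^ 2 ^ (n + 1) = 1` and `s` fixes no element of `G`, then `⁅s ^ 2 ^ n, g⁆` lies in the second
Fitting subgroup of `G`.
-/

set_option autoImplicit false

namespace CfsgLib.Solvable.FPFOperators

open Subgroup CfsgLib
open scoped commutatorElement

universe u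

variable {Γ : Type*} [Group Γ]

/-- An operator of prime order centralising all cores of a solvable group centralises it. -/
theorem commutator_eq_one_of_centralizes_cores [Finite Γ] {T : Subgroup Γ} [hTn : T.Normal]
    [Group.IsSolvable T] {t : Γ} {p : ℕ} (ht : t ^ p = 1) (hcop : (Nat.card T).Coprime p)
    (hcore : ∀ q : ℕ, q.Prime → ∀ z ∈ (Cfsg.pCore q T).map T.subtype, t * z = z * t) :
    ∀ g ∈ T, ⁅t, g⁆ = 1 := by
  have hF : ∀ z ∈ Cfsg.fittingSubgroup T, t * (z : Γ) = z * t := by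
    intro z hz
    have hle : Cfsg.fittingSubgroup T ≤ (centralizer ({t} : Set Γ)).comap T.subtype := by
      rw [Solvable.Cores.fittingSubgroup_eq_iSup_pCore]
      refine iSup_le fun q w hw => Subgroup.mem_comap.mpr (mem_centralizer_iff.mpr ?_)
      rintro _ rfl
      exact hcore q q.2 _ (Subgroup.mem_map_of_mem _ hw)
    exact mem_centralizer_iff.mp (Subgroup.mem_comap.mp (hle hz)) _ rfl
  intro g hg
  have hcT : ⁅t, g⁆ ∈ T := by
    rw [commutatorElement_def]
    exact mul_mem (hTn.conj_mem _ hg t) (inv_mem hg)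
  have hcF : (⟨_, hcT⟩ : T) ∈ Cfsg.fittingSubgroup T := by
    refine Solvable.Cores.centralizer_fittingSubgroup_le (mem_centralizer_iff.mpr fun f hf => ?_)
    apply Subtype.ext
    show (f : Γ) * ⁅t, g⁆ = ⁅t, g⁆ * f
    have hf' : (Cfsg.fittingSubgroup T).Normal := inferInstance
    have e2 := hF _ (hf'.conj_mem' _ hf ⟨g, hg⟩)
    simp only [Subgroup.coe_mul, InvMemClass.coe_inv] at e2
    have e1 := hF f hf
    rw [commutatorElement_def]
    calc (f : Γ) * (t * g * t⁻¹ * g⁻¹) = t * f * g * t⁻¹ * g⁻¹ := by simp only [← mul_assoc, ← e1]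
      _ = t * g * (t⁻¹ * (t * (g⁻¹ * f * g))) * t⁻¹ * g⁻¹ := by group
      _ = t * g * (t⁻¹ * (g⁻¹ * f * g * t)) * t⁻¹ * g⁻¹ := by rw [e2]
      _ = t * g * t⁻¹ * g⁻¹ * f := by group
  exact eq_one_of_commute_commutator ht (hF _ hcF)
    (hcop.coprime_dvd_left (Subgroup.orderOf_dvd_natCard _ hcT))

/-- The configuration passes to `Γ / F(G)`. -/
theorem opSetup_top1 [Finite Γ] {G : Subgroup Γ} [hGn : G.Normal] {s : Γ}
    (h : OpSetup G (zpowers s)) :
    OpSetup (top1 G) (zpowers (QuotientGroup.mk' (fit G) s)) := by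
  haveI := h.solvG
  set mk := QuotientGroup.mk' (fit G) with hmk
  refine ⟨hGn.map mk (QuotientGroup.mk'_surjective _),
    Group.isSolvable_of_surjective (f := mk.subgroupMap G) (mk.subgroupMap_surjective G),
    Coprime.isSolvable_zpowers _, ?_, ?_⟩
  · have hc := h.cop
    rw [Nat.card_zpowers] at hc ⊢
    exact (hc.coprime_dvd_left (orderOf_map_dvd mk s)).coprime_dvd_right (G.card_map_dvd mk)
  · rintro _ ⟨g, hg, rfl⟩ hy
    obtain ⟨g', hg', hf, hgg⟩ := exists_fixed_of_map (A := zpowers s) (Q := G) (K₀ := fit G)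
      (by rw [normalizer_eq_top]; exact le_top) h.cop (Coprime.isSolvable_zpowers s) hg fun b hb => by
        obtain ⟨i, rfl⟩ := mem_zpowers_iff.mp hb
        exact hy _ (mem_zpowers_iff.mpr ⟨i, (map_zpow mk s i).symm⟩)
    rw [← hgg, h.fix g' hg' hf, map_one]

/-- Elements of `r`-power order of the Fitting subgroup lie in the `r`-core. -/
theorem mem_pCore_of_mem_fit [Finite Γ] {T : Subgroup Γ} {r : ℕ} [Fact r.Prime] {z : Γ}
    (hz : z ∈ fit T) {k : ℕ} (hzk : z ^ r ^ k = 1) : z ∈ (Cfsg.pCore r T).map T.subtype := by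
  obtain ⟨w, hw, rfl⟩ := hz
  refine ⟨w, Solvable.Cores.map_pCore_le r (Cfsg.fittingSubgroup T)
    ⟨⟨w, hw⟩, PGroup.EqualOrder.mem_pCore_of_pow inferInstance (k := k) ?_, rfl⟩, rfl⟩
  apply Subtype.ext
  apply Subtype.ext
  simpa using hzk

/-- Commutators of `τ` with an invariant layer of `G / F(G)` lie in the next Fitting subgroup. -/
theorem commutator_layer_mem_fit [Finite Γ] {G : Subgroup Γ} [hGn : G.Normal] {s : Γ} {n : ℕ}
    (hs : s ^ 2 ^ (n + 1) = 1) (hcopG : (Nat.card G).Coprime 2) (h : OpSetup G (zpowers s))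
    {q : ℕ} [Fact q.Prime] (Q₁ : Subgroup (Γ ⧸ fit G)) (hQ₁G : Q₁ ≤ top1 G)
    (hQ₁q : IsPGroup q Q₁)
    (hQ₁A : zpowers (QuotientGroup.mk' (fit G) s) ≤ normalizer (Q₁ : Set (Γ ⧸ fit G)))
    [(top1 G).Normal] (hQ₁F : (Q₁ ⊔ fit (top1 G)).Normal) :
    ∀ y ∈ Q₁, ⁅QuotientGroup.mk' (fit G) (s ^ 2 ^ n), y⁆ ∈ fit (top1 G) := by
  haveI := h.solvG
  set mk := QuotientGroup.mk' (fit G) with hmk
  set τ := s ^ 2 ^ n with hτ
  haveI : Group.IsSolvable (top1 G) := (opSetup_top1 h).solvG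
  have hfixs : ∀ y ∈ G, s * y = y * s → y = 1 := fun y hy hsy => h.fix y hy fun a ha => by
    obtain ⟨i, rfl⟩ := mem_zpowers_iff.mp ha
    exact (show Commute s y from hsy).zpow_left i
  have hodd : ∀ z ∈ top1 G, (orderOf z).Coprime 2 := fun z hz =>
    hcopG.coprime_dvd_left ((Subgroup.orderOf_dvd_natCard _ hz).trans (G.card_map_dvd mk))
  intro y hy
  apply chiefKernel_le_fit
  have hτ1 : mk τ ∈ zpowers (mk s) := by rw [hτ, map_pow]; exact pow_mem (mem_zpowers _) _
  have hcQ : ⁅mk τ, y⁆ ∈ Q₁ := by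
    rw [commutatorElement_def]
    exact mul_mem (le_normalizer_iff.1 hQ₁A _ hτ1 y hy) (inv_mem hy)
  refine ⟨hQ₁G hcQ, fun N M hch hMF => ?_⟩
  haveI := hch.normalN
  haveI := hch.normalM
  have hMG : M ≤ top1 G := hMF.trans (fit_le _)
  obtain ⟨r, hr, hexpM, hcommM⟩ := hch.elementary hMG
  haveI := Fact.mk hr
  by_cases hy1 : y = 1
  · subst hy1
    intro m _
    rw [commutatorElement_one_right, commutatorElement_one_left]
    exact one_mem N
  by_cases hqr : q = r
  · subst hqr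
    exact hch.trivial_of_pgroup hexpM hQ₁q hQ₁F
      (fun g hg => ((fit_le_chiefKernel (top1 G)) hg).2 N M hch hMF) _ hcQ
  have hr2 : r ≠ 2 := fun hr2 => hch.lt.not_ge fun m hm => by
    obtain ⟨k, hk⟩ := exists_pow_eq_self_of_coprime (x := m) (n := r)
      (hr2 ▸ (hodd _ (hMG hm)).symm)
    rw [← hk]
    exact pow_mem (hexpM m hm) k
  have hq2 : q ≠ 2 := fun hq2 => hy1 (by
    obtain ⟨k, hk⟩ := hQ₁q ⟨y, hy⟩
    have h1 : y ^ 2 ^ k = 1 := hq2 ▸ congrArg Subtype.val hk
    exact orderOf_eq_one_iff.mp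
      (((hodd _ (hQ₁G hy)).pow_right k).eq_one_of_dvd (orderOf_dvd_of_pow_eq_one h1)))
  intro m hm
  obtain ⟨k, hk, hord⟩ := mem_of_coprime_exponent hr (hexpM m hm)
  have hpow : m ^ k ∈ core1 G r :=
    mem_pCore_of_mem_fit (hMF (pow_mem hm k))
      (k := (orderOf (m ^ k)).primeFactorsList.length) (by
        have he := Nat.eq_prime_pow_of_unique_prime_dvd (p := r) (orderOf_pos (m ^ k)).ne'
          fun {d} hd hdd => by_contra fun hne => hord d hd hne hdd
        rw [← he]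
        exact pow_orderOf_eq_one _)
  suffices hmain : ∀ z ∈ core1 G r, ⁅⁅mk τ, y⁆, z⁆ = 1 by
    have e : QuotientGroup.mk' N m = QuotientGroup.mk' N (m ^ k) := QuotientGroup.eq.mpr hk
    rw [← QuotientGroup.eq_one_iff]
    show QuotientGroup.mk' N ⁅⁅mk τ, y⁆, m⁆ = 1
    rw [map_commutatorElement, e, ← map_commutatorElement, hmain _ hpow, map_one]
  -- lift to `Γ`
  obtain ⟨R, hRG, hRr, hRA, hRmap, hRFn, hcov⟩ := exists_invariant_layer h r
  set W := G ⊓ normalizer (R : Set Γ) ⊓ Q₁.comap mk with hW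
  have hWA : zpowers s ≤ normalizer (W : Set Γ) := by
    refine zpowers_le.2 (inf_normalizer_le_normalizer_inf ⟨inf_normalizer_le_normalizer_inf
      ⟨?_, le_normalizer (hRA (mem_zpowers s))⟩, ?_⟩)
    · rw [normalizer_eq_top]; trivial
    · refine mem_normalizer_iff.2 fun a => ?_
      simp only [Subgroup.mem_comap, map_mul, map_inv]
      exact mem_normalizer_iff.1 (hQ₁A (mem_zpowers _)) (mk a)
  obtain ⟨P, hP⟩ := Coprime.exists_invariant_sylow hWA
    (Coprime.coprime_of_le h.cop le_rfl (inf_le_left.trans inf_le_left)) (Or.inl h.solvA) q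
  set Q := (P : Subgroup W).map W.subtype with hQ
  have hQmap : y ∈ Q.map mk := by
    let f : W →* Q₁ := (mk.comp W.subtype).codRestrict Q₁ fun w => w.2.2
    have hf : Function.Surjective f := by
      rintro ⟨z, hz⟩
      obtain ⟨g, hg, rfl⟩ := hQ₁G hz
      obtain ⟨w, hw, x, hx, rfl⟩ := Subgroup.mem_sup_of_normal_right.mp (hcov hg)
      have e : mk (w * x) = mk w := by
        rw [map_mul, show mk x = 1 from (QuotientGroup.eq_one_iff _).mpr hx, mul_one]
      refine ⟨⟨w, hw, ?_⟩, Subtype.ext e.symm⟩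
      show mk w ∈ Q₁
      rwa [← e]
    have htop : ((P.mapSurjective hf : Sylow q Q₁) : Subgroup Q₁) = ⊤ :=
      ((P.mapSurjective hf).3 (Q := ⊤) (hQ₁q.of_equiv topEquiv.symm) le_top).symm
    rw [Sylow.coe_mapSurjective] at htop
    obtain ⟨w, hw, hwy⟩ := htop.ge (Subgroup.mem_top (⟨y, hy⟩ : Q₁))
    exact ⟨w, ⟨w, hw, rfl⟩, congrArg Subtype.val hwy⟩
  obtain ⟨y₀, hy₀, rfl⟩ := hQmap
  rintro _ hz
  rw [← hRmap] at hz
  obtain ⟨x, hx, rfl⟩ := hz
  rw [← map_commutatorElement, ← map_commutatorElement]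
  refine (QuotientGroup.eq_one_iff _).mpr (chiefKernel_le_fit G ?_)
  have hQW : Q ≤ W := map_subtype_le _
  have hc₀ : ⁅τ, y₀⁆ ∈ Q := by
    rw [commutatorElement_def]
    exact mul_mem (le_normalizer_iff.1 hP τ (pow_mem (mem_zpowers s) _) y₀ hy₀) (inv_mem hy₀)
  have hc₀R : ⁅τ, y₀⁆ ∈ normalizer (R : Set Γ) := (hQW hc₀).1.2
  have hxR : ⁅⁅τ, y₀⁆, x⁆ ∈ R := by
    rw [commutatorElement_def ⁅τ, y₀⁆ x]
    exact mul_mem ((mem_normalizer_iff.1 hc₀R x).1 hx) (inv_mem hx)
  refine ⟨hRG hxR, fun N' M' hch' hMF' => ?_⟩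
  haveI := hch'.normalN
  haveI := hch'.normalM
  have hMG' : M' ≤ G := hMF'.trans (fit_le G)
  obtain ⟨l, hl, hexp', hcomm'⟩ := hch'.elementary hMG'
  haveI := Fact.mk hl
  by_cases hlr : r = l
  · subst hlr
    exact hch'.trivial_of_pgroup hexp' hRr hRFn
      (fun g hg => ((fit_le_chiefKernel G) hg).2 N' M' hch' hMF') _ hxR
  have hl2 : l ≠ 2 := fun hl2 => hch'.lt.not_ge fun m' hm' => by
    obtain ⟨i, hi⟩ := exists_pow_eq_self_of_coprime (x := m') (n := l)
      (hl2 ▸ (hcopG.coprime_dvd_left (Subgroup.orderOf_dvd_natCard G (hMG' hm'))).symm)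
    rw [← hi]
    exact pow_mem (hexp' m' hm') i
  obtain ⟨d, ρ, hρ1, -, hρfpf⟩ :=
    exists_section_rep (N := N') (M := M') l (AlgebraicClosure (ZMod l)) hexp' hcomm'
  have hcast : ∀ t : ℕ, t.Prime → t ≠ l → (t : AlgebraicClosure (ZMod l)) ≠ 0 := fun t ht htl h0 =>
    htl ((Nat.prime_dvd_prime_iff_eq hl ht).mp
      ((CharP.cast_eq_zero_iff (AlgebraicClosure (ZMod l)) l t).mp h0)).symm
  have hsum : ∑ i ∈ Finset.range (2 ^ (n + 1)), ρ (s ^ i) = 0 := by
    refine hρfpf s _ hs fun m' hm' hsm => ?_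
    obtain ⟨m₁, hm₁, hf, hmm⟩ := exists_fixed_of_map (A := zpowers s) (Q := M') (K₀ := N')
      (by rw [normalizer_eq_top]; exact le_top) (Coprime.coprime_of_le h.cop le_rfl hMG')
      (Coprime.isSolvable_zpowers s) hm' fun b hb => by
        obtain ⟨i, rfl⟩ := mem_zpowers_iff.mp hb
        rw [map_zpow]
        exact Commute.zpow_left (commutatorElement_eq_one_iff_mul_comm.mp
          ((map_commutatorElement _ _ _).symm.trans ((QuotientGroup.eq_one_iff _).mpr hsm))) i
    rw [hfixs m₁ (hMG' hm₁) (hf s (mem_zpowers s)), map_one] at hmm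
    exact (QuotientGroup.eq_one_iff m').mp hmm.symm
  set X := normalizer (R : Set Γ) with hX
  have hRX : R ≤ X := le_normalizer
  have hQX : Q ≤ X := fun a ha => (hQW ha).1.2
  haveI : (R.subgroupOf X).Normal := (normal_subgroupOf_iff_le_normalizer hRX).2 le_rfl
  have hρc : ρ (⁅τ, y₀⁆ * x) = ρ (x * ⁅τ, y₀⁆) :=
    two_layer (n := n) (R.subgroupOf X) (Q.subgroupOf X) (ρ.comp X.subtype)
      (s := (⟨s, hRA (mem_zpowers s)⟩ : X)) (Subtype.ext hs)
      (hRr.of_equiv (subgroupOfEquivOfLe hRX).symm)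
      ((P.isPGroup'.map W.subtype).of_equiv (subgroupOfEquivOfLe hQX).symm)
      (mem_normalizer_iff.2 fun a => mem_normalizer_iff.1 (hP (mem_zpowers s)) (a : Γ))
      hr2 hq2 (Ne.symm hqr) (hcast r hr hlr) (by exact_mod_cast hcast 2 Nat.prime_two hl2.symm)
      (by simpa using hsum) (g := (⟨y₀, hQX hy₀⟩ : X)) (x := (⟨x, hRX hx⟩ : X)) hy₀ hx
  refine (hρ1 _).mp ?_
  rw [show ⁅⁅τ, y₀⁆, x⁆ = ⁅τ, y₀⁆ * x * (x * ⁅τ, y₀⁆)⁻¹ by
      rw [commutatorElement_def ⁅τ, y₀⁆ x, mul_inv_rev, ← mul_assoc],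
    map_mul, hρc, ← map_mul, mul_inv_cancel, map_one]

/-- `⁅s ^ 2 ^ n, g⁆` lies in the second Fitting subgroup. -/
theorem commutator_mem_fit_fit [Finite Γ] {G : Subgroup Γ} [hGn : G.Normal] {s : Γ} {n : ℕ}
    (hs : s ^ 2 ^ (n + 1) = 1) (hcopG : (Nat.card G).Coprime 2) (h : OpSetup G (zpowers s)) :
    ∀ g ∈ G, QuotientGroup.mk' (fit G) ⁅s ^ 2 ^ n, g⁆ ∈ fit (top1 G) := by
  haveI := h.solvG
  set mk := QuotientGroup.mk' (fit G) with hmk
  set τ := s ^ 2 ^ n with hτ
  have h1 := opSetup_top1 h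
  haveI := h1.normalG
  haveI := (opSetup_top1 h1).normalG
  haveI := (opSetup_top1 h1).solvG
  set mk₁ := QuotientGroup.mk' (fit (top1 G)) with hmk₁
  have hcore : ∀ q : ℕ, q.Prime → ∀ z ∈ core1 (top1 G) q, mk₁ (mk τ) * z = z * mk₁ (mk τ) := by
    intro q hq
    haveI := Fact.mk hq
    obtain ⟨Q₁, hQ₁G, hQ₁q, hQ₁A, hQ₁map, hQ₁F, -⟩ := exists_invariant_layer h1 q
    rw [← hQ₁map]
    rintro _ ⟨y, hy, rfl⟩
    rw [← commutatorElement_eq_one_iff_mul_comm, ← map_commutatorElement]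
    exact (QuotientGroup.eq_one_iff _).mpr
      (commutator_layer_mem_fit hs hcopG h Q₁ hQ₁G hQ₁q hQ₁A hQ₁F y hy)
  intro g hg
  have key := commutator_eq_one_of_centralizes_cores (T := top1 (top1 G)) (t := mk₁ (mk τ)) (p := 2)
    (by rw [← map_pow, ← map_pow, hτ, ← pow_mul, ← pow_succ, hs, map_one, map_one])
    ((hcopG.coprime_dvd_left (G.card_map_dvd mk)).coprime_dvd_left ((top1 G).card_map_dvd mk₁))
    hcore (mk₁ (mk g)) (Subgroup.mem_map_of_mem _ (Subgroup.mem_map_of_mem _ hg))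
  rw [← map_commutatorElement, ← map_commutatorElement] at key
  exact (QuotientGroup.eq_one_iff _).mp key

/-- The version for automorphisms. -/
theorem two_pow_apply_mem_fitting {H : Type*} [Group H] [Finite H] (hH : Group.IsSolvable H) {n : ℕ}
    {σ : MulAut H} (hσ : σ ^ 2 ^ (n + 1) = 1) (hfpf : ∀ h : H, σ h = h → h = 1) (h : H) :
    QuotientGroup.mk' (Cfsg.fittingSubgroup H) ((σ ^ 2 ^ n) h * h⁻¹) ∈
      Cfsg.fittingSubgroup (H ⧸ Cfsg.fittingSubgroup H) := by
  haveI := Fact.mk Nat.prime_two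
  let A := zpowers σ
  let ι : H →* H ⋊[A.subtype] A := SemidirectProduct.inl
  let a : A := ⟨σ, mem_zpowers σ⟩
  let s : H ⋊[A.subtype] A := SemidirectProduct.inr a
  have hι : Function.Injective ι := SemidirectProduct.inl_injective
  haveI : Finite (H ⋊[A.subtype] A) := Finite.of_equiv _ SemidirectProduct.equivProd.symm
  haveI hιn : ι.range.Normal := by
    show (SemidirectProduct.inl : H →* H ⋊[A.subtype] A).range.Normal
    rw [SemidirectProduct.range_inl_eq_ker_rightHom]; infer_instance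
  have hAp : IsPGroup 2 A := by
    obtain ⟨k, -, hk⟩ := (Nat.dvd_prime_pow Nat.prime_two).mp (orderOf_dvd_of_pow_eq_one hσ)
    exact IsPGroup.of_card (by rw [Nat.card_zpowers, hk])
  have hcop := coprime_card_of_fpf A hAp fun g hg => hfpf g (hg σ (mem_zpowers σ))
  have hcard : Nat.card ι.range = Nat.card H := Nat.card_congr (MonoidHom.ofInjective hι).symm.toEquiv
  have hs : s ^ 2 ^ (n + 1) = 1 := by
    rw [← map_pow, show a ^ 2 ^ (n + 1) = 1 from Subtype.ext hσ, map_one]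
  have hset : OpSetup ι.range (zpowers s) := by
    refine ⟨hιn, ?_, Coprime.isSolvable_zpowers s, ?_, ?_⟩
    · exact Group.isSolvable_of_surjective (f := (MonoidHom.ofInjective hι).toMonoidHom)
        (MonoidHom.ofInjective hι).surjective
    · rw [Nat.card_zpowers, hcard]
      exact Nat.Coprime.coprime_dvd_left (orderOf_dvd_of_pow_eq_one hs) (hcop.symm.pow_left _)
    · rintro _ ⟨g, rfl⟩ hg
      rw [hfpf g (hι ?_), map_one]
      show SemidirectProduct.inl ((A.subtype a) g) = _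
      rw [SemidirectProduct.inl_aut, map_inv]
      exact mul_inv_eq_iff_eq_mul.mpr (hg s (mem_zpowers s))
  haveI := (opSetup_top1 hset).normalG
  have key := commutator_mem_fit_fit hs (hcard ▸ hcop) hset (ι h) ⟨h, rfl⟩
  have hconj : ι ((σ ^ 2 ^ n) h * h⁻¹) = ⁅s ^ 2 ^ n, ι h⁆ := by
    rw [commutatorElement_def, map_mul, map_inv]
    show SemidirectProduct.inl ((A.subtype (a ^ 2 ^ n)) h) * _ = _
    rw [SemidirectProduct.inl_aut, map_inv, map_pow]
  set f := (QuotientGroup.mk' (fit ι.range)).comp ι with hf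
  set E := (fit (top1 ι.range)).comap f with hE
  haveI hEn : E.Normal := (fit_normal (top1 ι.range)).comap f
  set F := Cfsg.fittingSubgroup H with hF
  set mkH := QuotientGroup.mk' F with hmkH
  have hkerle : f.ker ≤ F := by
    rw [hf, ← MonoidHom.comap_ker, QuotientGroup.ker_mk']
    haveI : ((fit ι.range).comap ι).Normal := (fit_normal ι.range).comap ι
    haveI : Group.IsNilpotent (((fit ι.range).comap ι).map ι) :=
      Schmidt.isNilpotent_of_le (Subgroup.map_comap_le _ _) (isNilpotent_fit ι.range)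
    exact Solvable.Cores.le_fittingSubgroup
      (Group.nilpotent_of_mulEquiv (((fit ι.range).comap ι).equivMapOfInjective ι hι).symm)
  have hnil : Group.IsNilpotent (E.map mkH) := by
    have h1 : Group.IsNilpotent (E.map f) :=
      Schmidt.isNilpotent_of_le (Subgroup.map_comap_le _ _) (isNilpotent_fit (top1 ι.range))
    obtain ⟨k, hk⟩ := (Subgroup.isNilpotent_iff_lowerCentralSeries _).mp h1
    refine (Subgroup.isNilpotent_iff_lowerCentralSeries _).mpr ⟨k, ?_⟩
    rw [← Subgroup.map_lowerCentralSeries, Subgroup.map_eq_bot_iff] at hk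
    rw [← Subgroup.map_lowerCentralSeries, Subgroup.map_eq_bot_iff, QuotientGroup.ker_mk']
    exact hk.trans hkerle
  haveI : (E.map mkH).Normal := hEn.map mkH (QuotientGroup.mk'_surjective _)
  refine Solvable.Cores.le_fittingSubgroup hnil (Subgroup.mem_map_of_mem mkH ?_)
  show QuotientGroup.mk' (fit ι.range) (ι ((σ ^ 2 ^ n) h * h⁻¹)) ∈ fit (top1 ι.range)
  rw [hconj]
  exact key

/-- Prolonging a chain with nilpotent factors below. -/
theorem exists_chain_cons {H : Type*} [Group H] [Finite H] {L : ℕ}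
    (C : Fin (L + 1) → Subgroup (H ⧸ Cfsg.fittingSubgroup H))
    (hC0 : C 0 = ⊥) (hC1 : C (Fin.last L) = ⊤) (hCm : Monotone C) (hCn : ∀ i, (C i).Normal)
    (hCk : ∀ i : Fin L, ∃ k : ℕ, (C i.succ).lowerCentralSeries k ≤ C i.castSucc) :
    ∃ F : Fin (L + 1 + 1) → Subgroup H, F 0 = ⊥ ∧ F (Fin.last (L + 1)) = ⊤ ∧
      Monotone F ∧ (∀ i, (F i).Normal) ∧
      ∀ i : Fin (L + 1), ∃ k : ℕ, (F i.succ).lowerCentralSeries k ≤ F i.castSucc := by
  set F := Cfsg.fittingSubgroup H with hF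
  set mk := QuotientGroup.mk' F with hmk
  refine ⟨Fin.cons ⊥ fun i => (C i).comap mk, rfl, ?_, ?_, ?_, ?_⟩
  · rw [show Fin.last (L + 1) = (Fin.last L).succ from rfl, Fin.cons_succ, hC1, Subgroup.comap_top]
  · refine Fin.monotone_iff_le_succ.mpr fun i => ?_
    rcases Fin.eq_zero_or_eq_succ i with rfl | ⟨j, rfl⟩
    · exact bot_le
    · rw [Fin.cons_succ, Fin.castSucc_succ, Fin.cons_succ]
      exact Subgroup.comap_mono (hCm (Fin.castSucc_le_succ j))
  · intro i
    rcases Fin.eq_zero_or_eq_succ i with rfl | ⟨j, rfl⟩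
    · exact (inferInstance : (⊥ : Subgroup H).Normal)
    · rw [Fin.cons_succ]
      exact (hCn j).comap mk
  · intro i
    rcases Fin.eq_zero_or_eq_succ i with rfl | ⟨j, rfl⟩
    · obtain ⟨k, hk⟩ := (Subgroup.isNilpotent_iff_lowerCentralSeries F).mp inferInstance
      refine ⟨k, ?_⟩
      rw [Fin.cons_succ, hC0, MonoidHom.comap_bot, QuotientGroup.ker_mk', hk]
      exact bot_le
    · obtain ⟨k, hk⟩ := hCk j
      refine ⟨k, ?_⟩
      rw [Fin.cons_succ, Fin.castSucc_succ, Fin.cons_succ, ← Subgroup.map_le_iff_le_comap,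
        Subgroup.map_lowerCentralSeries,
        Subgroup.map_comap_eq_self_of_surjective (QuotientGroup.mk'_surjective F)]
      exact hk

/-- Powers of an induced automorphism. -/
theorem pow_induced_apply {H : Type*} [Group H] {N : Subgroup H} [N.Normal] {σ : MulAut H}
    {σ' : MulAut (H ⧸ N)} (hσ' : ∀ h, σ' (QuotientGroup.mk h) = QuotientGroup.mk (σ h)) (i : ℕ)
    (h : H) : (σ' ^ i) (QuotientGroup.mk' N h) = QuotientGroup.mk' N ((σ ^ i) h) := by
  induction i generalizing h with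
  | zero => rfl
  | succ i ihi => rw [pow_succ', MulAut.mul_apply, ihi, pow_succ', MulAut.mul_apply]; exact hσ' _

/-- The chain for an automorphism of order dividing `2 ^ (n + 2)`. -/
theorem exists_chain_of_two_pow : ∀ (n : ℕ) {H : Type u} [Group H] [Finite H],
    Group.IsSolvable H → ∀ σ : MulAut H, σ ^ 2 ^ (n + 2) = 1 →
    (∀ h : H, σ h = h → h = 1) → ∃ F : Fin (2 * n + 2 + 1) → Subgroup H, F 0 = ⊥ ∧
      F (Fin.last (2 * n + 2)) = ⊤ ∧ Monotone F ∧ (∀ i, (F i).Normal) ∧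
      ∀ i : Fin (2 * n + 2), ∃ k : ℕ, (F i.succ).lowerCentralSeries k ≤ F i.castSucc := by
  intro n
  induction n with
  | zero =>
    intro H _ _ hH σ hσ hfpf
    obtain ⟨σ', hσ', hfpf'⟩ := exists_induced σ hfpf
    have h1 : σ' ^ 2 = 1 := MulEquiv.ext fun x => by
      induction x using QuotientGroup.induction_on with
      | H h =>
        show (σ' ^ 2) (QuotientGroup.mk' _ h) = QuotientGroup.mk' _ h
        rw [pow_induced_apply hσ', ← mul_inv_eq_one, ← map_inv, ← map_mul]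
        exact (QuotientGroup.eq_one_iff _).mpr
          (pow_apply_mem_fittingSubgroup (n := 1) hH Nat.prime_two (Or.inr le_rfl) hσ hfpf h)
    have hc := commute_of_fpf_involution σ' h1 hfpf'
    refine exists_chain_cons (L := 1) ![⊥, ⊤] rfl rfl ?_ ?_ ?_
    · refine Fin.monotone_iff_le_succ.mpr fun i => ?_
      fin_cases i
      exact bot_le
    · intro i
      fin_cases i
      · exact (inferInstance : (⊥ : Subgroup (H ⧸ Cfsg.fittingSubgroup H)).Normal)
      · exact (inferInstance : (⊤ : Subgroup (H ⧸ Cfsg.fittingSubgroup H)).Normal)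
    · intro i
      fin_cases i
      refine ⟨1, ?_⟩
      show (⊤ : Subgroup (H ⧸ Cfsg.fittingSubgroup H)).lowerCentralSeries 1 ≤ ⊥
      rw [Subgroup.lowerCentralSeries_succ, Subgroup.lowerCentralSeries_zero, Subgroup.commutator_le]
      exact fun a _ b _ => Subgroup.mem_bot.mpr (commutatorElement_eq_one_iff_mul_comm.mpr (hc a b))
  | succ n ih =>
    intro H _ _ hH σ hσ hfpf
    obtain ⟨σ', hσ', hfpf'⟩ := exists_induced σ hfpf
    obtain ⟨σ'', hσ'', hfpf''⟩ := exists_induced σ' hfpf'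
    have hsol1 : Group.IsSolvable (H ⧸ Cfsg.fittingSubgroup H) :=
      Group.isSolvable_of_surjective (f := QuotientGroup.mk' _) (QuotientGroup.mk'_surjective _)
    have h1 : σ'' ^ 2 ^ (n + 2) = 1 := MulEquiv.ext fun x => by
      induction x using QuotientGroup.induction_on with
      | H y =>
        obtain ⟨h, rfl⟩ := QuotientGroup.mk'_surjective _ y
        show (σ'' ^ 2 ^ (n + 2)) (QuotientGroup.mk' _ (QuotientGroup.mk' _ h)) = _
        rw [pow_induced_apply hσ'', pow_induced_apply hσ', MulAut.one_apply, ← mul_inv_eq_one]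
        show QuotientGroup.mk' _ _ * (QuotientGroup.mk' _ _)⁻¹ = 1
        rw [← map_inv, ← map_mul, ← map_inv, ← map_mul]
        exact (QuotientGroup.eq_one_iff _).mpr (two_pow_apply_mem_fitting hH hσ hfpf h)
    obtain ⟨C, hC0, hC1, hCm, hCn, hCk⟩ := ih (Group.isSolvable_of_surjective
      (f := QuotientGroup.mk' _) (QuotientGroup.mk'_surjective _)) σ'' h1 hfpf''
    obtain ⟨D, hD0, hD1, hDm, hDn, hDk⟩ := exists_chain_cons C hC0 hC1 hCm hCn hCk
    exact exists_chain_cons D hD0 hD1 hDm hDn hDk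

end CfsgLib.Solvable.FPFOperators
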