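import Cfsg.Agent.Lib.Solvable.FPFOperators.Common
import Mathlib.GroupTheory.GroupAction.ConjAct

/-!
# The layer above the Fitting subgroup
-/

set_option autoImplicit false

namespace CfsgLib.Solvable.FPFOperators

open Subgroup CfsgLib
open scoped commutatorElement

variable {Γ : Type*} [Group Γ]

/-- The group `G / F(G)`, inside `Γ / F(G)`. -/
abbrev top1 (G : Subgroup Γ) [G.Normal] : Subgroup (Γ ⧸ fit G) :=
  G.map (QuotientGroup.mk' (fit G))

/-- The `q`-core of `G / F(G)`, inside `Γ / F(G)`. -/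
abbrev core1 (G : Subgroup Γ) [G.Normal] (q : ℕ) : Subgroup (Γ ⧸ fit G) :=
  (Cfsg.pCore q (top1 G)).map (top1 G).subtype

/-- An invariant `q`-group covering `O_q(G / F(G))`, with normaliser covering everything. -/
theorem exists_invariant_layer [Finite Γ] {G A : Subgroup Γ} [hGn : G.Normal] (h : OpSetup G A)
    (q : ℕ) [Fact q.Prime] :
    ∃ Q : Subgroup Γ, Q ≤ G ∧ IsPGroup q Q ∧ A ≤ normalizer (Q : Set Γ) ∧
      Q.map (QuotientGroup.mk' (fit G)) = core1 G q ∧ (Q ⊔ fit G).Normal ∧
      G ≤ (G ⊓ normalizer (Q : Set Γ)) ⊔ fit G := by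
  set mk := QuotientGroup.mk' (fit G) with hmk
  haveI : (top1 G).Normal := hGn.map mk (QuotientGroup.mk'_surjective _)
  haveI hcn : (core1 G q).Normal := by
    haveI : (Cfsg.pCore q (top1 G)).Characteristic := Solvable.Cores.pCore_characteristic q
    infer_instance
  let T := (core1 G q).comap mk
  haveI hTn : T.Normal := hcn.comap mk
  have hFT : fit G ≤ T := fun x hx => Subgroup.mem_comap.mpr (by
    rw [show mk x = 1 from (QuotientGroup.eq_one_iff _).mpr hx]; exact one_mem _)
  have hTG : T ≤ G := by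
    refine (Subgroup.comap_mono (map_subtype_le _)).trans ?_
    rw [Subgroup.comap_map_eq, QuotientGroup.ker_mk', sup_eq_left.mpr (fit_le G)]
  have hAT : A ≤ normalizer (T : Set Γ) := by rw [normalizer_eq_top]; exact le_top
  obtain ⟨P, hP⟩ := Coprime.exists_invariant_sylow hAT (Coprime.coprime_of_le h.cop le_rfl hTG)
    (Or.inl h.solvA) q
  set Q := (P : Subgroup T).map T.subtype with hQ
  have hQT : Q ≤ T := map_subtype_le _
  have hQmap : Q.map mk = core1 G q := by
    have hf : Function.Surjective (mk.subgroupComap (core1 G q)) :=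
      mk.subgroupComap_surjective_of_surjective _ (QuotientGroup.mk'_surjective _)
    have hcp : IsPGroup q (core1 G q) := (Solvable.Cores.isPGroup_pCore q).map _
    have htop : ((P.mapSurjective hf : Sylow q (core1 G q)) : Subgroup (core1 G q)) = ⊤ :=
      ((P.mapSurjective hf).3 (Q := ⊤) (hcp.of_equiv topEquiv.symm) le_top).symm
    rw [Sylow.coe_mapSurjective] at htop
    have h2 := congrArg (Subgroup.map (core1 G q).subtype) htop
    rw [← MonoidHom.range_eq_map, range_subtype, Subgroup.map_map] at h2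
    rw [hQ, Subgroup.map_map]
    exact h2
  refine ⟨Q, hQT.trans hTG, P.isPGroup'.map _, hP, hQmap, ?_, ?_⟩
  · have hTeq : Q ⊔ fit G = T := by
      show _ = (core1 G q).comap mk
      rw [← hQmap, Subgroup.comap_map_eq, QuotientGroup.ker_mk']
    rw [hTeq]
    exact hTn
  · intro g hg
    have hfr := Sylow.normalizer_sup_eq_top P
    have hg' : g ∈ normalizer (Q : Set Γ) ⊔ T := by
      rw [hQ] at *
      rw [hfr]; trivial
    obtain ⟨x, hx, t, ht, rfl⟩ := Subgroup.mem_sup_of_normal_right.mp hg'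
    have ht2 : t ∈ Q ⊔ fit G := by
      have : T = Q ⊔ fit G := by
        show (core1 G q).comap mk = _
        rw [← hQmap, Subgroup.comap_map_eq, QuotientGroup.ker_mk']
      rwa [← this]
    obtain ⟨u, hu, f, hf, rfl⟩ := Subgroup.mem_sup_of_normal_right.mp ht2
    rw [← mul_assoc]
    refine Subgroup.mul_mem_sup ⟨?_, mul_mem hx (le_normalizer hu)⟩ hf
    have : x * u = x * (u * f) * f⁻¹ := by group
    rw [this]
    exact G.mul_mem hg (G.inv_mem (fit_le G hf))

/-- An invariant Sylow subgroup of the normaliser gives a Sylow subgroup of `G / F(G)`. -/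
theorem exists_invariant_sylow_top [Finite Γ] {G A Q : Subgroup Γ} [hGn : G.Normal]
    (h : OpSetup G A) (hQA : A ≤ normalizer (Q : Set Γ))
    (hcov : G ≤ (G ⊓ normalizer (Q : Set Γ)) ⊔ fit G) (s : ℕ) [Fact s.Prime] :
    ∃ (S : Subgroup Γ) (P : Sylow s (top1 G)), S ≤ G ∧ S ≤ normalizer (Q : Set Γ) ∧
      IsPGroup s S ∧ A ≤ normalizer (S : Set Γ) ∧
      S.map (QuotientGroup.mk' (fit G)) = (P : Subgroup (top1 G)).map (top1 G).subtype := by
  set mk := QuotientGroup.mk' (fit G) with hmk
  set W := G ⊓ normalizer (Q : Set Γ) with hW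
  have hAW : A ≤ normalizer (W : Set Γ) := by
    refine (le_inf ?_ (hQA.trans le_normalizer)).trans inf_normalizer_le_normalizer_inf
    rw [normalizer_eq_top]; exact le_top
  obtain ⟨P₀, hP₀⟩ := Coprime.exists_invariant_sylow hAW
    (Coprime.coprime_of_le h.cop le_rfl inf_le_left) (Or.inl h.solvA) s
  let f : W →* top1 G :=
    { toFun := fun w => ⟨mk w, Subgroup.mem_map_of_mem mk w.2.1⟩
      map_one' := Subtype.ext (map_one mk)
      map_mul' := fun a b => Subtype.ext (map_mul mk _ _) }
  have hf : Function.Surjective f := by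
    rintro ⟨_, g, hg, rfl⟩
    obtain ⟨w, hw, x, hx, rfl⟩ := Subgroup.mem_sup_of_normal_right.mp (hcov hg)
    refine ⟨⟨w, hw⟩, Subtype.ext ?_⟩
    show mk w = mk (w * x)
    rw [map_mul, show mk x = 1 from (QuotientGroup.eq_one_iff _).mpr hx, mul_one]
  refine ⟨(P₀ : Subgroup W).map W.subtype, P₀.mapSurjective hf, (map_subtype_le _).trans inf_le_left,
    (map_subtype_le _).trans inf_le_right, P₀.isPGroup'.map _, hP₀, ?_⟩
  rw [Sylow.coe_mapSurjective, Subgroup.map_map, Subgroup.map_map]
  rfl

end CfsgLib.Solvable.FPFOperators
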