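import Mathlib.LinearAlgebra.FiniteDimensional.Lemmas
import Mathlib.LinearAlgebra.FreeModule.Finite.Matrix
import Mathlib.Tactic.Linarith
import Mathlib.Tactic.NoncommRing

/-!
# The centraliser of a nilpotent endomorphism

An endomorphism `N` of a `d`-dimensional space with `N ^ k = 0` has a centraliser of dimension at
least `d`, and at least `d ^ 2 / k`.
-/

set_option autoImplicit false

namespace CfsgLib.Solvable.FPFOperators

universe v w

variable {K : Type v} [Field K]

/-- The endomorphisms commuting with `N`. -/
def commutant {V : Type w} [AddCommGroup V] [Module K V] (N : Module.End K V) :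
    Submodule K (Module.End K V) :=
  LinearMap.ker (LinearMap.mulLeft K N - LinearMap.mulRight K N)

theorem mem_commutant {V : Type w} [AddCommGroup V] [Module K V] {N X : Module.End K V} :
    X ∈ commutant N ↔ ∀ v, N (X v) = X (N v) := by
  rw [commutant, LinearMap.mem_ker, LinearMap.sub_apply, LinearMap.mulLeft_apply,
    LinearMap.mulRight_apply, sub_eq_zero, LinearMap.ext_iff]
  rfl

theorem commutant_bounds_aux (k : ℕ) : ∀ {V : Type w} [AddCommGroup V] [Module K V]
    [FiniteDimensional K V] (N : Module.End K V), N ^ k = 0 →
    Module.finrank K V ≤ Module.finrank K (commutant N) ∧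
      Module.finrank K V * Module.finrank K V ≤ k * Module.finrank K (commutant N) := by
  induction k with
  | zero =>
    intro V _ _ _ N hN
    rw [pow_zero] at hN
    haveI : Subsingleton V := ⟨fun a b => by
      have ha := LinearMap.congr_fun hN a
      have hb := LinearMap.congr_fun hN b
      simp only [Module.End.one_apply, LinearMap.zero_apply] at ha hb
      rw [ha, hb]⟩
    rw [Module.finrank_zero_of_subsingleton]
    simp
  | succ k ih =>
    intro V _ _ _ N hN
    set U := LinearMap.range N with hU
    let N' : Module.End K U := N.restrict fun v _ => ⟨v, rfl⟩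
    have hN' : N' ^ k = 0 := by
      have hpow : ∀ (i : ℕ) (u : U), (((N' ^ i) u : U) : V) = (N ^ i) (u : V) := by
        intro i
        induction i with
        | zero => intro u; rfl
        | succ i ihi =>
          intro u
          rw [pow_succ', pow_succ', Module.End.mul_apply, Module.End.mul_apply, ← ihi]
          rfl
      refine LinearMap.ext fun u => Subtype.ext ?_
      obtain ⟨v, hv⟩ := u.2
      rw [hpow, ← hv, ← Module.End.mul_apply, ← pow_succ, hN]
      rfl
    obtain ⟨h1, h2⟩ := ih N' hN'
    have hCmaps : ∀ X ∈ commutant N, ∀ u ∈ U, X u ∈ U := by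
      rintro X hX _ ⟨v, rfl⟩
      exact ⟨X v, mem_commutant.1 hX v⟩
    let F : commutant N →ₗ[K] commutant N' :=
      { toFun := fun X => ⟨(X : Module.End K V).restrict (hCmaps X X.2),
          mem_commutant.2 fun u => Subtype.ext (mem_commutant.1 X.2 (u : V))⟩
        map_add' := fun X Y => rfl
        map_smul' := fun c X => rfl }
    obtain ⟨σ, hσ⟩ := N.rangeRestrict.exists_rightInverse_of_surjective
      (LinearMap.range_rangeRestrict N)
    obtain ⟨C, hC⟩ := Submodule.exists_isCompl U
    -- every endomorphism commuting with the restriction extends
    have hF : Function.Surjective F := by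
      intro Y
      let πU := U.projectionOnto C hC
      let πC := C.projectionOnto U hC.symm
      let Ym : U →ₗ[K] U := (Y : Module.End K U)
      let X : Module.End K V :=
        U.subtype ∘ₗ Ym ∘ₗ πU + σ ∘ₗ Ym ∘ₗ N.rangeRestrict ∘ₗ C.subtype ∘ₗ πC
      have hσN : ∀ u : U, N (σ u) = u := fun u =>
        congrArg Subtype.val (LinearMap.congr_fun hσ u)
      have hXU : ∀ u : U, X (u : V) = (Ym u : V) := by
        intro u
        simp only [X, πU, πC, LinearMap.add_apply, LinearMap.comp_apply, Submodule.coe_subtype,
          Submodule.projectionOnto_apply_left, Submodule.projectionOnto_apply_right, map_zero,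
          ZeroMemClass.coe_zero, add_zero]
      have hX : X ∈ commutant N := mem_commutant.2 fun v => by
        have hv : (πU v : V) + (πC v : V) = v :=
          Submodule.projection_add_projection_eq_self hC v
        have hYN : ∀ u : U, (Ym (N' u) : V) = N (Ym u : V) := fun u =>
          (congrArg Subtype.val (mem_commutant.1 Y.2 u)).symm
        have e1 : N (X v) = N (Ym (πU v) : V) + (Ym (N.rangeRestrict (πC v : V)) : V) := by
          simp only [X, LinearMap.add_apply, LinearMap.comp_apply, Submodule.coe_subtype, map_add,
            hσN]
        have e2 : N.rangeRestrict v = N' (πU v) + N.rangeRestrict (πC v : V) := by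
          conv_lhs => rw [← hv, map_add]
          rfl
        rw [e1, show N v = ((N.rangeRestrict v : U) : V) from rfl, hXU, e2, map_add,
          Submodule.coe_add, hYN]
      refine ⟨⟨X, hX⟩, Subtype.ext (LinearMap.ext fun u => Subtype.ext ?_)⟩
      exact hXU u
    have hrn : Module.finrank K (LinearMap.ker F) + Module.finrank K (commutant N') =
        Module.finrank K (commutant N) := by
      letI : AddCommGroup (commutant N) := (commutant N).addCommGroup
      letI : AddCommGroup (commutant N') := (commutant N').addCommGroup
      have h := @LinearMap.finrank_range_add_finrank_ker K (commutant N) _ _ (commutant N).module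
        (commutant N') _ (commutant N').module _ F
      rw [LinearMap.range_eq_top.2 hF, finrank_top] at h
      omega
    -- the maps killing the range with values in the kernel
    let G : ((V ⧸ U) →ₗ[K] LinearMap.ker N) →ₗ[K] LinearMap.ker F :=
      { toFun := fun f => ⟨⟨(LinearMap.ker N).subtype ∘ₗ f ∘ₗ U.mkQ, mem_commutant.2 fun v => by
            have h0 : U.mkQ (N v) = 0 := (Submodule.Quotient.mk_eq_zero U).2 ⟨v, rfl⟩
            simp only [LinearMap.comp_apply, h0, map_zero, ZeroMemClass.coe_zero,
              Submodule.coe_subtype]
            exact (f (U.mkQ v)).2⟩, by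
            refine Subtype.ext (LinearMap.ext fun u => Subtype.ext ?_)
            have h0 : U.mkQ (u : V) = 0 := (Submodule.Quotient.mk_eq_zero U).2 u.2
            show ((LinearMap.ker N).subtype ∘ₗ f ∘ₗ U.mkQ) (u : V) = 0
            simp only [LinearMap.comp_apply, h0, map_zero, ZeroMemClass.coe_zero,
              Submodule.coe_subtype]⟩
        map_add' := fun f g => by
          apply Subtype.ext; apply Subtype.ext; apply LinearMap.ext; intro v
          simp
        map_smul' := fun c f => by
          apply Subtype.ext; apply Subtype.ext; apply LinearMap.ext; intro v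
          simp }
    have hG : Function.Injective G := by
      intro f g hfg
      refine LinearMap.ext fun x => Subtype.ext ?_
      obtain ⟨v, rfl⟩ := U.mkQ_surjective x
      exact LinearMap.congr_fun (congrArg Subtype.val (congrArg Subtype.val hfg)) v
    have hker := LinearMap.finrank_le_finrank_of_injective hG
    rw [Module.finrank_linearMap] at hker
    set a := Module.finrank K (LinearMap.ker N) with ha
    have hdim : Module.finrank K U + a = Module.finrank K V := N.finrank_range_add_finrank_ker
    have hquot : Module.finrank K (V ⧸ U) = a := by
      have := Submodule.finrank_quotient_add_finrank U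
      omega
    rw [hquot] at hker
    set d' := Module.finrank K U
    set c' := Module.finrank K (commutant N')
    set c := Module.finrank K (commutant N)
    set z := Module.finrank K (LinearMap.ker F)
    rw [← hdim]
    refine ⟨by nlinarith, ?_⟩
    rcases Nat.eq_zero_or_pos k with hk | hk
    · subst hk
      have : d' = 0 := by nlinarith
      nlinarith
    have e1 : (k * a : ℤ) * (k * a) ≥ 0 := mul_self_nonneg _
    have e2 := mul_self_nonneg ((k : ℤ) * a - d')
    have h2' : (d' : ℤ) * d' ≤ k * c' := by exact_mod_cast h2
    have hz : (a : ℤ) * a + c' ≤ c := by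
      have : a * a + c' ≤ c := by omega
      exact_mod_cast this
    have hgoal : ((d' : ℤ) + a) * (d' + a) ≤ (k + 1) * c := by
      have hkpos : (1 : ℤ) ≤ k := by exact_mod_cast hk
      have h5 : ((k : ℤ) + 1) * ((k : ℤ) * (a * a) + d' * d') ≤ ((k : ℤ) + 1) * ((k : ℤ) * c) := by
        refine mul_le_mul_of_nonneg_left ?_ (by linarith)
        have := mul_le_mul_of_nonneg_left hz (by linarith : (0 : ℤ) ≤ k)
        linarith
      refine le_of_mul_le_mul_left (a := (k : ℤ)) ?_ (by linarith)
      calc (k : ℤ) * ((d' + a) * (d' + a))
          ≤ ((k : ℤ) + 1) * ((k : ℤ) * (a * a) + d' * d') := by linarith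
        _ ≤ ((k : ℤ) + 1) * ((k : ℤ) * c) := h5
        _ = (k : ℤ) * ((k + 1) * c) := by ring
    exact_mod_cast hgoal

/-- Lower bounds for the centraliser of a nilpotent endomorphism. -/
theorem commutant_bounds {V : Type w} [AddCommGroup V] [Module K V] [FiniteDimensional K V]
    (N : Module.End K V) {k : ℕ} (hN : N ^ k = 0) :
    Module.finrank K V ≤ Module.finrank K (commutant N) ∧
      Module.finrank K V * Module.finrank K V ≤ k * Module.finrank K (commutant N) :=
  commutant_bounds_aux k N hN

end CfsgLib.Solvable.FPFOperators
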