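import Cfsg.Agent.Lib.Solvable.FPFOperators.FaithfulModule
import Mathlib.RingTheory.Flat.Basic
import Mathlib.RingTheory.TensorProduct.Basic

/-!
# An operator of prime order with a line of fixed points

A nilpotent group on which the operator has no fixed points acts through an abelian group.
-/

set_option autoImplicit false

namespace CfsgLib.Solvable.FPFOperators

open Subgroup CfsgLib
open scoped commutatorElement TensorProduct

universe u v w

/-- An element without fixed points on `Q` hits all of an invariant subgroup with commutators. -/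
theorem exists_conj_eq {Γ : Type u} [Group Γ] [Finite Γ] {Q T : Subgroup Γ} [T.Normal] (hTQ : T ≤ Q)
    {a : Γ} (hfix : ∀ y ∈ Q, a * y = y * a → y = 1) {z : Γ} (hz : z ∈ T) :
    ∃ y ∈ T, ⁅a, y⁆ = z := by
  let f : T → T := fun y => ⟨⁅a, (y : Γ)⁆, by
    rw [commutatorElement_def]
    exact mul_mem ((inferInstance : T.Normal).conj_mem _ y.2 a) (inv_mem y.2)⟩
  have hf : Function.Injective f := by
    rintro ⟨y, hy⟩ ⟨y', hy'⟩ he
    have he' : a * y * a⁻¹ * y⁻¹ = a * y' * a⁻¹ * y'⁻¹ := congrArg Subtype.val he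
    have h1 : y * a⁻¹ * y⁻¹ = y' * a⁻¹ * y'⁻¹ := by
      simpa [mul_assoc] using he'
    have h2 : Commute (y'⁻¹ * y) a⁻¹ := by
      show y'⁻¹ * y * a⁻¹ = a⁻¹ * (y'⁻¹ * y)
      calc y'⁻¹ * y * a⁻¹ = y'⁻¹ * (y * a⁻¹ * y⁻¹) * y := by group
        _ = a⁻¹ * (y'⁻¹ * y) := by rw [h1]; group
    exact Subtype.ext (inv_mul_eq_one.1 (hfix _ (mul_mem (inv_mem (hTQ hy')) (hTQ hy))
      (Commute.inv_right_iff.1 h2).symm.eq)).symm
  obtain ⟨⟨y, hy⟩, he⟩ := Finite.surjective_of_injective hf ⟨z, hz⟩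
  exact ⟨y, hy, congrArg Subtype.val he⟩

variable {K : Type v} [Field K] [IsAlgClosed K]

theorem one_line_linear_aux (k : ℕ) : ∀ {Γ : Type u} [Group Γ] [Finite Γ] {W : Type w}
    [AddCommGroup W] [Module K W] (Q : Subgroup Γ) [Q.Normal] (ρ : Γ →* Module.End K W) (a : Γ)
    (r : ℕ), r.Prime → a ^ r = 1 → (∀ y ∈ Q, a * y = y * a → y = 1) → Group.IsNilpotent Q →
    (Nat.card Q : K) ≠ 0 →
    (∀ X : Module.End K W, ∃ c : K,
      (∑ i ∈ Finset.range r, ρ (a ^ i)) * X * (∑ i ∈ Finset.range r, ρ (a ^ i)) =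
        c • ∑ i ∈ Finset.range r, ρ (a ^ i)) → Nat.card Q = k →
    ∀ y ∈ Q, ∀ z ∈ Q, ρ (y * z) = ρ (z * y) := by
  induction k using Nat.strong_induction_on with
  | _ k ih =>
  intro Γ _ _ W _ _ Q hQn ρ a r hr ha hfix hQnil hQK hline hk y hy z hz
  haveI := hQnil
  by_cases hQb : Q = ⊥
  · rw [hQb, mem_bot] at hy hz
    rw [hy, hz]
  set Z := (center Q).map Q.subtype with hZdef
  have hZQ : Z ≤ Q := map_subtype_le _
  have hZc : ∀ c ∈ Z, ∀ o ∈ Q, o * c = c * o := by
    rintro _ ⟨c, hc, rfl⟩ o ho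
    exact congrArg Subtype.val (mem_center_iff.1 hc ⟨o, ho⟩)
  haveI : Z.Normal := by rw [hZdef]; infer_instance
  haveI : Fintype Z := Fintype.ofFinite Z
  have hZne : Z ≠ ⊥ := by
    haveI : Nontrivial Q := (Subgroup.nontrivial_iff_ne_bot Q).2 hQb
    have hc := FrattiniFitting.inf_center_ne_bot (⊤ : Subgroup Q) (fun h0 => hQb (by
      have h1 := congrArg (Subgroup.map Q.subtype) h0
      rwa [← MonoidHom.range_eq_map, range_subtype, Subgroup.map_bot] at h1))
    rw [top_inf_eq] at hc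
    rwa [hZdef, Ne, Subgroup.map_eq_bot_iff_of_injective _ Q.subtype_injective]
  have hZcomm : IsMulCommutative Z :=
    isMulCommutative_iff.2 fun a b => Subtype.ext (hZc b b.2 a (hZQ a.2))
  have hZK : (Fintype.card Z : K) ≠ 0 := by
    rw [← Nat.card_eq_fintype_card]; exact natCast_ne_zero_of_dvd (card_dvd_of_le hZQ) hQK
  set P := ∑ i ∈ Finset.range r, ρ (a ^ i) with hP
  refine eq_of_forall_mul_weightIdem ρ hZcomm hZK fun l hl => ?_
  set e := weightIdem Z ρ l with he
  have hce : ∀ o ∈ Q, ρ o * e = e * ρ o := fun o ho => by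
    rw [he, map_mul_weightIdem_smul, dual_smul_eq_self_of_commute l fun c hc => hZc c hc o ho]
  have hee : e * e = e := weightIdem_mul_self ρ hZK l
  by_cases hl1 : l = 1
  swap
  · have hal : a • l ≠ l := fun hal => hl1 (MonoidHom.ext fun c => by
      obtain ⟨b, hb, hbc⟩ := exists_conj_eq (Q := Q) hZQ hfix c.2
      have h1 : (⟨⁅a, b⁆, hbc ▸ c.2⟩ : Z) = MulAut.conjNormal a ⟨b, hb⟩ * ⟨b, hb⟩⁻¹ := by
        refine Subtype.ext ?_
        rw [Subgroup.coe_mul, MulAut.conjNormal_apply, Subgroup.coe_inv]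
        rfl
      have h2 : c = ⟨⁅a, b⁆, hbc ▸ c.2⟩ := Subtype.ext hbc.symm
      have h3 : l (MulAut.conjNormal a ⟨b, hb⟩) = l ⟨b, hb⟩ := by
        conv_lhs => rw [← hal]
        rw [dual_smul_apply, ← MulAut.mul_apply, ← map_mul, inv_mul_cancel, map_one,
          MulAut.one_apply]
      rw [h2, h1, map_mul, map_inv, h3, mul_inv_cancel, MonoidHom.one_apply])
    have hePe : e * P * e = e := by
      rw [hP, Finset.mul_sum, Finset.sum_mul, Finset.sum_eq_single 0]
      · rw [pow_zero, map_one, mul_one]; exact hee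
      · intro i hi hi0
        rw [mul_assoc, he, map_mul_weightIdem_smul, ← mul_assoc]
        have hne : l ≠ a ^ i • l := fun heq => by
          have hord : orderOf a = r := ((Nat.dvd_prime hr).mp (orderOf_dvd_of_pow_eq_one ha)).resolve_left
            fun h1 => hal (by rw [orderOf_eq_one_iff.mp h1, one_smul])
          have hai : a ^ i ≠ 1 := fun h0 => by
            have hd := orderOf_dvd_of_pow_eq_one h0
            rw [hord] at hd
            exact absurd (Nat.le_of_dvd (Nat.pos_of_ne_zero hi0) hd)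
              (not_le.mpr (Finset.mem_range.mp hi))
          exact hal ((zpowers_le.2 heq.symm : zpowers (a ^ i) ≤ MulAction.stabilizer Γ l)
            (mem_zpowers_of_prime_pow hr ha hai))
        rw [weightIdem_orth ρ hne, zero_mul]
      · intro h0
        exact absurd (Finset.mem_range.mpr hr.pos) h0
    have hscal : ∀ o ∈ Q, ∃ c : K, ρ o * e = c • e := fun o ho => by
      obtain ⟨c, hc⟩ := hline (ρ o * e)
      refine ⟨c, ?_⟩
      have h1 : e * (P * (ρ o * e) * P) * e = ρ o * e := by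
        calc e * (P * (ρ o * e) * P) * e = e * P * (ρ o * (e * e)) * (P * e) := by
              rw [hee]; simp only [mul_assoc]
          _ = e * P * (e * ρ o) * (e * P * e) := by
              rw [← mul_assoc (ρ o) e e, hce o ho]; simp only [mul_assoc]
          _ = (e * P * e) * ρ o * (e * P * e) := by simp only [mul_assoc]
          _ = ρ o * e := by rw [hePe, ← hce o ho, mul_assoc, hee]
      rw [← h1, hc, mul_smul_comm, smul_mul_assoc, hePe]
    obtain ⟨c, hc⟩ := hscal y hy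
    obtain ⟨d, hd⟩ := hscal z hz
    rw [map_mul, map_mul, mul_assoc, hd, mul_smul_comm, hc, mul_assoc, hc, mul_smul_comm, hd]
    exact smul_comm d c e
  -- the trivial weight: smaller group
  subst hl1
  have hcome : ∀ g ∈ (⊤ : Subgroup Γ), ρ g * e = e * ρ g := fun g _ => by
    rw [he, map_mul_weightIdem_smul, dual_smul_one]
  obtain ⟨θ, hθap, hθeq, -, -⟩ := exists_range_rep ρ e ⊤ hcome
  let σ : Γ →* Module.End K (LinearMap.range e) :=
    θ.comp (Subgroup.topEquiv : (⊤ : Subgroup Γ) ≃* Γ).symm.toMonoidHom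
  have hσ : ∀ g g', σ g = σ g' ↔ ρ g * e = ρ g' * e := fun g g' => hθeq _ _
  have hσap : ∀ (g : Γ) (x : LinearMap.range e),
      ((σ g x : LinearMap.range e) : W) = ρ g (x : W) := fun g x => hθap _ x
  set K₀ := Q ⊓ σ.ker with hK₀
  set mk := QuotientGroup.mk' K₀ with hmk
  let σ' : Γ ⧸ K₀ →* Module.End K (LinearMap.range e) := QuotientGroup.lift K₀ σ inf_le_right
  haveI : (Q.map mk).Normal := hQn.map mk (QuotientGroup.mk'_surjective _)
  have hZker : Z ≤ K₀ := fun c hc => by
    refine ⟨hZQ hc, MonoidHom.mem_ker.mpr ?_⟩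
    have h1 : ρ c * e = ((1 : Z →* Kˣ) ⟨c, hc⟩ : K) • e := map_mem_mul_weightIdem ρ 1 ⟨c, hc⟩
    rw [MonoidHom.one_apply, Units.val_one, one_smul] at h1
    rw [← map_one σ, hσ, map_one, one_mul]
    exact h1
  have hlt : Nat.card (Q.map mk) < k := hk ▸ card_map_mk_lt (fun h0 => hZne (le_bot_iff.mp
    ((le_inf hZker hZQ).trans h0.le)))
  have hfix' : ∀ o ∈ Q.map mk, mk a * o = o * mk a → o = 1 := by
    rintro _ ⟨o, ho, rfl⟩ hao
    have h1 : ⁅a, o⁆ ∈ K₀ := by
      rw [← QuotientGroup.eq_one_iff]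
      show mk ⁅a, o⁆ = 1
      rw [map_commutatorElement, commutatorElement_eq_one_iff_mul_comm]
      exact hao
    obtain ⟨b, hb, hbc⟩ := exists_conj_eq (Q := Q) inf_le_left hfix h1
    have h2 : b⁻¹ * o = 1 := by
      refine hfix _ (mul_mem (inv_mem hb.1) ho) ?_
      have h3 : a * b * a⁻¹ * b⁻¹ = a * o * a⁻¹ * o⁻¹ := hbc
      calc a * (b⁻¹ * o) = (a * b * a⁻¹ * b⁻¹ * b)⁻¹ * (a * o * a⁻¹ * o⁻¹ * o) * a := by group
        _ = b⁻¹ * ((a * b * a⁻¹ * b⁻¹)⁻¹ * (a * o * a⁻¹ * o⁻¹)) * o * a := by group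
        _ = b⁻¹ * o * a := by rw [h3, inv_mul_cancel, mul_one]
    rw [show o = b from (inv_mul_eq_one.1 h2).symm]
    exact (QuotientGroup.eq_one_iff _).2 hb
  have hline' : ∀ X : Module.End K (LinearMap.range e), ∃ c : K,
      (∑ i ∈ Finset.range r, σ' (mk a ^ i)) * X * (∑ i ∈ Finset.range r, σ' (mk a ^ i)) =
        c • ∑ i ∈ Finset.range r, σ' (mk a ^ i) := by
    intro X
    obtain ⟨c, hc⟩ := hline ((LinearMap.range e).subtype ∘ₗ X ∘ₗ e.rangeRestrict)
    refine ⟨c, LinearMap.ext fun x => Subtype.ext ?_⟩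
    have hsum : ∀ x : LinearMap.range e,
        (((∑ i ∈ Finset.range r, σ' (mk a ^ i)) x : LinearMap.range e) : W) = P (x : W) := by
      intro x
      rw [LinearMap.sum_apply, hP, LinearMap.sum_apply, Submodule.coe_sum]
      refine Finset.sum_congr rfl fun i _ => ?_
      rw [← map_pow]
      exact hσap (a ^ i) x
    have hfixe : ∀ x : LinearMap.range e, e.rangeRestrict (x : W) = x := by
      rintro ⟨_, x, rfl⟩
      refine Subtype.ext ?_
      show e (e x) = e x
      exact LinearMap.congr_fun hee x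
    have h1 := LinearMap.congr_fun hc (x : W)
    simp only [Module.End.mul_apply, LinearMap.comp_apply, Submodule.coe_subtype,
      LinearMap.smul_apply] at h1
    simp only [Module.End.mul_apply, LinearMap.smul_apply, Submodule.coe_smul, hsum]
    rw [← hsum x, hfixe] at h1
    rw [← hsum x]
    exact h1
  haveI : Group.IsNilpotent (Q.map mk) :=
    Group.nilpotent_of_surjective _ (mk.subgroupMap_surjective Q)
  have h2 := ih _ hlt (Q.map mk) σ' (mk a) r hr (by rw [← map_pow, ha, map_one]) hfix' inferInstance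
    (natCast_ne_zero_of_dvd (Q.card_map_dvd _) hQK) hline' rfl (mk y) (mem_map_of_mem _ hy) (mk z)
    (mem_map_of_mem _ hz)
  rw [← map_mul, ← map_mul] at h2
  exact (hσ (y * z) (z * y)).1 h2

/-- A nilpotent group with such an operator acts through an abelian group. -/
theorem one_line_linear {Γ : Type u} [Group Γ] [Finite Γ] {W : Type w} [AddCommGroup W]
    [Module K W] (Q : Subgroup Γ) [Q.Normal] [Group.IsNilpotent Q] (ρ : Γ →* Module.End K W)
    {a : Γ} {r : ℕ} (hr : r.Prime) (ha : a ^ r = 1) (hfix : ∀ y ∈ Q, a * y = y * a → y = 1)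
    (hQK : (Nat.card Q : K) ≠ 0)
    (hline : ∀ X : Module.End K W, ∃ c : K,
      (∑ i ∈ Finset.range r, ρ (a ^ i)) * X * (∑ i ∈ Finset.range r, ρ (a ^ i)) =
        c • ∑ i ∈ Finset.range r, ρ (a ^ i)) {y z : Γ} (hy : y ∈ Q) (hz : z ∈ Q) :
    ρ (y * z) = ρ (z * y) :=
  one_line_linear_aux _ Q ρ a r hr ha hfix inferInstance hQK hline rfl y hy z hz

omit [IsAlgClosed K] in
/-- An element with at most a line of fixed points, after extending scalars. -/
theorem exists_line_rep {Γ : Type u} [Group Γ] {ℓ : ℕ} [Fact ℓ.Prime] {A : Type w} [CommGroup A]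
    [Algebra (ZMod ℓ) K] (hA : ∀ b : A, b ^ ℓ = 1) (φ : Γ →* MulAut A) {a : Γ} {r : ℕ}
    (ha : a ^ r = 1) {w : A} (hw : ∀ b, φ a b = b → b ∈ zpowers w) :
    ∃ (W : Type (max v w)) (_ : AddCommGroup W) (_ : Module K W) (ρ : Γ →* Module.End K W),
      (∀ g, ρ g = 1 → ∀ b, φ g b = b) ∧
      ∀ X : Module.End K W, ∃ c : K,
        (∑ i ∈ Finset.range r, ρ (a ^ i)) * X * (∑ i ∈ Finset.range r, ρ (a ^ i)) =
          c • ∑ i ∈ Finset.range r, ρ (a ^ i) := by
  obtain ⟨mod, ρ₀, hρ₀⟩ := exists_linear hA φ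
  letI := mod
  let Φ : Module.End (ZMod ℓ) (Additive A) →ₐ[ZMod ℓ] Module.End K (K ⊗[ZMod ℓ] Additive A) :=
    Module.End.baseChangeHom (ZMod ℓ) K (Additive A)
  refine ⟨K ⊗[ZMod ℓ] Additive A, inferInstance, inferInstance,
    Φ.toRingHom.toMonoidHom.comp ρ₀, fun g hg b => ?_, fun X => ?_⟩
  · have h1 : ρ₀ g = 1 := by
      refine LinearMap.baseChangeHom_injective (R := ZMod ℓ) (S := K) (M := Additive A) (N := Additive A) ?_
      exact hg.trans (map_one Φ).symm
    have h2 := hρ₀ g b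
    rw [h1, Module.End.one_apply] at h2
    exact (Additive.ofMul.injective h2).symm
  set P₀ := ∑ i ∈ Finset.range r, ρ₀ (a ^ i) with hP₀
  have hP : ∑ i ∈ Finset.range r, (Φ.toRingHom.toMonoidHom.comp ρ₀) (a ^ i) = Φ P₀ := by
    rw [hP₀, map_sum]; rfl
  rw [hP]
  set w' : K ⊗[ZMod ℓ] Additive A := (1 : K) ⊗ₜ Additive.ofMul w with hw'
  have hPw : ∀ x, ∃ c : K, Φ P₀ x = c • w' := by
    intro x
    induction x using TensorProduct.induction_on with
    | zero => exact ⟨0, by rw [map_zero, zero_smul]⟩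
    | add x x' hx hx' =>
      obtain ⟨c, hc⟩ := hx
      obtain ⟨c', hc'⟩ := hx'
      exact ⟨c + c', by rw [map_add, hc, hc', add_smul]⟩
    | tmul k b =>
      have hfixed : ρ₀ a (P₀ b) = P₀ b := by
        rw [hP₀, LinearMap.sum_apply, map_sum]
        have h1 := Finset.sum_range_succ (fun i => ρ₀ (a ^ i) b) r
        rw [Finset.sum_range_succ' (fun i => ρ₀ (a ^ i) b) r, ha, pow_zero] at h1
        rw [add_right_cancel_iff] at h1
        refine Eq.trans (Finset.sum_congr rfl fun i _ => ?_) h1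
        rw [pow_succ', map_mul]
        rfl
      obtain ⟨j, hj⟩ := mem_zpowers_iff.1 (hw (P₀ b).toMul (Additive.ofMul.injective
        ((hρ₀ a (P₀ b).toMul).symm.trans hfixed)))
      refine ⟨k * (j : ZMod ℓ) • (1 : K), ?_⟩
      show k ⊗ₜ P₀ b = _
      have hPb : P₀ b = (j : ZMod ℓ) • Additive.ofMul w := by
        rw [Int.cast_smul_eq_zsmul]
        exact (congrArg Additive.ofMul hj).symm.trans (ofMul_zpow j w)
      rw [hPb, TensorProduct.tmul_smul, hw', TensorProduct.smul_tmul', TensorProduct.smul_tmul']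
      simp
  obtain ⟨c, hc⟩ := hPw (X w')
  refine ⟨c, LinearMap.ext fun x => ?_⟩
  obtain ⟨d, hd⟩ := hPw x
  rw [Module.End.mul_apply, Module.End.mul_apply, LinearMap.smul_apply, hd, map_smul, map_smul, hc,
    smul_comm]

end CfsgLib.Solvable.FPFOperators
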