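import Cfsg.Agent.Lib.Solvable.FPFOperators.PQTools
import Cfsg.Agent.Lib.Solvable.FPFOperators.TwoLayers

/-!
# A non-abelian group of operators of order `p * q` without fixed points

`A` has order `p * q`, `n` generates its normal subgroup of order `q`; the data of the linear lemma
and the facts about weights and blocks.
-/

set_option autoImplicit false

namespace CfsgLib.Solvable.FPFOperators

open Subgroup CfsgLib
open scoped commutatorElement

universe u v w

variable {K : Type v} [Field K] {W : Type w} [AddCommGroup W] [Module K W]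

/-- `A` is a group of order `p * q` whose subgroup `zpowers n` of order `q` is normal and has only
elements of order `p` outside. -/
structure PQOps {Γ : Type u} [Group Γ] (p q : ℕ) (n : Γ) (A : Subgroup Γ) : Prop where
  hp : p.Prime
  hq : q.Prime
  mem : n ∈ A
  ne_one : n ≠ 1
  npow : n ^ q = 1
  norm : ∀ a ∈ A, a * n * a⁻¹ ∈ zpowers n
  outer : ∀ a ∈ A, a ∉ zpowers n → a ^ p = 1 ∧ ∀ b ∈ A, ∃ i j : ℕ, b = n ^ i * a ^ j
  card : Nat.card A = p * q
  solvA : Group.IsSolvable A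

/-- The data of the linear lemma. -/
structure PQData {Γ : Type u} [Group Γ] [Finite Γ] (p q t s : ℕ) (n : Γ) (A Q S : Subgroup Γ)
    (ρ : Γ →* Module.End K W) : Prop where
  ops : PQOps p q n A
  htp : t ≠ p
  htq : t ≠ q
  hsp : s ≠ p
  hsq : s ≠ q
  hts : t ≠ s
  tK : (t : K) ≠ 0
  pK : (p : K) ≠ 0
  qK : (q : K) ≠ 0
  exc : ∀ m, 1 ≤ m → q - 1 ≠ t ^ m
  pQ : IsPGroup t Q
  pS : IsPGroup s S
  normS : A ≤ normalizer (S : Set Γ)
  fixQ : ∀ y ∈ Q, (∀ a ∈ A, a * y = y * a) → y = 1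
  fixS : ∀ x ∈ S, (∀ a ∈ A, a * x = x * a) → x = 1
  sum : ∑ a ∈ (A : Set Γ).toFinite.toFinset, ρ a = 0
  fixOp : ∀ y ∈ Q, n * y = y * n → (ρ y - 1) * ∑ i ∈ Finset.range q, ρ (n ^ i) = 0
  centr : ∀ y ∈ Q, n * y = y * n → ∀ x ∈ S, n * x = x * n → ρ (y * x) = ρ (x * y)

theorem mem_zpowers_of_prime_pow {Γ : Type*} [Group Γ] {c : Γ} {r i : ℕ} (hr : r.Prime)
    (hc : c ^ r = 1) (hi : c ^ i ≠ 1) : c ∈ zpowers (c ^ i) := by
  have hcop : i.Coprime (orderOf c) :=
    Nat.Coprime.coprime_dvd_right (orderOf_dvd_of_pow_eq_one hc)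
      (hr.coprime_iff_not_dvd.mpr fun hd => hi (by
        obtain ⟨k, rfl⟩ := hd; rw [pow_mul, hc, one_pow])).symm
  obtain ⟨m, hm⟩ := exists_pow_eq_self_of_coprime hcop
  exact mem_zpowers_iff.mpr ⟨m, by rw [zpow_natCast, hm]⟩

variable {Γ : Type u} [Group Γ] [Finite Γ] {p q t s : ℕ} {n : Γ} {A Q S : Subgroup Γ}
  {ρ : Γ →* Module.End K W}

theorem PQOps.map {Δ : Type*} [Group Δ] (h : PQOps p q n A) (f : Γ →* Δ)
    (hf : ∀ a ∈ A, f a = 1 → a = 1) : PQOps p q (f n) (A.map f) where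
  hp := h.hp
  hq := h.hq
  mem := Subgroup.mem_map_of_mem f h.mem
  ne_one := fun he => h.ne_one (hf n h.mem he)
  npow := by rw [← map_pow, h.npow, map_one]
  norm := by
    rintro _ ⟨a, ha, rfl⟩
    rw [← map_inv, ← map_mul, ← map_mul, ← MonoidHom.map_zpowers]
    exact Subgroup.mem_map_of_mem f (h.norm a ha)
  outer := by
    rintro _ ⟨a, ha, rfl⟩ hne
    obtain ⟨h1, h2⟩ := h.outer a ha fun h0 => hne (by
      rw [← MonoidHom.map_zpowers]; exact Subgroup.mem_map_of_mem f h0)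
    refine ⟨by rw [← map_pow, h1, map_one], ?_⟩
    rintro _ ⟨b, hb, rfl⟩
    obtain ⟨i, j, rfl⟩ := h2 b hb
    exact ⟨i, j, by rw [map_mul, map_pow, map_pow]⟩
  card := by
    rw [← h.card]
    exact (Nat.card_congr (Equiv.ofBijective (f.subgroupMap A)
      ⟨(injective_iff_map_eq_one _).mpr fun a he => Subtype.ext
        (hf a a.2 (congrArg Subtype.val he)), f.subgroupMap_surjective A⟩)).symm
  solvA := by
    haveI := h.solvA
    exact Group.isSolvable_of_surjective (f := f.subgroupMap A) (f.subgroupMap_surjective A)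

theorem PQOps.subgroupOf (h : PQOps p q n A) {X : Subgroup Γ} (hAX : A ≤ X) :
    PQOps p q (⟨n, hAX h.mem⟩ : X) (A.subgroupOf X) where
  hp := h.hp
  hq := h.hq
  mem := h.mem
  ne_one := fun he => h.ne_one (congrArg Subtype.val he)
  npow := Subtype.ext h.npow
  norm := fun a ha => by
    obtain ⟨i, hi⟩ := mem_zpowers_iff.mp (h.norm _ ha)
    exact mem_zpowers_iff.mpr ⟨i, Subtype.ext (by simpa using hi)⟩
  outer := fun a ha hne => by
    obtain ⟨h1, h2⟩ := h.outer _ ha fun h0 => hne (by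
      obtain ⟨i, hi⟩ := mem_zpowers_iff.mp h0
      exact mem_zpowers_iff.mpr ⟨i, Subtype.ext (by simpa using hi)⟩)
    refine ⟨Subtype.ext h1, fun b hb => ?_⟩
    obtain ⟨i, j, hij⟩ := h2 _ hb
    exact ⟨i, j, Subtype.ext hij⟩
  card := by rw [Nat.card_congr (subgroupOfEquivOfLe hAX).toEquiv, h.card]
  solvA := by
    haveI := h.solvA
    exact Group.isSolvable_of_surjective (f := (subgroupOfEquivOfLe hAX).symm.toMonoidHom)
      (subgroupOfEquivOfLe hAX).symm.surjective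

theorem PQOps.orderOf_eq (h : PQOps p q n A) : orderOf n = q :=
  ((Nat.dvd_prime h.hq).mp (orderOf_dvd_of_pow_eq_one h.npow)).resolve_left fun h1 =>
    h.ne_one (orderOf_eq_one_iff.mp h1)

theorem PQOps.coprime_card (h : PQOps p q n A) {T : Subgroup Γ} {t : ℕ} [Fact t.Prime]
    (hT : IsPGroup t T) (hp : t ≠ p) (hq : t ≠ q) : (Nat.card A).Coprime (Nat.card T) := by
  obtain ⟨i, hi⟩ := IsPGroup.iff_card.mp hT
  rw [h.card, hi]
  exact Nat.Coprime.pow_right i (Nat.Coprime.mul_left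
    ((Nat.coprime_primes h.hp Fact.out).2 hp.symm) ((Nat.coprime_primes h.hq Fact.out).2 hq.symm))

theorem PQOps.conj_commute (h : PQOps p q n A) {a x : Γ} (ha : a ∈ A) (hx : n * x = x * n) :
    n * (a * x * a⁻¹) = a * x * a⁻¹ * n := by
  obtain ⟨i, hi⟩ := mem_zpowers_iff.mp (h.norm _ (inv_mem ha))
  rw [inv_inv] at hi
  have h1 : Commute (a⁻¹ * n * a) x := by rw [← hi]; exact Commute.zpow_left hx i
  calc n * (a * x * a⁻¹) = a * (a⁻¹ * n * a * x) * a⁻¹ := by group
    _ = a * (x * (a⁻¹ * n * a)) * a⁻¹ := by rw [h1.eq]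
    _ = a * x * a⁻¹ * n := by group

/-- An element commuting with `n` and an outer element commutes with all of `A`. -/
theorem PQOps.commute_all (h : PQOps p q n A) {a x : Γ} (ha : a ∈ A) (hne : a ∉ zpowers n)
    (hn : n * x = x * n) (hax : a * x = x * a) : ∀ b ∈ A, b * x = x * b := by
  intro b hb
  obtain ⟨i, j, rfl⟩ := (h.outer a ha hne).2 b hb
  exact (((show Commute n x from hn).pow_left i).mul_left ((show Commute a x from hax).pow_left j)).eq

/-- Passing to a subgroup containing the operators. -/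
theorem PQData.sub (h : PQData p q t s n A Q S ρ) {X Q₀ S₀ : Subgroup Γ} (hAX : A ≤ X)
    (hQ : Q₀ ≤ Q) (hS : S₀ ≤ S) (hSn : A ≤ normalizer (S₀ : Set Γ))
    (hQX : Q₀ ≤ X) (hSX : S₀ ≤ X) :
    PQData p q t s (⟨n, hAX h.ops.mem⟩ : X) (A.subgroupOf X) (Q₀.subgroupOf X) (S₀.subgroupOf X)
      (ρ.comp X.subtype) where
  ops := h.ops.subgroupOf hAX
  htp := h.htp
  htq := h.htq
  hsp := h.hsp
  hsq := h.hsq
  hts := h.hts
  tK := h.tK
  pK := h.pK
  qK := h.qK
  exc := h.exc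
  pQ := (h.pQ.to_le hQ).of_equiv (subgroupOfEquivOfLe hQX).symm
  pS := (h.pS.to_le hS).of_equiv (subgroupOfEquivOfLe hSX).symm
  normS := fun a ha => mem_normalizer_iff.2 fun x => mem_normalizer_iff.1 (hSn ha) (x : Γ)
  fixQ := fun y hy hf => Subtype.ext (h.fixQ _ (hQ hy) fun a ha =>
    congrArg Subtype.val (hf ⟨a, hAX ha⟩ ha))
  fixS := fun y hy hf => Subtype.ext (h.fixS _ (hS hy) fun a ha =>
    congrArg Subtype.val (hf ⟨a, hAX ha⟩ ha))
  sum := by
    rw [← h.sum]
    refine Finset.sum_nbij (fun a => (a : Γ)) ?_ ?_ ?_ fun a _ => rfl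
    · intro a ha
      simpa [Subgroup.mem_subgroupOf] using ha
    · intro a _ b _ hab
      exact Subtype.ext hab
    · intro a ha
      have ha' : a ∈ A := by simpa using ha
      exact ⟨⟨a, hAX ha'⟩, by simpa [Subgroup.mem_subgroupOf] using ha', rfl⟩
  fixOp := fun y hy hny => by
    have := h.fixOp (y : Γ) (hQ hy) (congrArg Subtype.val hny)
    simpa using this
  centr := fun y hy hny x hx hnx => by
    have := h.centr (y : Γ) (hQ hy) (congrArg Subtype.val hny) (x : Γ) (hS hx)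
      (congrArg Subtype.val hnx)
    simpa using this

/-- Passing to another representation with a larger kernel. -/
theorem PQData.of_rep {W' : Type w} [AddCommGroup W'] [Module K W'] (h : PQData p q t s n A Q S ρ)
    (σ : Γ →* Module.End K W') (hsum : ∑ a ∈ (A : Set Γ).toFinite.toFinset, σ a = 0)
    (hfix : ∀ y ∈ Q, n * y = y * n → (σ y - 1) * ∑ i ∈ Finset.range q, σ (n ^ i) = 0)
    (hker : ∀ y x : Γ, ρ (y * x) = ρ (x * y) → σ (y * x) = σ (x * y)) :
    PQData p q t s n A Q S σ :=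
  { h with
    sum := hsum
    fixOp := hfix
    centr := fun y hy hny x hx hnx => hker y x (h.centr y hy hny x hx hnx) }

/-- Passing to the quotient by the kernel inside `Q`. -/
theorem PQData.descend [Fact t.Prime] [Fact s.Prime] [hQn : Q.Normal]
    (h : PQData p q t s n A Q S ρ) :
    ∃ ρ' : Γ ⧸ (Q ⊓ ρ.ker) →* Module.End K W, (∀ g, ρ' (QuotientGroup.mk' _ g) = ρ g) ∧
      PQData p q t s (QuotientGroup.mk' (Q ⊓ ρ.ker) n) (A.map (QuotientGroup.mk' (Q ⊓ ρ.ker)))
        (Q.map (QuotientGroup.mk' (Q ⊓ ρ.ker))) (S.map (QuotientGroup.mk' (Q ⊓ ρ.ker))) ρ' := by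
  set K₀ := Q ⊓ ρ.ker with hK₀
  set mk := QuotientGroup.mk' K₀ with hmk
  refine ⟨QuotientGroup.lift K₀ ρ inf_le_right, fun g => rfl, ?_⟩
  have hQA : A ≤ normalizer (Q : Set Γ) := by rw [normalizer_eq_top]; exact le_top
  have hcopQ := h.ops.coprime_card h.pQ h.htp h.htq
  have hcopS := h.ops.coprime_card h.pS h.hsp h.hsq
  have hinj : ∀ a ∈ A, mk a = 1 → a = 1 := fun a ha he => by
    have h1 : a ∈ A ⊓ Q := ⟨ha, ((QuotientGroup.eq_one_iff a).mp he).1⟩
    rwa [(disjoint_of_coprime_natCard hcopQ).eq_bot, mem_bot] at h1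
  have lift1 : ∀ {T : Subgroup Γ}, A ≤ normalizer (T : Set Γ) →
      (Nat.card A).Coprime (Nat.card T) → ∀ y ∈ T, mk n * mk y = mk y * mk n →
      ∃ y' ∈ T, n * y' = y' * n ∧ mk y' = mk y := by
    intro T hT hc y hy he
    obtain ⟨y', hy', hf, hm⟩ := exists_fixed_of_map (A := zpowers n) (K₀ := K₀)
      ((zpowers_le.2 h.ops.mem).trans hT) (Coprime.coprime_of_le hc (zpowers_le.2 h.ops.mem) le_rfl)
      (Coprime.isSolvable_zpowers n) hy fun b hb => by
        obtain ⟨i, rfl⟩ := mem_zpowers_iff.mp hb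
        rw [map_zpow]
        exact (Commute.zpow_left he i)
    exact ⟨y', hy', hf n (mem_zpowers n), hm⟩
  exact
    { ops := h.ops.map mk hinj
      htp := h.htp
      htq := h.htq
      hsp := h.hsp
      hsq := h.hsq
      hts := h.hts
      tK := h.tK
      pK := h.pK
      qK := h.qK
      exc := h.exc
      pQ := h.pQ.map mk
      pS := h.pS.map mk
      normS := (Subgroup.map_mono h.normS).trans (le_normalizer_map _)
      fixQ := by
        rintro _ ⟨y, hy, rfl⟩ hf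
        obtain ⟨y', hy', hf', hm⟩ := exists_fixed_of_map (A := A) hQA hcopQ h.ops.solvA hy
          fun a ha => hf _ (Subgroup.mem_map_of_mem _ ha)
        rw [← hm, h.fixQ y' hy' hf', map_one]
      fixS := by
        rintro _ ⟨y, hy, rfl⟩ hf
        obtain ⟨y', hy', hf', hm⟩ := exists_fixed_of_map (A := A) (K₀ := K₀) h.normS hcopS h.ops.solvA
          hy fun a ha => hf _ (Subgroup.mem_map_of_mem _ ha)
        rw [← hm, h.fixS y' hy' hf', map_one]
      sum := by
        rw [← h.sum]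
        symm
        refine Finset.sum_nbij (fun a => mk a) ?_ ?_ ?_ fun a _ => rfl
        · intro a ha
          have ha' : a ∈ A := by simpa using ha
          simpa using Subgroup.mem_map_of_mem mk ha'
        · intro a ha b hb hab
          have ha' : a ∈ A := by simpa using ha
          have hb' : b ∈ A := by simpa using hb
          exact (inv_mul_eq_one.mp (hinj _ (mul_mem (inv_mem ha') hb')
            (by rw [map_mul, map_inv, inv_mul_eq_one]; exact hab)))
        · intro a ha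
          have ha' : a ∈ A.map mk := by simpa using ha
          obtain ⟨b, hb, rfl⟩ := ha'
          exact ⟨b, by simpa using hb, rfl⟩
      fixOp := by
        rintro _ ⟨y, hy, rfl⟩ he
        obtain ⟨y', hy', hf, hm⟩ := lift1 hQA hcopQ y hy he
        rw [← hm]
        simp only [← map_pow]
        exact h.fixOp y' hy' hf
      centr := by
        rintro _ ⟨y, hy, rfl⟩ he _ ⟨x, hx, rfl⟩ hex
        obtain ⟨y', hy', hf, hm⟩ := lift1 hQA hcopQ y hy he
        obtain ⟨x', hx', hfx, hmx⟩ := lift1 h.normS hcopS x hx hex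
        rw [← hm, ← hmx, ← map_mul, ← map_mul]
        exact h.centr y' hy' hf x' hx' hfx }

/-! ### Weights -/

section Weights

variable [IsAlgClosed K] {Z : Subgroup Γ} [Fintype Z] [Z.Normal]

/-- Sandwiched between a weight idempotent only the stabiliser survives. -/
theorem PQData.sum_sandwich (h : PQData p q t s n A Q S ρ) (hZK : (Fintype.card Z : K) ≠ 0)
    (l : Z →* Kˣ) [DecidablePred fun a : Γ => a • l = l] :
    (∑ a ∈ (A : Set Γ).toFinite.toFinset.filter (fun a => a • l = l), ρ a) * weightIdem Z ρ l = 0 := by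
  set e := weightIdem Z ρ l with he
  have h0 : ∑ a ∈ (A : Set Γ).toFinite.toFinset, e * ρ a * e = 0 := by
    rw [← Finset.sum_mul, ← Finset.mul_sum, h.sum, mul_zero, zero_mul]
  rw [Finset.sum_mul, ← h0]
  refine (Finset.sum_congr rfl fun a ha => ?_).trans
    (Finset.sum_subset (Finset.filter_subset _ _) fun a ha hna => ?_)
  · have hfix := (Finset.mem_filter.mp ha).2
    rw [show e * ρ a = ρ a * e by rw [he, map_mul_weightIdem_smul, hfix], mul_assoc,
      weightIdem_mul_self ρ hZK l]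
  · rw [mul_assoc, he, map_mul_weightIdem_smul, ← mul_assoc,
      weightIdem_orth ρ fun heq => hna (Finset.mem_filter.mpr ⟨ha, heq.symm⟩), zero_mul]

/-- A weight that occurs is fixed by some operator. -/
theorem PQData.exists_stab (h : PQData p q t s n A Q S ρ) (hZK : (Fintype.card Z : K) ≠ 0)
    {l : Z →* Kˣ} (hl : weightIdem Z ρ l ≠ 0) : ∃ a ∈ A, a ≠ 1 ∧ a • l = l := by
  classical
  by_contra hno
  push Not at hno
  refine hl ?_
  have h0 := h.sum_sandwich hZK l
  rwa [Finset.sum_eq_single 1, map_one, one_mul] at h0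
  · intro a ha ha1
    obtain ⟨haA, haf⟩ := Finset.mem_filter.mp ha
    exact absurd haf (hno a (by simpa using haA) ha1)
  · intro h1
    exact absurd (Finset.mem_filter.mpr ⟨(Set.Finite.mem_toFinset _).mpr (one_mem A), one_smul Γ l⟩) h1

/-- The norm of the stabiliser vanishes on the block. -/
theorem PQData.block_sum (h : PQData p q t s n A Q S ρ) (hZK : (Fintype.card Z : K) ≠ 0)
    {l : Z →* Kˣ} {c : Γ} {r : ℕ} (hr : r.Prime) (hc : c ^ r = 1) (hc1 : c ≠ 1) (hcA : c ∈ A)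
    (hstab : ∀ a ∈ A, a • l = l ↔ a ∈ zpowers c) :
    (∑ i ∈ Finset.range r, ρ (c ^ i)) * weightIdem Z ρ l = 0 := by
  classical
  refine Eq.trans (congrArg (· * _) ?_) (h.sum_sandwich hZK l)
  have hord : orderOf c = r := ((Nat.dvd_prime hr).mp (orderOf_dvd_of_pow_eq_one hc)).resolve_left
    fun h1 => hc1 (orderOf_eq_one_iff.mp h1)
  refine Finset.sum_nbij (fun i => c ^ i) ?_ ?_ ?_ fun i _ => rfl
  · intro i _
    exact Finset.mem_filter.mpr ⟨by simpa using pow_mem hcA i,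
      (hstab _ (pow_mem hcA i)).mpr (pow_mem (mem_zpowers c) i)⟩
  · intro i hi j hj hij
    exact pow_injOn_Iio_orderOf (by simpa [hord] using hi) (by simpa [hord] using hj) hij
  · intro a ha
    obtain ⟨haA, haf⟩ := Finset.mem_filter.mp (Finset.mem_coe.mp ha)
    obtain ⟨i, hi⟩ := ((isOfFinOrder_of_finite c).mem_powers_iff_mem_zpowers).mpr
      ((hstab a (by simpa using haA)).mp haf)
    have hi' : c ^ i = a := hi
    exact ⟨i % r, by simpa using Nat.mod_lt i hr.pos, by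
      show c ^ (i % r) = a
      rw [← pow_eq_pow_mod i hc, hi']⟩

/-- A weight fixed by all operators is trivial. -/
theorem PQData.eq_one_of_fixed [Fact t.Prime] (h : PQData p q t s n A Q S ρ) (hZQ : Z ≤ Q)
    (hZc : IsMulCommutative Z) {l : Z →* Kˣ} (hl : ∀ a ∈ A, a • l = l) : l = 1 := by
  refine MonoidHom.ext fun z => ?_
  haveI : Fintype A := Fintype.ofFinite A
  haveI := hZc
  letI : CommGroup Z := { (inferInstance : Group Z) with mul_comm := mul_comm' }
  let P : Z := ∏ a : A, MulAut.conjNormal (a : Γ) z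
  have hPfix : ∀ b : A, MulAut.conjNormal (b : Γ) P = P := fun b => by
    show MulAut.conjNormal (b : Γ) (∏ a : A, MulAut.conjNormal (a : Γ) z) = _
    rw [map_prod]
    refine Fintype.prod_equiv (Equiv.mulLeft b) _ _ fun a => ?_
    rw [← MulAut.mul_apply, ← map_mul]; rfl
  have hP1 : P = 1 := Subtype.ext (h.fixQ P (hZQ P.2) fun a ha => by
    have := congrArg Subtype.val (hPfix ⟨a, ha⟩)
    rw [MulAut.conjNormal_apply] at this
    conv_rhs => rw [← this]
    group)
  have hlP := congrArg l hP1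
  rw [map_prod, map_one] at hlP
  have hl' : ∀ a : A, l (MulAut.conjNormal (a : Γ) z) = l z := fun a => by
    conv_rhs => rw [← hl _ (inv_mem a.2)]
    rw [dual_smul_apply, inv_inv]
  rw [Finset.prod_congr rfl fun a _ => hl' a, Finset.prod_const, Finset.card_univ,
    ← Nat.card_eq_fintype_card] at hlP
  have hz1 : l z ^ Nat.card Z = 1 := by rw [← map_pow, pow_card_eq_one', map_one]
  have hcop : (Nat.card A).Coprime (Nat.card Z) :=
    (h.ops.coprime_card h.pQ h.htp h.htq).coprime_dvd_right (card_dvd_of_le hZQ)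
  have h3 := pow_gcd_eq_one.mpr ⟨hlP, hz1⟩
  rwa [hcop.gcd_eq_one, pow_one] at h3

/-- An operator outside `zpowers n` fixing a moved weight generates the stabiliser. -/
theorem PQData.stab_outer (h : PQData p q t s n A Q S ρ) {l : Z →* Kˣ} (hn : n • l ≠ l) {a : Γ}
    (ha : a ∈ A) (hal : a • l = l) (ha1 : a ≠ 1) :
    a ∉ zpowers n ∧ ∀ b ∈ A, b • l = l ↔ b ∈ zpowers a := by
  have hane : a ∉ zpowers n := by
    intro h0
    obtain ⟨i, hi⟩ := ((isOfFinOrder_of_finite n).mem_powers_iff_mem_zpowers).mpr h0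
    have hi' : n ^ i = a := hi
    exact hn ((zpowers_le.2 (show n ^ i ∈ MulAction.stabilizer Γ l by rw [hi']; exact hal) :
      zpowers (n ^ i) ≤ MulAction.stabilizer Γ l)
        (mem_zpowers_of_prime_pow h.ops.hq h.ops.npow (hi' ▸ ha1)))
  refine ⟨hane, fun b hb => ⟨fun hbl => ?_, fun hba =>
    (zpowers_le.2 hal : zpowers a ≤ MulAction.stabilizer Γ l) hba⟩⟩
  obtain ⟨i, j, rfl⟩ := (h.ops.outer a ha hane).2 b hb
  by_cases hni : n ^ i = 1
  · rw [hni, one_mul]; exact pow_mem (mem_zpowers a) j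
  exfalso
  rw [mul_smul, show a ^ j • l = l from
    (zpowers_le.2 hal : zpowers a ≤ MulAction.stabilizer Γ l) (pow_mem (mem_zpowers a) j)] at hbl
  exact hn ((zpowers_le.2 hbl : zpowers (n ^ i) ≤ MulAction.stabilizer Γ l)
    (mem_zpowers_of_prime_pow h.ops.hq h.ops.npow hni))

/-- A weight fixed by `n` has stabiliser `zpowers n` or is trivial. -/
theorem PQData.stab_inner [Fact t.Prime] (h : PQData p q t s n A Q S ρ) (hZQ : Z ≤ Q)
    (hZc : IsMulCommutative Z) {l : Z →* Kˣ} (hl1 : l ≠ 1) (hn : n • l = l) :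
    ∀ b ∈ A, b • l = l ↔ b ∈ zpowers n := by
  refine fun b hb => ⟨fun hbl => ?_, fun hbn =>
    (zpowers_le.2 hn : zpowers n ≤ MulAction.stabilizer Γ l) hbn⟩
  by_contra hne
  refine hl1 (h.eq_one_of_fixed hZQ hZc fun a ha => ?_)
  obtain ⟨i, j, rfl⟩ := (h.ops.outer b hb hne).2 a ha
  exact MulAction.mem_stabilizer_iff.mp (mul_mem
    ((zpowers_le.2 hn : zpowers n ≤ MulAction.stabilizer Γ l) (pow_mem (mem_zpowers n) i))
    ((zpowers_le.2 hbl : zpowers b ≤ MulAction.stabilizer Γ l) (pow_mem (mem_zpowers b) j)))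

/-- A fixed point of `n` is trivial on a block that `n` moves. -/
theorem PQData.fix_block (h : PQData p q t s n A Q S ρ) (hZK : (Fintype.card Z : K) ≠ 0)
    {l : Z →* Kˣ} (hn : n • l ≠ l) {y : Γ} (hy : y ∈ Q) (hny : n * y = y * n)
    (hye : ρ y * weightIdem Z ρ l = weightIdem Z ρ l * ρ y) :
    ρ y * weightIdem Z ρ l = weightIdem Z ρ l := by
  set e := weightIdem Z ρ l with he
  have hN : e * (∑ i ∈ Finset.range q, ρ (n ^ i)) * e = e := by
    rw [Finset.mul_sum, Finset.sum_mul, Finset.sum_eq_single 0]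
    · rw [pow_zero, map_one, mul_one]; exact weightIdem_mul_self ρ hZK l
    · intro i hi hi0
      rw [mul_assoc, he, map_mul_weightIdem_smul, ← mul_assoc]
      have hne : l ≠ n ^ i • l := fun heq => by
        have hni : n ^ i ≠ 1 := fun h0 => by
          have hd := orderOf_dvd_of_pow_eq_one h0
          rw [h.ops.orderOf_eq] at hd
          exact absurd (Nat.le_of_dvd (Nat.pos_of_ne_zero hi0) hd)
            (not_le.mpr (Finset.mem_range.mp hi))
        exact hn ((zpowers_le.2 heq.symm : zpowers (n ^ i) ≤ MulAction.stabilizer Γ l)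
          (mem_zpowers_of_prime_pow h.ops.hq h.ops.npow hni))
      rw [weightIdem_orth ρ hne, zero_mul]
    · intro h0
      exact absurd (Finset.mem_range.mpr h.ops.hq.pos) h0
  have h2 : (ρ y - 1) * e = 0 := by
    calc (ρ y - 1) * e = (ρ y - 1) * (e * (∑ i ∈ Finset.range q, ρ (n ^ i)) * e) := by rw [hN]
      _ = e * ((ρ y - 1) * ∑ i ∈ Finset.range q, ρ (n ^ i)) * e := by
          have hc : (ρ y - 1) * e = e * (ρ y - 1) := by
            rw [sub_mul, mul_sub, hye, one_mul, mul_one]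
          rw [← mul_assoc, ← mul_assoc, hc, mul_assoc e]
      _ = 0 := by rw [h.fixOp y hy hny, mul_zero, zero_mul]
  rw [sub_mul, one_mul, sub_eq_zero] at h2
  exact h2

/-- An operator of prime order on a block: it centralises, or `N - 1` is a power of `t`. -/
theorem PQData.block_commute [FiniteDimensional K W] [Fact t.Prime] [hQn : Q.Normal]
    (h : PQData p q t s n A Q S ρ) (hZK : (Fintype.card Z : K) ≠ 0)
    (hZc : ∀ z ∈ Z, ∀ y ∈ Q, y * z = z * y) (hcomm : ∀ x ∈ Q, ∀ y ∈ Q, ⁅x, y⁆ ∈ Z) {l : Z →* Kˣ}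
    (hl : weightIdem Z ρ l ≠ 0) {c : Γ} (hcl : c • l = l) {N : ℕ} (hN : N.Prime) (htN : t ≠ N)
    (hNK : (N : K) ≠ 0) (hc : c ^ N = 1)
    (hsum : (∑ i ∈ Finset.range N, ρ (c ^ i)) * weightIdem Z ρ l = 0) :
    (∀ y ∈ Q, ρ (c * y) * weightIdem Z ρ l = ρ (y * c) * weightIdem Z ρ l) ∨
      ∃ m, 1 ≤ m ∧ N - 1 = t ^ m ∧ ∃ T T₀ : Subgroup Γ, T₀ ≤ T ∧ T ≤ Q ∧
        (∀ x ∈ Q, ⁅c, x⁆ ∈ T) ∧
        (∀ x ∈ T₀, ∃ κ : K, ρ x * weightIdem Z ρ l = κ • weightIdem Z ρ l) ∧
        T₀.relIndex T = (N - 1) * (N - 1) := by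
  set e := weightIdem Z ρ l with he
  set Γ₁ := MulAction.stabilizer Γ l with hΓ₁
  have hcΓ₁ : ∀ o ∈ Γ₁, ρ o * e = e * ρ o := fun o ho => by
    rw [he, map_mul_weightIdem_smul, MulAction.mem_stabilizer_iff.mp ho]
  obtain ⟨θ, -, hθeq, hθscal, hθsum⟩ := exists_range_rep ρ e Γ₁ hcΓ₁
  haveI : Nontrivial (LinearMap.range e) := Submodule.nontrivial_iff_ne_bot.mpr fun h0 =>
    hl (LinearMap.range_eq_bot.mp h0)
  have hQΓ : Q ≤ Γ₁ := fun o ho => dual_smul_eq_self_of_commute l fun z hz => hZc z hz o ho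
  haveI : (Q.subgroupOf Γ₁).Normal := hQn.subgroupOf Γ₁
  let c₁ : Γ₁ := ⟨c, hcl⟩
  have hsum₁ : ∑ i ∈ Finset.range N, θ (c₁ ^ i) = 0 := by
    have h' := (hθsum (Finset.range N) (fun _ => 1) (fun i => c₁ ^ i)).2 (by
      simp only [one_smul, SubmonoidClass.coe_pow]; exact hsum)
    simpa using h'
  rcases commute_or_exceptional θ (Q.subgroupOf Γ₁) (t := t) hN htN
      (h.pQ.of_equiv (subgroupOfEquivOfLe hQΓ).symm) h.tK hNK (s := c₁) (Subtype.ext hc) hsum₁
      (fun a ha b hb => ⟨l ⟨_, hcomm _ ha _ hb⟩, (hθscal _ _).2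
        (map_mem_mul_weightIdem ρ l ⟨_, hcomm _ ha _ hb⟩)⟩)
    with h1 | ⟨m, hm1, hm, T, T₀, hT₀T, hTR, hgen, hscal, hidx⟩
  · left
    intro y hy
    exact (hθeq (c₁ * ⟨y, hQΓ hy⟩) (⟨y, hQΓ hy⟩ * c₁)).1 (h1 ⟨y, hQΓ hy⟩ hy)
  · refine Or.inr ⟨m, hm1, hm, T.map Γ₁.subtype, T₀.map Γ₁.subtype, Subgroup.map_mono hT₀T, ?_, ?_,
      ?_, ?_⟩
    · rintro _ ⟨x, hx, rfl⟩; exact hTR hx
    · intro x hx
      exact ⟨⁅c₁, ⟨x, hQΓ hx⟩⁆, hgen ⟨x, hQΓ hx⟩ hx, rfl⟩
    · rintro _ ⟨x, hx, rfl⟩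
      obtain ⟨κ, hκ⟩ := hscal x hx
      exact ⟨κ, (hθscal x κ).1 hκ⟩
    · rw [Subgroup.relIndex_map_map_of_injective _ _ Γ₁.subtype_injective, hidx]

end Weights

/-- A coprime group of operators keeps what an operator centralises in a block. -/
theorem centralizes_block {e : Module.End K W} {S R : Subgroup Γ} {a : Γ} (haS : a ∈ normalizer (S : Set Γ))
    (hcop : (orderOf a).Coprime (Nat.card S)) (hSR : S ≤ normalizer (R : Set Γ))
    (haR : a ∈ normalizer (R : Set Γ)) (hSe : ∀ x ∈ S, ρ x * e = e * ρ x)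
    (hae : ρ a * e = e * ρ a) (ha : ∀ w ∈ R, ρ (a * w) * e = ρ (w * a) * e)
    (hC : ∀ x ∈ S, a * x = x * a → ∀ w ∈ R, ρ (x * w * x⁻¹) * e = ρ w * e) :
    ∀ x ∈ S, ∀ w ∈ R, ρ (x * w * x⁻¹) * e = ρ w * e := by
  let G₀ : Subgroup Γ :=
    { carrier := {g | g ∈ normalizer (R : Set Γ) ∧ ∀ w ∈ R, ρ (g * w * g⁻¹) * e = ρ w * e}
      one_mem' := ⟨one_mem _, fun w _ => by rw [one_mul, inv_one, mul_one]⟩
      mul_mem' := by
        rintro g k ⟨hg, hg'⟩ ⟨hk, hk'⟩
        refine ⟨mul_mem hg hk, fun w hw => ?_⟩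
        rw [show g * k * w * (g * k)⁻¹ = g * (k * w * k⁻¹) * g⁻¹ by group,
          hg' _ ((mem_normalizer_iff.1 hk w).1 hw), hk' w hw]
      inv_mem' := by
        rintro g ⟨hg, hg'⟩
        refine ⟨inv_mem hg, fun w hw => ?_⟩
        have hw' := (mem_normalizer_iff.1 (inv_mem hg) w).1 hw
        have := hg' _ hw'
        rwa [show g * (g⁻¹ * w * g⁻¹⁻¹) * g⁻¹ = w by group, eq_comm] at this }
  have haG : a ∈ G₀ := ⟨haR, fun w hw => by
    have h1 : ρ (a * w * a⁻¹) * e = ρ (a * w) * e * ρ a⁻¹ := by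
      have hinv : ρ a⁻¹ * e = e * ρ a⁻¹ := by
        calc ρ a⁻¹ * e = ρ a⁻¹ * e * (ρ a * ρ a⁻¹) := by
              rw [← map_mul, mul_inv_cancel, map_one, mul_one]
          _ = ρ a⁻¹ * (ρ a * e) * ρ a⁻¹ := by rw [hae]; simp only [mul_assoc]
          _ = e * ρ a⁻¹ := by rw [← mul_assoc, ← map_mul, inv_mul_cancel, map_one, one_mul]
      rw [map_mul, mul_assoc, hinv, ← mul_assoc]
    rw [h1, ha w hw, map_mul, mul_assoc (ρ w), hae, ← mul_assoc, mul_assoc (ρ w * e), ← map_mul,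
      mul_inv_cancel, map_one, mul_one]⟩
  have hcomm : ⁅S, zpowers a⁆ ≤ G₀ := by
    rw [commutator_le]
    intro x hx b hb
    have hbG : b ∈ G₀ := zpowers_le.2 haG hb
    have hxN := hSR hx
    have hconj : x * b * x⁻¹ ∈ G₀ := by
      refine ⟨mul_mem (mul_mem hxN hbG.1) (inv_mem hxN), fun w hw => ?_⟩
      have hw' : x⁻¹ * w * x ∈ R := by
        have := (mem_normalizer_iff.1 (inv_mem hxN) w).1 hw
        rwa [inv_inv] at this
      have h9 : ∀ v, ρ x * (ρ v * e) * ρ x⁻¹ = ρ (x * v * x⁻¹) * e := fun v => by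
        rw [mul_assoc, mul_assoc (ρ v), ← hSe _ (inv_mem hx), ← mul_assoc (ρ v), ← mul_assoc,
          ← map_mul, ← map_mul, mul_assoc x]
      have h8 : ρ x * (ρ (b * (x⁻¹ * w * x) * b⁻¹) * e) * ρ x⁻¹ =
          ρ x * (ρ (x⁻¹ * w * x) * e) * ρ x⁻¹ := by rw [hbG.2 _ hw']
      rw [h9, h9] at h8
      rw [show x * b * x⁻¹ * w * (x * b * x⁻¹)⁻¹ = x * (b * (x⁻¹ * w * x) * b⁻¹) * x⁻¹ by group,
        h8, show x * (x⁻¹ * w * x) * x⁻¹ = w by group]
    exact G₀.mul_mem hconj (G₀.inv_mem hbG)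
  have hcent : S ⊓ centralizer (zpowers a : Set Γ) ≤ G₀ := fun x hx =>
    ⟨hSR hx.1, hC x hx.1 (mem_centralizer_iff.1 hx.2 a (mem_zpowers a))⟩
  intro x hx
  rw [← Coprime.commutator_sup_centralizer (zpowers_le.2 haS) (by rwa [Nat.card_zpowers])
    (Or.inl (Coprime.isSolvable_zpowers a))] at hx
  exact ((sup_le hcomm hcent) hx).2

end CfsgLib.Solvable.FPFOperators
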