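import Cfsg.Agent.Lib.Solvable.FPFOperators.PQLinear
import Cfsg.Agent.Lib.Solvable.FPFOperators.WardHeight
import Mathlib.GroupTheory.Index
import Mathlib.GroupTheory.Perm.Cycle.Type

/-!
# A non-abelian group of order `p * q` without fixed points: Fitting height at most two
-/

set_option autoImplicit false

namespace CfsgLib.Solvable.FPFOperators

open Subgroup CfsgLib
open scoped commutatorElement

universe u

/-- The structure of a non-abelian group of order `p * q`, `p < q`. -/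
theorem exists_pqOps {Γ : Type u} [Group Γ] [Finite Γ] {A : Subgroup Γ} {p q : ℕ} (hp : p.Prime)
    (hq : q.Prime) (hpq : p < q) (hcard : Nat.card A = p * q) (hna : ¬ IsMulCommutative A)
    (hsolv : Group.IsSolvable A) : ∃ n, PQOps p q n A ∧ p ∣ q - 1 := by
  haveI := Fact.mk hq
  haveI := Fact.mk hp
  obtain ⟨n₀, hn₀⟩ := exists_prime_orderOf_dvd_card' (G := A) q (hcard ▸ dvd_mul_left q p)
  set N := zpowers n₀ with hN
  have hcN : Nat.card N = q := by rw [hN, Nat.card_zpowers, hn₀]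
  have hidx : N.index = p := by
    have h1 := N.card_mul_index
    rw [hcN, hcard, mul_comm p q] at h1
    exact Nat.eq_of_mul_eq_mul_left hq.pos h1
  have hmin : (Nat.card A).minFac = p := by
    refine le_antisymm (Nat.minFac_le_of_dvd hp.two_le (hcard ▸ dvd_mul_right p q)) ?_
    have hne : Nat.card A ≠ 1 := fun h1 => by
      have h2 := hcard ▸ h1
      exact hp.one_lt.ne' (Nat.eq_one_of_mul_eq_one_right h2)
    have hd := Nat.minFac_dvd (Nat.card A)
    have hpr := Nat.minFac_prime hne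
    rw [hcard] at hd hpr ⊢
    rcases hpr.dvd_mul.mp hd with h2 | h2
    · exact ((Nat.prime_dvd_prime_iff_eq hpr hp).mp h2).ge
    · exact hpq.le.trans ((Nat.prime_dvd_prime_iff_eq hpr hq).mp h2).ge
  haveI hNn : N.Normal := Subgroup.normal_of_index_eq_minFac_card (by rw [hidx, hmin])
  have hcQ : Nat.card (A ⧸ N) = p := hidx
  have hpow : ∀ a : A, a ^ q = 1 → a ∈ N := fun a ha => by
    refine (QuotientGroup.eq_one_iff a).mp (orderOf_eq_one_iff.mp ?_)
    refine Nat.eq_one_of_dvd_coprimes ((Nat.coprime_primes hp hq).mpr hpq.ne)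
      (hcQ ▸ orderOf_dvd_natCard _) (orderOf_dvd_of_pow_eq_one ?_)
    rw [← QuotientGroup.mk_pow, ha, QuotientGroup.mk_one]
  have hcyc : ∀ a : A, orderOf a ≠ p * q := fun a ha => hna (by
    have htop : zpowers a = ⊤ :=
      Subgroup.eq_top_of_card_eq _ (by rw [Nat.card_zpowers, ha, hcard])
    refine isMulCommutative_iff.2 fun x y => ?_
    obtain ⟨i, rfl⟩ := mem_zpowers_iff.mp (htop ▸ Subgroup.mem_top x : x ∈ zpowers a)
    obtain ⟨j, rfl⟩ := mem_zpowers_iff.mp (htop ▸ Subgroup.mem_top y : y ∈ zpowers a)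
    exact (Commute.zpow_zpow_self a i j).eq)
  have hout : ∀ a : A, a ∉ N → a ^ p = 1 := fun a ha => by
    obtain ⟨u, v, hu, hv, huv⟩ := Nat.dvd_mul.mp (hcard ▸ orderOf_dvd_natCard a)
    rcases (Nat.dvd_prime hp).mp hu with h1 | h1
    · refine absurd (hpow a (orderOf_dvd_iff_pow_eq_one.mp ?_)) ha
      rw [← huv, h1, one_mul]; exact hv
    rcases (Nat.dvd_prime hq).mp hv with h2 | h2
    · refine orderOf_dvd_iff_pow_eq_one.mp ?_
      rw [← huv, h1, h2, mul_one]
    · exact absurd (by rw [← huv, h1, h2]) (hcyc a)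
  have hgen : ∀ a : A, a ∉ N → ∀ b : A, ∃ i j : ℕ, b = n₀ ^ i * a ^ j := fun a ha b => by
    have h1 : (a : A ⧸ N) ≠ 1 := fun h0 => ha ((QuotientGroup.eq_one_iff a).mp h0)
    obtain ⟨j, hj⟩ : ∃ j : ℕ, ((a : A ⧸ N)) ^ j = (b : A ⧸ N) := by
      haveI := Fact.mk hp
      have h2 : (b : A ⧸ N) ∈ zpowers (a : A ⧸ N) := by
        rw [zpowers_eq_top_of_prime_card hcQ h1]
        trivial
      exact (isOfFinOrder_of_finite _).mem_powers_iff_mem_zpowers.mpr h2
    have h3 : b * (a ^ j)⁻¹ ∈ N := by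
      rw [← QuotientGroup.eq_one_iff, QuotientGroup.mk_mul, QuotientGroup.mk_inv,
        QuotientGroup.mk_pow, hj, mul_inv_cancel]
    obtain ⟨i, hi⟩ := ((isOfFinOrder_of_finite _).mem_powers_iff_mem_zpowers.mpr h3 : b * (a ^ j)⁻¹ ∈ Submonoid.powers n₀)
    exact ⟨i, j, by rw [show n₀ ^ i = b * (a ^ j)⁻¹ from hi, inv_mul_cancel_right]⟩
  have hdvd : p ∣ q - 1 := by
    obtain ⟨a, ha⟩ : ∃ a : A, a ∉ N := by
      by_contra hall
      push Not at hall
      have : N = ⊤ := eq_top_iff.mpr fun x _ => hall x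
      rw [this, Subgroup.index_top] at hidx
      exact hp.ne_one hidx.symm
    obtain ⟨k, hk⟩ := mem_zpowers_iff.mp (hNn.conj_mem n₀ (mem_zpowers n₀) a)
    have hk1 : ∀ j : ℕ, a ^ j * n₀ * (a ^ j)⁻¹ = n₀ ^ (k ^ j) := by
      intro j
      induction j with
      | zero => simp
      | succ j ih =>
        rw [pow_succ', show a * a ^ j * n₀ * (a * a ^ j)⁻¹ = a * (a ^ j * n₀ * (a ^ j)⁻¹) * a⁻¹ by
          group, ih, ← conj_zpow, ← hk, ← zpow_mul, ← pow_succ']
    have h5 := hk1 p
    rw [hout a ha, one_mul, inv_one, mul_one] at h5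
    have hkp : ((k : ZMod q)) ^ p = 1 := by
      have h6 : ((1 : ℤ) : ZMod q) = ((k ^ p : ℤ) : ZMod q) := by
        rw [ZMod.intCast_eq_intCast_iff']
        have h7 : n₀ ^ (1 : ℤ) = n₀ ^ (k ^ p) := by rw [zpow_one]; exact h5
        have h8 := zpow_eq_zpow_iff_modEq.mp h7
        rw [hn₀] at h8
        exact h8
      rw [Int.cast_one, Int.cast_pow] at h6
      exact h6.symm
    have hk0 : (k : ZMod q) ≠ 1 := fun h0 => hna (by
      have hcom : a * n₀ = n₀ * a := by
        have h6 : n₀ ^ k = n₀ ^ (1 : ℤ) := by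
          rw [zpow_eq_zpow_iff_modEq, hn₀]
          exact (ZMod.intCast_eq_intCast_iff k 1 q).mp (by rw [h0, Int.cast_one])
        rw [zpow_one, hk] at h6
        exact mul_inv_eq_iff_eq_mul.mp h6
      refine isMulCommutative_iff.2 fun x y => ?_
      obtain ⟨i, j, rfl⟩ := hgen a ha x
      obtain ⟨i', j', rfl⟩ := hgen a ha y
      have hc : Commute n₀ a := hcom.symm
      exact (((Commute.pow_pow_self n₀ i i').mul_right (hc.pow_pow i j')).mul_left
        (((hc.pow_pow i' j).symm).mul_right (Commute.pow_pow_self a j j'))).eq)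
    have hord : orderOf (k : ZMod q) = p := orderOf_eq_prime hkp hk0
    rw [← hord]
    exact ZMod.orderOf_dvd_card_sub_one fun h0 => by
      rw [h0, zero_pow hp.ne_zero] at hkp; exact zero_ne_one hkp
  refine ⟨n₀, ⟨hp, hq, n₀.2, fun h1 => ?_, ?_, ?_, ?_, hcard, hsolv⟩, hdvd⟩
  · have h2 : n₀ = 1 := Subtype.ext h1
    rw [h2, orderOf_one] at hn₀
    exact hq.ne_one hn₀.symm
  · rw [← SubmonoidClass.coe_pow, ← hn₀, pow_orderOf_eq_one, OneMemClass.coe_one]
  · intro a ha
    obtain ⟨i, hi⟩ := mem_zpowers_iff.mp (hNn.conj_mem n₀ (mem_zpowers n₀) ⟨a, ha⟩)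
    exact mem_zpowers_iff.mpr ⟨i, congrArg Subtype.val hi⟩
  · intro a ha han
    have ha' : (⟨a, ha⟩ : A) ∉ N := fun h1 => han (by
      obtain ⟨i, hi⟩ := mem_zpowers_iff.mp h1
      exact mem_zpowers_iff.mpr ⟨i, congrArg Subtype.val hi⟩)
    refine ⟨congrArg Subtype.val (hout _ ha'), fun b hb => ?_⟩
    obtain ⟨i, j, hij⟩ := hgen _ ha' ⟨b, hb⟩
    exact ⟨i, j, congrArg Subtype.val hij⟩

variable {Γ : Type u} [Group Γ] [Finite Γ] {p q : ℕ} {n : Γ} {A : Subgroup Γ}

theorem PQOps.exists_outer (h : PQOps p q n A) : ∃ a ∈ A, a ∉ zpowers n := by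
  by_contra hall
  push Not at hall
  have h1 : Nat.card A ≤ Nat.card (zpowers n) := Subgroup.card_le_of_le hall
  rw [h.card, Nat.card_zpowers] at h1
  have h2 := Nat.le_of_dvd h.hq.pos (orderOf_dvd_of_pow_eq_one h.npow)
  nlinarith [h.hp.two_le, h.hq.two_le]

/-- The centraliser of the normal operator is nilpotent. -/
theorem isNilpotent_centralizer_pq {G : Subgroup Γ} [hGn : G.Normal] (h : OpSetup G A)
    (ops : PQOps p q n A) : Group.IsNilpotent ↥(G ⊓ centralizer ({n} : Set Γ)) := by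
  obtain ⟨b, hb, hbn⟩ := ops.exists_outer
  have hbp := (ops.outer b hb hbn).1
  set C := G ⊓ centralizer ({n} : Set Γ) with hC
  have hnorm : ∀ d ∈ A, ∀ c ∈ C, d * c * d⁻¹ ∈ C := fun d hd c hc =>
    ⟨hGn.conj_mem c hc.1 d, mem_centralizer_iff.2 fun w hw => by
      rw [Set.mem_singleton_iff.mp hw]
      exact ops.conj_commute hd (mem_centralizer_iff.1 hc.2 n rfl)⟩
  have hbC : zpowers b ≤ normalizer (C : Set Γ) := by
    refine (zpowers_le.2 hb).trans ?_
    exact le_normalizer_iff.2 hnorm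
  let α : MulAut C := Coprime.conjHom hbC ⟨b, mem_zpowers b⟩
  have hαp : α ^ p = 1 := by
    show (Coprime.conjHom hbC ⟨b, mem_zpowers b⟩) ^ p = 1
    rw [← map_pow, show (⟨b, mem_zpowers b⟩ : zpowers b) ^ p = 1 from Subtype.ext hbp, map_one]
  refine Solvable.FPFNilpotent.isNilpotent_of_mulAut ops.hp α hαp fun c hc => Subtype.ext ?_
  refine h.fix c c.2.1 fun d hd => ?_
  have hcn : Commute n (c : Γ) := mem_centralizer_iff.1 c.2.2 n rfl
  have hcb : Commute b (c : Γ) := by
    have := congrArg Subtype.val hc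
    rw [show ((α c : C) : Γ) = b * c * b⁻¹ from Coprime.conjHom_apply _ _ _] at this
    exact mul_inv_eq_iff_eq_mul.mp this
  exact ops.commute_all hb hbn hcn hcb d hd

/-- The linear data on a chief factor, seen inside the normaliser of the lower layer. -/
theorem exists_factor_data {G Q S N M : Subgroup Γ} [hGn : G.Normal] (h : OpSetup G A)
    (ops : PQOps p q n A) (hdvd : p ∣ q - 1) (hQA : A ≤ normalizer (Q : Set Γ))
    (hSA : A ≤ normalizer (S : Set Γ)) (hQG : Q ≤ G) (hSG : S ≤ G)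
    (hSQ : S ≤ normalizer (Q : Set Γ)) {t s r : ℕ} [Fact t.Prime] [Fact s.Prime] [Fact r.Prime]
    (hQt : IsPGroup t Q) (hSs : IsPGroup s S) (hts : t ≠ s) (htp : t ≠ p) (htq : t ≠ q)
    (hsp : s ≠ p) (hsq : s ≠ q) (hch : IsChief N M) (hMG : M ≤ G)
    (hexp : ∀ a ∈ M, a ^ r ∈ N) (hcomm : ∀ a ∈ M, ∀ b ∈ M, ⁅a, b⁆ ∈ N) (htr : t ≠ r) :
    ∃ (d : ℕ) (ρ : Γ →* Module.End (AlgebraicClosure (ZMod r))
        (Fin d → AlgebraicClosure (ZMod r))),
      (∀ g, ρ g = 1 ↔ ∀ m ∈ M, ⁅g, m⁆ ∈ N) ∧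
      PQData p q t s ⟨n, hQA ops.mem⟩ (A.subgroupOf (normalizer (Q : Set Γ)))
        (Q.subgroupOf (normalizer (Q : Set Γ))) (S.subgroupOf (normalizer (Q : Set Γ)))
        (ρ.comp (normalizer (Q : Set Γ)).subtype) := by
  classical
  haveI := hch.normalN
  haveI := hch.normalM
  set K := AlgebraicClosure (ZMod r) with hK
  obtain ⟨d, ρ, hρ1, hρfix, -, hρsum⟩ := exists_section_rep' (N := N) (M := M) r K hexp hcomm
  refine ⟨d, ρ, hρ1, ?_⟩
  have hr : r.Prime := Fact.out
  have ht : t.Prime := Fact.out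
  have hs : s.Prime := Fact.out
  set X := normalizer (Q : Set Γ) with hX
  have hQX : Q ≤ X := le_normalizer
  have hrG : r ∣ Nat.card G := by
    obtain ⟨m, hm, hmN⟩ := Set.exists_of_ssubset hch.lt
    have h1 : orderOf (m : Γ ⧸ N) = r :=
      orderOf_eq_prime (by rw [← QuotientGroup.mk_pow]; exact (QuotientGroup.eq_one_iff _).2 (hexp m hm))
        fun h0 => hmN ((QuotientGroup.eq_one_iff _).1 h0)
    rw [← h1]
    exact (orderOf_map_dvd (QuotientGroup.mk' N) m).trans
      (Subgroup.orderOf_dvd_natCard G (hMG hm))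
  have hcast : ∀ {l : ℕ}, l.Prime → l ≠ r → (l : K) ≠ 0 := fun hl hlr h0 =>
    hlr ((Nat.prime_dvd_prime_iff_eq hr hl).mp ((CharP.cast_eq_zero_iff K r _).mp h0)).symm
  have hpr : p ≠ r ∧ q ≠ r := by
    have h1 := h.cop.coprime_dvd_right hrG
    rw [ops.card, Nat.coprime_mul_iff_left] at h1
    exact ⟨(Nat.coprime_primes ops.hp hr).mp h1.1, (Nat.coprime_primes ops.hq hr).mp h1.2⟩
  refine
    { ops := ops.subgroupOf hQA, htp := htp, htq := htq, hsp := hsp, hsq := hsq, hts := hts,
      tK := hcast ht htr, pK := hcast ops.hp hpr.1, qK := hcast ops.hq hpr.2, exc := ?_, pQ := ?_,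
      pS := ?_, normS := ?_, fixQ := ?_, fixS := ?_, sum := ?_, fixOp := ?_, centr := ?_ }
  · intro m _ hm'
    exact htp ((Nat.prime_dvd_prime_iff_eq ops.hp ht).mp (ops.hp.dvd_of_dvd_pow (hm' ▸ hdvd))).symm
  · exact hQt.of_equiv (subgroupOfEquivOfLe hQX).symm
  · exact hSs.of_equiv (subgroupOfEquivOfLe hSQ).symm
  · exact le_normalizer_iff.2 fun a ha z hz => le_normalizer_iff.1 hSA a ha z hz
  · intro y hy hf
    exact Subtype.ext (h.fix _ (hQG hy) fun a ha => congrArg Subtype.val (hf ⟨a, hQA ha⟩ ha))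
  · intro y hy hf
    exact Subtype.ext (h.fix _ (hSG hy) fun a ha => congrArg Subtype.val (hf ⟨a, hQA ha⟩ ha))
  · have h1 := hρsum A (A : Set Γ).toFinite.toFinset
      (fun g => by rw [Set.Finite.mem_toFinset, SetLike.mem_coe]) fun m hm hfix => by
      obtain ⟨k, hk, hc⟩ := Coprime.exists_mul_mem_centralizer (A := A) (N := N)
        (by rw [normalizer_eq_top]; exact le_top)
        (Coprime.coprime_of_le h.cop le_rfl (hch.lt.le.trans hMG)) (Or.inl h.solvA) (k := m) hfix
      have h2 : k * m = 1 := h.fix _ (G.mul_mem (hMG (hch.lt.le hk)) (hMG hm)) fun a ha =>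
        mem_centralizer_iff.1 hc a ha
      rw [eq_inv_of_mul_eq_one_right h2]
      exact inv_mem hk
    refine Eq.trans ?_ h1
    refine Finset.sum_bij (fun a _ => (a : Γ)) (fun a ha => ?_) (fun a _ b _ he => Subtype.ext he)
      (fun b hb => ?_) fun a _ => rfl
    · simpa [Subgroup.mem_subgroupOf] using ha
    · have hbA : b ∈ A := by simpa using hb
      exact ⟨⟨b, hQA hbA⟩, by simpa [Subgroup.mem_subgroupOf] using hbA, rfl⟩
  · intro y hy hny
    refine hρfix n q ops.npow (y : Γ) fun m hm hnm => ?_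
    have hny' : n * y = y * n := congrArg Subtype.val hny
    obtain ⟨k, hk, hc⟩ := Coprime.exists_mul_mem_centralizer (A := zpowers n) (N := N)
      (by rw [normalizer_eq_top]; exact le_top)
      (Coprime.coprime_of_le h.cop (zpowers_le.2 ops.mem) (hch.lt.le.trans hMG))
      (Or.inl (Coprime.isSolvable_zpowers _)) (k := m) fun b hb => by
        rw [← QuotientGroup.eq_one_iff] at hnm ⊢
        have hnm' : Commute (QuotientGroup.mk' N n) (QuotientGroup.mk' N m) :=
          commutatorElement_eq_one_iff_mul_comm.mp ((map_commutatorElement _ _ _).symm.trans hnm)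
        obtain ⟨i, rfl⟩ := mem_zpowers_iff.mp hb
        show QuotientGroup.mk' N ⁅n ^ i, m⁆ = 1
        rw [map_commutatorElement, map_zpow, commutatorElement_eq_one_iff_mul_comm]
        exact hnm'.zpow_left i
    have hkm : k * m ∈ G ⊓ centralizer ({n} : Set Γ) :=
      ⟨G.mul_mem (hMG (hch.lt.le hk)) (hMG hm), mem_centralizer_iff.2 fun w hw => by
        rw [Set.mem_singleton_iff.mp hw]; exact mem_centralizer_iff.1 hc _ (mem_zpowers _)⟩
    have hyC : (y : Γ) ∈ G ⊓ centralizer ({n} : Set Γ) :=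
      ⟨hQG hy, mem_centralizer_iff.2 fun w hw => by rw [Set.mem_singleton_iff.mp hw]; exact hny'⟩
    obtain ⟨l, hl⟩ := hQt ⟨_, hy⟩
    have h1 := commutator_mem_of_isNilpotent (N := N) (isNilpotent_centralizer_pq h ops) ht hr htr
      hyC hkm ⟨l, congrArg Subtype.val hl⟩ (by
        rw [← QuotientGroup.eq_one_iff]
        show QuotientGroup.mk' N ((k * m) ^ r) = 1
        rw [map_pow, map_mul, show QuotientGroup.mk' N k = 1 from (QuotientGroup.eq_one_iff _).mpr hk,
          one_mul, ← map_pow]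
        exact (QuotientGroup.eq_one_iff _).mpr (hexp m hm))
    rw [← QuotientGroup.eq_one_iff] at h1 ⊢
    refine Eq.trans ?_ h1
    show QuotientGroup.mk' N ⁅(y : Γ), m⁆ = QuotientGroup.mk' N ⁅(y : Γ), k * m⁆
    rw [map_commutatorElement, map_commutatorElement, map_mul,
      show QuotientGroup.mk' N k = 1 from (QuotientGroup.eq_one_iff _).mpr hk, one_mul]
  · intro y hy hny x hx hnx
    show ρ ((y : Γ) * x) = ρ ((x : Γ) * y)
    haveI := isNilpotent_centralizer_pq h ops
    congr 1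
    refine OddOrder.Basic.commute_of_mem_nilpotent (K := G ⊓ centralizer ({n} : Set Γ))
      ⟨hQG hy, mem_centralizer_iff.2 fun w hw => by
        rw [Set.mem_singleton_iff.mp hw]; exact congrArg Subtype.val hny⟩
      ⟨hSG hx, mem_centralizer_iff.2 fun w hw => by
        rw [Set.mem_singleton_iff.mp hw]; exact congrArg Subtype.val hnx⟩ ?_
    obtain ⟨i, hi⟩ := hQt ⟨_, hy⟩
    obtain ⟨j, hj⟩ := hSs ⟨_, hx⟩
    exact ((((Nat.coprime_primes ht hs).mpr hts).pow i j).coprime_dvd_left
      (orderOf_dvd_of_pow_eq_one (congrArg Subtype.val hi))).coprime_dvd_right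
      (orderOf_dvd_of_pow_eq_one (congrArg Subtype.val hj))

/-- Elements of `G` of order prime to `|A|`. -/
theorem OpSetup.eq_one_of_pgroup {G Q : Subgroup Γ} (h : OpSetup G A) (ops : PQOps p q n A)
    (hQG : Q ≤ G) {t : ℕ} (ht : t.Prime) (hQ : IsPGroup t Q) (htpq : t = p ∨ t = q) {y : Γ}
    (hy : y ∈ Q) : y = 1 := by
  obtain ⟨k, hk⟩ := hQ ⟨y, hy⟩
  have h1 : (orderOf y).Coprime (Nat.card A) :=
    h.cop.symm.coprime_dvd_left (Subgroup.orderOf_dvd_natCard G (hQG hy))
  rw [ops.card, Nat.coprime_mul_iff_right] at h1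
  have h2 : (orderOf y).Coprime t := by rcases htpq with rfl | rfl; exacts [h1.1, h1.2]
  exact orderOf_eq_one_iff.mp
    (Nat.eq_one_of_dvd_coprimes (h2.pow_right k) dvd_rfl
      (orderOf_dvd_of_pow_eq_one (congrArg Subtype.val hk)))

/-- Non-abelian operators of order `p * q`: `G / F(G)` is nilpotent. -/
theorem isNilpotent_top1_pq {G : Subgroup Γ} [hGn : G.Normal] (h : OpSetup G A)
    (ops : PQOps p q n A) (hdvd : p ∣ q - 1) : Group.IsNilpotent (top1 G) := by
  haveI := h.solvG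
  set mk := QuotientGroup.mk' (fit G) with hmk
  haveI : Group.IsSolvable (top1 G) :=
    Group.isSolvable_of_surjective (f := mk.subgroupMap G) (mk.subgroupMap_surjective G)
  refine isNilpotent_of_centralizes_pCore fun s t hs ht hst => ?_
  haveI := Fact.mk hs
  haveI := Fact.mk ht
  obtain ⟨Q, hQG, hQt, hQA, hQmap, hQFn, hcov⟩ := exists_invariant_layer h t
  obtain ⟨S, P, hSG, hSQ, hSs, hSA, hSmap⟩ := exists_invariant_sylow_top h hQA hcov s
  refine ⟨P, ?_⟩
  have hker : ∀ y ∈ Q, ∀ x ∈ S, ⁅y, x⁆ ∈ chiefKernel G := by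
    intro y hy x hx
    by_cases htpq : t = p ∨ t = q
    · rw [h.eq_one_of_pgroup ops hQG ht hQt htpq hy, commutatorElement_one_left]
      exact one_mem _
    by_cases hspq : s = p ∨ s = q
    · rw [h.eq_one_of_pgroup ops hSG hs hSs hspq hx, commutatorElement_one_right]
      exact one_mem _
    refine ⟨?_, fun N M hch hMF => ?_⟩
    · rw [commutatorElement_def]
      exact mul_mem (mul_mem (mul_mem (hQG hy) (hSG hx)) (inv_mem (hQG hy))) (inv_mem (hSG hx))
    haveI := hch.normalN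
    haveI := hch.normalM
    have hMG : M ≤ G := hMF.trans (fit_le G)
    obtain ⟨r, hr, hexpM, hcommM⟩ := hch.elementary hMG
    haveI := Fact.mk hr
    by_cases htr : t = r
    · subst htr
      have htriv := hch.trivial_of_pgroup hexpM hQt hQFn
        fun g hg => ((fit_le_chiefKernel G) hg).2 N M hch hMF
      intro m hm
      have h1 : ⁅y, x⁆ ∈ Q := by
        rw [show ⁅y, x⁆ = y * (x * y⁻¹ * x⁻¹) by rw [commutatorElement_def]; group]
        exact mul_mem hy (le_normalizer_iff.1 hSQ x hx _ (inv_mem hy))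
      exact htriv _ h1 m hm
    push Not at htpq hspq
    obtain ⟨d, ρ, hρ1, hdata⟩ := exists_factor_data h ops hdvd hQA hSA hQG hSG hSQ hQt hSs
      (Ne.symm hst) htpq.1 htpq.2 hspq.1 hspq.2 hch hMG hexpM hcommM htr
    haveI : (Q.subgroupOf (normalizer (Q : Set Γ))).Normal :=
      (normal_subgroupOf_iff_le_normalizer le_normalizer).2 le_rfl
    have hρc : ρ (y * x) = ρ (x * y) :=
      pq_linear hdata (y := (⟨y, le_normalizer hy⟩ : normalizer (Q : Set Γ)))
        (x := (⟨x, hSQ hx⟩ : normalizer (Q : Set Γ))) hy hx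
    refine (hρ1 _).mp ?_
    rw [show ⁅y, x⁆ = y * x * (x * y)⁻¹ by rw [commutatorElement_def]; group, map_mul, hρc,
      ← map_mul, mul_inv_cancel, map_one]
  intro z hz
  refine mem_centralizer_iff.2 fun w hw => Subtype.ext ?_
  have hz' : (z : Γ ⧸ fit G) ∈ S.map mk := hSmap ▸ ⟨z, hz, rfl⟩
  have hw' : (w : Γ ⧸ fit G) ∈ Q.map mk := hQmap ▸ ⟨w, hw, rfl⟩
  obtain ⟨x, hx, hxz⟩ := hz'
  obtain ⟨y, hy, hyw⟩ := hw'
  show (w : Γ ⧸ fit G) * z = z * w
  rw [← hxz, ← hyw, ← commutatorElement_eq_one_iff_mul_comm, ← map_commutatorElement]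
  exact (QuotientGroup.eq_one_iff _).mpr (chiefKernel_le_fit G (hker y hy x hx))

omit [Finite Γ] in
/-- Operators given by an action, as subgroups of the semidirect product. -/
theorem exists_model_action {G B : Type*} [Group G] [Finite G] [Group B] [Finite B]
    [MulDistribMulAction B G] (hG : Group.IsSolvable G) (hB : Group.IsSolvable B)
    (hcop : (Nat.card B).Coprime (Nat.card G)) (hfix : ∀ g : G, (∀ b : B, b • g = g) → g = 1) :
    ∃ (G' A' : Subgroup (G ⋊[MulDistribMulAction.toMulAut B G] B)) (_ : G ≃* G') (_ : B ≃* A'),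
      Finite (G ⋊[MulDistribMulAction.toMulAut B G] B) ∧ OpSetup G' A' := by
  set φ := MulDistribMulAction.toMulAut B G with hφ
  let ι : G →* G ⋊[φ] B := SemidirectProduct.inl
  let κ : B →* G ⋊[φ] B := SemidirectProduct.inr
  have hι : Function.Injective ι := SemidirectProduct.inl_injective
  have hκ : Function.Injective κ := SemidirectProduct.inr_injective
  haveI hf : Finite (G ⋊[φ] B) := Finite.of_equiv _ SemidirectProduct.equivProd.symm
  refine ⟨ι.range, κ.range, MonoidHom.ofInjective hι, MonoidHom.ofInjective hκ, hf,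
    ⟨?_, ?_, ?_, ?_, ?_⟩⟩
  · show (SemidirectProduct.inl : G →* G ⋊[φ] B).range.Normal
    rw [SemidirectProduct.range_inl_eq_ker_rightHom]; infer_instance
  · exact Group.isSolvable_of_surjective (f := (MonoidHom.ofInjective hι).toMonoidHom)
      (MonoidHom.ofInjective hι).surjective
  · exact Group.isSolvable_of_surjective (f := (MonoidHom.ofInjective hκ).toMonoidHom)
      (MonoidHom.ofInjective hκ).surjective
  · rwa [Nat.card_congr (MonoidHom.ofInjective hκ).symm.toEquiv,
      Nat.card_congr (MonoidHom.ofInjective hι).symm.toEquiv]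
  · rintro _ ⟨g, rfl⟩ h
    rw [hfix g fun b => hι ?_, map_one]
    have h1 := h (κ b) ⟨_, rfl⟩
    show SemidirectProduct.inl (φ b g) = _
    rw [SemidirectProduct.inl_aut, map_inv]
    exact (eq_mul_inv_of_mul_eq h1.symm).symm

/-- A group of order `p * q` is solvable. -/
theorem isSolvable_of_card_prime_mul {B : Type*} [Group B] [Finite B] {p q : ℕ} (hp : p.Prime)
    (hq : q.Prime) (hlt : p < q) (hB : Nat.card B = p * q) : Group.IsSolvable B := by
  haveI := Fact.mk hq
  haveI := Fact.mk hp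
  obtain ⟨b, hb⟩ := exists_prime_orderOf_dvd_card' (G := B) q (hB ▸ dvd_mul_left q p)
  have hcN : Nat.card (zpowers b) = q := by rw [Nat.card_zpowers, hb]
  have hidx : (zpowers b).index = p := by
    have h1 := (zpowers b).card_mul_index
    rw [hcN, hB, mul_comm p q] at h1
    exact Nat.eq_of_mul_eq_mul_left hq.pos h1
  have hmin : (Nat.card B).minFac = p := by
    refine le_antisymm (Nat.minFac_le_of_dvd hp.two_le (hB ▸ dvd_mul_right p q)) ?_
    have hd := Nat.minFac_dvd (Nat.card B)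
    have hne : Nat.card B ≠ 1 := fun h1 => by
      rw [hB] at h1
      exact hp.one_lt.ne' (Nat.eq_one_of_mul_eq_one_right h1)
    have hpr := Nat.minFac_prime hne
    rw [hB] at hd hpr ⊢
    rcases hpr.dvd_mul.mp hd with h2 | h2
    · exact ((Nat.prime_dvd_prime_iff_eq hpr hp).mp h2).ge
    · exact hlt.le.trans ((Nat.prime_dvd_prime_iff_eq hpr hq).mp h2).ge
  haveI : (zpowers b).Normal := Subgroup.normal_of_index_eq_minFac_card (by rw [hidx, hmin])
  haveI : IsCyclic (B ⧸ zpowers b) := isCyclic_of_prime_card (p := p) hidx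
  haveI : Group.IsSolvable (zpowers b) := Coprime.isSolvable_zpowers _
  haveI : Group.IsSolvable (B ⧸ zpowers b) := Group.isSolvable_of_comm fun x y => by
    obtain ⟨g, hg⟩ := IsCyclic.exists_generator (α := B ⧸ zpowers b)
    obtain ⟨i, rfl⟩ := hg x
    obtain ⟨j, rfl⟩ := hg y
    exact (Commute.zpow_zpow_self g i j).eq
  exact (Group.isSolvable_iff_subgroup_quotient (zpowers b)).mpr ⟨inferInstance, inferInstance⟩

/-- The Fitting height bound for an action of a non-abelian group of order `p * q`. -/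
theorem exists_nilpotent_pq_action {G B : Type*} [Group G] [Finite G] [Group B] [Finite B]
    [MulDistribMulAction B G] (hG : Group.IsSolvable G) {p q : ℕ} (hp : p.Prime) (hq : q.Prime)
    (hlt : p < q) (hB : Nat.card B = p * q) (hna : ¬ IsMulCommutative B)
    (hcop : (Nat.card G).Coprime (p * q)) (hfix : ∀ g : G, (∀ b : B, b • g = g) → g = 1) :
    ∃ k, (⊤ : Subgroup G).lowerCentralSeries k ≤ Cfsg.fittingSubgroup G := by
  have hBs := isSolvable_of_card_prime_mul hp hq hlt hB
  obtain ⟨G', A', eG, eB, hfin, h⟩ := exists_model_action hG hBs (hB ▸ hcop.symm) hfix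
  haveI := hfin
  haveI := h.normalG
  obtain ⟨n, ops, hdvd⟩ := exists_pqOps hp hq hlt (by rw [← Nat.card_congr eB.toEquiv, hB])
    (fun hc => hna (isMulCommutative_iff.2 fun a b => eB.injective (by
      rw [map_mul, map_mul]; exact isMulCommutative_iff.1 hc _ _))) h.solvA
  exact exists_lowerCentralSeries_le eG (isNilpotent_top1_pq h ops hdvd)

end CfsgLib.Solvable.FPFOperators
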