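import Cfsg.Agent.Lib.Solvable.FPFOperators.PQData

/-!
# The linear lemma for operators of order `p * q`

`A` is non-abelian of order `p * q` and has no fixed vector; the `s`-group `S` normalises the
`t`-group `Q`, both are normalised by `A` and have no fixed point of `A`. Then `S` and `Q` commute
in the representation.
-/

set_option autoImplicit false

namespace CfsgLib.Solvable.FPFOperators

open Subgroup CfsgLib
open scoped commutatorElement

universe u v w

variable {K : Type v} [Field K] {W : Type w} [AddCommGroup W] [Module K W]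

variable {Γ : Type u} [Group Γ] [Finite Γ] {p q t s : ℕ} {n : Γ} {A Q S : Subgroup Γ}
  {ρ : Γ →* Module.End K W}

/-- The elements commuting with `y` on a block. -/
def blockCentralizer (ρ : Γ →* Module.End K W) (e : Module.End K W) {y : Γ}
    (hy : ρ y * e = e * ρ y) : Subgroup Γ where
  carrier := {z | ρ z * e = e * ρ z ∧ ρ (y * z) * e = ρ (z * y) * e}
  one_mem' := ⟨by rw [map_one, one_mul, mul_one], by rw [mul_one, one_mul]⟩
  mul_mem' := by
    rintro a b ⟨ha, ha'⟩ ⟨hb, hb'⟩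
    refine ⟨by rw [map_mul, mul_assoc, hb, ← mul_assoc, ha, mul_assoc], ?_⟩
    calc ρ (y * (a * b)) * e = ρ (y * a) * e * ρ b := by
          rw [← mul_assoc y a b, map_mul ρ (y * a), mul_assoc, hb, ← mul_assoc]
      _ = ρ (a * y) * e * ρ b := by rw [ha']
      _ = ρ a * (ρ (y * b) * e) := by
          rw [mul_assoc, ← hb, ← mul_assoc, ← map_mul, mul_assoc a, map_mul ρ a, mul_assoc]
      _ = ρ a * (ρ (b * y) * e) := by rw [hb']
      _ = ρ (a * b * y) * e := by rw [← mul_assoc, ← map_mul, ← mul_assoc]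
  inv_mem' := by
    rintro a ⟨ha, ha'⟩
    have h1 : ρ a⁻¹ * e = e * ρ a⁻¹ := by
      calc ρ a⁻¹ * e = ρ a⁻¹ * e * (ρ a * ρ a⁻¹) := by
            rw [← map_mul, mul_inv_cancel, map_one, mul_one]
        _ = ρ a⁻¹ * (ρ a * e) * ρ a⁻¹ := by rw [ha]; simp only [mul_assoc]
        _ = e * ρ a⁻¹ := by rw [← mul_assoc, ← map_mul, inv_mul_cancel, map_one, one_mul]
    refine ⟨h1, ?_⟩
    calc ρ (y * a⁻¹) * e = ρ a⁻¹ * (ρ (a * y) * e) * ρ a⁻¹ := by
          rw [← mul_assoc, ← map_mul, inv_mul_cancel_left, mul_assoc, ← h1, ← mul_assoc, ← map_mul]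
      _ = ρ a⁻¹ * (ρ (y * a) * e) * ρ a⁻¹ := by rw [ha']
      _ = ρ (a⁻¹ * y) * e := by
          rw [← mul_assoc, ← map_mul, mul_assoc, ← h1, ← mul_assoc, ← map_mul, ← mul_assoc a⁻¹ y a,
            mul_inv_cancel_right]

theorem PQData.coprime_orders [Fact t.Prime] [Fact s.Prime] (h : PQData p q t s n A Q S ρ)
    {y x : Γ} (hy : y ∈ Q) (hx : x ∈ S) : (orderOf y).Coprime (orderOf x) := by
  obtain ⟨i, hi⟩ := h.pQ ⟨y, hy⟩
  obtain ⟨j, hj⟩ := h.pS ⟨x, hx⟩
  exact ((((Nat.coprime_primes Fact.out Fact.out).2 h.hts).pow i j).coprime_dvd_left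
    (orderOf_dvd_of_pow_eq_one (congrArg Subtype.val hi))).coprime_dvd_right
    (orderOf_dvd_of_pow_eq_one (congrArg Subtype.val hj))

/-- The conclusion of the second case. -/
theorem PQData.finish_moved [Fact t.Prime] [Fact s.Prime] [hQn : Q.Normal]
    (h : PQData p q t s n A Q S ρ)
    (hexp : ∀ y ∈ Q, y ^ t ∈ Q ⊓ centralizer (S : Set Γ))
    (hcomm : ∀ a ∈ Q, ∀ b ∈ Q, ⁅a, b⁆ ∈ Q ⊓ centralizer (S : Set Γ))
    (hQZ : Q ≤ normalizer ((Q ⊓ centralizer (S : Set Γ) : Subgroup Γ) : Set Γ))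
    (hSS : ∀ x ∈ S, ∀ x' ∈ S, ∀ y ∈ Q, ⁅x, x'⁆ * y = y * ⁅x, x'⁆)
    (hC : ∀ x ∈ S, n * x = x * n → ∀ y ∈ Q, x * y = y * x)
    (hfix : ∀ y ∈ Q, n * y = y * n → y ∈ centralizer (S : Set Γ)) :
    ∀ y ∈ Q, ∀ x ∈ S, y * x = x * y := by
  set Z := Q ⊓ centralizer (S : Set Γ) with hZ
  set X := normalizer (Z : Set Γ) with hX
  have hSX : S ≤ X := fun x hx => mem_normalizer_iff_map_conj_eq.2 (eq_of_le_of_card_ge (by
      rintro _ ⟨z, hz, rfl⟩
      show x * z * x⁻¹ ∈ Z
      rw [show x * z = z * x from mem_centralizer_iff.1 hz.2 x hx, mul_inv_cancel_right]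
      exact hz) (by rw [card_map_of_injective (MulAut.conj x).injective]))
  have hnX : n ∈ X := mem_normalizer_iff_map_conj_eq.2 (eq_of_le_of_card_ge (by
      rintro _ ⟨z, hz, rfl⟩
      show n * z * n⁻¹ ∈ Z
      refine ⟨hQn.conj_mem z hz.1 n, mem_centralizer_iff.2 fun x hx => ?_⟩
      have hx' : n⁻¹ * x * n ∈ S := by
        have := (mem_normalizer_iff.1 (inv_mem (h.normS h.ops.mem)) x).1 hx
        rwa [inv_inv] at this
      have h1 := mem_centralizer_iff.1 hz.2 _ hx'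
      calc x * (n * z * n⁻¹) = n * (n⁻¹ * x * n * z) * n⁻¹ := by group
        _ = n * (z * (n⁻¹ * x * n)) * n⁻¹ := by rw [h1]
        _ = n * z * n⁻¹ * x := by group) (by rw [card_map_of_injective (MulAut.conj n).injective]))
  haveI : (Q.subgroupOf X).Normal := hQn.subgroupOf X
  haveI : (Z.subgroupOf X).Normal :=
    (normal_subgroupOf_iff_le_normalizer le_normalizer).2 le_rfl
  have hcardS : (Nat.card (S.subgroupOf X)) = Nat.card S :=
    Nat.card_congr (subgroupOfEquivOfLe hSX).toEquiv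
  obtain ⟨i, hi⟩ := IsPGroup.iff_card.mp h.pS
  have hfix' : ∀ m ∈ Q.subgroupOf X, ⁅(⟨n, hnX⟩ : X), m⁆ ∈ Z.subgroupOf X → m ∈ Z.subgroupOf X := by
    intro m hm hnm
    obtain ⟨m₁, hm₁, hf, hmm⟩ := exists_fixed_of_map (A := zpowers (⟨n, hnX⟩ : X))
      (Q := Q.subgroupOf X) (K₀ := Z.subgroupOf X) (by rw [normalizer_eq_top]; exact le_top)
      (by
        rw [Nat.card_zpowers, Nat.card_congr (subgroupOfEquivOfLe (hQZ : Q ≤ X)).toEquiv]
        obtain ⟨j, hj⟩ := IsPGroup.iff_card.mp h.pQ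
        rw [hj]
        refine Nat.Coprime.pow_right j (Nat.Coprime.coprime_dvd_left (orderOf_dvd_of_pow_eq_one
          (n := q) (Subtype.ext h.ops.npow)) ((Nat.coprime_primes h.ops.hq Fact.out).2 h.htq.symm)))
      (Coprime.isSolvable_zpowers _) hm fun b hb => by
        obtain ⟨i, rfl⟩ := mem_zpowers_iff.mp hb
        rw [map_zpow]
        exact Commute.zpow_left (commutatorElement_eq_one_iff_mul_comm.mp
          ((map_commutatorElement _ _ _).symm.trans ((QuotientGroup.eq_one_iff _).mpr hnm))) i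
    have h1 : m₁ ∈ Z.subgroupOf X :=
      ⟨hm₁, hfix _ hm₁ (congrArg Subtype.val (hf _ (mem_zpowers _)))⟩
    have h2 : QuotientGroup.mk' (Z.subgroupOf X) m₁ = 1 := (QuotientGroup.eq_one_iff _).mpr h1
    rw [h2] at hmm
    exact (QuotientGroup.eq_one_iff _).mp hmm.symm
  intro y hy x hx
  have key : ⁅x, y⁆ ∈ Z :=
    sec_trivial (N := Z.subgroupOf X) (M := Q.subgroupOf X) (t := t) h.ops.hq h.htq
      (fun a ha => hexp _ ha) (fun a ha b hb => hcomm _ ha _ hb) (a := (⟨n, hnX⟩ : X))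
      (Subtype.ext h.ops.npow) (S := S.subgroupOf X)
      (mem_normalizer_iff.2 fun z => mem_normalizer_iff.1 (h.normS h.ops.mem) (z : Γ))
      (by rw [hcardS, hi]; exact ((Nat.coprime_primes Fact.out h.ops.hq).2 h.hsq).pow_left i)
      (by rw [hcardS, hi]; exact ((Nat.coprime_primes Fact.out Fact.out).2 h.hts.symm).pow_left i)
      (fun a ha b hb m hm => by
        have e : ⁅⁅a, b⁆, m⁆ = 1 := commutatorElement_eq_one_iff_mul_comm.2
          (Subtype.ext (hSS _ ha _ hb _ hm))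
        rw [e]; exact one_mem _)
      hfix'
      (fun a ha han m hm => by
        have e : ⁅a, m⁆ = 1 := commutatorElement_eq_one_iff_mul_comm.2
          (Subtype.ext (hC _ ha (congrArg Subtype.val han) _ hm))
        rw [e]; exact one_mem _)
      (⟨x, hSX hx⟩ : X) hx (⟨y, hQZ hy⟩ : X) hy
  exact (commutatorElement_eq_one_iff_mul_comm.1 (eq_one_of_commute_commutator (pow_orderOf_eq_one x)
    (mem_centralizer_iff.1 key.2 x hx) (h.coprime_orders key.1 hx))).symm

/-- The abelian case. -/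
theorem PQData.abelian_case [IsAlgClosed K] [Fact t.Prime] [Fact s.Prime] [hQn : Q.Normal]
    (h : PQData p q t s n A Q S ρ)
    (hinj : ∀ x ∈ S, ∀ y ∈ Q, ρ (y * x) = ρ (x * y) → y * x = x * y)
    (hab : ∀ a ∈ Q, ∀ b ∈ Q, a * b = b * a)
    (hexp : ∀ y ∈ Q, y ^ t ∈ Q ⊓ centralizer (S : Set Γ))
    (hSS : ∀ x ∈ S, ∀ x' ∈ S, ∀ y ∈ Q, ⁅x, x'⁆ * y = y * ⁅x, x'⁆)
    (hC : (∀ x ∈ S, n * x = x * n) ∨ ∀ x ∈ S, n * x = x * n → ∀ y ∈ Q, x * y = y * x) :
    ∀ y ∈ Q, ∀ x ∈ S, y * x = x * y := by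
  classical
  haveI : Fintype Q := Fintype.ofFinite Q
  have hQc : IsMulCommutative Q :=
    isMulCommutative_iff.2 fun a b => Subtype.ext (hab _ a.2 _ b.2)
  have hQK : (Fintype.card Q : K) ≠ 0 := by
    rw [← Nat.card_eq_fintype_card]; exact natCard_cast_ne_zero h.pQ h.tK
  have hQA : A ≤ normalizer (Q : Set Γ) := by rw [normalizer_eq_top]; exact le_top
  have hcopQ := h.ops.coprime_card h.pQ h.htp h.htq
  -- kernels of weights
  let Kl : (Q →* Kˣ) → Subgroup Γ := fun l => l.ker.map Q.subtype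
  have hKl : ∀ (l : Q →* Kˣ) (v : Γ) (hv : v ∈ Q), v ∈ Kl l ↔ l ⟨v, hv⟩ = 1 := fun l v hv =>
    ⟨by rintro ⟨w, hw, rfl⟩; exact hw, fun h1 => ⟨⟨v, hv⟩, h1, rfl⟩⟩
  have hdec : Q ≤ ⁅Q, zpowers n⁆ ⊔ (Q ⊓ centralizer (zpowers n : Set Γ)) :=
    (Coprime.commutator_sup_centralizer ((zpowers_le.2 h.ops.mem).trans hQA)
      (Coprime.coprime_of_le hcopQ (zpowers_le.2 h.ops.mem) le_rfl)
      (Or.inl (Coprime.isSolvable_zpowers n))).ge
  have hfull : ∀ m : Q →* Kˣ, (⁅Q, zpowers n⁆ ≤ Kl m) →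
      (∀ v ∈ Q, n * v = v * n → v ∈ Kl m) → m = 1 := fun m h1 h2 => MonoidHom.ext fun v => by
    have hle : ⁅Q, zpowers n⁆ ⊔ (Q ⊓ centralizer (zpowers n : Set Γ)) ≤ Kl m :=
      sup_le h1 fun w hw => h2 w hw.1 (mem_centralizer_iff.1 hw.2 n (mem_zpowers n))
    exact (hKl m (v : Γ) v.2).1 (hle (hdec v.2))
  have hstabn : ∀ m : Q →* Kˣ, n • m = m → ∀ b ∈ zpowers n, b • m = m := fun m hm b hb =>
    (zpowers_le.2 hm : zpowers n ≤ MulAction.stabilizer Γ m) hb
  have hkill_comm : ∀ m : Q →* Kˣ, n • m = m → ⁅Q, zpowers n⁆ ≤ Kl m := by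
    intro m hm
    rw [commutator_le]
    intro w hw b hb
    have hwb : ⁅w, b⁆ ∈ Q := by
      rw [commutatorElement_def, show w * b * w⁻¹ * b⁻¹ = w * (b * w⁻¹ * b⁻¹) by group]
      exact mul_mem hw (hQn.conj_mem _ (inv_mem hw) b)
    refine (hKl m _ hwb).2 ?_
    have e : (⟨⁅w, b⁆, hwb⟩ : Q) = ⟨w, hw⟩ * MulAut.conjNormal b (⟨w, hw⟩⁻¹ : Q) := Subtype.ext (by
      show ⁅w, b⁆ = w * ((MulAut.conjNormal b (⟨w, hw⟩⁻¹ : Q) : Q) : Γ)
      rw [MulAut.conjNormal_apply, InvMemClass.coe_inv, commutatorElement_def]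
      group)
    have e2 : m (MulAut.conjNormal b (⟨w, hw⟩⁻¹ : Q)) = m (⟨w, hw⟩⁻¹ : Q) := by
      conv_rhs => rw [← hstabn m hm b⁻¹ (inv_mem hb)]
      rw [dual_smul_apply, inv_inv]
    rw [e, map_mul, e2, map_inv, mul_inv_cancel]
  let e : (Q →* Kˣ) → Module.End K W := fun l => weightIdem Q ρ l
  have hkill_fix : ∀ m : Q →* Kˣ, e m ≠ 0 → n • m ≠ m → ∀ v ∈ Q, n * v = v * n → v ∈ Kl m := by
    intro m hm hnm v hv hnv
    refine (hKl m v hv).2 ?_
    have h1 := h.fix_block hQK hnm hv hnv (by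
      rw [map_mul_weightIdem_smul,
        dual_smul_eq_self_of_commute m fun z hz => hab v hv z hz])
    rw [show ρ v * weightIdem Q ρ m = (m ⟨v, hv⟩ : K) • weightIdem Q ρ m from
      map_mem_mul_weightIdem ρ m ⟨v, hv⟩] at h1
    have h2 : ((m ⟨v, hv⟩ : K) - 1) • weightIdem Q ρ m = 0 := by
      rw [sub_smul, one_smul, sub_eq_zero]; exact h1
    exact Units.ext (sub_eq_zero.mp ((smul_eq_zero.mp h2).resolve_right hm))
  have hocc : ∀ (g : Γ) (m : Q →* Kˣ), e m ≠ 0 → e (g • m) ≠ 0 := fun g m hm h0 =>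
    hm ((weightIdem_smul_eq_zero_iff ρ g m).mp h0)
  -- the test
  have hred : ∀ x ∈ S, ∀ y (hy : y ∈ Q),
      (∀ l, e l ≠ 0 → (x • l) ⟨y, hy⟩ = l ⟨y, hy⟩) → y * x = x * y := by
    intro x hx y hy hl
    refine hinj x hx y hy (eq_of_forall_mul_weightIdem ρ hQc hQK fun l hl0 => ?_)
    have h1 : ρ x * weightIdem Q ρ l = weightIdem Q ρ (x • l) * ρ x := map_mul_weightIdem_smul ρ x l
    calc ρ (y * x) * weightIdem Q ρ l = ρ y * weightIdem Q ρ (x • l) * ρ x := by
          rw [map_mul, mul_assoc, h1, ← mul_assoc]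
      _ = (l ⟨y, hy⟩ : K) • (weightIdem Q ρ (x • l) * ρ x) := by
          rw [show ρ y * weightIdem Q ρ (x • l) =
            ((x • l) ⟨y, hy⟩ : K) • weightIdem Q ρ (x • l) from
              map_mem_mul_weightIdem ρ (x • l) ⟨y, hy⟩, hl l hl0, smul_mul_assoc]
      _ = ρ x * ((l ⟨y, hy⟩ : K) • weightIdem Q ρ l) := by rw [mul_smul_comm, h1]
      _ = ρ (x * y) * weightIdem Q ρ l := by
          rw [map_mul, mul_assoc, show ρ y * weightIdem Q ρ l = (l ⟨y, hy⟩ : K) • weightIdem Q ρ l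
            from map_mem_mul_weightIdem ρ l ⟨y, hy⟩]
  rcases hC with hI | hII
  · -- `n` centralises `S`
    intro y hy x hx
    refine hred x hx y hy fun l hl0 => ?_
    suffices hfix : x • l = l by rw [hfix]
    by_cases hl1 : l = 1
    · rw [hl1, dual_smul_one]
    by_cases hnl : n • l = l
    · have hnxl : n • (x • l) = x • l := by rw [← mul_smul, hI x hx, mul_smul, hnl]
      have hμ : (x • l) * l⁻¹ = 1 := by
        refine hfull _ ?_ ?_
        · intro v hv
          have hvQ : v ∈ Q := (commutator_le.2 fun w hw b _ => by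
            rw [commutatorElement_def, show w * b * w⁻¹ * b⁻¹ = w * (b * w⁻¹ * b⁻¹) by group]
            exact mul_mem hw (hQn.conj_mem _ (inv_mem hw) b)) hv
          refine (hKl _ v hvQ).2 ?_
          rw [MonoidHom.mul_apply, MonoidHom.inv_apply,
            (hKl _ v hvQ).1 (hkill_comm _ hnxl hv), (hKl _ v hvQ).1 (hkill_comm _ hnl hv),
            inv_one, one_mul]
        · intro v hv hnv
          refine (hKl _ v hv).2 ?_
          have hc : v * x = x * v :=
            hinj x hx v hv (h.centr v hv hnv x hx (hI x hx))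
          have e1 : MulAut.conjNormal x⁻¹ (⟨v, hv⟩ : Q) = ⟨v, hv⟩ := Subtype.ext (by
            rw [MulAut.conjNormal_apply, inv_inv, mul_assoc, hc, inv_mul_cancel_left])
          rw [MonoidHom.mul_apply, MonoidHom.inv_apply, dual_smul_apply, e1, mul_inv_cancel]
      exact mul_inv_eq_one.mp hμ
    -- a moved weight
    obtain ⟨a, ha, ha1, hal⟩ := h.exists_stab hQK hl0
    obtain ⟨hane, hstab⟩ := h.stab_outer hnl ha hal ha1
    have hkey : ∀ x ∈ S, a • (x • l) = x • l := by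
      intro x hx
      have hnxl : n • (x • l) ≠ x • l := fun h0 => hnl (smul_left_cancel x (by
        rwa [← mul_smul, ← hI x hx, mul_smul]))
      obtain ⟨a', ha', ha'1, ha'l⟩ := h.exists_stab hQK (hocc x l hl0)
      obtain ⟨i, j, hij⟩ := (h.ops.outer a ha hane).2 a' ha'
      have hajl : a ^ j • l = l :=
        (zpowers_le.2 hal : zpowers a ≤ MulAction.stabilizer Γ l) (pow_mem (mem_zpowers a) j)
      by_cases hni : n ^ i = 1
      · rw [hni, one_mul] at hij
        have haj : a ^ j ≠ 1 := hij ▸ ha'1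
        exact (zpowers_le.2 (hij ▸ ha'l) : zpowers (a ^ j) ≤ MulAction.stabilizer Γ (x • l))
          (mem_zpowers_of_prime_pow h.ops.hp (h.ops.outer a ha hane).1 haj)
      exfalso
      set c := a' * x * a'⁻¹ with hc
      have hcS : c ∈ S := (mem_normalizer_iff.1 (h.normS ha') x).1 hx
      set x' := x⁻¹ * c with hx'
      have hx'S : x' ∈ S := mul_mem (inv_mem hx) hcS
      have h1 : (x' * n ^ i) • l = l := by
        rw [show x' * n ^ i = x⁻¹ * (a' * x) * (a ^ j)⁻¹ by rw [hx', hc, hij]; group, mul_smul,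
          inv_smul_eq_iff.2 hajl.symm, mul_smul, mul_smul, ha'l, inv_smul_smul]
      have hcm : Commute x' (n ^ i) := Commute.pow_right (show Commute x' n from (hI x' hx'S).symm) i
      set k := orderOf x' with hk
      have h2 : (n ^ i) ^ k • l = l := by
        have h3 : (x' * n ^ i) ^ k ∈ MulAction.stabilizer Γ l := pow_mem h1 k
        rwa [hcm.mul_pow, hk, pow_orderOf_eq_one, one_mul] at h3
      rw [← pow_mul] at h2
      have hik : n ^ (i * k) ≠ 1 := fun h0 => by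
        have hd := orderOf_dvd_of_pow_eq_one h0
        rw [h.ops.orderOf_eq] at hd
        rcases h.ops.hq.dvd_mul.mp hd with hd | hd
        · obtain ⟨c', rfl⟩ := hd
          exact hni (by rw [pow_mul, h.ops.npow, one_pow])
        · obtain ⟨e', he'⟩ := h.pS ⟨x', hx'S⟩
          exact h.hsq.symm ((Nat.prime_dvd_prime_iff_eq h.ops.hq Fact.out).mp
            (h.ops.hq.dvd_of_dvd_pow (hd.trans
              (orderOf_dvd_of_pow_eq_one (congrArg Subtype.val he')))))
      exact hnl ((zpowers_le.2 h2 : zpowers (n ^ (i * k)) ≤ MulAction.stabilizer Γ l)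
        (mem_zpowers_of_prime_pow h.ops.hq h.ops.npow hik))
    have hle : S ≤ MulAction.stabilizer Γ l := by
      rw [← Coprime.commutator_sup_centralizer ((zpowers_le.2 ha).trans h.normS)
        (Coprime.coprime_of_le (h.ops.coprime_card h.pS h.hsp h.hsq) (zpowers_le.2 ha) le_rfl)
        (Or.inl (Coprime.isSolvable_zpowers a))]
      refine sup_le (commutator_le.2 fun x hx b hb => ?_) fun x hx => ?_
      · have hb2 : b • (x⁻¹ • l) = x⁻¹ • l :=
          (zpowers_le.2 (hkey x⁻¹ (inv_mem hx)) :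
            zpowers a ≤ MulAction.stabilizer Γ (x⁻¹ • l)) hb
        have hb1 : b⁻¹ • l = l :=
          (zpowers_le.2 hal : zpowers a ≤ MulAction.stabilizer Γ l) (inv_mem hb)
        show (⁅x, b⁆ : Γ) • l = l
        rw [commutatorElement_def, mul_smul, hb1, mul_smul, mul_smul, hb2, smul_inv_smul]
      · rw [h.fixS x hx.1 (h.ops.commute_all ha hane (hI x hx.1)
          (mem_centralizer_iff.1 hx.2 a (mem_zpowers a)))]
        exact one_mem _
    exact hle hx
  -- `n` acts without fixed points on the image of `S`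
  haveI := (card_dual (K := K) hQc hQK).1
  have hSl : ∀ x ∈ S, ∀ x' ∈ S, ∀ m : Q →* Kˣ, ⁅x, x'⁆ • m = m := fun x hx x' hx' m =>
    dual_smul_eq_self_of_commute m fun z hz => hSS x hx x' hx' z hz
  have hS1 : ∀ (l : Q →* Kˣ), n • l = l → ∀ x ∈ S, n • (x • l) = x • l → x • l = l := by
    intro l hnl x hx hnxl
    set Sl := S ⊓ MulAction.stabilizer Γ l with hSldef
    have hnN : n ∈ normalizer (Sl : Set Γ) :=
      inf_normalizer_le_normalizer_inf ⟨h.normS h.ops.mem, le_normalizer hnl⟩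
    obtain ⟨u, hu, hux⟩ := Coprime.exists_mul_mem_centralizer (A := zpowers n) (N := Sl)
      (zpowers_le.2 hnN)
      (Coprime.coprime_of_le (h.ops.coprime_card h.pS h.hsp h.hsq) (zpowers_le.2 h.ops.mem)
        inf_le_left)
      (Or.inl (Coprime.isSolvable_zpowers n)) (k := x) fun b hb => by
        have hcS : ⁅b, x⁆ ∈ S := by
          rw [commutatorElement_def]
          exact mul_mem ((mem_normalizer_iff.1 ((zpowers_le.2 (h.normS h.ops.mem)) hb) x).1 hx)
            (inv_mem hx)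
        refine ⟨hcS, ?_⟩
        show (⁅b, x⁆ : Γ) • l = l
        have h1 : ⁅b, x⁆ • (x • l) = x • l := by
          rw [commutatorElement_def, ← mul_smul, inv_mul_cancel_right, mul_smul, mul_smul,
            hstabn l hnl b⁻¹ (inv_mem hb), hstabn (x • l) hnxl b hb]
        have h2 : (x⁻¹ * ⁅b, x⁆ * x) • l = l := by
          rw [mul_smul, mul_smul, h1, inv_smul_smul]
        rwa [show x⁻¹ * ⁅b, x⁆ * x = ⁅x⁻¹, ⁅b, x⁆⁆ * ⁅b, x⁆ by
          simp only [commutatorElement_def]; group, mul_smul,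
          hSl x⁻¹ (inv_mem hx) _ hcS] at h2
    have hc := hII (u * x) (mul_mem hu.1 hx) (mem_centralizer_iff.1 hux n (mem_zpowers n))
    have h3 : (u * x) • l = l := dual_smul_eq_self_of_commute l fun z hz => hc z hz
    have h4 : u⁻¹ • l = l := (inv_mem hu.2 : u⁻¹ ∈ MulAction.stabilizer Γ l)
    calc x • l = (u⁻¹ * (u * x)) • l := by rw [inv_mul_cancel_left]
      _ = l := by rw [mul_smul, h3, h4]
  let D : Γ → (Q →* Kˣ) →* (Q →* Kˣ) := fun g =>
    { toFun := fun m => g • m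
      map_one' := dual_smul_one g
      map_mul' := fun m m' => rfl }
  have hDap : ∀ g m, D g m = g • m := fun g m => rfl
  let N : (Q →* Kˣ) → (Q →* Kˣ) := fun m => ∏ i ∈ Finset.range q, n ^ i • m
  have hNfix : ∀ m, n • N m = N m := by
    intro m
    show D n (∏ i ∈ Finset.range q, n ^ i • m) = ∏ i ∈ Finset.range q, n ^ i • m
    rw [map_prod]
    simp only [hDap, ← mul_smul, ← pow_succ']
    have h1 := Finset.prod_range_succ (fun i => n ^ i • m) q
    rw [Finset.prod_range_succ' (fun i => n ^ i • m) q, h.ops.npow, pow_zero] at h1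
    exact mul_right_cancel h1
  have hNmoved : ∀ m, e m ≠ 0 → n • m ≠ m → N m = 1 := by
    intro m hm hnm
    refine hfull _ (hkill_comm _ (hNfix m)) fun v hv hnv => (hKl _ v hv).2 ?_
    rw [MonoidHom.finsetProd_apply]
    refine Finset.prod_eq_one fun i _ => ?_
    rw [dual_smul_apply]
    have e1 : MulAut.conjNormal (n ^ i)⁻¹ (⟨v, hv⟩ : Q) = ⟨v, hv⟩ := Subtype.ext (by
      rw [MulAut.conjNormal_apply, inv_inv, mul_assoc,
        ← ((show Commute n v from hnv).pow_left i).eq, inv_mul_cancel_left])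
    rw [e1]
    exact (hKl m v hv).1 (hkill_fix m hm hnm v hv hnv)
  have hfixed : ∀ l, e l ≠ 0 → n • l = l → ∀ x ∈ S, x • l = l := by
    intro l hl0 hnl y hy
    haveI : Fintype S := Fintype.ofFinite S
    let L : Q →* Kˣ := ∏ x : S, (x : Γ) • l
    have hyL : y • L = L := by
      show D y L = L
      rw [map_prod]
      refine Fintype.prod_equiv (Equiv.mulLeft ⟨y, hy⟩) _ _ fun x => ?_
      show y • ((x : Γ) • l) = _
      rw [← mul_smul]; rfl
    let σn : S → S := fun x => ⟨n * x * n⁻¹, (mem_normalizer_iff.1 (h.normS h.ops.mem) x).1 x.2⟩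
    have hσ : Function.Bijective σn := by
      refine Finite.injective_iff_bijective.mp fun a b hab => Subtype.ext ?_
      exact mul_left_cancel (mul_right_cancel (congrArg Subtype.val hab))
    have hnL : n • L = L := by
      show D n L = L
      rw [map_prod]
      refine Fintype.prod_bijective σn hσ _ _ fun x => ?_
      show n • ((x : Γ) • l) = (n * x * n⁻¹) • l
      rw [mul_smul, hstabn l hnl n⁻¹ (inv_mem (mem_zpowers n)), mul_smul]
    have hNL1 : N L = L ^ q := by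
      show (∏ i ∈ Finset.range q, n ^ i • L) = L ^ q
      rw [Finset.prod_congr rfl fun i _ => hstabn L hnL (n ^ i) (pow_mem (mem_zpowers n) i),
        Finset.prod_const, Finset.card_range]
    have hNL2 : N L = ∏ x : S, N ((x : Γ) • l) := by
      show (∏ i ∈ Finset.range q, D (n ^ i) L) = _
      simp only [L, map_prod]
      exact Finset.prod_comm
    have hterm : ∀ x : S, N ((x : Γ) • l) = if (x : Γ) • l = l then l ^ q else 1 := by
      intro x
      split_ifs with hx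
      · rw [hx]
        show (∏ i ∈ Finset.range q, n ^ i • l) = l ^ q
        rw [Finset.prod_congr rfl fun i _ => hstabn l hnl (n ^ i) (pow_mem (mem_zpowers n) i),
          Finset.prod_const, Finset.card_range]
      · exact hNmoved _ (hocc _ l hl0) fun h0 => hx (hS1 l hnl x x.2 h0)
    rw [hNL1, Finset.prod_congr rfl fun x _ => hterm x, Finset.prod_ite, Finset.prod_const_one,
      mul_one, Finset.prod_const] at hNL2
    set c := (Finset.univ.filter fun x : S => (x : Γ) • l = l).card with hc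
    have hNL3 : l ^ (q * c) = L ^ q := (pow_mul l q c).trans hNL2.symm
    have hcdvd : c ∣ Nat.card S := by
      have e1 : Nat.card ↥((MulAction.stabilizer Γ l).subgroupOf S) = c := by
        rw [Nat.card_eq_fintype_card, hc, ← Fintype.card_subtype]
        exact Fintype.card_congr (Equiv.subtypeEquivRight fun x => Iff.rfl)
      rw [← e1]
      exact Subgroup.card_subgroup_dvd_card _
    have h1 : (y • l) ^ (q * c) = l ^ (q * c) := by
      calc (y • l) ^ (q * c) = D y (l ^ (q * c)) := (MonoidHom.map_pow (D y) l (q * c)).symm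
        _ = D y (L ^ q) := by rw [hNL3]
        _ = (y • L) ^ q := MonoidHom.map_pow (D y) L q
        _ = l ^ (q * c) := by rw [hyL, hNL3]
    refine MonoidHom.ext fun v => ?_
    have h2 := congrArg (fun f : Q →* Kˣ => f v) h1
    simp only [MonoidHom.pow_apply] at h2
    have h3 : ((y • l) v * (l v)⁻¹) ^ (q * c) = 1 := by rw [mul_pow, inv_pow, h2, mul_inv_cancel]
    have h4 : ((y • l) v * (l v)⁻¹) ^ Nat.card Q = 1 := by
      rw [mul_pow, inv_pow, ← map_pow, ← map_pow, pow_card_eq_one', map_one, map_one, inv_one,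
        mul_one]
    have hcop : (q * c).Coprime (Nat.card Q) := by
      obtain ⟨i, hi⟩ := IsPGroup.iff_card.mp h.pQ
      obtain ⟨j, hj⟩ := IsPGroup.iff_card.mp h.pS
      rw [hi]
      refine Nat.Coprime.pow_right i (Nat.Coprime.mul_left
        ((Nat.coprime_primes h.ops.hq Fact.out).2 h.htq.symm) ?_)
      exact (((Nat.coprime_primes Fact.out Fact.out).2 h.hts.symm).pow_left j).coprime_dvd_left
        (hj ▸ hcdvd)
    have h5 := pow_gcd_eq_one.mpr ⟨h3, h4⟩
    rw [hcop.gcd_eq_one, pow_one] at h5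
    exact mul_inv_eq_one.mp h5
  refine h.finish_moved hexp (fun a ha b hb => ?_) (fun a ha => ?_) hSS hII fun y hy hny => ?_
  · rw [show ⁅a, b⁆ = 1 from commutatorElement_eq_one_iff_mul_comm.2 (hab a ha b hb)]
    exact one_mem _
  · refine mem_normalizer_iff_map_conj_eq.2 (eq_of_le_of_card_ge ?_
      (by rw [card_map_of_injective (MulAut.conj a).injective]))
    rintro _ ⟨z, hz, rfl⟩
    show a * z * a⁻¹ ∈ _
    rw [hab a ha z hz.1, mul_inv_cancel_right]
    exact hz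
  · refine mem_centralizer_iff.2 fun x hx => (hred x hx y hy fun l hl0 => ?_).symm
    by_cases hnl : n • l = l
    · rw [hfixed l hl0 hnl x hx]
    have hnxl : n • (x • l) ≠ x • l := fun h0 => hnl (by
      have h1 := hfixed (x • l) (hocc x l hl0) h0 x⁻¹ (inv_mem hx)
      rw [inv_smul_smul] at h1
      rw [h1]; exact h0)
    rw [(hKl _ y hy).1 (hkill_fix _ (hocc x l hl0) hnxl y hy hny),
      (hKl _ y hy).1 (hkill_fix l hl0 hnl y hy hny)]

/-- An exceptional block is impossible. -/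
theorem PQData.exceptional_case [IsAlgClosed K] [FiniteDimensional K W] [Fact t.Prime]
    [Fact s.Prime] [hQn : Q.Normal] (h : PQData p q t s n A Q S ρ) {Z : Subgroup Γ} [Fintype Z]
    [Z.Normal] (hZQ : Z ≤ Q) (hZS : ∀ z ∈ Z, z ∈ centralizer (S : Set Γ))
    (hZ : ∀ z, z ∈ Q → z ∈ centralizer (S : Set Γ) → z ∈ Z)
    (hZc : ∀ z ∈ Z, ∀ y ∈ Q, y * z = z * y) (hexp : ∀ y ∈ Q, y ^ t ∈ Z)
    (hcomm : ∀ x ∈ Q, ∀ y ∈ Q, ⁅x, y⁆ ∈ Z)
    (hSS : ∀ x ∈ S, ∀ x' ∈ S, ∀ y ∈ Q, ⁅x, x'⁆ * y = y * ⁅x, x'⁆) {l : Z →* Kˣ}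
    (hl : weightIdem Z ρ l ≠ 0) {a : Γ} (ha : a ∈ A) (hap : a ^ p = 1) (hal : a • l = l)
    (hfixS : ∀ x ∈ S, a * x = x * a → x = 1)
    (hsum : (∑ i ∈ Finset.range p, ρ (a ^ i)) * weightIdem Z ρ l = 0) {m : ℕ} (hm : p - 1 = t ^ m)
    {T T₀ : Subgroup Γ} (hT₀T : T₀ ≤ T) (hTQ : T ≤ Q) (hgen : ∀ x ∈ Q, ⁅a, x⁆ ∈ T)
    (hscal : ∀ x ∈ T₀, ∃ κ : K, ρ x * weightIdem Z ρ l = κ • weightIdem Z ρ l)
    (hidx : T₀.relIndex T = (p - 1) * (p - 1)) :
    ∀ y ∈ Q, ∀ x ∈ S, ρ (y * x) * weightIdem Z ρ l = ρ (x * y) * weightIdem Z ρ l := by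
  classical
  set e := weightIdem Z ρ l with he
  set Γ₁ := MulAction.stabilizer Γ l with hΓ₁
  have hcΓ₁ : ∀ o ∈ Γ₁, ρ o * e = e * ρ o := fun o ho => by
    rw [he, map_mul_weightIdem_smul, MulAction.mem_stabilizer_iff.mp ho]
  have hQΓ : Q ≤ Γ₁ := fun o ho => dual_smul_eq_self_of_commute l fun z hz => hZc z hz o ho
  have hSΓ : S ≤ Γ₁ := fun o ho =>
    dual_smul_eq_self_of_commute l fun z hz => mem_centralizer_iff.1 (hZS z hz) o ho
  set R := wCentral Q ρ e (fun y hy => hcΓ₁ y (hQΓ hy)) with hR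
  have hRQ : R ≤ Q := wCentral_le ρ
  have hRmem : ∀ x, x ∈ R ↔ x ∈ Q ∧ ∀ y ∈ Q, ρ (x * y) * e = ρ (y * x) * e := fun _ => Iff.rfl
  have hZR : Z ≤ R := fun z hz => (hRmem _).2 ⟨hZQ hz, fun y hy => by rw [hZc z hz y hy]⟩
  have hT₀R : T₀ ≤ R := by
    intro x hx
    obtain ⟨κ, hκ⟩ := hscal x hx
    have hxQ := hTQ (hT₀T hx)
    refine (hRmem _).2 ⟨hxQ, fun y hy => ?_⟩
    calc ρ (x * y) * e = ρ x * e * ρ y := by rw [map_mul, mul_assoc, hcΓ₁ y (hQΓ hy), ← mul_assoc]
      _ = κ • (e * ρ y) := by rw [hκ, smul_mul_assoc]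
      _ = ρ (y * x) * e := by rw [← hcΓ₁ y (hQΓ hy), map_mul, mul_assoc, hκ, mul_smul_comm]
  have hΓR : ∀ g ∈ Γ₁, g ∈ normalizer (R : Set Γ) := fun g hg => by
    refine mem_normalizer_iff_map_conj_eq.2 (eq_of_le_of_card_ge ?_
      (by rw [card_map_of_injective (MulAut.conj g).injective]))
    rintro _ ⟨x, hx, rfl⟩
    exact conj_mem_wCentral ρ (hcΓ₁ g hg) hx
  set X := normalizer (R : Set Γ) with hX
  have haX : a ∈ X := hΓR a hal
  have hQX : Q ≤ X := fun y hy => hΓR y (hQΓ hy)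
  have hSX : S ≤ X := fun y hy => hΓR y (hSΓ hy)
  set M := Q.subgroupOf X with hM
  set R' := R.subgroupOf X with hR'
  haveI : M.Normal := hQn.subgroupOf X
  haveI : R'.Normal := (normal_subgroupOf_iff_le_normalizer le_normalizer).2 le_rfl
  set mk := QuotientGroup.mk' R' with hmk
  have hMexp : ∀ y ∈ M, y ^ t ∈ R' := fun y hy => hZR (hexp _ hy)
  have hMcomm : ∀ y ∈ M, ∀ z ∈ M, ⁅y, z⁆ ∈ R' := fun y hy z hz => hZR (hcomm _ hy _ hz)
  haveI : (M.map mk).Normal :=
    (inferInstance : M.Normal).map mk (QuotientGroup.mk'_surjective _)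
  haveI hcm : IsMulCommutative (M.map mk) := Solvable.Basic.isMulCommutative_subgroup_iff.mpr (by
    rintro _ ⟨b, hb, rfl⟩ _ ⟨c, hc, rfl⟩
    rw [← commutatorElement_eq_one_iff_mul_comm, ← map_commutatorElement]
    exact (QuotientGroup.eq_one_iff _).mpr (hMcomm b hb c hc))
  letI : CommGroup (M.map mk) :=
    { (inferInstance : Group (M.map mk)) with mul_comm := mul_comm' }
  set S' := S.subgroupOf X with hS'
  set Y := normalizer (S' : Set X) with hY
  let a₁ : X := ⟨a, haX⟩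
  have haY : a₁ ∈ Y := mem_normalizer_iff.2 fun z => mem_normalizer_iff.1 (h.normS ha) (z : Γ)
  let a₂ : Y := ⟨a₁, haY⟩
  let φ : Y →* MulAut (M.map mk) := MulAut.conjNormal.comp (mk.comp Y.subtype)
  have ha₁p : a₁ ^ p = 1 := Subtype.ext hap
  have hφ : ∀ (g : Y) (b : X) (hb : b ∈ M), φ g ⟨mk b, Subgroup.mem_map_of_mem mk hb⟩ =
      ⟨mk b, Subgroup.mem_map_of_mem mk hb⟩ ↔ ⁅(g : X), b⁆ ∈ R' := by
    intro g b hb
    rw [← Subtype.val_inj, ← QuotientGroup.eq_one_iff]
    show ((MulAut.conjNormal (mk (g : X)) (⟨mk b, _⟩ : M.map mk) : M.map mk) : X ⧸ R') = mk b ↔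
      mk ⁅(g : X), b⁆ = 1
    rw [MulAut.conjNormal_apply, map_commutatorElement, commutatorElement_def, mul_inv_eq_one]
  -- fixed cosets lift
  have hlift : ∀ {B : Subgroup X}, (Nat.card B).Coprime (Nat.card M) → Group.IsSolvable B →
      ∀ b ∈ M, (∀ g ∈ B, ⁅g, b⁆ ∈ R') → ∃ b' ∈ M, (∀ g ∈ B, g * b' = b' * g) ∧ mk b' = mk b :=
    fun {B} hc hs b hb hg => exists_fixed_of_map (A := B) (Q := M) (K₀ := R')
      (by rw [normalizer_eq_top]; exact le_top) hc hs hb fun g hgB =>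
        commutatorElement_eq_one_iff_mul_comm.mp
          ((map_commutatorElement _ _ _).symm.trans ((QuotientGroup.eq_one_iff _).mpr (hg g hgB)))
  obtain ⟨iS, hiS⟩ := IsPGroup.iff_card.mp h.pS
  obtain ⟨iQ, hiQ⟩ := IsPGroup.iff_card.mp h.pQ
  have hcardS : Nat.card S' = s ^ iS := by
    rw [Nat.card_congr (subgroupOfEquivOfLe hSX).toEquiv, hiS]
  have hcardM : Nat.card M = t ^ iQ := by
    rw [Nat.card_congr (subgroupOfEquivOfLe hQX).toEquiv, hiQ]
  have hS'cop : (Nat.card S').Coprime (Nat.card M) := by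
    rw [hcardS, hcardM]
    exact ((Nat.coprime_primes Fact.out Fact.out).2 h.hts.symm).pow _ _
  have hS'solv : Group.IsSolvable S' := by
    haveI := (h.pS.of_equiv (subgroupOfEquivOfLe hSX).symm).isNilpotent
    infer_instance
  let ψ : (M.map mk) →* (M.map mk) :=
    { toFun := fun v => φ a₂ v * v⁻¹
      map_one' := by rw [map_one, inv_one, mul_one]
      map_mul' := fun v w => by rw [map_mul, mul_inv]; exact mul_mul_mul_comm _ _ _ _ }
  have hbound : Nat.card ψ.ker ^ p ≤ Nat.card (M.map mk) := by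
    haveI : (S'.subgroupOf Y).Normal :=
      (normal_subgroupOf_iff_le_normalizer le_normalizer).2 le_rfl
    refine fixed_card_pow_le (t := t) h.ops.hp ?_ φ (h := a₂) (Subtype.ext ha₁p)
      (S := S'.subgroupOf Y) ?_ ?_ ?_ ?_ ψ.ker fun v hv => mul_inv_eq_one.mp hv
    · rintro ⟨_, b, hb, rfl⟩
      apply Subtype.ext
      rw [SubmonoidClass.coe_pow, ← map_pow, OneMemClass.coe_one]
      exact (QuotientGroup.eq_one_iff _).mpr (hMexp b hb)
    · rw [Nat.card_congr (subgroupOfEquivOfLe (le_normalizer (H := S'))).toEquiv, hcardS]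
      exact ((Nat.coprime_primes Fact.out Fact.out).2 h.hts.symm).pow_left _
    · intro g hg k hk
      refine MulEquiv.ext ?_
      rintro ⟨_, b, hb, rfl⟩
      have e1 : φ ⁅g, k⁆ ⟨mk b, Subgroup.mem_map_of_mem mk hb⟩ =
          ⟨mk b, Subgroup.mem_map_of_mem mk hb⟩ := (hφ _ b hb).2 (by
        have e : ⁅((⁅g, k⁆ : Y) : X), b⁆ = 1 := commutatorElement_eq_one_iff_mul_comm.2
          (Subtype.ext (hSS _ hg _ hk _ hb))
        rw [e]; exact one_mem _)
      have e3 : φ ⁅g, k⁆ = 1 := MulEquiv.ext (by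
        rintro ⟨_, c, hc, rfl⟩
        exact (hφ _ c hc).2 (by
          have e : ⁅((⁅g, k⁆ : Y) : X), c⁆ = 1 := commutatorElement_eq_one_iff_mul_comm.2
            (Subtype.ext (hSS _ hg _ hk _ hc))
          rw [e]; exact one_mem _))
      rw [show g * k = ⁅g, k⁆ * (k * g) by rw [commutatorElement_def]; group, map_mul φ ⁅g, k⁆, e3,
        one_mul]
    · rintro ⟨_, b, hb, rfl⟩ hf
      obtain ⟨b', hb', hbc, hbm⟩ := hlift hS'cop hS'solv b hb fun g hg =>
        (hφ ⟨g, le_normalizer hg⟩ b hb).1 (hf _ hg)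
      apply Subtype.ext
      show mk b = 1
      rw [← hbm]
      refine (QuotientGroup.eq_one_iff _).mpr (hZR (hZ _ hb' (mem_centralizer_iff.2 fun x hx => ?_)))
      exact congrArg Subtype.val (hbc ⟨x, hSX hx⟩ hx)
    · intro g hg
      have hg' : ((g : X) : Γ) ∈ S := hg
      have h1 : S'.subgroupOf Y = ⁅S'.subgroupOf Y, zpowers a₂⁆ ⊔
          (S'.subgroupOf Y ⊓ centralizer (zpowers a₂ : Set Y)) :=
        (Coprime.commutator_sup_centralizer (by rw [normalizer_eq_top]; exact le_top)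
          (by
            rw [Nat.card_zpowers, Nat.card_congr (subgroupOfEquivOfLe (le_normalizer (H := S'))).toEquiv,
              hcardS]
            exact Nat.Coprime.coprime_dvd_left (orderOf_dvd_of_pow_eq_one (n := p) (Subtype.ext ha₁p))
              (((Nat.coprime_primes h.ops.hp Fact.out).2 h.hsp.symm).pow_right _))
          (Or.inl (Coprime.isSolvable_zpowers a₂))).symm
      rw [h1] at hg
      refine (sup_le le_rfl ?_ : _ ≤ ⁅S'.subgroupOf Y, zpowers a₂⁆) hg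
      intro x hx
      have hx1 : ((x : X) : Γ) = 1 := hfixS _ hx.1
        (congrArg (fun z : Y => ((z : X) : Γ)) (mem_centralizer_iff.1 hx.2 a₂ (mem_zpowers a₂)))
      rw [show x = 1 from Subtype.ext (Subtype.ext hx1)]
      exact one_mem _
  -- the image of `ψ` lies in that of `T`
  have hrange : Nat.card ψ.range ≤ (p - 1) * (p - 1) := by
    set T' := T.subgroupOf X with hT'
    have hle : ψ.range.map (M.map mk).subtype ≤ T'.map mk := by
      rintro _ ⟨_, ⟨⟨_, b, hb, rfl⟩, rfl⟩, rfl⟩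
      refine ⟨⁅a₁, b⁆, hgen _ hb, ?_⟩
      show mk ⁅a₁, b⁆ = ((φ a₂ ⟨mk b, _⟩ * (⟨mk b, _⟩ : M.map mk)⁻¹ : M.map mk) : X ⧸ R')
      rw [Subgroup.coe_mul, InvMemClass.coe_inv, map_commutatorElement, commutatorElement_def]
      show _ = ((MulAut.conjNormal (mk a₁) (⟨mk b, _⟩ : M.map mk) : M.map mk) : X ⧸ R') * _
      rw [MulAut.conjNormal_apply]
    have h1 : Nat.card (T'.map mk) ∣ T₀.relIndex T := by
      rw [← Subgroup.relIndex_ker, QuotientGroup.ker_mk',
        Subgroup.relIndex_subgroupOf (L := X) (H := R) (hTQ.trans hQX)]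
      exact Subgroup.relIndex_dvd_of_le_left T hT₀R
    have hpos : 0 < (p - 1) * (p - 1) := by
      have := h.ops.hp.two_le
      exact Nat.mul_pos (by omega) (by omega)
    calc Nat.card ψ.range = Nat.card (ψ.range.map (M.map mk).subtype) :=
          (card_map_of_injective (M.map mk).subtype_injective).symm
      _ ≤ Nat.card (T'.map mk) := Subgroup.card_le_of_le hle
      _ ≤ _ := Nat.le_of_dvd hpos (hidx ▸ h1)
  have hcard : Nat.card (M.map mk) = Nat.card ψ.range * Nat.card ψ.ker := by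
    rw [← Subgroup.index_ker, Subgroup.index_mul_card]
  have hMp : IsPGroup t (M.map mk) :=
    ((h.pQ.of_equiv (subgroupOfEquivOfLe hQX).symm)).map mk
  obtain ⟨c, hc⟩ := IsPGroup.iff_card.mp (hMp.to_subgroup ψ.ker)
  have hc1 : c ≤ 1 := by
    have h1 : t ^ (c * p) ≤ t ^ (c + 2 * m) := by
      rw [pow_mul, ← hc, pow_add, ← hc, mul_comm 2 m, pow_mul, sq, ← hm]
      calc Nat.card ψ.ker ^ p ≤ Nat.card (M.map mk) := hbound
        _ ≤ _ := by rw [hcard, mul_comm]; exact Nat.mul_le_mul_left _ hrange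
    have h2 := (Nat.pow_le_pow_iff_right (Fact.out : t.Prime).one_lt).mp h1
    by_contra hlt
    have h3 : m < t ^ m := Nat.lt_pow_self (Fact.out : t.Prime).one_lt
    have hp2 := h.ops.hp.two_le
    have h4 : c * p = c + c * (p - 1) := by
      conv_lhs => rw [show p = 1 + (p - 1) by omega]
      rw [mul_add, mul_one]
    have h5 : 2 * (p - 1) ≤ c * (p - 1) := Nat.mul_le_mul_right _ (by omega)
    omega
  have hcopa : (Nat.card (zpowers a₁)).Coprime (Nat.card M) := by
    rw [Nat.card_zpowers, hcardM]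
    exact Nat.Coprime.coprime_dvd_left (orderOf_dvd_of_pow_eq_one ha₁p)
      (((Nat.coprime_primes h.ops.hp Fact.out).2 h.htp.symm).pow_right _)
  have hQA : zpowers a ≤ normalizer (Q : Set Γ) := by rw [normalizer_eq_top]; exact le_top
  have hQdec : Q ≤ ⁅Q, zpowers a⁆ ⊔ (Q ⊓ centralizer (zpowers a : Set Γ)) :=
    (Coprime.commutator_sup_centralizer hQA
      (Coprime.coprime_of_le (h.ops.coprime_card h.pQ h.htp h.htq) (zpowers_le.2 ha) le_rfl)
      (Or.inl (Coprime.isSolvable_zpowers a))).ge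
  -- fixed points are central on the block
  have hfix : ∀ y ∈ Q, a * y = y * a → y ∈ R := by
    intro y hy hay
    let y₁ : X := ⟨y, hQX hy⟩
    have hker : ∀ z : X, ∀ hz : z ∈ M, a * (z : Γ) = z * a →
        (⟨mk z, Subgroup.mem_map_of_mem mk hz⟩ : M.map mk) ∈ ψ.ker := fun z hz haz =>
      MonoidHom.mem_ker.mpr (mul_inv_eq_one.mpr ((hφ a₂ z hz).2 (by
        rw [show ⁅((a₂ : Y) : X), z⁆ = 1 from
          commutatorElement_eq_one_iff_mul_comm.2 (Subtype.ext haz)]
        exact one_mem _)))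
    set v : M.map mk := ⟨mk y₁, Subgroup.mem_map_of_mem mk (show y₁ ∈ M from hy)⟩ with hv
    by_cases hv1 : v = 1
    · exact (QuotientGroup.eq_one_iff y₁).mp (congrArg Subtype.val hv1)
    have hgenv : zpowers v = ψ.ker := by
      refine eq_of_le_of_card_ge (zpowers_le.2 (hker y₁ hy hay)) ?_
      rw [hc, Nat.card_zpowers]
      have h1 : orderOf v ∣ t := by
        refine orderOf_dvd_of_pow_eq_one (Subtype.ext ?_)
        show mk y₁ ^ t = 1
        rw [← map_pow]
        exact (QuotientGroup.eq_one_iff _).mpr (hMexp y₁ hy)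
      rw [((Nat.dvd_prime Fact.out).mp h1).resolve_left fun h0 => hv1 (orderOf_eq_one_iff.mp h0)]
      calc t ^ c ≤ t ^ 1 := Nat.pow_le_pow_right (Fact.out : t.Prime).pos hc1
        _ = t := pow_one t
    have hye : ρ y * e = e * ρ y := hcΓ₁ y (hQΓ hy)
    refine (hRmem _).2 ⟨hy, ?_⟩
    suffices hle : ⁅Q, zpowers a⁆ ⊔ (Q ⊓ centralizer (zpowers a : Set Γ)) ≤
        blockCentralizer ρ e hye from fun z hz => (hle (hQdec hz)).2
    refine sup_le ?_ ?_
    · refine commutator_le.2 fun w hw b hb => ?_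
      rw [← commutatorElement_inv, inv_mem_iff]
      have hby : Commute b y := by
        obtain ⟨i, rfl⟩ := mem_zpowers_iff.mp hb
        exact Commute.zpow_left hay i
      have hbl : b • l = l := (zpowers_le.2 hal : zpowers a ≤ MulAction.stabilizer Γ l) hb
      set z := b * w * b⁻¹ with hz
      have hzQ : z ∈ Q := hQn.conj_mem w hw b
      let κ : K := (l ⟨_, hcomm y hy w hw⟩ : K)
      have h1 : ∀ v ∈ Q, ρ v * e = e * ρ v := fun v hv => hcΓ₁ v (hQΓ hv)
      have hκw : ρ ⁅y, w⁆ * e = κ • e := map_mem_mul_weightIdem ρ l ⟨_, hcomm y hy w hw⟩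
      have hbe : ρ b⁻¹ * e = e * ρ b⁻¹ := hcΓ₁ _ (inv_mem (show b ∈ Γ₁ from hbl))
      have hκz : ρ ⁅y, z⁆ * e = κ • e := by
        rw [show ⁅y, z⁆ = b * ⁅y, w⁆ * b⁻¹ by
          rw [hz]; simp only [commutatorElement_def]
          calc y * (b * w * b⁻¹) * y⁻¹ * (b * w * b⁻¹)⁻¹
              = (y * b) * w * (b⁻¹ * y⁻¹) * (b * w * b⁻¹)⁻¹ := by group
            _ = (b * y) * w * (y⁻¹ * b⁻¹) * (b * w * b⁻¹)⁻¹ := by
                rw [hby.eq, (hby.inv_inv).eq]
            _ = b * (y * w * y⁻¹ * w⁻¹) * b⁻¹ := by group,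
          map_mul, map_mul, mul_assoc, hbe, ← mul_assoc, mul_assoc (ρ b), hκw, mul_smul_comm,
          smul_mul_assoc, hcΓ₁ b hbl, mul_assoc, ← map_mul, mul_inv_cancel, map_one, mul_one]
      have hcg : ∀ v ∈ Q, ρ ⁅y, v⁆ * e = κ • e → ρ (y * v) * e = κ • (ρ (v * y) * e) := by
        intro v hv hκv
        calc ρ (y * v) * e = ρ ⁅y, v⁆ * e * ρ (v * y) := by
              rw [mul_assoc, ← h1 _ (mul_mem hv hy), ← mul_assoc, ← map_mul]
              congr 2; rw [commutatorElement_def]; group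
          _ = κ • (ρ (v * y) * e) := by rw [hκv, smul_mul_assoc, ← h1 _ (mul_mem hv hy)]
      have h3 : ρ (y * z) * e = κ • (ρ (z * y) * e) := hcg z hzQ hκz
      have h4 : ρ (w⁻¹ * y) * e = κ • (ρ (y * w⁻¹) * e) := by
        calc ρ (w⁻¹ * y) * e = ρ w⁻¹ * (ρ (y * w) * e) * ρ w⁻¹ := by
              rw [mul_assoc, mul_assoc, ← h1 _ (inv_mem hw), ← mul_assoc, ← mul_assoc, ← map_mul,
                ← map_mul]
              congr 2; group
          _ = κ • (ρ w⁻¹ * (ρ (w * y) * e) * ρ w⁻¹) := by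
              rw [hcg w hw hκw, mul_smul_comm, smul_mul_assoc]
          _ = κ • (ρ (y * w⁻¹) * e) := by
              rw [mul_assoc, mul_assoc, ← h1 _ (inv_mem hw), ← mul_assoc, ← mul_assoc, ← map_mul,
                ← map_mul]
              congr 3; group
      have hbw : ⁅b, w⁆ ∈ Q := by
        rw [commutatorElement_def]; exact mul_mem hzQ (inv_mem hw)
      refine ⟨h1 _ hbw, ?_⟩
      rw [show ⁅b, w⁆ = z * w⁻¹ by rw [hz, commutatorElement_def]]
      calc ρ (y * (z * w⁻¹)) * e = ρ (y * z) * (ρ w⁻¹ * e) := by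
            rw [← mul_assoc y, map_mul ρ (y * z), mul_assoc]
        _ = ρ (y * z) * e * ρ w⁻¹ := by rw [h1 _ (inv_mem hw), ← mul_assoc]
        _ = κ • (ρ (z * y) * e * ρ w⁻¹) := by rw [h3, smul_mul_assoc]
        _ = ρ z * (κ • (ρ (y * w⁻¹) * e)) := by
            rw [mul_smul_comm]
            congr 1
            rw [mul_assoc, ← h1 _ (inv_mem hw), ← mul_assoc, ← map_mul,
              ← mul_assoc (ρ z), ← map_mul, mul_assoc z]
        _ = ρ (z * w⁻¹ * y) * e := by rw [← h4, ← mul_assoc, ← map_mul, ← mul_assoc]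
    · rintro w ⟨hwQ, hwc⟩
      refine ⟨hcΓ₁ w (hQΓ hwQ), ?_⟩
      obtain ⟨i, hi⟩ := mem_zpowers_iff.mp
        (hgenv.ge (hker ⟨w, hQX hwQ⟩ hwQ (mem_centralizer_iff.1 hwc a (mem_zpowers a))))
      have hi' : mk (y₁ ^ i) = mk ⟨w, hQX hwQ⟩ := by
        rw [map_zpow]; exact congrArg Subtype.val hi
      have hr' := QuotientGroup.eq.mp hi'
      have hr : (y ^ i)⁻¹ * w ∈ R := hr'
      set r₀ := (y ^ i)⁻¹ * w with hr₀
      have hw' : w = y ^ i * r₀ := by rw [hr₀, mul_inv_cancel_left]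
      clear_value r₀
      have h2 : ρ (r₀ * y) * e = ρ (y * r₀) * e := ((hRmem _).1 hr).2 y hy
      rw [hw']
      calc ρ (y * (y ^ i * r₀)) * e = ρ (y ^ i) * (ρ (y * r₀) * e) := by
            rw [← mul_assoc (ρ (y ^ i)), ← map_mul]
            congr 2
            rw [← mul_assoc, ← mul_assoc, (Commute.self_zpow y i).eq]
        _ = ρ (y ^ i * r₀ * y) * e := by rw [← h2, ← mul_assoc, ← map_mul, ← mul_assoc]
  have hcardSp : (Nat.card S').Coprime p := by
    rw [hcardS]; exact ((Nat.coprime_primes Fact.out h.ops.hp).2 h.hsp).pow_left _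
  have hcardSt : (Nat.card S').Coprime t := by
    rw [hcardS]; exact ((Nat.coprime_primes Fact.out Fact.out).2 h.hts.symm).pow_left _
  have hsec : ∀ x ∈ S', ∀ b ∈ M, ⁅x, b⁆ ∈ R' :=
    sec_trivial (N := R') (M := M) (t := t) h.ops.hp h.htp hMexp hMcomm (a := a₁) ha₁p
      (S := S') haY hcardSp hcardSt
      (fun x hx x' hx' b hb => by
        have e : ⁅⁅x, x'⁆, b⁆ = 1 := commutatorElement_eq_one_iff_mul_comm.2
          (Subtype.ext (hSS _ hx _ hx' _ hb))
        rw [e]; exact one_mem _)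
      (fun b hb hab => by
        obtain ⟨b', hb', hbc, hbm⟩ := hlift hcopa (Coprime.isSolvable_zpowers a₁) b hb fun g hg => by
          obtain ⟨i, rfl⟩ := mem_zpowers_iff.mp hg
          refine (QuotientGroup.eq_one_iff _).mp ?_
          show mk ⁅a₁ ^ i, b⁆ = 1
          rw [map_commutatorElement, map_zpow, commutatorElement_eq_one_iff_mul_comm]
          exact Commute.zpow_left (commutatorElement_eq_one_iff_mul_comm.mp
            ((map_commutatorElement _ _ _).symm.trans ((QuotientGroup.eq_one_iff _).mpr hab))) i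
        have h1 : b' ∈ R' := hfix _ hb' (congrArg Subtype.val (hbc a₁ (mem_zpowers a₁)))
        refine (QuotientGroup.eq_one_iff b).mp ?_
        show mk b = 1
        rw [← hbm]
        exact (QuotientGroup.eq_one_iff b').mpr h1)
      fun x hx hax b _ => by
        rw [show x = 1 from Subtype.ext (hfixS _ hx (congrArg Subtype.val hax)),
          commutatorElement_one_left]
        exact one_mem _
  -- `a`, hence `S`, centralises `R` on the block
  obtain ⟨θ, -, hθeq, -, hθsum⟩ := exists_range_rep ρ e Γ₁ hcΓ₁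
  have hRΓ : R ≤ Γ₁ := hRQ.trans hQΓ
  haveI : (R.subgroupOf Γ₁).Normal := ⟨fun x hx g => (mem_normalizer_iff.1 (hΓR g g.2) (x : Γ)).1 hx⟩
  let a₃ : Γ₁ := ⟨a, hal⟩
  have hsum₁ : ∑ i ∈ Finset.range p, θ (a₃ ^ i) = 0 := by
    have h' := (hθsum (Finset.range p) (fun _ => 1) (fun i => a₃ ^ i)).2 (by
      simp only [one_smul, SubmonoidClass.coe_pow]; exact hsum)
    simpa using h'
  have haR : ∀ w ∈ R, ρ (a * w) * e = ρ (w * a) * e := fun w hw =>
    (hθeq (a₃ * ⟨w, hRΓ hw⟩) (⟨w, hRΓ hw⟩ * a₃)).1 (by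
      have hc := commute_of_abelian θ h.ops.hp (n := 0) (s := a₃)
        (Q := R.subgroupOf Γ₁) (by rw [zero_add, pow_one]; exact Subtype.ext hap)
        (by rw [zero_add, pow_one]; exact hsum₁)
        (by
          rw [Nat.card_congr (subgroupOfEquivOfLe hRΓ).toEquiv]
          exact natCard_cast_ne_zero (h.pQ.to_le hRQ) h.tK)
        (fun b hb c hc' => (hθeq (b * c) (c * b)).2 (((hRmem _).1 hb).2 _ (hRQ hc')))
        (y := (⟨w, hRΓ hw⟩ : Γ₁)) hw
      rw [pow_zero, pow_one] at hc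
      exact hc)
  have hSR : ∀ x ∈ S, ∀ w ∈ R, ρ (x * w * x⁻¹) * e = ρ w * e :=
    centralizes_block (ρ := ρ) (e := e) (a := a) (h.normS ha)
      ((h.ops.coprime_card h.pS h.hsp h.hsq).coprime_dvd_left (Subgroup.orderOf_dvd_natCard A ha))
      hSX haX (fun x hx => hcΓ₁ x (hSΓ hx)) (hcΓ₁ a hal) haR
      fun x hx hax w _ => by rw [hfixS x hx hax, one_mul, inv_one, mul_one]
  intro y hy x hx
  have hk : ⁅x, y⁆ ∈ R := hsec ⟨x, hSX hx⟩ hx ⟨y, hQX hy⟩ hy
  set θu := θ.toHomUnits with hθu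
  let x₁ : Γ₁ := ⟨x, hSΓ hx⟩
  let y₁ : Γ₁ := ⟨y, hQΓ hy⟩
  have hone : ⁅θu x₁, θu y₁⁆ = 1 := by
    refine eq_one_of_commute_commutator (p := orderOf x) ?_ ?_ ?_
    · rw [← map_pow, show x₁ ^ orderOf x = 1 from Subtype.ext (pow_orderOf_eq_one x), map_one]
    · have h1 : θ (x₁ * ⁅x₁, y₁⁆ * x₁⁻¹) = θ ⁅x₁, y₁⁆ := (hθeq _ _).2 (hSR x hx _ hk)
      have h2 : θu (x₁ * ⁅x₁, y₁⁆ * x₁⁻¹) = θu ⁅x₁, y₁⁆ := Units.ext h1
      rw [map_mul, map_mul, map_inv, map_commutatorElement] at h2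
      exact mul_inv_eq_iff_eq_mul.mp h2
    · rw [← map_commutatorElement]
      refine Nat.Coprime.coprime_dvd_left ((orderOf_map_dvd θu _).trans ?_)
        (h.coprime_orders (hRQ hk) hx)
      rw [← Subgroup.orderOf_coe ⁅x₁, y₁⁆]
      exact dvd_rfl
  have hxy : θ (x₁ * y₁) = θ (y₁ * x₁) := by
    rw [map_mul, map_mul]
    exact congrArg Units.val (commutatorElement_eq_one_iff_mul_comm.1 hone)
  exact ((hθeq (x₁ * y₁) (y₁ * x₁)).1 hxy).symm

/-- The nonabelian case. -/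
theorem PQData.class2_case [IsAlgClosed K] [FiniteDimensional K W] [Fact t.Prime] [Fact s.Prime]
    [hQn : Q.Normal] (h : PQData p q t s n A Q S ρ)
    (hinj : ∀ x ∈ S, ∀ y ∈ Q, ρ (y * x) = ρ (x * y) → y * x = x * y)
    [hZn : (Q ⊓ centralizer (S : Set Γ) : Subgroup Γ).Normal]
    [Fintype (Q ⊓ centralizer (S : Set Γ) : Subgroup Γ)]
    (hZc : ∀ z ∈ Q ⊓ centralizer (S : Set Γ), ∀ y ∈ Q, y * z = z * y)
    (hexp : ∀ y ∈ Q, y ^ t ∈ Q ⊓ centralizer (S : Set Γ))
    (hcomm : ∀ x ∈ Q, ∀ y ∈ Q, ⁅x, y⁆ ∈ Q ⊓ centralizer (S : Set Γ))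
    (hSS : ∀ x ∈ S, ∀ x' ∈ S, ∀ y ∈ Q, ⁅x, x'⁆ * y = y * ⁅x, x'⁆)
    (hC : (∀ x ∈ S, n * x = x * n) ∨ ∀ x ∈ S, n * x = x * n → ∀ y ∈ Q, x * y = y * x)
    (hone : ∀ y ∈ Q, ∀ x ∈ S,
      ρ (y * x) * weightIdem (Q ⊓ centralizer (S : Set Γ)) ρ (1 : (Q ⊓ centralizer (S : Set Γ) : Subgroup Γ) →* Kˣ) =
        ρ (x * y) * weightIdem (Q ⊓ centralizer (S : Set Γ)) ρ
          (1 : (Q ⊓ centralizer (S : Set Γ) : Subgroup Γ) →* Kˣ)) :
    ∀ y ∈ Q, ∀ x ∈ S, y * x = x * y := by
  classical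
  set Z := Q ⊓ centralizer (S : Set Γ) with hZ
  have hZQ : Z ≤ Q := inf_le_left
  have hZcomm : IsMulCommutative Z :=
    isMulCommutative_iff.2 fun a b => Subtype.ext (hZc b b.2 a (hZQ a.2))
  have hZK : (Fintype.card Z : K) ≠ 0 := by
    rw [← Nat.card_eq_fintype_card]; exact natCard_cast_ne_zero (h.pQ.to_le hZQ) h.tK
  let e : (Z →* Kˣ) → Module.End K W := fun l => weightIdem Z ρ l
  have hQl : ∀ o ∈ Q, ∀ l : Z →* Kˣ, o • l = l := fun o ho l =>
    dual_smul_eq_self_of_commute l fun z hz => hZc z hz o ho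
  have hSl : ∀ o ∈ S, ∀ l : Z →* Kˣ, o • l = l := fun o ho l =>
    dual_smul_eq_self_of_commute l fun z hz => mem_centralizer_iff.1 hz.2 o ho
  have hce : ∀ (o : Γ) (l : Z →* Kˣ), o • l = l → ρ o * e l = e l * ρ o := fun o l ho => by
    show ρ o * weightIdem Z ρ l = weightIdem Z ρ l * ρ o
    rw [map_mul_weightIdem_smul, ho]
  have htrans : ∀ x ∈ S, ∀ y, ∀ l, ρ (x * y * x⁻¹) * e l = ρ y * e l →
      ρ (y * x) * e l = ρ (x * y) * e l := fun x hx y l he => by
    calc ρ (y * x) * e l = ρ y * e l * ρ x := by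
          rw [map_mul, mul_assoc, hce x l (hSl x hx l), ← mul_assoc]
      _ = ρ (x * y * x⁻¹) * e l * ρ x := by rw [he]
      _ = ρ (x * y) * e l := by
          rw [mul_assoc, ← hce x l (hSl x hx l), ← mul_assoc, ← map_mul, inv_mul_cancel_right]
  have hSNQ : S ≤ normalizer (Q : Set Γ) := by rw [normalizer_eq_top]; exact le_top
  have hnQ : n ∈ normalizer (Q : Set Γ) := by rw [normalizer_eq_top]; trivial
  have hinner : ∀ l, l ≠ 1 → e l ≠ 0 → n • l = l → ∀ y ∈ Q, ρ (n * y) * e l = ρ (y * n) * e l := by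
    intro l hl1 hl0 hnl
    have hs := h.block_sum hZK (l := l) h.ops.hq h.ops.npow h.ops.ne_one h.ops.mem
      (h.stab_inner hZQ hZcomm hl1 hnl)
    rcases h.block_commute hZK hZc hcomm hl0 hnl h.ops.hq h.htq h.qK h.ops.npow hs with
      h1 | ⟨m, hm1, hm, -⟩
    · exact h1
    · exact absurd hm (h.exc m hm1)
  have hfixmoved : ∀ l, n • l ≠ l → ∀ y ∈ Q, n * y = y * n → ∀ x ∈ S,
      ρ (y * x) * e l = ρ (x * y) * e l := by
    intro l hnl y hy hny x hx
    have h1 : ρ y * e l = e l := h.fix_block hZK hnl hy hny (hce y l (hQl y hy l))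
    refine htrans x hx y l ?_
    rw [h1, map_mul, map_mul, mul_assoc, hce _ l (inv_smul_eq_iff.2 (hSl x hx l).symm), ← mul_assoc,
      mul_assoc (ρ x), h1, hce x l (hSl x hx l), mul_assoc, ← map_mul, mul_inv_cancel, map_one,
      mul_one]
  have hcopn : (orderOf n).Coprime (Nat.card S) :=
    (h.ops.coprime_card h.pS h.hsp h.hsq).coprime_dvd_left
      (Subgroup.orderOf_dvd_natCard A h.ops.mem)
  rcases hC with hI | hII
  · intro y hy x hx
    refine hinj x hx y hy (eq_of_forall_mul_weightIdem ρ hZcomm hZK fun l hl0 => ?_)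
    by_cases hl1 : l = 1
    · subst hl1; convert hone y hy x hx
    by_cases hnl : n • l = l
    · have hxe : ρ x * e l = e l * ρ x := hce x l (hSl x hx l)
      have hnc := hinner l hl1 hl0 hnl
      have hkill : ∀ w ∈ Q, ∀ b ∈ zpowers n, ρ ⁅w, b⁆ * e l = e l := by
        intro w hw b hb
        have hmem : zpowers n ≤ blockCentralizer ρ (e l) (hce w l (hQl w hw l)) :=
          zpowers_le.2 ⟨hce n l hnl, (hnc w hw).symm⟩
        obtain ⟨hb', hbw⟩ := hmem hb
        have hbwe : ρ (b * w)⁻¹ * e l = e l * ρ (b * w)⁻¹ := hce _ l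
          (inv_smul_eq_iff.2 (by
            rw [mul_smul, hQl w hw l,
              show b • l = l from (zpowers_le.2 hnl : zpowers n ≤ MulAction.stabilizer Γ l) hb]))
        calc ρ ⁅w, b⁆ * e l = ρ (w * b) * e l * ρ (b * w)⁻¹ := by
              rw [mul_assoc, ← hbwe, ← mul_assoc, ← map_mul]
              congr 2; rw [commutatorElement_def, mul_inv_rev]; group
          _ = ρ (b * w) * e l * ρ (b * w)⁻¹ := by rw [hbw]
          _ = e l := by
              rw [mul_assoc, ← hbwe, ← mul_assoc, ← map_mul, mul_inv_cancel, map_one, one_mul]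
      have hle : ⁅Q, zpowers n⁆ ⊔ (Q ⊓ centralizer (zpowers n : Set Γ)) ≤
          blockCentralizer ρ (e l) hxe := by
        refine sup_le (commutator_le.2 fun w hw b hb => ?_) ?_
        · have hwb : ⁅w, b⁆ ∈ Q := by
            rw [commutatorElement_def, show w * b * w⁻¹ * b⁻¹ = w * (b * w⁻¹ * b⁻¹) by group]
            exact mul_mem hw (hQn.conj_mem _ (inv_mem hw) b)
          refine ⟨hce _ l (hQl _ hwb l), ?_⟩
          have hbx : Commute b x := by
            obtain ⟨i, rfl⟩ := mem_zpowers_iff.mp hb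
            exact Commute.zpow_left (hI x hx) i
          have e1 : x * ⁅w, b⁆ = ⁅x * w * x⁻¹, b⁆ * x := by
            simp only [commutatorElement_def]
            calc x * (w * b * w⁻¹ * b⁻¹) = x * w * b * w⁻¹ * (b⁻¹ * x⁻¹) * x := by group
              _ = x * w * b * w⁻¹ * (x⁻¹ * b⁻¹) * x := by rw [(hbx.inv_inv).eq]
              _ = x * w * (x⁻¹ * x * b) * w⁻¹ * x⁻¹ * b⁻¹ * x := by group
              _ = x * w * (x⁻¹ * (b * x)) * w⁻¹ * x⁻¹ * b⁻¹ * x := by rw [hbx.eq]; group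
              _ = _ := by group
          rw [e1, map_mul, mul_assoc, hxe, ← mul_assoc, hkill _ (hQn.conj_mem w hw x) b hb,
            map_mul, mul_assoc, hxe, ← mul_assoc, hkill w hw b hb]
        · rintro w ⟨hw, hwc⟩
          refine ⟨hce w l (hQl w hw l), ?_⟩
          rw [hinj x hx w hw (h.centr w hw (mem_centralizer_iff.1 hwc n (mem_zpowers n)) x hx
            (hI x hx))]
      have hQdec : Q ≤ ⁅Q, zpowers n⁆ ⊔ (Q ⊓ centralizer (zpowers n : Set Γ)) :=
        (Coprime.commutator_sup_centralizer (zpowers_le.2 hnQ)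
          (Coprime.coprime_of_le (h.ops.coprime_card h.pQ h.htp h.htq) (zpowers_le.2 h.ops.mem)
            le_rfl) (Or.inl (Coprime.isSolvable_zpowers n))).ge
      exact (hle (hQdec hy)).2.symm
    obtain ⟨a, ha, ha1, hal⟩ := h.exists_stab hZK hl0
    obtain ⟨hane, hstab⟩ := h.stab_outer hnl ha hal ha1
    have hap : a ^ p = 1 := (h.ops.outer a ha hane).1
    have hfixS : ∀ x ∈ S, a * x = x * a → x = 1 := fun x hx hax =>
      h.fixS x hx (h.ops.commute_all ha hane (hI x hx) hax)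
    have hs := h.block_sum hZK (l := l) h.ops.hp hap ha1 ha hstab
    rcases h.block_commute hZK hZc hcomm hl0 hal h.ops.hp h.htp h.pK hap hs with
      h1 | ⟨m, -, hm, T, T₀, hT₀T, hTQ, hgen, hscal, hidx⟩
    · refine htrans x hx y l (centralizes_block (ρ := ρ) (e := e l) (a := a) (h.normS ha) ?_ hSNQ
        (by rw [normalizer_eq_top]; trivial) (fun z hz => hce z l (hSl z hz l)) (hce a l hal) h1
        (fun z hz haz w _ => by rw [hfixS z hz haz, one_mul, inv_one, mul_one]) x hx y hy)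
      exact (h.ops.coprime_card h.pS h.hsp h.hsq).coprime_dvd_left
        (Subgroup.orderOf_dvd_natCard A ha)
    · exact h.exceptional_case hZQ (fun z hz => hz.2) (fun z hz hz' => ⟨hz, hz'⟩) hZc hexp hcomm hSS
        hl0 ha hap hal hfixS hs hm hT₀T hTQ hgen hscal hidx y hy x hx
  refine h.finish_moved hexp hcomm (fun y hy => ?_) hSS hII fun y hy hny => ?_
  · rw [normalizer_eq_top]; trivial
  refine mem_centralizer_iff.2 fun x hx => (hinj x hx y hy
    (eq_of_forall_mul_weightIdem ρ hZcomm hZK fun l hl0 => ?_)).symm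
  by_cases hl1 : l = 1
  · subst hl1; convert hone y hy x hx
  by_cases hnl : n • l = l
  · refine htrans x hx y l (centralizes_block (ρ := ρ) (e := e l) (a := n) (h.normS h.ops.mem) hcopn
      hSNQ hnQ (fun z hz => hce z l (hSl z hz l)) (hce n l hnl) (hinner l hl1 hl0 hnl)
      (fun z hz hnz w hw => by rw [hII z hz hnz w hw, mul_inv_cancel_right]) x hx y hy)
  · exact hfixmoved l hnl y hy hny x hx

theorem pq_linear_aux [IsAlgClosed K] (k : ℕ) : ∀ {W : Type w} [AddCommGroup W] [Module K W]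
    [FiniteDimensional K W] {Γ : Type u} [Group Γ] [Finite Γ] {p q t s : ℕ} [Fact t.Prime]
    [Fact s.Prime] {n : Γ} (A Q S : Subgroup Γ) [Q.Normal] (ρ : Γ →* Module.End K W),
    PQData p q t s n A Q S ρ → Nat.card Q + Nat.card S = k →
    ∀ y ∈ Q, ∀ x ∈ S, ρ (y * x) = ρ (x * y) := by
  induction k using Nat.strong_induction_on with
  | _ k ih =>
  intro W _ _ _ Γ _ _ p q t s _ _ n A Q S hQn ρ h hk
  classical
  have viaKer : ∀ {W' : Type w} [AddCommGroup W'] [Module K W'] [FiniteDimensional K W']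
      (σ : Γ →* Module.End K W'), PQData p q t s n A Q S σ → Q ⊓ σ.ker ≠ ⊥ →
      ∀ y ∈ Q, ∀ x ∈ S, σ (y * x) = σ (x * y) := by
    intro W' _ _ _ σ hσ hne y hy x hx
    obtain ⟨σ', hσ', hd⟩ := hσ.descend
    haveI : (Q.map (QuotientGroup.mk' (Q ⊓ σ.ker))).Normal :=
      hQn.map _ (QuotientGroup.mk'_surjective _)
    have hlt : Nat.card (Q.map (QuotientGroup.mk' (Q ⊓ σ.ker))) +
        Nat.card (S.map (QuotientGroup.mk' (Q ⊓ σ.ker))) < k := by
      rw [← hk]
      refine add_lt_add_of_lt_of_le (card_map_mk_lt ?_) (Nat.le_of_dvd Nat.card_pos (S.card_map_dvd _))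
      rwa [inf_assoc, inf_comm σ.ker Q, ← inf_assoc, inf_idem]
    have := ih _ hlt _ _ _ σ' hd rfl _ (Subgroup.mem_map_of_mem _ hy) _
      (Subgroup.mem_map_of_mem _ hx)
    rwa [← map_mul, ← map_mul, hσ', hσ'] at this
  by_cases hker : Q ⊓ ρ.ker = ⊥
  swap
  · exact viaKer ρ h hker
  have hinj : ∀ x ∈ S, ∀ y ∈ Q, ρ (y * x) = ρ (x * y) → y * x = x * y := by
    intro x _ y hy he
    have h1 : (x * y)⁻¹ * (y * x) ∈ Q ⊓ ρ.ker := by
      refine Subgroup.mem_inf.2 ⟨?_, MonoidHom.mem_ker.mpr ?_⟩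
      · rw [show (x * y)⁻¹ * (y * x) = y⁻¹ * (x⁻¹ * y * x) by group]
        exact mul_mem (inv_mem hy) (hQn.conj_mem' y hy x)
      · rw [map_mul, he, ← map_mul, inv_mul_cancel, map_one]
    rw [hker, mem_bot, inv_mul_eq_one] at h1
    exact h1.symm
  suffices hgoal : ∀ y ∈ Q, ∀ x ∈ S, y * x = x * y from fun y hy x hx => by rw [hgoal y hy x hx]
  by_cases hQ : Q = ⊥
  · intro y hy x _; rw [hQ, mem_bot] at hy; rw [hy, one_mul, mul_one]
  by_cases hS : S = ⊥
  · intro y _ x hx; rw [hS, mem_bot] at hx; rw [hx, one_mul, mul_one]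
  -- proper invariant subgroups
  have hS0 : ∀ S₀ : Subgroup Γ, S₀ ≤ S → S₀ ≠ S → A ≤ normalizer (S₀ : Set Γ) →
      ∀ y ∈ Q, ∀ x ∈ S₀, y * x = x * y := fun S₀ hle hne hn y hy x hx => by
    have h' : PQData p q t s n A Q S₀ ρ :=
      { h with
        pS := h.pS.to_le hle
        normS := hn
        fixS := fun z hz => h.fixS z (hle hz)
        centr := fun b hb hnb z hz => h.centr b hb hnb z (hle hz) }
    have hlt : Nat.card Q + Nat.card S₀ < k := hk ▸ Nat.add_lt_add_left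
      (lt_of_le_of_ne (Subgroup.card_le_of_le hle) fun he => hne (eq_of_le_of_card_ge hle he.ge)) _
    exact hinj x (hle hx) y hy (ih _ hlt A Q S₀ ρ h' rfl y hy x hx)
  have hQ0 : ∀ Q₀ : Subgroup Γ, Q₀ ≤ Q → Q₀ ≠ Q →
      (∀ o ∈ (A : Set Γ) ∪ S, ∀ y ∈ Q₀, o * y * o⁻¹ ∈ Q₀) →
      ∀ x ∈ S, ∀ y ∈ Q₀, x * y = y * x := by
    intro Q₀ hle hne hinv x hx y hy
    set X := normalizer (Q₀ : Set Γ) with hX
    have hnorm : ∀ o ∈ (A : Set Γ) ∪ S, o ∈ X := fun o ho => by
      refine mem_normalizer_iff_map_conj_eq.2 (eq_of_le_of_card_ge ?_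
        (by rw [card_map_of_injective (MulAut.conj o).injective]))
      rintro _ ⟨a, ha, rfl⟩
      exact hinv o ho a ha
    have hAX : A ≤ X := fun a ha => hnorm a (Or.inl ha)
    have hSX : S ≤ X := fun a ha => hnorm a (Or.inr ha)
    haveI : (Q₀.subgroupOf X).Normal := (normal_subgroupOf_iff_le_normalizer le_normalizer).2 le_rfl
    have hd := h.sub hAX hle le_rfl h.normS le_normalizer hSX
    have hlt : Nat.card (Q₀.subgroupOf X) + Nat.card (S.subgroupOf X) < k := by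
      rw [Nat.card_congr (subgroupOfEquivOfLe (le_normalizer : Q₀ ≤ X)).toEquiv,
        Nat.card_congr (subgroupOfEquivOfLe hSX).toEquiv, ← hk]
      exact Nat.add_lt_add_right (lt_of_le_of_ne (Subgroup.card_le_of_le hle)
        fun he => hne (eq_of_le_of_card_ge hle he.ge)) _
    exact (hinj x hx y (hle hy) (ih _ hlt _ _ _ (ρ.comp X.subtype) hd rfl
      ⟨y, le_normalizer hy⟩ hy ⟨x, hSX hx⟩ hx)).symm
  -- the Frattini subgroup
  haveI : Nontrivial Q := (Subgroup.nontrivial_iff_ne_bot Q).2 hQ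
  let Φ := (frattini Q).map Q.subtype
  haveI hΦn : Φ.Normal := by
    haveI : (frattini Q).Characteristic := inferInstance
    infer_instance
  have hΦne : Φ ≠ Q := by
    intro he
    obtain ⟨M, hM⟩ : ∃ M : Subgroup Q, IsCoatom M :=
      (eq_top_or_exists_le_coatom (⊥ : Subgroup Q)).resolve_left bot_ne_top |>.imp fun M h => h.1
    refine hM.1 (top_le_iff.1 fun x _ => frattini_le_coatom hM ?_)
    obtain ⟨y, hy, e⟩ := he.ge x.2
    rwa [show y = x from Subtype.ext e] at hy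
  have hΦ : ∀ z ∈ Φ, z ∈ Q ⊓ centralizer (S : Set Γ) := fun z hz =>
    ⟨map_subtype_le _ hz, mem_centralizer_iff.2 fun x hx =>
      hQ0 Φ (map_subtype_le _) hΦne (fun o _ y hy => hΦn.conj_mem y hy o) x hx z hz⟩
  have hexp : ∀ y ∈ Q, y ^ t ∈ Q ⊓ centralizer (S : Set Γ) := fun y hy =>
    hΦ _ ⟨_, PGroup.Frattini.pow_mem_frattini h.pQ ⟨y, hy⟩, rfl⟩
  -- commutators of `S` and the alternatives for `n`
  have hSS : ∀ x ∈ S, ∀ x' ∈ S, ∀ y ∈ Q, ⁅x, x'⁆ * y = y * ⁅x, x'⁆ := by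
    have hle : ⁅S, S⁆ ≤ S := commutator_le_self S
    have hne : ⁅S, S⁆ ≠ S := by
      haveI : Nontrivial S := (Subgroup.nontrivial_iff_ne_bot S).2 hS
      haveI := h.pS.isNilpotent
      intro he
      refine (Group.IsSolvable.commutator_lt_top_of_nontrivial S).ne
        (Subgroup.map_injective S.subtype_injective ?_)
      rw [← MonoidHom.range_eq_map, Subgroup.range_subtype, Subgroup.map_subtype_commutator]
      exact he
    have hn : A ≤ normalizer ((⁅S, S⁆ : Subgroup Γ) : Set Γ) := fun a ha => by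
      refine mem_normalizer_iff_map_conj_eq.2 ?_
      rw [Subgroup.map_commutator, mem_normalizer_iff_map_conj_eq.1 (h.normS ha)]
    intro x hx x' hx' y hy
    exact (hS0 _ hle hne hn y hy _ (commutator_mem_commutator hx hx')).symm
  have hC : (∀ x ∈ S, n * x = x * n) ∨ ∀ x ∈ S, n * x = x * n → ∀ y ∈ Q, x * y = y * x := by
    set C := S ⊓ centralizer ({n} : Set Γ) with hCdef
    by_cases hCS : C = S
    · exact Or.inl fun x hx => mem_centralizer_iff.1 (hCS.ge hx).2 n rfl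
    refine Or.inr fun x hx hnx y hy => (hS0 C inf_le_left hCS ?_ y hy x ⟨hx, ?_⟩).symm
    · intro a ha
      refine mem_normalizer_iff_map_conj_eq.2 (eq_of_le_of_card_ge ?_
        (by rw [card_map_of_injective (MulAut.conj a).injective]))
      rintro _ ⟨z, ⟨hz, hzc⟩, rfl⟩
      refine ⟨(mem_normalizer_iff.1 (h.normS ha) z).1 hz, mem_centralizer_iff.2 ?_⟩
      rintro _ rfl
      exact h.ops.conj_commute ha (mem_centralizer_iff.1 hzc _ rfl)
    · exact mem_centralizer_iff.2 (by rintro _ rfl; exact hnx)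
  by_cases hab : ∀ a ∈ Q, ∀ b ∈ Q, a * b = b * a
  · exact h.abelian_case hinj hab hexp hSS hC
  rcases special_dichotomy Q h.pQ (S : Set Γ) ((A : Set Γ) ∪ S) (by
      intro o ho c hc
      refine subset_closure ?_
      rcases ho with ho | ho
      · have := (mem_normalizer_iff.1 (inv_mem (h.normS ho)) c).1 hc
        rwa [inv_inv] at this
      · exact S.mul_mem (S.mul_mem (S.inv_mem ho) hc) ho)
    (fun c hc => by
      obtain ⟨i, hi⟩ := h.pS ⟨c, hc⟩
      exact (((Nat.coprime_primes Fact.out Fact.out).2 h.hts.symm).pow_left i).coprime_dvd_left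
        (orderOf_dvd_of_pow_eq_one (congrArg Subtype.val hi)))
    (fun R₀ hle hne hinv c hc x hx => hQ0 R₀ hle hne hinv c hc x hx)
    with hcase | hcase | ⟨hcommD, -, hDc, hZD⟩
  · exact fun y hy x hx => (hcase x hx y hy).symm
  · exact absurd hcase hab
  set Z := Q ⊓ centralizer (S : Set Γ) with hZdef
  have hZeq : ∀ z, z ∈ Z ↔ z ∈ Q ∧ ∀ w ∈ Q, w * z = z * w := fun z =>
    ⟨fun hz => ⟨hz.1, hDc z hz⟩, fun hz => hZD z hz.1 hz.2⟩
  haveI hZn : Z.Normal := ⟨fun z hz o => by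
    obtain ⟨hzQ, hzc⟩ := (hZeq z).1 hz
    refine (hZeq _).2 ⟨hQn.conj_mem z hzQ o, fun w hw => ?_⟩
    calc w * (o * z * o⁻¹) = o * ((o⁻¹ * w * o) * z) * o⁻¹ := by group
      _ = o * (z * (o⁻¹ * w * o)) * o⁻¹ := by rw [hzc _ (hQn.conj_mem' w hw o)]
      _ = o * z * o⁻¹ * w := by group⟩
  haveI : Fintype Z := Fintype.ofFinite Z
  refine h.class2_case hinj hDc hexp hcommD hSS hC fun y hy x hx => ?_
  set e := weightIdem Z ρ (1 : Z →* Kˣ) with he
  have hZK : (Fintype.card Z : K) ≠ 0 := by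
    rw [← Nat.card_eq_fintype_card]; exact natCard_cast_ne_zero (h.pQ.to_le inf_le_left) h.tK
  have hcome : ∀ g ∈ (⊤ : Subgroup Γ), ρ g * e = e * ρ g := fun g _ => by
    rw [he, map_mul_weightIdem_smul, dual_smul_one]
  obtain ⟨θ, hθap, hθeq, hθscal, -⟩ := exists_range_rep ρ e ⊤ hcome
  let σ : Γ →* Module.End K (LinearMap.range e) :=
    θ.comp (Subgroup.topEquiv : (⊤ : Subgroup Γ) ≃* Γ).symm.toMonoidHom
  have hσ : ∀ g k, σ g = σ k ↔ ρ g * e = ρ k * e := fun g k => hθeq _ _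
  have hσap : ∀ (g : Γ) (v : LinearMap.range e),
      ((σ g v : LinearMap.range e) : W) = ρ g (v : W) := fun g v => hθap _ v
  have hdat : PQData p q t s n A Q S σ := by
    refine h.of_rep σ ?_ ?_ fun b c hbc => (hσ _ _).2 (by rw [hbc])
    · refine LinearMap.ext fun v => Subtype.ext ?_
      have h1 := LinearMap.congr_fun h.sum (v : W)
      simpa [hσap, -map_pow] using h1
    · intro b hb hnb
      refine LinearMap.ext fun v => Subtype.ext ?_
      have h1 := LinearMap.congr_fun (h.fixOp b hb hnb) (v : W)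
      simpa [hσap, -map_pow] using h1
  refine (hσ _ _).1 ?_
  refine viaKer σ hdat (fun h0 => hab fun a ha b hb => ?_) y hy x hx
  have hz : ⁅a, b⁆ ∈ Q ⊓ σ.ker := by
    refine ⟨(hcommD a ha b hb).1, MonoidHom.mem_ker.mpr ?_⟩
    have h1 : ρ ⁅a, b⁆ * e = ((1 : Z →* Kˣ) ⟨_, hcommD a ha b hb⟩ : K) • e :=
      map_mem_mul_weightIdem ρ 1 ⟨_, hcommD a ha b hb⟩
    rw [MonoidHom.one_apply, Units.val_one, one_smul] at h1
    rw [← map_one σ, hσ, map_one, one_mul]
    exact h1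
  rw [h0, mem_bot] at hz
  exact commutatorElement_eq_one_iff_mul_comm.1 hz

/-- The linear lemma. -/
theorem pq_linear [IsAlgClosed K] [FiniteDimensional K W] [Fact t.Prime] [Fact s.Prime] [Q.Normal]
    (h : PQData p q t s n A Q S ρ) {y x : Γ} (hy : y ∈ Q) (hx : x ∈ S) : ρ (y * x) = ρ (x * y) :=
  pq_linear_aux _ A Q S ρ h rfl y hy x hx

end CfsgLib.Solvable.FPFOperators
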