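import Cfsg.Agent.Lib.Solvable.FPFOperators.PQData
import Cfsg.Agent.Lib.Solvable.FPFOperators.Descend
import Mathlib.GroupTheory.FixedPointFree

/-!
# The symmetric group of degree three without fixed points: the linear lemma

A `t`-group with such operators, `t ≥ 5`, acts on a module through an abelian group.
-/

set_option autoImplicit false

namespace CfsgLib.Solvable.FPFOperators

open Subgroup CfsgLib
open scoped commutatorElement

universe u v w

variable {K : Type v} [Field K] [IsAlgClosed K]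

theorem prime_fpf_commute_aux (k : ℕ) : ∀ {Γ : Type u} [Group Γ] [Finite Γ] {W : Type w}
    [AddCommGroup W] [Module K W] [FiniteDimensional K W] {t N : ℕ} [Fact t.Prime]
    (Q : Subgroup Γ) [Q.Normal] (ρ : Γ →* Module.End K W) (s : Γ),
    N.Prime → t ≠ N → (∀ m, 1 ≤ m → N - 1 ≠ t ^ m) → IsPGroup t Q → (t : K) ≠ 0 → (N : K) ≠ 0 →
    s ^ N = 1 → ∑ i ∈ Finset.range N, ρ (s ^ i) = 0 → Nat.card Q = k →
    ∀ y ∈ Q, ρ (s * y) = ρ (y * s) := by
  induction k using Nat.strong_induction_on with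
  | _ k ih =>
  intro Γ _ _ W _ _ _ t N _ Q hQn ρ s hN htN hexc hQt htK hNK hs hsum hk
  -- proper invariant subgroups
  have hprop : ∀ R : Subgroup Γ, R ≤ Q → R ≠ Q → s ∈ normalizer (R : Set Γ) →
      ∀ y ∈ R, ρ (s * y) = ρ (y * s) := by
    intro R hRQ hne hsR y hy
    set X := normalizer (R : Set Γ) with hX
    have hRX : R ≤ X := le_normalizer
    haveI : (R.subgroupOf X).Normal := (normal_subgroupOf_iff_le_normalizer hRX).2 le_rfl
    have hc : Nat.card (R.subgroupOf X) = Nat.card R :=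
      Nat.card_congr (subgroupOfEquivOfLe hRX).toEquiv
    have hlt : Nat.card (R.subgroupOf X) < k := by
      rw [hc, ← hk]
      exact lt_of_le_of_ne (Subgroup.card_le_of_le hRQ) fun he => hne (eq_of_le_of_card_ge hRQ he.ge)
    exact ih _ hlt (R.subgroupOf X) (ρ.comp X.subtype) ⟨s, hsR⟩ hN htN hexc
      ((hQt.to_le hRQ).of_equiv (subgroupOfEquivOfLe hRX).symm) htK hNK (Subtype.ext hs)
      (by simpa using hsum) rfl ⟨y, hRX hy⟩ hy
  have hsQ : zpowers s ≤ normalizer (Q : Set Γ) := by rw [normalizer_eq_top]; exact le_top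
  have hcop : (Nat.card (zpowers s)).Coprime (Nat.card Q) := by
    rw [Nat.card_zpowers]
    exact Nat.Coprime.coprime_dvd_left (orderOf_dvd_of_pow_eq_one hs) (by
      simpa using coprime_pow_card hN hQt htN 1)
  set R := ⁅Q, zpowers s⁆ with hR
  have hRQ : R ≤ Q := le_normalizer_iff_commutator_le_left.1 hsQ
  by_cases hRQeq : R = Q
  swap
  · let G₀ : Subgroup Γ :=
      { carrier := {y | Commute (ρ.toHomUnits s) (ρ.toHomUnits y)}
        one_mem' := by show Commute _ _; rw [map_one]; exact Commute.one_right _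
        mul_mem' := fun {a b} ha hb => by show Commute _ _; rw [map_mul]; exact ha.mul_right hb
        inv_mem' := fun {a} ha => by show Commute _ _; rw [map_inv]; exact ha.inv_right }
    have hle : Q ≤ G₀ := by
      rw [← Coprime.commutator_sup_centralizer hsQ hcop (Or.inl (Coprime.isSolvable_zpowers s))]
      refine sup_le (fun y hy => ?_) fun y hy => ?_
      · refine Units.ext ?_
        show ρ s * ρ y = ρ y * ρ s
        rw [← map_mul, ← map_mul]
        exact hprop R hRQ hRQeq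
          (normalizer_commutator_ge_right Q (zpowers s) (mem_zpowers s)) y hy
      · show Commute _ _
        exact (show Commute s y from
          mem_centralizer_iff.1 hy.2 s (mem_zpowers s)).map ρ.toHomUnits
    intro y hy
    have h1 : ρ s * ρ y = ρ y * ρ s := congrArg Units.val (hle hy).eq
    rw [map_mul, map_mul, h1]
  by_cases hQb : Q = ⊥
  · intro y hy
    rw [hQb, mem_bot] at hy
    rw [hy, mul_one, one_mul]
  set D := ⁅Q, Q⁆ with hD
  have hDQ : D ≤ Q := commutator_le_right Q Q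
  have hDne : D ≠ Q := by
    intro he
    haveI : Group.IsNilpotent Q := hQt.isNilpotent
    obtain ⟨c, hc⟩ := (Subgroup.isNilpotent_iff_lowerCentralSeries Q).1 ‹_›
    have : ∀ i, Q.lowerCentralSeries i = Q := fun i => by
      induction i with
      | zero => rfl
      | succ i ihi => rw [Subgroup.lowerCentralSeries_succ, ihi]; exact he
    exact hQb ((this c).symm.trans hc)
  have hsD : ∀ d ∈ D, ρ (s * d) = ρ (d * s) :=
    hprop D hDQ hDne (by rw [normalizer_eq_top]; trivial)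
  -- pass to the image
  set mk := QuotientGroup.mk' ρ.ker with hmk
  set ρ' : Γ ⧸ ρ.ker →* Module.End K W := QuotientGroup.lift ρ.ker ρ le_rfl with hρ'
  have hρe : ∀ g, ρ' (mk g) = ρ g := fun g => rfl
  have hinj : ∀ g g' : Γ, ρ g = ρ g' → mk g = mk g' := fun g g' h => by
    refine QuotientGroup.eq.mpr (MonoidHom.mem_ker.mpr ?_)
    rw [map_mul, ← h, ← map_mul, inv_mul_cancel, map_one]
  haveI hQ1n : (Q.map mk).Normal := hQn.map mk (QuotientGroup.mk'_surjective _)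
  let Z : Subgroup (Γ ⧸ ρ.ker) := D.map mk
  haveI : Z.Normal := (inferInstance : D.Normal).map mk (QuotientGroup.mk'_surjective _)
  have hsZ : ∀ z ∈ Z, mk s * z = z * mk s := by
    rintro _ ⟨d, hd, rfl⟩
    rw [← map_mul, ← map_mul]
    exact hinj _ _ (hsD d hd)
  have hQZ : ∀ z ∈ Z, ∀ y ∈ Q.map mk, y * z = z * y := by
    have h0 : ⁅zpowers (mk s), Z⁆ = ⊥ := by
      rw [commutator_eq_bot_iff_le_centralizer]
      refine zpowers_le.2 (mem_centralizer_iff.2 fun z hz => (hsZ z hz).symm)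
    have h3 : ⁅⁅Q.map mk, zpowers (mk s)⁆, Z⁆ = ⊥ := by
      refine commutator_commutator_eq_bot_of_rotate ?_ ?_
      · rw [h0, commutator_bot_left]
      · exact le_bot_iff.mp ((commutator_mono (commutator_le_left Z (Q.map mk)) le_rfl).trans
          (le_of_eq (by rw [commutator_comm, h0])))
    rw [← MonoidHom.map_zpowers, ← map_commutator, show ⁅Q, zpowers s⁆ = Q from hRQeq,
      commutator_eq_bot_iff_le_centralizer] at h3
    intro z hz y hy
    exact (mem_centralizer_iff.1 (h3 hy) z hz).symm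
  haveI : Fintype Z := Fintype.ofFinite Z
  have hZQ : Z ≤ Q.map mk := Subgroup.map_mono hDQ
  have hZc : IsMulCommutative Z :=
    isMulCommutative_iff.2 fun a b => Subtype.ext (hQZ b b.2 a (hZQ a.2))
  have hQ1t : IsPGroup t (Q.map mk) := hQt.map mk
  have hZK : (Fintype.card Z : K) ≠ 0 := by
    rw [← Nat.card_eq_fintype_card]; exact natCard_cast_ne_zero (hQ1t.to_le hZQ) htK
  intro y hy
  rw [← hρe, ← hρe (y * s), map_mul mk, map_mul mk]
  refine eq_of_forall_mul_weightIdem ρ' hZc hZK fun l hl => ?_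
  set e := weightIdem Z ρ' l with he
  set Γ₁ := MulAction.stabilizer (Γ ⧸ ρ.ker) l with hΓ₁
  have hcΓ₁ : ∀ o ∈ Γ₁, ρ' o * e = e * ρ' o := fun o ho => by
    rw [he, map_mul_weightIdem_smul, MulAction.mem_stabilizer_iff.mp ho]
  have hQΓ : Q.map mk ≤ Γ₁ := fun o ho =>
    dual_smul_eq_self_of_commute l fun z hz => hQZ z hz o ho
  have hsΓ : mk s ∈ Γ₁ := dual_smul_eq_self_of_commute l hsZ
  obtain ⟨θ, -, hθeq, hθscal, hθsum⟩ := exists_range_rep ρ' e Γ₁ hcΓ₁
  haveI : Nontrivial (LinearMap.range e) := Submodule.nontrivial_iff_ne_bot.mpr fun h0 =>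
    hl (LinearMap.range_eq_bot.mp h0)
  haveI : ((Q.map mk).subgroupOf Γ₁).Normal := hQ1n.subgroupOf Γ₁
  let s₁ : Γ₁ := ⟨mk s, hsΓ⟩
  have hsum₁ : ∑ i ∈ Finset.range N, θ (s₁ ^ i) = 0 := by
    have h' := (hθsum (Finset.range N) (fun _ => 1) (fun i => s₁ ^ i)).2 (by
      simp only [one_smul, SubmonoidClass.coe_pow, s₁, ← map_pow, hρe]
      rw [hsum, zero_mul])
    simpa using h'
  rcases commute_or_exceptional θ ((Q.map mk).subgroupOf Γ₁) (t := t) hN htN
      (hQ1t.of_equiv (subgroupOfEquivOfLe hQΓ).symm) htK hNK (s := s₁)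
      (Subtype.ext (by
        show mk s ^ N = 1
        rw [← map_pow, hs, map_one])) hsum₁
      (fun a ha b hb => by
        have hab : ((⁅a, b⁆ : Γ₁) : Γ ⧸ ρ.ker) ∈ Z := by
          obtain ⟨a', ha', hae⟩ := ha
          obtain ⟨b', hb', hbe⟩ := hb
          refine ⟨⁅a', b'⁆, commutator_mem_commutator ha' hb', ?_⟩
          rw [map_commutatorElement, hae, hbe]
          rfl
        exact ⟨l ⟨_, hab⟩, (hθscal _ _).2 (map_mem_mul_weightIdem ρ' l ⟨_, hab⟩)⟩)
    with h1 | ⟨m, hm1, hm, -⟩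
  · exact (hθeq (s₁ * ⟨mk y, hQΓ (mem_map_of_mem _ hy)⟩) (⟨mk y, hQΓ (mem_map_of_mem _ hy)⟩ * s₁)).1
      (h1 ⟨mk y, hQΓ (mem_map_of_mem _ hy)⟩ (mem_map_of_mem _ hy))
  · exact absurd hm (hexc m hm1)

/-- An operator of prime order `N` without fixed points centralises a `t`-group, unless
`N - 1` is a power of `t`. -/
theorem prime_fpf_commute {Γ : Type u} [Group Γ] [Finite Γ] {W : Type w}
    [AddCommGroup W] [Module K W] [FiniteDimensional K W] {t N : ℕ} [Fact t.Prime]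
    (Q : Subgroup Γ) [Q.Normal] (ρ : Γ →* Module.End K W) {s : Γ} (hN : N.Prime) (htN : t ≠ N)
    (hexc : ∀ m, 1 ≤ m → N - 1 ≠ t ^ m) (hQ : IsPGroup t Q) (htK : (t : K) ≠ 0)
    (hNK : (N : K) ≠ 0) (hs : s ^ N = 1) (hsum : ∑ i ∈ Finset.range N, ρ (s ^ i) = 0) {y : Γ}
    (hy : y ∈ Q) : ρ (s * y) = ρ (y * s) :=
  prime_fpf_commute_aux _ Q ρ s hN htN hexc hQ htK hNK hs hsum rfl y hy

omit [IsAlgClosed K] in
/-- An image with the symmetry of three permuted coordinates of product one is abelian. -/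
theorem commute_of_symm3 {H U : Type*} [Group H] [Group U] (u : H →* U) (τ α : H → H)
    (hτ : ∀ x y, τ (x * y) = τ x * τ y) (hτ3 : ∀ y, τ (τ (τ y)) = y)
    (hα0 : ∀ y, u (α y) = u y) (hα1 : ∀ y, u (τ (α y)) = u (τ (τ y)))
    (hα2 : ∀ y, u (τ (τ (α y))) = u (τ y)) (hprod : ∀ y, u y * u (τ y) * u (τ (τ y)) = 1)
    (hcube : ∀ y : H, ∃ x, x ^ 3 = y) (x y : H) : Commute (u x) (u y) := by
  have hab : ∀ y, Commute (u y) (u (τ y)) := fun y => by
    have h1 := hprod y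
    have h2 := hprod (α y)
    rw [hα0, hα1, hα2] at h2
    have h3 : u (τ (τ y)) = (u y * u (τ y))⁻¹ := eq_inv_of_mul_eq_one_right h1
    rw [h3, mul_inv_rev, ← mul_assoc] at h2
    show u y * u (τ y) = u (τ y) * u y
    have h4 : u y * (u (τ y))⁻¹ = (u (τ y))⁻¹ * u y := by
      calc u y * (u (τ y))⁻¹ = u y * (u (τ y))⁻¹ * (u y)⁻¹ * u (τ y) * ((u (τ y))⁻¹ * u y) := by
            group
        _ = _ := by rw [h2, one_mul]
    exact (Commute.inv_right_iff.mp h4).eq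
  have hH : ∀ x y, u x * u y * (u (τ x) * u (τ y)) = u y * u (τ y) * (u x * u (τ x)) := by
    intro x y
    have h1 := hprod (x * y)
    rw [hτ, hτ, map_mul, map_mul, map_mul] at h1
    have hx : u (τ (τ x)) = (u x * u (τ x))⁻¹ := eq_inv_of_mul_eq_one_right (hprod x)
    have hy : u (τ (τ y)) = (u y * u (τ y))⁻¹ := eq_inv_of_mul_eq_one_right (hprod y)
    rw [hx, hy, ← mul_inv_rev, mul_inv_eq_one] at h1
    exact h1
  have hswap : ∀ b y, u y * b * u (τ y) = u (τ y) * b * u y → Commute (u y * (u (τ y))⁻¹) b := by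
    intro b y h
    have h' : (u (τ y))⁻¹ * u y = u y * (u (τ y))⁻¹ := ((hab y).inv_right.eq).symm
    show u y * (u (τ y))⁻¹ * b = b * (u y * (u (τ y))⁻¹)
    calc u y * (u (τ y))⁻¹ * b = (u (τ y))⁻¹ * (u y * b * u (τ y)) * (u (τ y))⁻¹ := by
          rw [← h']; group
      _ = b * (u y * (u (τ y))⁻¹) := by rw [h]; group
  have hsym : ∀ x y, u y * u (τ x) * u (τ y) = u (τ y) * u (τ x) * u y := by
    intro x y
    have h1 := hH x y
    have h2 := hH x (α (τ y))
    rw [hα0, hα1, hτ3] at h2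
    rw [(hab y).symm.eq] at h2
    have h3 := h1.trans h2.symm
    rw [mul_assoc, mul_assoc (u x), mul_left_cancel_iff] at h3
    rw [mul_assoc, mul_assoc (u (τ y))]
    exact h3
  obtain ⟨d, rfl⟩ := hcube y
  have hb : ∀ x y, Commute ((u y) ^ 3) (u (τ x)) := by
    intro x y
    have h1 := hswap _ y (hsym x y)
    have h2 : Commute (u y * (u (τ (τ y)))⁻¹) (u (τ x)) := by
      have := hswap _ (α y) (hsym x (α y))
      rwa [hα0, hα1] at this
    have h4 : u y * (u (τ y))⁻¹ * (u y * (u (τ (τ y)))⁻¹) = u y ^ 3 := by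
      have hz : u (τ (τ y)) = (u y * u (τ y))⁻¹ := eq_inv_of_mul_eq_one_right (hprod y)
      rw [hz, inv_inv, pow_three]
      calc u y * (u (τ y))⁻¹ * (u y * (u y * u (τ y)))
          = u y * ((u (τ y))⁻¹ * (u y * u y)) * u (τ y) := by group
        _ = u y * (u y * u y * (u (τ y))⁻¹) * u (τ y) := by
            rw [((hab y).mul_left (hab y)).inv_right.eq]
        _ = _ := by group
    rw [← h4]
    exact h1.mul_left h2
  have h5 := (hb (τ (τ x)) d).symm
  rw [hτ3, ← map_pow] at h5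
  exact h5

section Main

variable {Γ : Type u} [Group Γ] [Finite Γ] {W : Type w} [AddCommGroup W] [Module K W]
  [FiniteDimensional K W] {t s : ℕ} {n : Γ} {A Q S : Subgroup Γ} {ρ : Γ →* Module.End K W}

omit [IsAlgClosed K] [FiniteDimensional K W] in
/-- The centraliser of the operator of order three is abelian. -/
theorem PQData.fixed_commute (h : PQData 2 3 t s n A Q S ρ) [Q.Normal] {x y : Γ} (hx : x ∈ Q)
    (hnx : n * x = x * n) (hy : y ∈ Q) (hny : n * y = y * n) : x * y = y * x := by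
  obtain ⟨a, ha, han⟩ : ∃ a ∈ A, a ∉ zpowers n := by
    by_contra hall
    push Not at hall
    have h1 : Nat.card A ≤ Nat.card (zpowers n) := Subgroup.card_le_of_le hall
    rw [h.ops.card, Nat.card_zpowers, h.ops.orderOf_eq] at h1
    omega
  set C := Q ⊓ centralizer ({n} : Set Γ) with hC
  have hmem : ∀ z, z ∈ C ↔ z ∈ Q ∧ n * z = z * n := fun z => by
    rw [hC, mem_inf, mem_centralizer_iff]
    exact and_congr_right fun _ => ⟨fun h => h n rfl, fun h w hw => by
      rw [Set.mem_singleton_iff.mp hw]; exact h⟩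
  have hnorm : ∀ d ∈ A, ∀ c ∈ C, d * c * d⁻¹ ∈ C := fun d hd c hc => by
    rw [hmem] at hc ⊢
    exact ⟨(inferInstance : Q.Normal).conj_mem c hc.1 d, h.ops.conj_commute hd hc.2⟩
  have haC : zpowers a ≤ normalizer (C : Set Γ) :=
    (zpowers_le.2 ha).trans (le_normalizer_iff.2 hnorm)
  let α : MulAut C := Coprime.conjHom haC ⟨a, mem_zpowers a⟩
  have hα : ∀ c : C, ((α c : C) : Γ) = a * c * a⁻¹ := fun c => Coprime.conjHom_apply _ _ _
  have ha2 : a * a = 1 := by rw [← pow_two]; exact (h.ops.outer a ha han).1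
  have hfpf : MonoidHom.FixedPointFree α := fun c hc => Subtype.ext
    (h.fixQ c ((hmem c).1 c.2).1 (h.ops.commute_all ha han ((hmem c).1 c.2).2 (by
      have := congrArg Subtype.val hc
      rw [hα] at this
      exact mul_inv_eq_iff_eq_mul.mp this)))
  have hinv : Function.Involutive α := fun c => Subtype.ext (by
    rw [hα, hα, ← mul_assoc, ← mul_assoc, ha2, one_mul, mul_assoc, ← mul_inv_rev, ha2, inv_one,
      mul_one])
  exact congrArg Subtype.val
    (hfpf.commute_all_of_involutive hinv ⟨x, (hmem x).2 ⟨hx, hnx⟩⟩ ⟨y, (hmem y).2 ⟨hy, hny⟩⟩).eq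

variable {Z : Subgroup Γ} [Fintype Z] [Z.Normal]

/-- A block fixed by the operator of order three. -/
theorem PQData.s3_inner [Fact t.Prime] [hQn : Q.Normal] (h : PQData 2 3 t s n A Q S ρ)
    (hZQ : Z ≤ Q) (hZc : ∀ z ∈ Z, ∀ y ∈ Q, y * z = z * y) (hZK : (Fintype.card Z : K) ≠ 0)
    {l : Z →* Kˣ} (hl1 : l ≠ 1) (hnl : n • l = l) {y z : Γ} (hy : y ∈ Q) (hz : z ∈ Q) :
    ρ (y * z) * weightIdem Z ρ l = ρ (z * y) * weightIdem Z ρ l := by
  have hZcomm : IsMulCommutative Z :=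
    isMulCommutative_iff.2 fun a b => Subtype.ext (hZc b b.2 a (hZQ a.2))
  set e := weightIdem Z ρ l with he
  set Γ₁ := MulAction.stabilizer Γ l with hΓ₁
  have hcΓ₁ : ∀ o ∈ Γ₁, ρ o * e = e * ρ o := fun o ho => by
    rw [he, map_mul_weightIdem_smul, MulAction.mem_stabilizer_iff.mp ho]
  have hQΓ : Q ≤ Γ₁ := fun o ho => dual_smul_eq_self_of_commute l fun z hz => hZc z hz o ho
  obtain ⟨θ, -, hθeq, -, hθsum⟩ := exists_range_rep ρ e Γ₁ hcΓ₁
  have hs := h.block_sum hZK (l := l) h.ops.hq h.ops.npow h.ops.ne_one h.ops.mem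
    (h.stab_inner hZQ hZcomm hl1 hnl)
  let n₁ : Γ₁ := ⟨n, hnl⟩
  have hsum₁ : ∑ i ∈ Finset.range 3, θ (n₁ ^ i) = 0 := by
    have h' := (hθsum (Finset.range 3) (fun _ => 1) (fun i => n₁ ^ i)).2 (by
      simp only [one_smul, SubmonoidClass.coe_pow]; exact hs)
    simpa using h'
  haveI : (Q.subgroupOf Γ₁).Normal := hQn.subgroupOf Γ₁
  have hcn : ∀ w : Γ₁, w ∈ Q.subgroupOf Γ₁ → θ (n₁ * w) = θ (w * n₁) := fun w hw =>
    prime_fpf_commute (Q.subgroupOf Γ₁) θ h.ops.hq h.htq h.exc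
      (h.pQ.of_equiv (subgroupOfEquivOfLe hQΓ).symm) h.tK h.qK (Subtype.ext h.ops.npow) hsum₁ hw
  set θu := θ.toHomUnits with hθu
  set C := Q ⊓ centralizer ({n} : Set Γ) with hC
  set M := ((C.subgroupOf Γ₁).map θu) with hM
  have hnw : ∀ w : Γ₁, w ∈ Q.subgroupOf Γ₁ → Commute (θu n₁) (θu w) := fun w hw => Units.ext (by
    show θ n₁ * θ w = θ w * θ n₁
    rw [← map_mul, ← map_mul]; exact hcn w hw)
  have hQA : zpowers n ≤ normalizer (Q : Set Γ) := by rw [normalizer_eq_top]; exact le_top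
  have hcopn : (Nat.card (zpowers n)).Coprime (Nat.card Q) :=
    Coprime.coprime_of_le (h.ops.coprime_card h.pQ h.htp h.htq) (zpowers_le.2 h.ops.mem) le_rfl
  have himg : ∀ w (hw : w ∈ Q), θu ⟨w, hQΓ hw⟩ ∈ M := by
    let G₀ : Subgroup Γ := (M.comap θu).map Γ₁.subtype
    have hle : Q ≤ G₀ := by
      rw [← Coprime.commutator_sup_centralizer hQA hcopn (Or.inl (Coprime.isSolvable_zpowers n))]
      refine sup_le (commutator_le.2 fun x hx b hb => ?_) fun x hx => ?_
      · obtain ⟨i, rfl⟩ := mem_zpowers_iff.mp hb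
        refine ⟨⁅(⟨x, hQΓ hx⟩ : Γ₁), n₁ ^ i⁆, ?_, by simp [map_commutatorElement, n₁]⟩
        show θu _ ∈ M
        rw [map_commutatorElement, map_zpow,
          commutatorElement_eq_one_iff_mul_comm.2 ((hnw _ hx).zpow_left i).symm.eq]
        exact one_mem M
      · refine ⟨⟨x, hQΓ hx.1⟩, mem_map_of_mem θu ?_, rfl⟩
        refine ⟨hx.1, mem_centralizer_iff.2 fun w hw => ?_⟩
        rw [Set.mem_singleton_iff.mp hw]
        exact mem_centralizer_iff.1 hx.2 n (mem_zpowers n)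
    intro w hw
    obtain ⟨w', hw', hwe⟩ := hle hw
    rw [show (⟨w, hQΓ hw⟩ : Γ₁) = w' from Subtype.ext hwe.symm]
    exact hw'
  obtain ⟨c, hc, hce⟩ := himg y hy
  obtain ⟨d, hd, hde⟩ := himg z hz
  have hcd : Commute (θu c) (θu d) := by
    refine (show Commute c d from Subtype.ext ?_).map θu
    exact h.fixed_commute hc.1 (mem_centralizer_iff.1 hc.2 n rfl) hd.1
      (mem_centralizer_iff.1 hd.2 n rfl)
  rw [hce, hde] at hcd
  have h2 := congrArg Units.val hcd.eq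
  refine (hθeq (⟨y, hQΓ hy⟩ * ⟨z, hQΓ hz⟩) (⟨z, hQΓ hz⟩ * ⟨y, hQΓ hy⟩)).1 ?_
  rw [map_mul, map_mul]
  exact h2

/-- A block moved by the operator of order three. -/
theorem PQData.s3_outer [Fact t.Prime] [hQn : Q.Normal] (h : PQData 2 3 t s n A Q S ρ)
    (hinv : ∀ a ∈ A, a ∉ zpowers n → a * n * a⁻¹ = n⁻¹)
    (hZc : ∀ z ∈ Z, ∀ y ∈ Q, y * z = z * y) (hZK : (Fintype.card Z : K) ≠ 0)
    {l : Z →* Kˣ} (hl : weightIdem Z ρ l ≠ 0) (hnl : n • l ≠ l) {y z : Γ} (hy : y ∈ Q)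
    (hz : z ∈ Q) : ρ (y * z) * weightIdem Z ρ l = ρ (z * y) * weightIdem Z ρ l := by
  obtain ⟨a, ha, ha1, hal⟩ := h.exists_stab hZK hl
  obtain ⟨han, hstab⟩ := h.stab_outer hnl ha hal ha1
  have ha2 : a ^ 2 = 1 := (h.ops.outer a ha han).1
  have hs := h.block_sum hZK (l := l) h.ops.hp ha2 ha1 ha hstab
  set e := weightIdem Z ρ l with he
  set Γ₁ := MulAction.stabilizer Γ l with hΓ₁
  have hcΓ₁ : ∀ o ∈ Γ₁, ρ o * e = e * ρ o := fun o ho => by
    rw [he, map_mul_weightIdem_smul, MulAction.mem_stabilizer_iff.mp ho]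
  have hQΓ : Q ≤ Γ₁ := fun o ho => dual_smul_eq_self_of_commute l fun z hz => hZc z hz o ho
  obtain ⟨θ, -, hθeq, hθscal, -⟩ := exists_range_rep ρ e Γ₁ hcΓ₁
  have hae : θ ⟨a, hal⟩ = (-1 : K) • 1 := by
    refine (hθscal _ _).2 ?_
    rw [Finset.sum_range_succ, Finset.sum_range_one, pow_zero, pow_one, map_one, add_mul, one_mul] at hs
    rw [neg_one_smul]
    exact eq_neg_of_add_eq_zero_right hs
  set θu := θ.toHomUnits with hθu
  have hacomm : ∀ g, Commute (θu ⟨a, hal⟩) (θu g) := fun g => Units.ext (by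
    show θ ⟨a, hal⟩ * θ g = θ g * θ ⟨a, hal⟩
    rw [hae, smul_mul_assoc, mul_smul_comm, one_mul, mul_one])
  let u : Q →* (Module.End K (LinearMap.range e))ˣ := θu.comp (Subgroup.inclusion hQΓ)
  let τ : MulAut Q := MulAut.conjNormal n
  let α : MulAut Q := MulAut.conjNormal a
  have hτc : ∀ w : Q, ((τ w : Q) : Γ) = n * w * n⁻¹ := fun w => MulAut.conjNormal_apply n w
  have hαc : ∀ w : Q, ((α w : Q) : Γ) = a * w * a⁻¹ := fun w => MulAut.conjNormal_apply a w
  have hn3 : n * n * n = 1 := by rw [← h.ops.npow, pow_three, mul_assoc]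
  have hτ3 : ∀ w, τ (τ (τ w)) = w := fun w => by
    refine Subtype.ext ?_
    rw [hτc, hτc, hτc, show n * (n * (n * w * n⁻¹) * n⁻¹) * n⁻¹ =
      (n * n * n) * w * (n * n * n)⁻¹ by group, hn3, one_mul, inv_one, mul_one]
  have hα0 : ∀ w, u (α w) = u w := fun w => by
    show θu ⟨_, _⟩ = θu ⟨_, _⟩
    rw [show (⟨((α w : Q) : Γ), hQΓ (α w).2⟩ : Γ₁) =
        ⟨a, hal⟩ * ⟨w, hQΓ w.2⟩ * ⟨a, hal⟩⁻¹ from Subtype.ext (hαc w), map_mul, map_mul, map_inv,
      (hacomm _).eq, mul_inv_cancel_right]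
  have hna : a * n = n⁻¹ * a := mul_inv_eq_iff_eq_mul.mp (hinv a ha han)
  have hna2 : n * a = a * n⁻¹ := by
    have h1 : a * n⁻¹ = n * a := by
      calc a * n⁻¹ = n * (n⁻¹ * a) * n⁻¹ := by group
        _ = n * (a * n) * n⁻¹ := by rw [hna]
        _ = _ := by group
    exact h1.symm
  have hn2 : n⁻¹ = n * n := inv_eq_of_mul_eq_one_right (by rw [← mul_assoc]; exact hn3)
  have hτα : ∀ w, τ (α w) = α (τ (τ w)) := fun w => by
    refine Subtype.ext ?_
    rw [hτc, hαc, hαc, hτc, hτc]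
    calc n * (a * w * a⁻¹) * n⁻¹ = (n * a) * w * (n * a)⁻¹ := by group
      _ = (a * n⁻¹) * w * (a * n⁻¹)⁻¹ := by rw [hna2]
      _ = a * (n * n * w * (n * n)⁻¹) * a⁻¹ := by rw [hn2]; group
      _ = _ := by group
  have hα1 : ∀ w, u (τ (α w)) = u (τ (τ w)) := fun w => by rw [hτα, hα0]
  have hα2 : ∀ w, u (τ (τ (α w))) = u (τ w) := fun w => by
    rw [hτα, hτα, hα0, hτ3]
  -- only trivial fixed points in the image
  let Φ : Q →* (Module.End K (LinearMap.range e))ˣ × (Module.End K (LinearMap.range e))ˣ ×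
      (Module.End K (LinearMap.range e))ˣ :=
    u.prod ((u.comp τ.toMonoidHom).prod (u.comp ((τ.toMonoidHom).comp τ.toMonoidHom)))
  have hΦ : ∀ w, Φ w = (u w, u (τ w), u (τ (τ w))) := fun w => rfl
  have hfixU : ∀ w : Q, u w = u (τ w) → u (τ w) = u (τ (τ w)) → u w = 1 := by
    intro w h01 h12
    set N₀ := Φ.ker.map Q.subtype with hN₀
    have hmemN : ∀ v : Q, (v : Γ) ∈ N₀ ↔ Φ v = 1 := fun v => by
      rw [hN₀]
      exact (mem_map_iff_mem Q.subtype_injective).trans MonoidHom.mem_ker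
    have hN : ∀ v ∈ N₀, n * v * n⁻¹ ∈ N₀ := by
      rintro _ ⟨v, hv, rfl⟩
      have hv' : Φ v = 1 := hv
      rw [hΦ, Prod.mk_eq_one, Prod.mk_eq_one] at hv'
      rw [show n * Q.subtype v * n⁻¹ = ((τ v : Q) : Γ) from (hτc v).symm, hmemN, hΦ, hτ3,
        hv'.1, hv'.2.1, hv'.2.2]
      rfl
    have hnN : zpowers n ≤ normalizer (N₀ : Set Γ) := by
      refine zpowers_le.2 (mem_normalizer_iff.2 fun v => ⟨hN v, fun hv => ?_⟩)
      have h1 := hN _ (hN _ hv)
      rwa [show n * (n * (n * v * n⁻¹) * n⁻¹) * n⁻¹ = (n * n * n) * v * (n * n * n)⁻¹ by group,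
        hn3, one_mul, inv_one, mul_one] at h1
    have hnw : ∀ b ∈ zpowers n, ⁅b, (w : Γ)⁆ ∈ N₀ := by
      intro b hb
      obtain ⟨i, rfl⟩ := (isOfFinOrder_of_finite n).mem_powers_iff_mem_zpowers.mpr hb
      have h1 : ⁅n, (w : Γ)⁆ ∈ N₀ := by
        rw [show ⁅n, (w : Γ)⁆ = ((τ w * w⁻¹ : Q) : Γ) by
          rw [Subgroup.coe_mul, Subgroup.coe_inv, hτc, commutatorElement_def], hmemN, hΦ,
          map_mul τ, map_mul τ, map_mul u, map_mul u, map_mul u, map_inv τ, map_inv τ, map_inv u,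
          map_inv u, map_inv u, hτ3, ← h12, ← h01, mul_inv_cancel]
        rfl
      show ⁅n ^ i, (w : Γ)⁆ ∈ N₀
      clear hb
      induction i with
      | zero => rw [pow_zero, commutatorElement_one_left]; exact one_mem _
      | succ i ih =>
        rw [pow_succ', show ⁅n * n ^ i, (w : Γ)⁆ = n * ⁅n ^ i, (w : Γ)⁆ * n⁻¹ * ⁅n, (w : Γ)⁆ by
          simp only [commutatorElement_def]; group]
        exact mul_mem (hN _ ih) h1
    obtain ⟨k, hk, hkc⟩ := Coprime.exists_mul_mem_centralizer hnN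
      (Coprime.coprime_of_le (h.ops.coprime_card h.pQ h.htp h.htq) (zpowers_le.2 h.ops.mem)
        (map_subtype_le _)) (Or.inl (Coprime.isSolvable_zpowers n)) hnw
    obtain ⟨k', hk', rfl⟩ := hk
    have hkn : n * ((k' * w : Q) : Γ) = ((k' * w : Q) : Γ) * n :=
      mem_centralizer_iff.1 hkc n (mem_zpowers n)
    have h1 : ρ ((k' * w : Q) : Γ) * e = e :=
      h.fix_block hZK hnl (k' * w : Q).2 hkn (hcΓ₁ _ (hQΓ (k' * w : Q).2))
    have h2 : u (k' * w) = 1 := Units.ext (by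
      show θ ⟨_, _⟩ = 1
      rw [← map_one θ, hθeq, OneMemClass.coe_one, map_one, one_mul]
      exact h1)
    have hk'' : Φ k' = 1 := hk'
    rw [hΦ, Prod.mk_eq_one] at hk''
    rwa [map_mul, hk''.1, one_mul] at h2
  -- every triple has product one
  have hprod : ∀ w, u w * u (τ w) * u (τ (τ w)) = 1 := by
    let f : Φ.range → Φ.range := fun r =>
      ⟨((r.1.1)⁻¹ * r.1.2.1, (r.1.2.1)⁻¹ * r.1.2.2, (r.1.2.2)⁻¹ * r.1.1), by
        obtain ⟨v, hv⟩ := r.2
        refine ⟨v⁻¹ * τ v, ?_⟩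
        rw [← hv, hΦ, hΦ]
        simp only [map_mul, map_inv, hτ3]⟩
    have hf : Function.Injective f := by
      rintro ⟨_, v, rfl⟩ ⟨_, v', rfl⟩ he
      have he' := congrArg Subtype.val he
      simp only [f, hΦ, Prod.mk.injEq] at he'
      obtain ⟨e1, e2, -⟩ := he'
      have k1 : u (v' * v⁻¹) = u (τ (v' * v⁻¹)) := by
        simp only [map_mul, map_inv]
        have e1' := congrArg (fun x => x⁻¹) e1
        simp only [mul_inv_rev, inv_inv] at e1'
        rw [mul_inv_eq_iff_eq_mul, mul_assoc, e1', mul_inv_cancel_left]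
      have k2 : u (τ (v' * v⁻¹)) = u (τ (τ (v' * v⁻¹))) := by
        simp only [map_mul, map_inv]
        have e2' := congrArg (fun x => x⁻¹) e2
        simp only [mul_inv_rev, inv_inv] at e2'
        rw [mul_inv_eq_iff_eq_mul, mul_assoc, e2', mul_inv_cancel_left]
      have k3 := hfixU _ k1 k2
      have k4 : u (v' * v⁻¹) = u (τ (τ (v' * v⁻¹))) := k1.trans k2
      refine Subtype.ext ?_
      show Φ v = Φ v'
      symm
      rw [← mul_inv_eq_one, ← map_inv, ← map_mul, hΦ, ← k4, ← k1, k3]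
      rfl
    haveI : Finite Φ.range := Finite.of_surjective Φ.rangeRestrict Φ.rangeRestrict_surjective
    intro w
    obtain ⟨⟨_, v, rfl⟩, hr⟩ := Finite.surjective_of_injective hf ⟨Φ w, w, rfl⟩
    have hr' := congrArg Subtype.val hr
    simp only [f, hΦ, Prod.mk.injEq] at hr'
    rw [← hr'.1, ← hr'.2.1, ← hr'.2.2]
    group
  have hcube : ∀ w : Q, ∃ v, v ^ 3 = w := fun w => by
    have hc : (orderOf w).Coprime 3 := by
      obtain ⟨k, hk⟩ := h.pQ w
      exact ((Nat.coprime_primes Fact.out h.ops.hq).2 h.htq).pow_left k |>.coprime_dvd_left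
        (orderOf_dvd_of_pow_eq_one hk)
    obtain ⟨m, hm⟩ := exists_pow_eq_self_of_coprime hc.symm
    exact ⟨w ^ m, by rw [← pow_mul, mul_comm, pow_mul, hm]⟩
  have hfin := commute_of_symm3 u τ α (map_mul τ) hτ3 hα0 hα1 hα2 hprod hcube ⟨y, hy⟩ ⟨z, hz⟩
  have h2 := congrArg Units.val hfin.eq
  refine (hθeq (⟨y, hQΓ hy⟩ * ⟨z, hQΓ hz⟩) (⟨z, hQΓ hz⟩ * ⟨y, hQΓ hy⟩)).1 ?_
  rw [map_mul, map_mul]
  exact h2

end Main

theorem s3_linear_aux (k : ℕ) : ∀ {W : Type w} [AddCommGroup W] [Module K W]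
    [FiniteDimensional K W] {Γ : Type u} [Group Γ] [Finite Γ] {t s : ℕ} [Fact t.Prime]
    [Fact s.Prime] {n : Γ} (A Q S : Subgroup Γ) [Q.Normal] (ρ : Γ →* Module.End K W),
    PQData 2 3 t s n A Q S ρ → (∀ a ∈ A, a ∉ zpowers n → a * n * a⁻¹ = n⁻¹) → Nat.card Q = k →
    ∀ y ∈ Q, ∀ z ∈ Q, ρ (y * z) = ρ (z * y) := by
  induction k using Nat.strong_induction_on with
  | _ k ih =>
  intro W _ _ _ Γ _ _ t s _ _ n A Q S hQn ρ h hinv hk y hy z hz
  by_cases hQb : Q = ⊥
  · rw [hQb, mem_bot] at hy hz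
    rw [hy, hz]
  set Z := (center Q).map Q.subtype with hZdef
  have hZQ : Z ≤ Q := map_subtype_le _
  have hZc : ∀ c ∈ Z, ∀ w ∈ Q, w * c = c * w := by
    rintro _ ⟨c, hc, rfl⟩ w hw
    exact congrArg Subtype.val (mem_center_iff.1 hc ⟨w, hw⟩)
  haveI : Z.Normal := by rw [hZdef]; infer_instance
  haveI : Fintype Z := Fintype.ofFinite Z
  have hZne : Z ≠ ⊥ := by
    haveI : Nontrivial Q := (Subgroup.nontrivial_iff_ne_bot Q).2 hQb
    haveI := h.pQ.center_nontrivial
    rw [hZdef, Ne, Subgroup.map_eq_bot_iff_of_injective _ Q.subtype_injective]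
    exact (Subgroup.nontrivial_iff_ne_bot _).1 inferInstance
  have hZcomm : IsMulCommutative Z :=
    isMulCommutative_iff.2 fun a b => Subtype.ext (hZc b b.2 a (hZQ a.2))
  have hZK : (Fintype.card Z : K) ≠ 0 := by
    rw [← Nat.card_eq_fintype_card]; exact natCard_cast_ne_zero (h.pQ.to_le hZQ) h.tK
  refine eq_of_forall_mul_weightIdem ρ hZcomm hZK fun l hl => ?_
  by_cases hl1 : l = 1
  swap
  · by_cases hnl : n • l = l
    · exact h.s3_inner hZQ hZc hZK hl1 hnl hy hz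
    · exact h.s3_outer hinv hZc hZK hl hnl hy hz
  subst hl1
  set e := weightIdem Z ρ (1 : Z →* Kˣ) with he
  have hcome : ∀ g ∈ (⊤ : Subgroup Γ), ρ g * e = e * ρ g := fun g _ => by
    rw [he, map_mul_weightIdem_smul, dual_smul_one]
  obtain ⟨θ, hθap, hθeq, -, -⟩ := exists_range_rep ρ e ⊤ hcome
  let σ : Γ →* Module.End K (LinearMap.range e) :=
    θ.comp (Subgroup.topEquiv : (⊤ : Subgroup Γ) ≃* Γ).symm.toMonoidHom
  have hσ : ∀ g g', σ g = σ g' ↔ ρ g * e = ρ g' * e := fun g g' => hθeq _ _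
  have hσap : ∀ (g : Γ) (v : LinearMap.range e),
      ((σ g v : LinearMap.range e) : W) = ρ g (v : W) := fun g v => hθap _ v
  have hdat : PQData 2 3 t s n A Q S σ := by
    refine h.of_rep σ ?_ ?_ fun b c hbc => (hσ _ _).2 (by rw [hbc])
    · refine LinearMap.ext fun v => Subtype.ext ?_
      have h1 := LinearMap.congr_fun h.sum (v : W)
      simpa [hσap, -map_pow] using h1
    · intro b hb hnb
      refine LinearMap.ext fun v => Subtype.ext ?_
      have h1 := LinearMap.congr_fun (h.fixOp b hb hnb) (v : W)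
      simpa [hσap, -map_pow] using h1
  obtain ⟨σ', hσ', hdat'⟩ := hdat.descend
  set mk := QuotientGroup.mk' (Q ⊓ σ.ker) with hmk
  haveI : (Q.map mk).Normal := hQn.map mk (QuotientGroup.mk'_surjective _)
  have hZker : Z ≤ Q ⊓ σ.ker := fun c hc => by
    refine ⟨hZQ hc, MonoidHom.mem_ker.mpr ?_⟩
    have h1 : ρ c * e = ((1 : Z →* Kˣ) ⟨c, hc⟩ : K) • e := map_mem_mul_weightIdem ρ 1 ⟨c, hc⟩
    rw [MonoidHom.one_apply, Units.val_one, one_smul] at h1
    rw [← map_one σ, hσ, map_one, one_mul]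
    exact h1
  have hlt : Nat.card (Q.map mk) < k := hk ▸ card_map_mk_lt (fun h0 => hZne (le_bot_iff.mp
    ((le_inf hZker hZQ).trans h0.le)))
  have hinv' : ∀ a ∈ A.map mk, a ∉ zpowers (mk n) → a * mk n * a⁻¹ = (mk n)⁻¹ := by
    rintro _ ⟨a, ha, rfl⟩ hna
    rw [← map_inv, ← map_inv, ← map_mul, ← map_mul, hinv a ha fun h1 => hna (by
      rw [← MonoidHom.map_zpowers]; exact mem_map_of_mem _ h1)]
  have h2 := ih _ hlt (A.map mk) (Q.map mk) (S.map mk) σ' hdat' hinv' rfl (mk y)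
    (mem_map_of_mem _ hy) (mk z) (mem_map_of_mem _ hz)
  rw [← map_mul, ← map_mul, hσ', hσ'] at h2
  exact (hσ _ _).1 h2

/-- The linear lemma for operators forming a group of type `S₃`. -/
theorem s3_linear {W : Type w} [AddCommGroup W] [Module K W] [FiniteDimensional K W] {Γ : Type u}
    [Group Γ] [Finite Γ] {t s : ℕ} [Fact t.Prime] [Fact s.Prime] {n : Γ} {A Q S : Subgroup Γ}
    [Q.Normal] {ρ : Γ →* Module.End K W} (h : PQData 2 3 t s n A Q S ρ)
    (hinv : ∀ a ∈ A, a ∉ zpowers n → a * n * a⁻¹ = n⁻¹) {y z : Γ} (hy : y ∈ Q) (hz : z ∈ Q) :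
    ρ (y * z) = ρ (z * y) :=
  s3_linear_aux _ A Q S ρ h hinv rfl y hy z hz

end CfsgLib.Solvable.FPFOperators
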