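import Cfsg.Agent.Lib.Solvable.FPFOperators.PQHeight
import Cfsg.Agent.Lib.Solvable.FPFOperators.S3Linear

/-!
# Operators forming a group of type `S₃` without fixed points: nilpotent derived subgroup
-/

set_option autoImplicit false

namespace CfsgLib.Solvable.FPFOperators

open Subgroup CfsgLib
open scoped commutatorElement

universe u

/-- In a group of order six that is not commutative, an element outside the subgroup of order three
inverts it. -/
theorem PQOps.inverts {Γ : Type u} [Group Γ] [Finite Γ] {A : Subgroup Γ} {n : Γ}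
    (ops : PQOps 2 3 n A) (hna : ¬ IsMulCommutative A) {a : Γ} (ha : a ∈ A) (han : a ∉ zpowers n) :
    a * n * a⁻¹ = n⁻¹ := by
  obtain ⟨i, hi⟩ := (isOfFinOrder_of_finite n).mem_powers_iff_mem_zpowers.mpr (ops.norm a ha)
  change n ^ i = a * n * a⁻¹ at hi
  rw [pow_eq_pow_mod i ops.npow] at hi
  have hlt : i % 3 < 3 := Nat.mod_lt _ (by norm_num)
  generalize i % 3 = j at hi hlt
  interval_cases j
  · rw [pow_zero] at hi
    refine absurd (mul_eq_left.mp (mul_inv_eq_one.mp hi.symm)) ops.ne_one
  · rw [pow_one] at hi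
    refine absurd ?_ hna
    have hc : Commute n a := (mul_inv_eq_iff_eq_mul.mp hi.symm).symm
    refine isMulCommutative_iff.2 fun x y => Subtype.ext ?_
    obtain ⟨i₁, j₁, hx⟩ := (ops.outer a ha han).2 x x.2
    obtain ⟨i₂, j₂, hy⟩ := (ops.outer a ha han).2 y y.2
    show (x : Γ) * y = y * x
    rw [hx, hy]
    exact (((Commute.pow_pow_self n i₁ i₂).mul_right (hc.pow_pow i₁ j₂)).mul_left
      (((hc.pow_pow i₂ j₁).symm).mul_right (Commute.pow_pow_self a j₁ j₂))).eq
  · rw [← hi]
    refine (inv_eq_of_mul_eq_one_right ?_).symm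
    rw [← pow_succ', ops.npow]

variable {Γ : Type u} [Group Γ] [Finite Γ] {n : Γ} {A : Subgroup Γ}

/-- `G / F(G)` is abelian. -/
theorem isMulCommutative_top1 {G : Subgroup Γ} [hGn : G.Normal] (h : OpSetup G A)
    (ops : PQOps 2 3 n A) (hna : ¬ IsMulCommutative A) : IsMulCommutative (top1 G) := by
  haveI := h.solvG
  haveI := Fact.mk Nat.prime_two
  haveI := Fact.mk Nat.prime_three
  set mk := QuotientGroup.mk' (fit G) with hmk
  have hnil : Group.IsNilpotent (top1 G) := isNilpotent_top1_pq h ops (by norm_num)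
  haveI := hnil
  -- each core is commutative
  have hcore : ∀ t : ℕ, t.Prime → ∀ x ∈ Cfsg.pCore t (top1 G), ∀ y ∈ Cfsg.pCore t (top1 G),
      x * y = y * x := by
    intro t ht x hx y hy
    haveI := Fact.mk ht
    obtain ⟨Q, hQG, hQt, hQA, hQmap, hQFn, -⟩ := exists_invariant_layer h t
    obtain ⟨y', hy', hye⟩ : (y : Γ ⧸ fit G) ∈ Q.map mk := hQmap ▸ ⟨y, hy, rfl⟩
    obtain ⟨x', hx', hxe⟩ : (x : Γ ⧸ fit G) ∈ Q.map mk := hQmap ▸ ⟨x, hx, rfl⟩
    refine Subtype.ext ?_
    show (x : Γ ⧸ fit G) * y = y * x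
    rw [← hye, ← hxe, ← commutatorElement_eq_one_iff_mul_comm, ← map_commutatorElement]
    refine (QuotientGroup.eq_one_iff _).mpr (chiefKernel_le_fit G ⟨?_, fun N M hch hMF => ?_⟩)
    · rw [commutatorElement_def]
      exact mul_mem (mul_mem (mul_mem (hQG hx') (hQG hy')) (inv_mem (hQG hx'))) (inv_mem (hQG hy'))
    haveI := hch.normalN
    haveI := hch.normalM
    have hMG : M ≤ G := hMF.trans (fit_le G)
    obtain ⟨r, hr, hexpM, hcommM⟩ := hch.elementary hMG
    haveI := Fact.mk hr
    by_cases htpq : t = 2 ∨ t = 3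
    · intro m _
      rw [h.eq_one_of_pgroup ops hQG ht hQt htpq hx', commutatorElement_one_left,
        commutatorElement_one_left]
      exact one_mem N
    push Not at htpq
    have hQQ : ⁅x', y'⁆ ∈ Q := by
      rw [commutatorElement_def]
      exact mul_mem (mul_mem (mul_mem hx' hy') (inv_mem hx')) (inv_mem hy')
    by_cases htr : t = r
    · subst htr
      exact hch.trivial_of_pgroup hexpM hQt hQFn
        (fun g hg => ((fit_le_chiefKernel G) hg).2 N M hch hMF) _ hQQ
    -- some prime `s` other than `2`, `3`, `t`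
    obtain ⟨s, hs, hs2, hs3, hts⟩ : ∃ s : ℕ, s.Prime ∧ s ≠ 2 ∧ s ≠ 3 ∧ t ≠ s := by
      by_cases h5 : t = 5
      · exact ⟨7, by norm_num, by norm_num, by norm_num, by rw [h5]; norm_num⟩
      · exact ⟨5, by norm_num, by norm_num, by norm_num, h5⟩
    haveI := Fact.mk hs
    obtain ⟨d, ρ, hρ1, hdata⟩ := exists_factor_data (S := ⊥) h ops (by norm_num) hQA
      (by rw [normalizer_eq_top]; exact le_top) hQG bot_le bot_le hQt IsPGroup.of_bot hts htpq.1
      htpq.2 hs2 hs3 hch hMG hexpM hcommM htr
    haveI : (Q.subgroupOf (normalizer (Q : Set Γ))).Normal :=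
      (normal_subgroupOf_iff_le_normalizer le_normalizer).2 le_rfl
    have hρc : ρ (x' * y') = ρ (y' * x') :=
      s3_linear hdata (fun a ha han => Subtype.ext (ops.inverts hna ha fun h1 => han (by
          obtain ⟨i, hi⟩ := mem_zpowers_iff.mp h1
          exact mem_zpowers_iff.mpr ⟨i, Subtype.ext hi⟩)))
        (y := (⟨x', le_normalizer hx'⟩ : normalizer (Q : Set Γ)))
        (z := (⟨y', le_normalizer hy'⟩ : normalizer (Q : Set Γ))) hx' hy'
    refine (hρ1 _).mp ?_
    rw [show ⁅x', y'⁆ = x' * y' * (y' * x')⁻¹ by rw [commutatorElement_def]; group, map_mul, hρc,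
      ← map_mul, mul_inv_cancel, map_one]
  -- different cores commute
  have htop : (⨆ p : Nat.Primes, Cfsg.pCore (p : ℕ) (top1 G)) = ⊤ := by
    rw [← Solvable.Cores.fittingSubgroup_eq_iSup_pCore,
      Solvable.Cores.fittingSubgroup_eq_top_iff]
    exact hnil
  have hall : ∀ p q : Nat.Primes, Cfsg.pCore (p : ℕ) (top1 G) ≤
      centralizer (Cfsg.pCore (q : ℕ) (top1 G) : Set (top1 G)) := by
    intro p q x hx
    refine mem_centralizer_iff.2 fun y hy => ?_
    by_cases hpq : p = q
    · subst hpq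
      exact hcore p p.2 y hy x hx
    haveI := Fact.mk p.2
    haveI := Fact.mk q.2
    obtain ⟨i, hi⟩ := Solvable.Cores.isPGroup_pCore (G := top1 G) (p : ℕ) ⟨x, hx⟩
    obtain ⟨j, hj⟩ := Solvable.Cores.isPGroup_pCore (G := top1 G) (q : ℕ) ⟨y, hy⟩
    exact (OddOrder.Basic.commute_of_mem_nilpotent (K := (⊤ : Subgroup (top1 G))) (Subgroup.mem_top y)
      (Subgroup.mem_top x)
      ((((Nat.coprime_primes q.2 p.2).mpr fun he => hpq (Subtype.ext he.symm)).pow j i).coprime_dvd_left
        (orderOf_dvd_of_pow_eq_one (congrArg Subtype.val hj)) |>.coprime_dvd_right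
        (orderOf_dvd_of_pow_eq_one (congrArg Subtype.val hi))))
  refine isMulCommutative_iff.2 fun x y => ?_
  have h1 : (⊤ : Subgroup (top1 G)) ≤ centralizer ((⊤ : Subgroup (top1 G)) : Set (top1 G)) := by
    conv_lhs => rw [← htop]
    refine iSup_le fun p => ?_
    rw [le_centralizer_iff, ← htop]
    exact iSup_le fun q => hall q p
  exact mem_centralizer_iff.1 (h1 (Subgroup.mem_top y)) x (Subgroup.mem_top x)

/-- The derived subgroup of a group with such operators is nilpotent. -/
theorem isNilpotent_commutator_s3 {G B : Type*} [Group G] [Finite G] [Group B] [Finite B]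
    [MulDistribMulAction B G] (hG : Group.IsSolvable G) (hB : Nat.card B = 2 * 3)
    (hna : ¬ IsMulCommutative B) (hcop : (Nat.card G).Coprime (2 * 3))
    (hfix : ∀ g : G, (∀ b : B, b • g = g) → g = 1) : Group.IsNilpotent (commutator G) := by
  have hBs := isSolvable_of_card_prime_mul Nat.prime_two Nat.prime_three (by norm_num) hB
  obtain ⟨G', A', eG, eB, hfin, h⟩ := exists_model_action hG hBs (hB ▸ hcop.symm) hfix
  haveI := hfin
  haveI := h.normalG
  have hna' : ¬ IsMulCommutative A' := fun hc => hna (isMulCommutative_iff.2 fun a b => eB.injective (by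
    rw [map_mul, map_mul]; exact isMulCommutative_iff.1 hc _ _))
  obtain ⟨n, ops, -⟩ := exists_pqOps Nat.prime_two Nat.prime_three (by norm_num)
    (by rw [← Nat.card_congr eB.toEquiv, hB]) hna' h.solvA
  haveI := isMulCommutative_top1 h ops hna'
  have hle : ⁅G', G'⁆ ≤ fit G' := by
    rw [commutator_le]
    intro a ha b hb
    rw [← QuotientGroup.eq_one_iff]
    show QuotientGroup.mk' (fit G') ⁅a, b⁆ = 1
    rw [map_commutatorElement, commutatorElement_eq_one_iff_mul_comm]
    exact congrArg Subtype.val (mul_comm' (⟨_, mem_map_of_mem _ ha⟩ : top1 G')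
      ⟨_, mem_map_of_mem _ hb⟩)
  haveI := isNilpotent_fit G'
  haveI : Group.IsNilpotent (⁅G', G'⁆ : Subgroup _) :=
    Group.nilpotent_of_mulEquiv (Subgroup.subgroupOfEquivOfLe hle)
  have hmap : (commutator G).map (G'.subtype.comp eG.toMonoidHom) = ⁅G', G'⁆ := by
    rw [commutator_def, Subgroup.map_commutator, ← MonoidHom.range_eq_map, MonoidHom.range_comp,
      (MonoidHom.range_eq_top (f := eG.toMonoidHom)).mpr eG.surjective, ← MonoidHom.range_eq_map,
      range_subtype]
  have e := (commutator G).equivMapOfInjective (G'.subtype.comp eG.toMonoidHom)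
    (G'.subtype_injective.comp eG.injective)
  haveI : Group.IsNilpotent ((commutator G).map (G'.subtype.comp eG.toMonoidHom)) := by
    rw [hmap]; infer_instance
  exact Group.nilpotent_of_mulEquiv e.symm

end CfsgLib.Solvable.FPFOperators
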