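import Cfsg.Agent.Lib.Solvable.FPFOperators.Twisted

/-!
# An operator of two-power order missing an eigenvalue over a twisted group algebra, exactly

The multiplicities of the eigenvalues of the inner element have constant autocorrelation, so they are
constant up to one `±1`; one of them vanishing leaves all the others equal to `1`.
-/

set_option autoImplicit false

namespace CfsgLib.Solvable.FPFOperators

open Subgroup CfsgLib
open scoped commutatorElement

theorem sum_range_shift {α : Type*} [AddCancelCommMonoid α] {N : ℕ} (r : ℕ → α)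
    (hper : ∀ k, r (k + N) = r k) : ∀ j, ∑ k ∈ Finset.range N, r (k + j) = ∑ k ∈ Finset.range N, r k := by
  intro j
  induction j with
  | zero => simp
  | succ j ih =>
    rw [← ih]
    have h := Finset.sum_range_succ (fun k => r (k + j)) N
    rw [Finset.sum_range_succ' (fun k => r (k + j)) N, zero_add, show N + j = j + N by omega, hper] at h
    simpa [add_assoc, add_comm 1 j] using add_right_cancel h

theorem sum_mul_shift {N : ℕ} (r : ℕ → ℕ) (hper : ∀ k, r (k + N) = r k) :
    ∑ m ∈ Finset.range N, ∑ k ∈ Finset.range N, r k * r (k + m) = (∑ k ∈ Finset.range N, r k) ^ 2 := by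
  rw [Finset.sum_comm, sq, Finset.sum_mul]
  refine Finset.sum_congr rfl fun k _ => ?_
  rw [← Finset.mul_sum]
  congr 1
  rw [← sum_range_shift r hper k]
  exact Finset.sum_congr rfl fun m _ => by rw [add_comm]

theorem autocorr_eq {N : ℕ} (r : ℕ → ℕ) (hper : ∀ k, r (k + N) = r k) (w d : ℕ) (hN : 0 < N)
    (hb : ∀ m < N, ∑ k ∈ Finset.range N, r k * r (k + m) ≤ w + if m = 0 then 1 else 0)
    (hd : d ≤ ∑ k ∈ Finset.range N, r k) (hw : N * w + 1 = d * d) :
    d = ∑ k ∈ Finset.range N, r k ∧
      ∀ m < N, ∑ k ∈ Finset.range N, r k * r (k + m) = w + if m = 0 then 1 else 0 := by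
  have h1 : ∑ m ∈ Finset.range N, (w + if m = 0 then 1 else 0) = N * w + 1 := by
    rw [Finset.sum_add_distrib, Finset.sum_const, Finset.card_range, Finset.sum_ite_eq',
      if_pos (Finset.mem_range.2 hN)]
    rfl
  have h2 := Finset.sum_le_sum fun m hm => hb m (Finset.mem_range.1 hm)
  rw [sum_mul_shift r hper, h1, hw] at h2
  have h3 : d = ∑ k ∈ Finset.range N, r k := le_antisymm hd (by nlinarith)
  refine ⟨h3, fun m hm => ?_⟩
  refine (Finset.sum_eq_sum_iff_of_le fun m hm => hb m (Finset.mem_range.1 hm)).1 ?_ m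
    (Finset.mem_range.2 hm)
  rw [sum_mul_shift r hper, h1, hw, ← h3, sq]

/-- Constant autocorrelation modulo a power of two. -/
theorem autocorr_structure : ∀ (e : ℕ) (r : ℕ → ℤ) (w : ℤ), (∀ k, r (k + 2 ^ (e + 1)) = r k) →
    (∀ m < 2 ^ (e + 1), ∑ k ∈ Finset.range (2 ^ (e + 1)), r k * r (k + m) = w + if m = 0 then 1 else 0) →
    ∃ (a ε : ℤ) (k₀ : ℕ), k₀ < 2 ^ (e + 1) ∧ (ε = 1 ∨ ε = -1) ∧
      ∀ k < 2 ^ (e + 1), r k = a + if k = k₀ then ε else 0 := by
  intro e
  induction e with
  | zero =>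
    intro r w hper h
    have e0 := h 0 (by norm_num)
    have e1 := h 1 (by norm_num)
    have h2 : r (1 + 1) = r 0 := by simpa using hper 0
    norm_num [Finset.sum_range_succ] at e0 e1
    rw [show r 2 = r 0 from h2] at e1
    have h3 : (r 0 - r 1) * (r 0 - r 1) = 1 := by linarith
    refine ⟨r 1, r 0 - r 1, 0, by norm_num, ?_, fun k hk => ?_⟩
    · rcases Int.eq_one_or_neg_one_of_mul_eq_one h3 with h4 | h4 <;> simp [h4]
    · interval_cases k <;> simp
  | succ e ih =>
    intro r w hper h
    set M := 2 ^ (e + 1) with hM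
    have hM2 : 2 ^ (e + 1 + 1) = M + M := by rw [hM]; ring
    have hM1 : 2 ≤ M := by rw [hM]; exact le_trans le_rfl (Nat.le_self_pow (by omega) 2)
    rw [hM2] at hper h ⊢
    have hA : ∀ m < M + M, (∑ k ∈ Finset.range M, r k * r (k + m)) +
        (∑ k ∈ Finset.range M, r (M + k) * r (M + k + m)) = w + if m = 0 then 1 else 0 := fun m hm => by
      rw [← Finset.sum_range_add]; exact h m hm
    -- the folded function
    obtain ⟨a, ε, k₀, hk₀, hε, ha⟩ := ih (fun k => r k + r (k + M)) (2 * w)
      (fun k => by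
        show r (k + M) + r (k + M + M) = r k + r (k + M)
        rw [add_assoc k M M, hper, add_comm])
      (fun m hm => by
        have e1 := hA m (by omega)
        have e2 := hA (m + M) (by omega)
        rw [if_neg (by omega : ¬ (m + M = 0))] at e2
        have e3 : ∀ k, r (M + k + (m + M)) = r (k + m) := fun k => by
          rw [show M + k + (m + M) = k + m + (M + M) by ring, hper]
        simp only [e3] at e2
        calc ∑ k ∈ Finset.range M, (r k + r (k + M)) * (r (k + m) + r (k + m + M))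
            = ((∑ k ∈ Finset.range M, r k * r (k + m)) + ∑ k ∈ Finset.range M, r (M + k) * r (M + k + m))
              + ((∑ k ∈ Finset.range M, r k * r (k + (m + M))) +
                ∑ k ∈ Finset.range M, r (M + k) * r (k + m)) := by
              simp only [← Finset.sum_add_distrib]
              refine Finset.sum_congr rfl fun k _ => ?_
              rw [show k + m + M = M + k + m by ring, show k + (m + M) = M + k + m by ring,
                add_comm k M]
              ring
          _ = _ := by rw [e1, e2]; ring)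
    -- the difference
    have hdiff : ∑ k ∈ Finset.range M, (r k - r (k + M)) * (r k - r (k + M)) = 1 := by
      have e1 := hA 0 (by omega)
      have e2 := hA M (by omega)
      rw [if_pos rfl] at e1
      rw [if_neg (by omega : ¬ (M = 0))] at e2
      have e3 : ∀ k, r (M + k + M) = r k := fun k => by
        rw [show M + k + M = k + (M + M) by ring, hper]
      simp only [e3] at e2
      simp only [add_zero] at e1
      calc ∑ k ∈ Finset.range M, (r k - r (k + M)) * (r k - r (k + M))
          = ((∑ k ∈ Finset.range M, r k * r k) + ∑ k ∈ Finset.range M, r (M + k) * r (M + k))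
            - ((∑ k ∈ Finset.range M, r k * r (k + M)) + ∑ k ∈ Finset.range M, r (M + k) * r k) := by
            simp only [← Finset.sum_add_distrib, ← Finset.sum_sub_distrib]
            exact Finset.sum_congr rfl fun k _ => by rw [add_comm M k]; ring
        _ = 1 := by rw [e1, e2]; ring
    obtain ⟨k₁, hk₁, hk₁ne⟩ : ∃ k ∈ Finset.range M, r k - r (k + M) ≠ 0 := by
      by_contra hno
      push Not at hno
      rw [Finset.sum_eq_zero fun k hk => by rw [hno k hk, mul_zero]] at hdiff
      exact zero_ne_one hdiff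
    have hz : ∀ k ∈ Finset.range M, k ≠ k₁ → r k = r (k + M) := by
      intro k hk hne
      by_contra hne'
      have hsub : ({k, k₁} : Finset ℕ) ⊆ Finset.range M :=
        Finset.insert_subset hk (Finset.singleton_subset_iff.2 hk₁)
      have h5 := Finset.sum_le_sum_of_subset_of_nonneg hsub
        (f := fun i => (r i - r (i + M)) * (r i - r (i + M))) fun i _ _ => mul_self_nonneg _
      rw [Finset.sum_pair hne, hdiff] at h5
      have h6 := mul_self_pos.2 (sub_ne_zero.2 hne')
      have h7 := mul_self_pos.2 hk₁ne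
      linarith
    have hd1 : (r k₁ - r (k₁ + M)) * (r k₁ - r (k₁ + M)) = 1 := by
      rwa [Finset.sum_eq_single_of_mem k₁ hk₁ fun k hk hne => by
        rw [sub_eq_zero.2 (hz k hk hne), mul_zero]] at hdiff
    rw [Finset.mem_range] at hk₁
    have hd2 : r k₁ - r (k₁ + M) = 1 ∨ r k₁ - r (k₁ + M) = -1 :=
      Int.eq_one_or_neg_one_of_mul_eq_one hd1
    -- the fold may be expanded around `k₁`
    obtain ⟨a, ε, hε, ha⟩ : ∃ (a' ε' : ℤ), (ε' = 1 ∨ ε' = -1) ∧
        ∀ k < M, r k + r (k + M) = a' + if k = k₁ then ε' else 0 := by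
      by_cases hk01 : k₀ = k₁
      · subst hk01; exact ⟨a, ε, hε, ha⟩
      by_cases hM3 : M = 2
      · refine ⟨a + ε, -ε, by omega, fun k hk => ?_⟩
        rw [ha k hk]
        by_cases hk0 : k = k₀
        · subst hk0; simp [hk01]
        · have : k = k₁ := by omega
          subst this
          simp [Ne.symm hk01]
      obtain ⟨k₃, hk₃, hk₃0, hk₃1⟩ : ∃ k < M, k ≠ k₀ ∧ k ≠ k₁ := by
        by_contra hno
        push Not at hno
        have := hno 0 (by omega)
        have := hno 1 (by omega)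
        have := hno 2 (by omega)
        omega
      exfalso
      have e1 := ha k₀ hk₀
      rw [if_pos rfl] at e1
      have e3 := hz k₀ (Finset.mem_range.2 hk₀) hk01
      have e4 := ha k₃ hk₃
      simp only [if_neg hk₃0] at e4
      have e5 := hz k₃ (Finset.mem_range.2 hk₃) hk₃1
      omega
    rename' k₀ => kold, hk₀ => hkold
    rename' hk₁ => hk₀, k₁ => k₀
    have e1 := ha k₀ hk₀
    rw [if_pos rfl] at e1
    obtain ⟨k₂, hk₂, hk₂0⟩ : ∃ k < M, k ≠ k₀ :=
      if h0 : k₀ = 0 then ⟨1, by omega, by omega⟩ else ⟨0, by omega, fun h => h0 h.symm⟩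
    have e2 := ha k₂ hk₂
    simp only [if_neg hk₂0] at e2
    have e3 := hz k₂ (Finset.mem_range.2 hk₂) hk₂0
    by_cases hbig : r k₀ = r k₂
    · refine ⟨r k₂, ε, k₀ + M, by omega, hε, fun k hk => ?_⟩
      rcases lt_or_ge k M with hkM | hkM
      · rw [if_neg (by omega), add_zero]
        by_cases hk0 : k = k₀
        · rw [hk0, hbig]
        · have := ha k hkM
          simp only [if_neg hk0] at this
          have := hz k (Finset.mem_range.2 hkM) hk0
          omega
      · obtain ⟨j, rfl⟩ : ∃ j, k = j + M := ⟨k - M, by omega⟩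
        by_cases hk0 : j = k₀
        · subst hk0; rw [if_pos rfl]; omega
        · rw [if_neg (by omega), add_zero]
          have := ha j (by omega)
          simp only [if_neg hk0] at this
          have := hz j (Finset.mem_range.2 (by omega)) hk0
          omega
    · refine ⟨r k₂, ε, k₀, by omega, hε, fun k hk => ?_⟩
      rcases lt_or_ge k M with hkM | hkM
      · by_cases hk0 : k = k₀
        · subst hk0; rw [if_pos rfl]
          rcases hε with h5 | h5 <;> rcases hd2 with h6 | h6 <;> omega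
        · rw [if_neg hk0, add_zero]
          have := ha k hkM
          simp only [if_neg hk0] at this
          have := hz k (Finset.mem_range.2 hkM) hk0
          omega
      · obtain ⟨j, rfl⟩ : ∃ j, k = j + M := ⟨k - M, by omega⟩
        rw [if_neg (by omega), add_zero]
        by_cases hk0 : j = k₀
        · subst hk0
          rcases hε with h5 | h5 <;> rcases hd2 with h6 | h6 <;> omega
        · have := ha j (by omega)
          simp only [if_neg hk0] at this
          have := hz j (Finset.mem_range.2 (by omega)) hk0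
          omega

/-- One vanishing multiplicity: all others are one. -/
theorem autocorr_zero {N e : ℕ} (hNe : N = 2 ^ e) (r : ℕ → ℕ) (hper : ∀ k, r (k + N) = r k) (w : ℕ)
    (h : ∀ m < N, ∑ k ∈ Finset.range N, r k * r (k + m) = w + if m = 0 then 1 else 0)
    (a₀ : ℕ) (ha₀ : a₀ < N) (h0 : r a₀ = 0) (hd : ∑ k ∈ Finset.range N, r k ≠ 1) :
    (∀ a < N, r a = 0 → a = a₀) ∧ ∑ k ∈ Finset.range N, r k = N - 1 := by
  rcases e with _ | e
  · have h1 : N = 1 := by simpa using hNe
    subst h1
    obtain rfl : a₀ = 0 := by omega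
    have := h 0 (by norm_num)
    rw [Finset.sum_range_one] at this
    rw [h0] at this
    simp at this
  obtain ⟨a, ε, k₀, hk₀, hε, hr⟩ := autocorr_structure e (fun k => (r k : ℤ)) (w : ℤ)
    (fun k => by simp [← hNe, hper])
    (fun m hm => by
      rw [← hNe] at hm ⊢
      have := h m hm
      simp only [← Nat.cast_mul, ← Nat.cast_sum, this]
      split_ifs <;> simp)
  rw [← hNe] at hk₀ hr
  have hN2 : 2 ≤ N := by rw [hNe]; exact Nat.le_self_pow (by omega) 2
  have hoff : ∀ k < N, k ≠ k₀ → (r k : ℤ) = a := fun k hk hne => by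
    have := hr k hk; simpa [hne] using this
  have hon : (r k₀ : ℤ) = a + ε := by have := hr k₀ hk₀; simpa using this
  have hne : a ≠ 0 := by
    intro ha
    refine hd ?_
    rw [Finset.sum_eq_single_of_mem k₀ (Finset.mem_range.2 hk₀) fun k hk hne => by
      have := hoff k (Finset.mem_range.1 hk) hne; omega]
    rcases hε with h5 | h5 <;> omega
  have hk : a₀ = k₀ := by
    by_contra hne'
    have := hoff a₀ ha₀ hne'
    omega
  subst hk
  refine ⟨fun x hx hx0 => ?_, ?_⟩
  · by_contra hne'
    have := hoff x hx hne'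
    omega
  · have ha1 : a = 1 := by
      obtain ⟨k₂, hk₂, hk₂0⟩ : ∃ k < N, k ≠ a₀ :=
        if h0 : a₀ = 0 then ⟨1, by omega, by omega⟩ else ⟨0, by omega, fun h => h0 h.symm⟩
      have := hoff k₂ hk₂ hk₂0
      rcases hε with h5 | h5 <;> omega
    rw [← Finset.add_sum_erase _ _ (Finset.mem_range.2 hk₀), h0, zero_add,
      Finset.sum_congr rfl (g := fun _ => 1) (fun k hk => by
        have := hoff k (Finset.mem_range.1 (Finset.mem_of_mem_erase hk)) (Finset.ne_of_mem_erase hk)
        omega), Finset.sum_const, Finset.card_erase_of_mem (Finset.mem_range.2 hk₀),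
      Finset.card_range, smul_eq_mul, mul_one]

variable {K : Type*} [Field K] [IsAlgClosed K] {W : Type*} [AddCommGroup W] [Module K W]
  [FiniteDimensional K W] [Nontrivial W] {Γ : Type*} [Group Γ] [Finite Γ]

/-- An operator of two-power order missing an eigenvalue over a twisted group algebra. -/
theorem exists_twisted_exact (θ : Γ →* Module.End K W) (Q R : Subgroup Γ) [hQn : Q.Normal]
    [hRn : R.Normal] (hRQ : R ≤ Q) {s : Γ} {N e₂ : ℕ} (hNe : N = 2 ^ e₂) (hN : 0 < N) (hs : s ^ N = 1)
    (hNK : (N : K) ≠ 0)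
    (hscalar : ∀ x ∈ R, ∃ c : K, θ x = c • 1)
    (hcentral : ∀ x ∈ Q, (∀ y ∈ Q, θ (x * y) = θ (y * x)) → x ∈ R)
    (hcomm : ∀ x ∈ Q, ∀ y ∈ Q, ∃ c : K, θ ⁅x, y⁆ = c • 1)
    (hfree : ∀ i, 0 < i → i < N → ∀ x ∈ Q, ⁅s ^ i, x⁆ ∈ R → x ∈ R)
    (hQR : ¬ Q ≤ R) {c : K} (hc : c ^ N = 1)
    (hsum : ∑ i ∈ Finset.range N, c ^ i • θ (s ^ i) = 0) :
    R.relIndex Q = (N - 1) * (N - 1) ∧
      (∀ Y : Module.End K W, (∀ y ∈ Q, Commute Y (θ y)) → Commute Y (θ s)) ∧
      (∀ c' : K, c' ^ N = 1 → ∑ i ∈ Finset.range N, c' ^ i • θ (s ^ i) = 0 → c' = c) := by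
  classical
  haveI hR'n : (R.subgroupOf Q).Normal := hRn.subgroupOf Q
  let Mb := Q ⧸ R.subgroupOf Q
  haveI : Fintype Mb := Fintype.ofFinite _
  let a : Mb → Γ := fun m => ((m.out : Q) : Γ)
  have haQ : ∀ m, a m ∈ Q := fun m => (m.out : Q).2
  have hunit : ∀ g, θ g * θ g⁻¹ = 1 := fun g => by rw [← map_mul, mul_inv_cancel, map_one]
  have hunit' : ∀ g, θ g⁻¹ * θ g = 1 := fun g => by rw [← map_mul, inv_mul_cancel, map_one]
  have hθne : ∀ g, θ g ≠ 0 := fun g h => by
    have := hunit g
    rw [h, zero_mul] at this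
    exact zero_ne_one this
  let u : Mb → Module.End K W := fun m => θ (a m)
  -- every element of `Q` is a multiple of the representative
  have hrep : ∀ y (hy : y ∈ Q), ∃ c : K, θ y = c • u (QuotientGroup.mk (⟨y, hy⟩ : Q)) := by
    intro y hy
    set m : Mb := QuotientGroup.mk (⟨y, hy⟩ : Q) with hm
    have h1 : (a m)⁻¹ * y ∈ R := by
      have : (m.out : Q)⁻¹ * ⟨y, hy⟩ ∈ R.subgroupOf Q := QuotientGroup.eq.mp (by
        rw [QuotientGroup.out_eq'])
      exact this
    obtain ⟨c, hc⟩ := hscalar _ h1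
    refine ⟨c, ?_⟩
    calc θ y = θ (a m) * θ ((a m)⁻¹ * y) := by rw [← map_mul, mul_inv_cancel_left]
      _ = c • u m := by rw [hc, mul_smul_comm, mul_one]
  have hconj : ∀ y ∈ Q, ∀ m, ∃ c : K, θ y * u m * θ y⁻¹ = c • u m := by
    intro y hy m
    obtain ⟨c, hc⟩ := hcomm y hy (a m) (haQ m)
    refine ⟨c, ?_⟩
    calc θ y * u m * θ y⁻¹ = θ (⁅y, a m⁆ * a m) := by
          rw [← map_mul, ← map_mul, commutatorElement_def, inv_mul_cancel_right]
      _ = c • u m := by rw [map_mul, hc, smul_mul_assoc, one_mul]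
  choose χ hχ using hconj
  have hsep : ∀ m m', (∀ y (hy : y ∈ Q), χ y hy m = χ y hy m') → m = m' := by
    intro m m' h
    have hw : (a m)⁻¹ * a m' ∈ R := by
      refine hcentral _ (Q.mul_mem (Q.inv_mem (haQ m)) (haQ m')) fun y hy => ?_
      have e1 : θ y * θ (a m) * θ y⁻¹ = χ y hy m • θ (a m) := hχ y hy m
      have e2 : θ y * θ (a m') * θ y⁻¹ = χ y hy m • θ (a m') := by rw [h y hy]; exact hχ y hy m'
      have e3 : θ y * θ ((a m)⁻¹ * a m') * θ y⁻¹ = θ ((a m)⁻¹ * a m') := by
        have h4 : θ y * θ (a m) * θ y⁻¹ * (θ y * θ ((a m)⁻¹ * a m') * θ y⁻¹) =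
            θ y * θ (a m') * θ y⁻¹ := by
          simp only [← map_mul]; congr 1; group
        rw [e1, e2, smul_mul_assoc] at h4
        have hc0 : χ y hy m ≠ 0 := fun h0 => by
          rw [h0, zero_smul] at e1
          refine hθne (y * a m * y⁻¹) ?_
          rw [map_mul, map_mul]; exact e1
        have h5 := smul_right_injective (Module.End K W) hc0 h4
        calc θ y * θ ((a m)⁻¹ * a m') * θ y⁻¹
            = θ (a m)⁻¹ * (θ (a m) * (θ y * θ ((a m)⁻¹ * a m') * θ y⁻¹)) := by
              rw [← mul_assoc (θ (a m)⁻¹), hunit', one_mul]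
          _ = θ ((a m)⁻¹ * a m') := by rw [h5, ← map_mul]
      calc θ ((a m)⁻¹ * a m' * y) = θ ((a m)⁻¹ * a m') * θ y := map_mul _ _ _
        _ = θ y * θ ((a m)⁻¹ * a m') * θ y⁻¹ * θ y := by rw [e3]
        _ = θ y * θ ((a m)⁻¹ * a m') := by rw [mul_assoc, hunit', mul_one]
        _ = θ (y * ((a m)⁻¹ * a m')) := (map_mul _ _ _).symm
    have : (m.out : Q)⁻¹ * (m'.out : Q) ∈ R.subgroupOf Q := hw
    have h2 := QuotientGroup.eq.mpr this
    rwa [QuotientGroup.out_eq', QuotientGroup.out_eq'] at h2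
  -- invariant subspaces contain a basis element
  have key : ∀ J : Submodule K (Module.End K W),
      (∀ y ∈ Q, ∀ x ∈ J, θ y * x * θ y⁻¹ ∈ J) → ∀ (n : ℕ) (s₀ : Finset Mb), s₀.card = n →
      ∀ c : Mb → K, ∑ m ∈ s₀, c m • u m ∈ J → ∀ m₀ ∈ s₀, c m₀ ≠ 0 → ∃ m', u m' ∈ J := by
    intro J hJ n
    induction n using Nat.strong_induction_on with
    | _ n ihn =>
      intro s₀ hn c hx m₀ hm₀ hc₀
      by_cases hone : ∀ m ∈ s₀, m ≠ m₀ → c m = 0
      · rw [Finset.sum_eq_single_of_mem m₀ hm₀ fun m hm hne => by rw [hone m hm hne, zero_smul]] at hx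
        refine ⟨m₀, ?_⟩
        have := J.smul_mem (c m₀)⁻¹ hx
        rwa [smul_smul, inv_mul_cancel₀ hc₀, one_smul] at this
      push Not at hone
      obtain ⟨m₁, hm₁, hne, hc₁⟩ := hone
      obtain ⟨y, hy, hy'⟩ : ∃ (y : Γ) (hy : y ∈ Q), χ y hy m₁ ≠ χ y hy m₀ := by
        by_contra hno
        push Not at hno
        exact hne (hsep m₁ m₀ hno)
      have hx' : ∑ m ∈ s₀.erase m₀, (c m * (χ y hy m - χ y hy m₀)) • u m ∈ J := by
        have h1 := J.sub_mem (hJ y hy _ hx) (J.smul_mem (χ y hy m₀) hx)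
        have e : θ y * (∑ m ∈ s₀, c m • u m) * θ y⁻¹ - χ y hy m₀ • ∑ m ∈ s₀, c m • u m =
            ∑ m ∈ s₀, (c m * (χ y hy m - χ y hy m₀)) • u m := by
          rw [Finset.mul_sum, Finset.sum_mul, Finset.smul_sum, ← Finset.sum_sub_distrib]
          refine Finset.sum_congr rfl fun m _ => ?_
          rw [mul_smul_comm, smul_mul_assoc, hχ y hy, smul_smul, smul_smul, ← sub_smul]
          congr 1; ring
        rw [e, ← Finset.add_sum_erase _ _ hm₀, sub_self, mul_zero, zero_smul, zero_add] at h1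
        exact h1
      exact ihn _ (hn ▸ Finset.card_erase_lt_of_mem hm₀) _ rfl _ hx' m₁
        (Finset.mem_erase.mpr ⟨hne, hm₁⟩) (mul_ne_zero hc₁ (sub_ne_zero.mpr hy'))
  have hli : LinearIndependent K u := by
    rw [Fintype.linearIndependent_iff]
    intro c hc m
    by_contra hm
    obtain ⟨m', hm'⟩ := key ⊥ (fun y _ x hx => by rw [(Submodule.mem_bot K).mp hx]; simp) _ _ rfl c
      (by rw [hc]; exact Submodule.zero_mem _) m (Finset.mem_univ m) hm
    exact hθne _ ((Submodule.mem_bot K).mp hm')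
  -- the algebra
  have hmem : ∀ y ∈ Q, θ y ∈ Submodule.span K (Set.range u) := fun y hy => by
    obtain ⟨c, hc⟩ := hrep y hy
    rw [hc]
    exact Submodule.smul_mem _ _ (Submodule.subset_span ⟨_, rfl⟩)
  let B : Subalgebra K (Module.End K W) :=
    (Submodule.span K (Set.range u)).toSubalgebra (by rw [← map_one θ]; exact hmem 1 (one_mem Q))
      (fun x y hx hy => by
        induction hx using Submodule.span_induction with
        | zero => rw [zero_mul]; exact Submodule.zero_mem _
        | add v w _ _ hv hw => rw [add_mul]; exact Submodule.add_mem _ hv hw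
        | smul c v _ hv => rw [smul_mul_assoc]; exact Submodule.smul_mem _ c hv
        | mem v hv =>
          obtain ⟨m, rfl⟩ := hv
          induction hy using Submodule.span_induction with
          | zero => rw [mul_zero]; exact Submodule.zero_mem _
          | add v w _ _ hv hw => rw [mul_add]; exact Submodule.add_mem _ hv hw
          | smul c v _ hv => rw [mul_smul_comm]; exact Submodule.smul_mem _ c hv
          | mem w hw =>
            obtain ⟨m', rfl⟩ := hw
            show θ (a m) * θ (a m') ∈ _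
            rw [← map_mul]
            exact hmem _ (Q.mul_mem (haQ m) (haQ m')))
  have hmemB : ∀ y ∈ Q, θ y ∈ B := hmem
  have hBsum : ∀ b ∈ B, ∃ c : Mb → K, b = ∑ m, c m • u m := fun b hb => by
    obtain ⟨c, hc⟩ := (Submodule.mem_span_range_iff_exists_fun K).mp
      (show b ∈ Submodule.span K (Set.range u) from hb)
    exact ⟨c, hc.symm⟩
  have hinB : ∀ J : Submodule K (Module.End K W), (∀ y ∈ Q, ∀ x ∈ J, θ y * x * θ y⁻¹ ∈ J) →
      ∀ b ∈ B, b ∈ J → b ≠ 0 → ∃ m', u m' ∈ J := by
    intro J hJ b hb hbJ hb0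
    obtain ⟨c, rfl⟩ := hBsum b hb
    obtain ⟨m, hm⟩ : ∃ m, c m ≠ 0 := by
      by_contra hno
      push Not at hno
      exact hb0 (Finset.sum_eq_zero fun m _ => by rw [hno m, zero_smul])
    exact key J hJ _ _ rfl c hbJ m (Finset.mem_univ m) hm
  haveI : Nontrivial B := ⟨⟨0, 1, fun h => zero_ne_one (congrArg Subtype.val h)⟩⟩
  haveI : IsSimpleRing B := by
    refine IsSimpleRing.of_eq_bot_or_eq_top fun I => or_iff_not_imp_left.mpr fun hI => ?_
    let J : Submodule K (Module.End K W) :=
      { carrier := {x | ∃ b ∈ I, (b : Module.End K W) = x}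
        zero_mem' := ⟨0, I.zero_mem, rfl⟩
        add_mem' := by
          rintro _ _ ⟨b, hb, rfl⟩ ⟨b', hb', rfl⟩; exact ⟨b + b', I.add_mem hb hb', rfl⟩
        smul_mem' := by
          rintro c _ ⟨b, hb, rfl⟩
          refine ⟨c • b, ?_, rfl⟩
          rw [Algebra.smul_def]; exact I.mul_mem_left _ _ hb }
    obtain ⟨b, hb, hb0⟩ : ∃ b ∈ I, b ≠ 0 := by
      by_contra hno
      push Not at hno
      exact hI (eq_bot_iff.mpr fun x hx => (TwoSidedIdeal.mem_bot _).mpr (hno x hx))
    obtain ⟨m, b', hb', hbm⟩ := hinB J (fun y hy x hx => by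
      obtain ⟨c, hc, rfl⟩ := hx
      exact ⟨⟨θ y, hmemB y hy⟩ * c * ⟨θ y⁻¹, hmemB _ (Q.inv_mem hy)⟩,
        I.mul_mem_right _ _ (I.mul_mem_left _ _ hc), rfl⟩) b b.2 ⟨b, hb, rfl⟩
      (fun h => hb0 (Subtype.ext h))
    rw [← TwoSidedIdeal.one_mem_iff]
    have : (⟨θ (a m)⁻¹, hmemB _ (Q.inv_mem (haQ m))⟩ : B) * b' = 1 := Subtype.ext (by
      show θ (a m)⁻¹ * (b' : Module.End K W) = 1
      rw [hbm]; exact hunit' _)
    rw [← this]
    exact I.mul_mem_left _ _ hb'
  have hBdim : Module.finrank K B = Fintype.card Mb := finrank_span_eq_card hli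
  obtain ⟨d, hd0, ⟨e₀⟩⟩ := IsSimpleRing.exists_algEquiv_matrix_of_isAlgClosed K B
  let e : B ≃ₐ[K] Module.End K (Fin d → K) := e₀.trans (Matrix.toLinAlgEquiv' (R := K))
  have hdd : Fintype.card Mb = d * d := by
    rw [← hBdim, e.toLinearEquiv.finrank_eq, Module.finrank_linearMap,
      Module.finrank_fintype_fun_eq_card, Fintype.card_fin]
  have hrel : R.relIndex Q = d * d := by
    rw [← hdd, ← Nat.card_eq_fintype_card]; rfl
  -- conjugation by `s`
  have hsQ : ∀ y ∈ Q, s * y * s⁻¹ ∈ Q := fun y hy => hQn.conj_mem y hy s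
  let φ₀ : B →ₐ[K] B :=
    { toFun := fun b => ⟨θ s * (b : Module.End K W) * θ s⁻¹, by
        obtain ⟨c, hc⟩ := hBsum b b.2
        rw [hc, Finset.mul_sum, Finset.sum_mul]
        refine Subalgebra.sum_mem _ fun m _ => ?_
        rw [mul_smul_comm, smul_mul_assoc]
        refine Subalgebra.smul_mem _ ?_ _
        show θ s * θ (a m) * θ s⁻¹ ∈ B
        rw [← map_mul, ← map_mul]
        exact hmemB _ (hsQ _ (haQ m))⟩
      map_one' := Subtype.ext (by show θ s * 1 * θ s⁻¹ = 1; rw [mul_one, hunit])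
      map_mul' := fun x y => Subtype.ext (by
        show θ s * ((x : Module.End K W) * y) * θ s⁻¹ = θ s * x * θ s⁻¹ * (θ s * y * θ s⁻¹)
        simp only [mul_assoc]
        rw [← mul_assoc (θ s⁻¹) (θ s), hunit', one_mul])
      map_zero' := Subtype.ext (by show θ s * 0 * θ s⁻¹ = 0; simp)
      map_add' := fun x y => Subtype.ext (by
        show θ s * ((x : Module.End K W) + y) * θ s⁻¹ = θ s * x * θ s⁻¹ + θ s * y * θ s⁻¹
        rw [mul_add, add_mul])
      commutes' := fun c => Subtype.ext (by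
        show θ s * algebraMap K (Module.End K W) c * θ s⁻¹ = algebraMap K (Module.End K W) c
        rw [← Algebra.commutes, mul_assoc, hunit, mul_one]) }
  have hφ₀ : Function.Injective φ₀ := fun x y h => Subtype.ext (by
    have h' : θ s * (x : Module.End K W) * θ s⁻¹ = θ s * y * θ s⁻¹ := congrArg Subtype.val h
    have h'' := congrArg (fun z => θ s⁻¹ * z * θ s) h'
    simpa [mul_assoc, hunit', ← mul_assoc (θ s⁻¹) (θ s)] using h'')
  let φ : B ≃ₐ[K] B := AlgEquiv.ofBijective φ₀
    ⟨hφ₀, (LinearMap.injective_iff_surjective (f := φ₀.toLinearMap)).mp hφ₀⟩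
  have hφ : ∀ b : B, (φ b : Module.End K W) = θ s * b * θ s⁻¹ := fun b => rfl
  obtain ⟨T₀, hT₀⟩ := ((e.symm.trans φ).trans e).eq_linearEquivConjAlgEquiv
  let S' : B := e.symm T₀.toLinearMap
  let S'' : B := e.symm T₀.symm.toLinearMap
  have hSS : S' * S'' = 1 := by
    rw [← map_mul, ← map_one e.symm]; congr 1
    exact LinearMap.ext fun v => T₀.apply_symm_apply v
  have hSS' : S'' * S' = 1 := by
    rw [← map_mul, ← map_one e.symm]; congr 1
    exact LinearMap.ext fun v => T₀.symm_apply_apply v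
  have hφS : ∀ b : B, φ b * S' = S' * b := by
    intro b
    apply e.injective
    rw [map_mul, map_mul, AlgEquiv.apply_symm_apply]
    have h := AlgEquiv.congr_fun hT₀ (e b)
    simp only [AlgEquiv.trans_apply, AlgEquiv.symm_apply_apply, LinearEquiv.conjAlgEquiv_apply] at h
    rw [h]
    refine LinearMap.ext fun v => ?_
    simp [Module.End.mul_apply]
  -- normalise the inner element
  have hφpow : ∀ (i : ℕ) (b : B), θ s ^ i * (b : Module.End K W) * (θ s⁻¹) ^ i * (S' ^ i : B) =
      (S' ^ i : B) * b := by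
    intro i
    induction i with
    | zero => intro b; simp
    | succ i ih =>
      intro b
      have h1 := ih (φ b)
      rw [hφ] at h1
      have h2 : ((φ b : B) : Module.End K W) * (S' : B) = (S' : B) * b :=
        congrArg Subtype.val (hφS b)
      rw [hφ] at h2
      rw [pow_succ, pow_succ', pow_succ' S', Subalgebra.coe_mul]
      calc θ s ^ i * θ s * (b : Module.End K W) * (θ s⁻¹ * (θ s⁻¹) ^ i) *
            ((S' : Module.End K W) * (S' ^ i : B))
          = θ s ^ i * (θ s * b * θ s⁻¹) * (θ s⁻¹) ^ i * ((S' ^ i : B) * (S' : Module.End K W)) := by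
            rw [show (S' : Module.End K W) * (S' ^ i : B) = (S' ^ i : B) * (S' : Module.End K W) by
              rw [← Subalgebra.coe_mul, ← Subalgebra.coe_mul, ← pow_succ, ← pow_succ']]
            simp only [mul_assoc]
        _ = (S' ^ i : B) * (θ s * b * θ s⁻¹ * (S' : Module.End K W)) := by
            rw [← mul_assoc _ ((S' ^ i : B) : Module.End K W), h1]
            simp only [mul_assoc]
        _ = (S' ^ i : B) * ((S' : Module.End K W) * b) := by rw [h2]
        _ = (S' : Module.End K W) * (S' ^ i : B) * b := by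
            rw [← mul_assoc]
            congr 1
            rw [← Subalgebra.coe_mul, ← Subalgebra.coe_mul, ← pow_succ, ← pow_succ']
  have hθsN : θ s ^ N = 1 := by rw [← map_pow, hs, map_one]
  have hθsN' : (θ s⁻¹) ^ N = 1 := by rw [← map_pow, inv_pow, hs, inv_one, map_one]
  obtain ⟨c₀, hc₀⟩ : ∃ c₀ : K, S' ^ N = algebraMap K B c₀ := by
    have hcen : e (S' ^ N) ∈ Subalgebra.center K (Module.End K (Fin d → K)) := by
      rw [Subalgebra.mem_center_iff]
      intro x
      obtain ⟨b, rfl⟩ := e.surjective x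
      rw [← map_mul, ← map_mul]
      congr 1
      apply Subtype.ext
      have h := hφpow N b
      rw [hθsN, hθsN', one_mul, mul_one] at h
      exact h
    rw [Algebra.IsCentral.center_eq_bot, Algebra.mem_bot] at hcen
    obtain ⟨c₀, hc₀⟩ := hcen
    exact ⟨c₀, e.injective (by rw [← hc₀, AlgEquiv.commutes])⟩
  have hc₀0 : c₀ ≠ 0 := by
    rintro rfl
    rw [map_zero] at hc₀
    have hu : IsUnit (S' ^ N) := (IsUnit.pow N ⟨⟨S', S'', hSS, hSS'⟩, rfl⟩)
    exact not_isUnit_zero (hc₀ ▸ hu)
  obtain ⟨z, hz⟩ := IsAlgClosed.exists_pow_nat_eq c₀⁻¹ hN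
  let S : B := z • S'
  have hSN : S ^ N = 1 := by
    rw [smul_pow, hz, hc₀, Algebra.algebraMap_eq_smul_one, smul_smul, inv_mul_cancel₀ hc₀0, one_smul]
  have hφS1 : ∀ b : B, φ b * S = S * b := fun b => by
    rw [mul_smul_comm, hφS, smul_mul_assoc]
  have hSpow : ∀ i, S ^ (N - 1) * S ^ (i + 1) = S ^ i := fun i => by
    rw [← pow_add, show N - 1 + (i + 1) = N + i by omega, pow_add, hSN, one_mul]
  have hSinv : S ^ (N - 1) * S = 1 := by rw [← pow_succ, Nat.sub_add_cancel hN, hSN]
  have hSinv' : S * S ^ (N - 1) = 1 := by rw [← pow_succ', Nat.sub_add_cancel hN, hSN]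
  let t : Module.End K W := θ s * (S ^ (N - 1) : B)
  have htB : ∀ b : B, Commute t b := fun b => by
    have h1 : φ (S ^ (N - 1) * b * S) = b := by
      have h := hφS1 (S ^ (N - 1) * b * S)
      have h2 : S * (S ^ (N - 1) * b * S) = b * S := by
        rw [← mul_assoc, ← mul_assoc, hSinv', one_mul]
      rw [h2] at h
      have h3 := congrArg (· * S ^ (N - 1)) h
      simpa [mul_assoc, hSinv'] using h3
    have h2 : θ s * ((S ^ (N - 1) * b * S : B) : Module.End K W) * θ s⁻¹ = b := by
      rw [← hφ, h1]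
    show θ s * ((S ^ (N - 1) : B) : Module.End K W) * b = b * (θ s * (S ^ (N - 1) : B))
    calc θ s * ((S ^ (N - 1) : B) : Module.End K W) * b
        = θ s * ((S ^ (N - 1) * b * (S * S ^ (N - 1)) : B) : Module.End K W) := by
          rw [hSinv', mul_one, Subalgebra.coe_mul, mul_assoc]
      _ = θ s * ((S ^ (N - 1) * b * S : B) : Module.End K W) * θ s⁻¹ *
          (θ s * (S ^ (N - 1) : B)) := by
          rw [mul_assoc (θ s * _), ← mul_assoc (θ s⁻¹), hunit', one_mul, mul_assoc (θ s),
            ← Subalgebra.coe_mul, mul_assoc (S ^ (N - 1) * b)]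
      _ = b * (θ s * (S ^ (N - 1) : B)) := by rw [h2]
  have hts : θ s = t * (S : Module.End K W) := by
    show θ s = θ s * ((S ^ (N - 1) : B) : Module.End K W) * (S : Module.End K W)
    rw [mul_assoc, ← Subalgebra.coe_mul, hSinv, Subalgebra.coe_one, mul_one]
  have htS : ∀ i, θ s ^ i = t ^ i * ((S ^ i : B) : Module.End K W) := fun i => by
    rw [hts, (htB S).mul_pow, SubmonoidClass.coe_pow]
  have htN : t ^ N = 1 := by
    have h := htS N
    rw [hθsN, hSN, Subalgebra.coe_one, mul_one] at h
    exact h.symm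
  -- projections
  haveI : NeZero (N : K) := ⟨hNK⟩
  obtain ⟨ζ, hζ⟩ := HasEnoughRootsOfUnity.exists_primitiveRoot K N
  let P : ℕ → B := fun k => cycProj N ζ S k
  let T : ℕ → Module.End K W := fun k => cycProj N ζ t k
  obtain ⟨b₀, hb₀, hTb⟩ : ∃ k < N, T k ≠ 0 := by
    by_contra hno
    push Not at hno
    have h := sum_cycProj (S := t) hζ hN hNK
    rw [Finset.sum_eq_zero fun k hk => hno k (Finset.mem_range.mp hk)] at h
    exact zero_ne_one h
  haveI : NeZero N := ⟨hN.ne'⟩
  obtain ⟨κ₀, hκ₀, hcκ⟩ := hζ.eq_pow_of_pow_eq_one hc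
  -- a missing eigenvalue of `θ s` forces one of `S`
  have hmiss : ∀ γ : K, γ ^ N = 1 → ∑ i ∈ Finset.range N, γ ^ i • θ (s ^ i) = 0 →
      ∀ κ : ℕ, ζ ^ κ = γ → ∀ a b : ℕ, N ∣ κ + a + b → T b ≠ 0 → P a = 0 := by
    intro γ _ hγ κ hκ a₁ b hab hTb'
    have hPT : ((P a₁ : B) : Module.End K W) * T b = 0 := by
      have hpowP : ∀ i, S ^ i * P a₁ = (ζ ^ a₁) ^ i • P a₁ := by
        intro i
        induction i with
        | zero => simp
        | succ i ih => rw [pow_succ', mul_assoc, ih, mul_smul_comm, mul_cycProj hζ hN hSN,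
            smul_smul, ← pow_succ]
      have hpowT : ∀ i, t ^ i * T b = (ζ ^ b) ^ i • T b := by
        intro i
        induction i with
        | zero => simp
        | succ i ih => rw [pow_succ', mul_assoc, ih, mul_smul_comm, mul_cycProj hζ hN htN,
            smul_smul, ← pow_succ]
      have h1 : ∀ i, γ ^ i • θ (s ^ i) * (((P a₁ : B) : Module.End K W) * T b) =
          ((P a₁ : B) : Module.End K W) * T b := by
        intro i
        rw [smul_mul_assoc, map_pow, htS, mul_assoc, ← mul_assoc ((S ^ i : B) : Module.End K W),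
          ← Subalgebra.coe_mul, hpowP, Subalgebra.coe_smul, smul_mul_assoc, mul_smul_comm, ← mul_assoc,
          ((htB (P a₁)).pow_left i).eq, mul_assoc, hpowT, mul_smul_comm, smul_smul, smul_smul, ← hκ,
          ← mul_pow, ← mul_pow, ← pow_add, ← pow_add, ← pow_mul, (hζ.pow_eq_one_iff_dvd _).mpr
            (hab.mul_right i), one_smul]
      have h2 := congrArg (· * (((P a₁ : B) : Module.End K W) * T b)) hγ
      simp only [Finset.sum_mul, h1, Finset.sum_const, Finset.card_range, zero_mul] at h2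
      rw [← Nat.cast_smul_eq_nsmul K] at h2
      exact (smul_eq_zero.mp h2).resolve_left hNK
    by_contra hP
    let J : Submodule K (Module.End K W) := LinearMap.ker (LinearMap.mulRight K (T b))
    obtain ⟨m, hm⟩ := hinB J (fun y hy x hx => by
      have hx' : x * T b = 0 := hx
      show θ y * x * θ y⁻¹ * T b = 0
      rw [mul_assoc, ((cycProj_mul_comm b (htB ⟨θ y⁻¹, hmemB _ (Q.inv_mem hy)⟩)).eq).symm,
        ← mul_assoc, mul_assoc (θ y), hx', mul_zero, zero_mul]) _ (P a₁).2 hPT
      (fun h => hP (Subtype.ext h))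
    have hm' : u m * T b = 0 := hm
    refine hTb' ?_
    calc T b = θ (a m)⁻¹ * (u m * T b) := by rw [← mul_assoc, hunit', one_mul]
      _ = 0 := by rw [hm', mul_zero]
  -- the fixed algebra of the conjugation is large
  let SV : Module.End K (Fin d → K) := e S
  have hSVN : SV ^ N = 1 := by rw [← map_pow, hSN, map_one]
  let PV : ℕ → Module.End K (Fin d → K) := fun k => cycProj N ζ SV k
  have hePV : ∀ k, e (P k) = PV k := fun k => by
    simp only [P, PV, SV, cycProj, map_smul, map_sum, map_pow]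
  let V : Fin N → Submodule K (Fin d → K) := fun k => LinearMap.range (PV k.1)
  have hPVS : ∀ k v, SV (PV k v) = ζ ^ k • PV k v := fun k v =>
    LinearMap.congr_fun (mul_cycProj hζ hN hSVN k) v
  have hPVS' : ∀ k v, PV k (SV v) = ζ ^ k • PV k v := fun k v => by
    rw [← Module.End.mul_apply, (cycProj_mul_comm k (Commute.refl SV)).eq]
    exact hPVS k v
  have hPVsum : ∀ v, ∑ k : Fin N, PV k.1 v = v := fun v => by
    have h := LinearMap.congr_fun (sum_cycProj (S := SV) hζ hN hNK) v
    rw [LinearMap.sum_apply, Module.End.one_apply, ← Fin.sum_univ_eq_sum_range (fun k => PV k v) N] at h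
    exact h
  have hPVdiag : ∀ (j k : Fin N) (w : V j), (PV k.1).rangeRestrict (w : Fin d → K) =
      if h : k = j then h ▸ w else 0 := by
    intro j k w
    obtain ⟨v, hv⟩ := w.2
    split_ifs with h
    · subst h
      apply Subtype.ext
      show PV k.1 (w : Fin d → K) = w
      rw [← hv]
      conv_rhs => rw [← hPVsum (PV k.1 v)]
      rw [Finset.sum_eq_single k]
      · intro l _ hl
        rw [← Module.End.mul_apply, cycProj_mul_cycProj hζ hN hSVN k.2 l.2
          (fun h => hl (Fin.ext h)), LinearMap.zero_apply]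
      · intro h; exact absurd (Finset.mem_univ k) h
    · apply Subtype.ext
      show PV k.1 (w : Fin d → K) = 0
      rw [← hv, ← Module.End.mul_apply, cycProj_mul_cycProj hζ hN hSVN j.2 k.2
        (fun h' => h (Fin.ext h')), LinearMap.zero_apply]
  -- the permutation of the basis
  have hord : orderOf s = N := by
    refine le_antisymm (Nat.le_of_dvd hN (orderOf_dvd_of_pow_eq_one hs)) ?_
    by_contra hlt
    push Not at hlt
    refine hQR fun x hx => hfree (orderOf s) (orderOf_pos s) hlt x hx ?_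
    rw [pow_orderOf_eq_one, commutatorElement_one_left]
    exact one_mem R
  let act : MulAction (zpowers s) Mb :=
    { smul := fun g => QuotientGroup.map (R.subgroupOf Q) (R.subgroupOf Q)
        (MulAut.conjNormal (g : Γ) : MulAut Q).toMonoidHom fun x hx => by
          show ((MulAut.conjNormal (g : Γ) x : Q) : Γ) ∈ R
          rw [MulAut.conjNormal_apply]
          exact hRn.conj_mem _ hx _
      one_smul := fun m => by
        induction m using QuotientGroup.induction_on
        show QuotientGroup.mk _ = QuotientGroup.mk _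
        congr 1
        exact Subtype.ext (by
          rw [MulEquiv.coe_toMonoidHom, MulAut.conjNormal_apply]; simp)
      mul_smul := fun g k m => by
        induction m using QuotientGroup.induction_on
        show QuotientGroup.mk _ = QuotientGroup.mk _
        congr 1
        exact Subtype.ext (by
          simp only [MulEquiv.coe_toMonoidHom, MulAut.conjNormal_apply, Subgroup.coe_mul,
            mul_inv_rev, mul_assoc]) }
  let sg : zpowers s := ⟨s, mem_zpowers s⟩
  have hact : ∀ (g : zpowers s) (y : Γ) (hy : y ∈ Q),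
      g • (QuotientGroup.mk (⟨y, hy⟩ : Q) : Mb) =
        QuotientGroup.mk (⟨g * y * (g : Γ)⁻¹, hQn.conj_mem y hy g⟩ : Q) := fun g y hy => by
    show QuotientGroup.mk _ = QuotientGroup.mk _
    congr 1
  have hsmul_one : ∀ g : zpowers s, g • (1 : Mb) = 1 := fun g => by
    show QuotientGroup.map _ _ _ _ 1 = 1
    exact map_one _
  let X : Type _ := {m : Mb // m ≠ 1}
  let actX : MulAction (zpowers s) X :=
    { smul := fun g m => ⟨g • m.1, fun h => m.2 (smul_left_cancel g (h.trans (hsmul_one g).symm))⟩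
      one_smul := fun m => Subtype.ext (one_smul _ m.1)
      mul_smul := fun g k m => Subtype.ext (mul_smul g k m.1) }
  have hstab : ∀ m : X, MulAction.stabilizer (zpowers s) m = ⊥ := by
    rintro ⟨m, hm⟩
    rw [eq_bot_iff]
    intro g hg
    have hg' : g • m = m := congrArg Subtype.val (MulAction.mem_stabilizer_iff.mp hg)
    obtain ⟨g, hgz⟩ := g
    obtain ⟨i, hi, rfl⟩ : ∃ i < N, s ^ i = g := by
      obtain ⟨i, hi⟩ := mem_powers_iff_mem_zpowers.mpr hgz
      exact ⟨i % N, Nat.mod_lt _ hN, by rw [← hord, pow_mod_orderOf]; exact hi⟩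
    rw [Subgroup.mem_bot]
    by_contra hne
    have hi0 : 0 < i := Nat.pos_of_ne_zero fun h0 => hne (Subtype.ext (by simp [h0]))
    obtain ⟨⟨y, hy⟩, rfl⟩ := QuotientGroup.mk_surjective m
    rw [hact] at hg'
    refine hm ((QuotientGroup.eq_one_iff _).mpr (hfree i hi0 hi y hy ?_))
    have h1 : (⟨y, hy⟩ : Q)⁻¹ * ⟨s ^ i * y * (s ^ i)⁻¹, _⟩ ∈ R.subgroupOf Q :=
      QuotientGroup.eq.mp hg'.symm
    have h2 : y⁻¹ * (s ^ i * y * (s ^ i)⁻¹) ∈ R := h1
    have h3 := hRn.conj_mem _ h2 y
    rwa [show y * (y⁻¹ * (s ^ i * y * (s ^ i)⁻¹)) * y⁻¹ = ⁅s ^ i, y⁆ by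
      rw [commutatorElement_def]; group] at h3
  let Ω := Quotient (MulAction.orbitRel (zpowers s) X)
  haveI : Fintype Ω := Fintype.ofFinite _
  have hcardX : Nat.card X = Fintype.card Ω * N := by
    rw [Nat.card_congr (MulAction.selfEquivOrbitsQuotientProd hstab), Nat.card_prod,
      Nat.card_zpowers, hord, Nat.card_eq_fintype_card]
  have hcardX' : Nat.card X = d * d - 1 := by
    rw [← hdd, Nat.card_eq_fintype_card, Fintype.card_subtype_compl, Fintype.card_subtype_eq]
  -- fixed elements are determined by one coefficient on each orbit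
  have hspan : Submodule.span K (Set.range u) = Submodule.span K (Set.range u) := rfl
  let bas := Module.Basis.span hli
  let co : B →ₗ[K] (Mb →₀ K) :=
    { toFun := fun b => bas.repr ⟨b, b.2⟩
      map_add' := fun x y => map_add bas.repr (⟨x, x.2⟩ : Submodule.span K (Set.range u)) ⟨y, y.2⟩
      map_smul' := fun c x => map_smul bas.repr c (⟨x, x.2⟩ : Submodule.span K (Set.range u)) }
  have hco : ∀ b : B, (b : Module.End K W) = ∑ m, co b m • u m := fun b => by
    have h := congrArg Subtype.val (bas.sum_repr ⟨b, b.2⟩)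
    rw [Submodule.coe_sum] at h
    refine h.symm.trans (Finset.sum_congr rfl fun m _ => ?_)
    rw [Submodule.coe_smul, Module.Basis.span_apply]
    rfl
  have hshift : ∀ m, ∃ κ : K, θ s * u m * θ s⁻¹ = κ • u (sg • m) := fun m => by
    obtain ⟨κ, hκ⟩ := hrep (s * a m * s⁻¹) (hsQ _ (haQ m))
    refine ⟨κ, ?_⟩
    rw [← map_mul, ← map_mul, hκ]
    congr 2
    have hm := hact sg (a m) (haQ m)
    rw [show (QuotientGroup.mk (⟨a m, haQ m⟩ : Q) : Mb) = m from QuotientGroup.out_eq' m] at hm
    exact hm.symm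
  choose κ hκ using hshift
  have hfixco : ∀ (γ : K) (b : B), φ b = γ • b → ∀ m, γ * co b (sg • m) = co b m * κ m := by
    intro γ b hb m
    have hb' : θ s * (b : Module.End K W) * θ s⁻¹ = γ • (b : Module.End K W) := by
      rw [← hφ, hb]; rfl
    rw [hco b, Finset.mul_sum, Finset.sum_mul, Finset.smul_sum] at hb'
    simp only [mul_smul_comm, smul_mul_assoc, hκ, smul_smul] at hb'
    rw [Fintype.sum_equiv (MulAction.toPerm sg) _
      (fun m' => (co b (sg⁻¹ • m') * κ (sg⁻¹ • m')) • u m') fun m' => by simp] at hb'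
    have h := Fintype.linearIndependent_iff.mp hli
      (fun m' => co b (sg⁻¹ • m') * κ (sg⁻¹ • m') - γ * co b m') (by
        simp only [sub_smul, Finset.sum_sub_distrib, hb', sub_self]) (sg • m)
    rw [inv_smul_smul, sub_eq_zero] at h
    exact h.symm
  have hκ1 : κ 1 = 1 := by
    have h1R : a 1 ∈ R := by
      have h : ((1 : Mb).out : Q) ∈ R.subgroupOf Q := (QuotientGroup.eq_one_iff _).mp (QuotientGroup.out_eq' 1)
      exact h
    obtain ⟨c₁, hc₁⟩ := hscalar _ h1R
    have h := hκ 1
    rw [hsmul_one] at h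
    have hu1 : θ s * u 1 * θ s⁻¹ = u 1 := by
      show θ s * θ (a 1) * θ s⁻¹ = θ (a 1)
      rw [hc₁, mul_smul_comm, smul_mul_assoc, mul_one, hunit]
    rw [hu1] at h
    by_contra hne
    have h2 : (κ 1 - 1) • u 1 = 0 := by rw [sub_smul, one_smul, ← h, sub_self]
    exact hθne _ ((smul_eq_zero.mp h2).resolve_left (sub_ne_zero.mpr hne))
  let σ : ℕ → Fin N → Fin N := fun m k => ⟨(k.1 + m) % N, Nat.mod_lt _ hN⟩
  let rr : ℕ → ℕ := fun k => Module.finrank K (V ⟨k % N, Nat.mod_lt _ hN⟩)
  have hbound : ∀ m < N, ∑ k ∈ Finset.range N, rr k * rr (k + m) ≤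
      Fintype.card Ω + if m = 0 then 1 else 0 := by
    intro m hm
    let L : (Π k : Fin N, (V k →ₗ[K] V (σ m k))) →ₗ[K] Module.End K (Fin d → K) :=
      { toFun := fun f => ∑ k : Fin N, (V (σ m k)).subtype ∘ₗ f k ∘ₗ (PV k.1).rangeRestrict
        map_add' := fun f g => by
          rw [← Finset.sum_add_distrib]
          exact Finset.sum_congr rfl fun k _ => LinearMap.ext fun v => by simp
        map_smul' := fun c f => by
          rw [RingHom.id_apply, Finset.smul_sum]
          exact Finset.sum_congr rfl fun k _ => LinearMap.ext fun v => by simp }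
    have hLinj : Function.Injective L := by
      intro f g hfg
      funext j
      refine LinearMap.ext fun w => Subtype.ext ?_
      have h := LinearMap.congr_fun hfg (w : Fin d → K)
      simp only [L, LinearMap.coe_mk, AddHom.coe_mk, LinearMap.sum_apply, LinearMap.comp_apply,
        hPVdiag] at h
      rw [Finset.sum_eq_single j (fun l _ hl => by simp [hl]) (fun h => absurd (Finset.mem_univ j) h),
        Finset.sum_eq_single j (fun l _ hl => by simp [hl]) (fun h => absurd (Finset.mem_univ j) h)] at h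
      simpa using h
    have hLeig : ∀ f, SV * L f = ζ ^ m • (L f * SV) := by
      intro f
      refine LinearMap.ext fun v => ?_
      simp only [L, LinearMap.coe_mk, AddHom.coe_mk, Module.End.mul_apply, LinearMap.smul_apply,
        LinearMap.sum_apply, LinearMap.comp_apply, map_sum, Finset.smul_sum, Submodule.subtype_apply]
      refine Finset.sum_congr rfl fun k _ => ?_
      obtain ⟨w, hw⟩ := (f k ((PV k.1).rangeRestrict v)).2
      have h1 : (PV k.1).rangeRestrict (SV v) = ζ ^ k.1 • (PV k.1).rangeRestrict v :=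
        Subtype.ext (hPVS' _ _)
      rw [h1, map_smul, Submodule.coe_smul, ← hw, hPVS, smul_smul, ← pow_add]
      congr 1
      show ζ ^ ((k.1 + m) % N) = _
      rw [← pow_mod_orderOf ζ (m + k.1), ← hζ.eq_orderOf, add_comm m]
    let Fix : Submodule K B := LinearMap.ker (φ.toLinearMap - (ζ ^ m) • LinearMap.id)
    have hFixmem : ∀ b : B, b ∈ Fix ↔ φ b = ζ ^ m • b := fun b => by
      rw [LinearMap.mem_ker, LinearMap.sub_apply, LinearMap.smul_apply, LinearMap.id_apply, sub_eq_zero]
      rfl
    let Lf : (Π k : Fin N, (V k →ₗ[K] V (σ m k))) →ₗ[K] Fix :=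
      LinearMap.codRestrict Fix (e.symm.toLinearMap ∘ₗ L) fun f => by
        rw [hFixmem]
        show φ (e.symm (L f)) = ζ ^ m • e.symm (L f)
        have h1 : S * e.symm (L f) = ζ ^ m • (e.symm (L f) * S) := e.injective (by
          rw [map_smul, map_mul, map_mul, AlgEquiv.apply_symm_apply]; exact hLeig f)
        have h2 := hφS1 (e.symm (L f))
        rw [h1] at h2
        have h3 := congrArg (· * S ^ (N - 1)) h2
        simpa [mul_assoc, hSinv', smul_mul_assoc] using h3
    have hLfinj : Function.Injective Lf := fun f g h =>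
      hLinj (e.symm.injective (congrArg Subtype.val h))
    have hfin : ∑ k ∈ Finset.range N, rr k * rr (k + m) ≤ Module.finrank K Fix := by
      have h := LinearMap.finrank_le_finrank_of_injective hLfinj
      rw [Module.finrank_pi_fintype] at h
      refine le_trans (le_of_eq ?_) h
      rw [← Fin.sum_univ_eq_sum_range (fun k => rr k * rr (k + m)) N]
      refine Finset.sum_congr rfl fun k _ => ?_
      rw [Module.finrank_linearMap]
      show rr k.1 * rr (k.1 + m) = Module.finrank K (V k) * Module.finrank K (V (σ m k))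
      exact congrArg (· * _) (congrArg (fun x => Module.finrank K (V x)) (Fin.ext (Nat.mod_eq_of_lt k.2)))
    refine hfin.trans ?_
    have hzero : ∀ b ∈ Fix, (∀ ω : Ω, co b (ω.out : X).1 = 0) → ∀ x : Mb, x ≠ 1 → co b x = 0 := by
      intro b hb h2 x hx
      have hstep : ∀ (g : zpowers s) (y : Mb), co b y = 0 → co b (g • y) = 0 := by
        rintro ⟨g, hg⟩ y hy
        obtain ⟨i, rfl⟩ := mem_powers_iff_mem_zpowers.mpr hg
        rw [show (⟨s ^ i, hg⟩ : zpowers s) = sg ^ i from Subtype.ext (by simp [sg])]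
        clear hg
        induction i with
        | zero => rwa [pow_zero, one_smul]
        | succ i ih =>
          have h := hfixco _ b ((hFixmem b).1 hb) (sg ^ i • y)
          rw [ih, zero_mul] at h
          rw [pow_succ', mul_smul]
          exact (mul_eq_zero.mp h).resolve_left (pow_ne_zero _ (hζ.ne_zero hN.ne'))
      obtain ⟨g, hg⟩ : ∃ g : zpowers s, g • (Quotient.mk'' (⟨x, hx⟩ : X) : Ω).out = (⟨x, hx⟩ : X) := by
        obtain ⟨g, hg⟩ := (Quotient.mk_out' (s₁ := MulAction.orbitRel (zpowers s) X) (⟨x, hx⟩ : X))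
        exact ⟨g⁻¹, by rw [← hg, inv_smul_smul]⟩
      have := hstep g _ (h2 (Quotient.mk'' (⟨x, hx⟩ : X)))
      rwa [show g • ((Quotient.mk'' (⟨x, hx⟩ : X) : Ω).out : X).1 = x from congrArg Subtype.val hg]
        at this
    have hext : ∀ b : B, (∀ x, co b x = 0) → b = 0 := fun b h => Subtype.ext (by
      rw [hco b]; exact Finset.sum_eq_zero fun x _ => by rw [h x, zero_smul])
    split_ifs with h0
    · let Ev : Fix →ₗ[K] K × (Ω → K) :=
        { toFun := fun b => (co b.1 1, fun ω => co b.1 (ω.out : X).1)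
          map_add' := fun x y => by simp; rfl
          map_smul' := fun c x => by simp; rfl }
      have hEv : Function.Injective Ev := LinearMap.ker_eq_bot.1 (LinearMap.ker_eq_bot'.2 fun (b : Fix) hb =>
        Subtype.ext (hext b.1 fun x => by
          by_cases hx : x = 1
          · subst hx; exact congrArg Prod.fst hb
          · exact hzero b b.2 (fun ω => congrFun (congrArg Prod.snd hb) ω) x hx))
      refine (LinearMap.finrank_le_finrank_of_injective hEv).trans_eq ?_
      rw [Module.finrank_prod, Module.finrank_self, Module.finrank_fintype_fun_eq_card, add_comm]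
    · let Ev : Fix →ₗ[K] (Ω → K) :=
        { toFun := fun b => fun ω => co b.1 (ω.out : X).1
          map_add' := fun x y => by simp; rfl
          map_smul' := fun c x => by simp; rfl }
      have hEv : Function.Injective Ev := LinearMap.ker_eq_bot.1 (LinearMap.ker_eq_bot'.2 fun (b : Fix) hb =>
        Subtype.ext (hext b.1 fun x => by
          by_cases hx : x = 1
          · subst hx
            have h := hfixco _ b.1 ((hFixmem _).1 b.2) 1
            rw [hsmul_one, hκ1, mul_one] at h
            have h' : (ζ ^ m - 1) * co b.1 1 = 0 := by rw [sub_mul, h, one_mul, sub_self]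
            refine (mul_eq_zero.mp h').resolve_left (sub_ne_zero.mpr fun he => ?_)
            exact h0 (Nat.eq_zero_of_dvd_of_lt ((hζ.pow_eq_one_iff_dvd m).mp he) hm)
          · exact hzero b b.2 (fun ω => congrFun hb ω) x hx))
      refine (LinearMap.finrank_le_finrank_of_injective hEv).trans_eq ?_
      rw [Module.finrank_fintype_fun_eq_card, add_zero]
  -- the multiplicities
  have hdle : d ≤ ∑ k ∈ Finset.range N, rr k := by
    let Sm : (Π k : Fin N, V k) →ₗ[K] (Fin d → K) :=
      ∑ k : Fin N, (V k).subtype ∘ₗ LinearMap.proj k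
    have hSm : Function.Surjective Sm := fun v =>
      ⟨fun k => (PV k.1).rangeRestrict v, by
        simp only [Sm, LinearMap.sum_apply, LinearMap.comp_apply, LinearMap.proj_apply,
          Submodule.subtype_apply]
        exact hPVsum v⟩
    have h := LinearMap.finrank_le_finrank_of_surjective hSm
    rw [Module.finrank_fintype_fun_eq_card, Fintype.card_fin, Module.finrank_pi_fintype,
      Finset.sum_congr rfl (fun k (_ : k ∈ Finset.univ) =>
        (show Module.finrank K (V k) = rr k.1 from congrArg (fun x => Module.finrank K (V x)) (Fin.ext (Nat.mod_eq_of_lt k.2).symm))),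
      Fin.sum_univ_eq_sum_range rr N] at h
    exact h
  have hΩ : Fintype.card Ω * N = d * d - 1 := hcardX.symm.trans hcardX'
  have hdd1 : 1 ≤ d * d := by rw [← hdd]; exact Fintype.card_pos
  have hper : ∀ k, rr (k + N) = rr k := fun k =>
    congrArg (fun x => Module.finrank K (V x)) (Fin.ext (Nat.add_mod_right k N))
  obtain ⟨hrsum, hauto⟩ := autocorr_eq rr hper (Fintype.card Ω) d hN hbound hdle
    (by rw [mul_comm N, hΩ]; omega)
  -- the missing eigenvalue of `S`
  let a₀ := (2 * N - κ₀ - b₀) % N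
  have ha₀ : N ∣ κ₀ + a₀ + b₀ := by
    rw [Nat.dvd_iff_mod_eq_zero]
    simp only [a₀]
    rw [add_right_comm, Nat.add_mod, Nat.mod_mod, ← Nat.add_mod,
      show κ₀ + b₀ + (2 * N - κ₀ - b₀) = 2 * N by omega, Nat.mul_mod_left]
  have hzero_r : ∀ γ : K, γ ^ N = 1 → ∑ i ∈ Finset.range N, γ ^ i • θ (s ^ i) = 0 →
      ∀ κ : ℕ, ζ ^ κ = γ → ∀ a b : ℕ, a < N → N ∣ κ + a + b → T b ≠ 0 → rr a = 0 := by
    intro γ hγ hγs κ hκ a₁ b ha hab hTb'
    have h : PV a₁ = 0 := by rw [← hePV, hmiss γ hγ hγs κ hκ a₁ b hab hTb', map_zero]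
    show Module.finrank K (V ⟨a₁ % N, _⟩) = 0
    rw [show (⟨a₁ % N, Nat.mod_lt _ hN⟩ : Fin N) = ⟨a₁, ha⟩ from Fin.ext (Nat.mod_eq_of_lt ha)]
    show Module.finrank K (LinearMap.range (PV a₁)) = 0
    rw [h, LinearMap.range_zero, finrank_bot]
  have ha₀N : a₀ < N := Nat.mod_lt _ hN
  have hr0 : rr a₀ = 0 := hzero_r c hc hsum κ₀ hcκ a₀ b₀ ha₀N ha₀ hTb
  have hdne : d ≠ 1 := fun h1 => hQR (Subgroup.relIndex_eq_one.mp (by rw [hrel, h1]))
  obtain ⟨huniq, hdN⟩ := autocorr_zero hNe rr hper _ hauto a₀ ha₀N hr0 (fun h => hdne (hrsum.trans h))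
  have hTuniq : ∀ b < N, T b ≠ 0 → N ∣ κ₀ + a₀ + b := by
    intro b hb hTb'
    let a₁ := (2 * N - κ₀ - b) % N
    have ha₁ : N ∣ κ₀ + a₁ + b := by
      rw [Nat.dvd_iff_mod_eq_zero]
      simp only [a₁]
      rw [add_right_comm, Nat.add_mod, Nat.mod_mod, ← Nat.add_mod,
        show κ₀ + b + (2 * N - κ₀ - b) = 2 * N by omega, Nat.mul_mod_left]
    rwa [← huniq a₁ (Nat.mod_lt _ hN) (hzero_r c hc hsum κ₀ hcκ a₁ b (Nat.mod_lt _ hN) ha₁ hTb')]
  have hTone : T b₀ = 1 := by
    conv_rhs => rw [← sum_cycProj (S := t) hζ hN hNK]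
    rw [Finset.sum_eq_single b₀]
    · intro b hb hne
      by_contra hTb'
      rw [Finset.mem_range] at hb
      have h1 := (Nat.modEq_zero_iff_dvd.mpr (hTuniq b hb hTb')).trans
        (Nat.modEq_zero_iff_dvd.mpr ha₀).symm
      exact hne (Nat.ModEq.eq_of_lt_of_lt (Nat.ModEq.add_left_cancel' _ h1) hb hb₀)
    · intro h; exact absurd (Finset.mem_range.mpr hb₀) h
  have ht : t = ζ ^ b₀ • 1 := by
    have h := mul_cycProj hζ hN htN b₀ (S := t)
    rw [show cycProj N ζ t b₀ = T b₀ from rfl, hTone, mul_one] at h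
    exact h
  refine ⟨by rw [hrel, hrsum, hdN], fun Y hY => ?_, fun γ hγ hγs => ?_⟩
  · have hYB : ∀ b : B, Commute Y (b : Module.End K W) := fun b => by
      rw [hco b]
      exact Commute.sum_right _ _ _ fun m _ => (hY _ (haQ m)).smul_right _
    rw [hts, ht, smul_mul_assoc, one_mul]
    exact (hYB S).smul_right _
  · obtain ⟨κ', hκ'N, hκ'⟩ := hζ.eq_pow_of_pow_eq_one hγ
    let a₁ := (2 * N - κ' - b₀) % N
    have ha₁ : N ∣ κ' + a₁ + b₀ := by
      rw [Nat.dvd_iff_mod_eq_zero]
      simp only [a₁]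
      rw [add_right_comm, Nat.add_mod, Nat.mod_mod, ← Nat.add_mod,
        show κ' + b₀ + (2 * N - κ' - b₀) = 2 * N by omega, Nat.mul_mod_left]
    have he := huniq a₁ (Nat.mod_lt _ hN) (hzero_r γ hγ hγs κ' hκ' a₁ b₀ (Nat.mod_lt _ hN) ha₁ hTb)
    rw [he] at ha₁
    have h1 := (Nat.modEq_zero_iff_dvd.mpr ha₁).trans (Nat.modEq_zero_iff_dvd.mpr ha₀).symm
    rw [← hκ', ← hcκ]
    exact congrArg (ζ ^ ·) (Nat.ModEq.eq_of_lt_of_lt
      (Nat.ModEq.add_right_cancel' _ (Nat.ModEq.add_right_cancel' _ h1)) hκ'N hκ₀)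

end CfsgLib.Solvable.FPFOperators
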