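import Cfsg.Agent.Lib.Solvable.FPFOperators.Twisted
import Cfsg.Agent.Lib.Solvable.FPFOperators.NilpotentCentralizer
import Mathlib.Algebra.CharP.Algebra
import Mathlib.Algebra.CharP.Lemmas

/-!
# A unipotent operator over a twisted group algebra

If the images of `Q / R` span a central simple algebra of dimension `d ^ 2` on `W`, in
characteristic `p`, and an operator `s` of `p`-power order `N` permutes the nontrivial elements of
`Q / R` freely with `(s - 1) ^ k = 0` for some `k < N`, then `d + 1 = N` and `d ≤ k`.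
-/

set_option autoImplicit false

namespace CfsgLib.Solvable.FPFOperators

open Subgroup CfsgLib
open scoped commutatorElement

variable {K : Type*} [Field K] [IsAlgClosed K] {W : Type*} [AddCommGroup W] [Module K W]
  [FiniteDimensional K W] [Nontrivial W] {Γ : Type*} [Group Γ] [Finite Γ]

/-- The centraliser of `S - 1` is the fixed space of an automorphism induced by `S`. -/
theorem finrank_commutant_eq {F : Type*} [Field F] {B V : Type*} [Ring B] [Algebra F B]
    [AddCommGroup V] [Module F V] (e : B ≃ₐ[F] Module.End F V) (φ : B →ₗ[F] B) {S S' : B}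
    (hS : S * S' = 1) (hφ : ∀ b, φ b * S = S * b) :
    Module.finrank F (commutant (e (S - 1))) =
      Module.finrank F (LinearMap.ker (φ - LinearMap.id)) := by
  have key : ∀ b, φ b = b ↔ e b ∈ commutant (e (S - 1)) := by
    intro b
    rw [mem_commutant]
    constructor
    · intro hb v
      have h1 : e (S - 1) * e b = e b * e (S - 1) := by
        rw [← map_mul, ← map_mul, sub_mul, mul_sub, one_mul, mul_one]
        congr 2
        conv_rhs => rw [← hb]
        exact (hφ b).symm
      exact LinearMap.congr_fun h1 v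
    · intro h
      have h1 : (S - 1) * b = b * (S - 1) := e.injective (by
        rw [map_mul, map_mul]; exact LinearMap.ext h)
      rw [sub_mul, mul_sub, one_mul, mul_one, sub_left_inj] at h1
      have h3 := hφ b
      rw [h1] at h3
      have h4 := congrArg (fun x : B => x * S') h3
      simpa only [mul_assoc, hS, mul_one] using h4
  have hker : LinearMap.ker (φ - LinearMap.id) = (commutant (e (S - 1))).comap e.toLinearMap := by
    ext b
    rw [LinearMap.mem_ker, LinearMap.sub_apply, LinearMap.id_apply, sub_eq_zero, Submodule.mem_comap]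
    exact key b
  rw [hker]
  exact ((e.toLinearEquiv.ofSubmodule' (commutant (e (S - 1)))).finrank_eq).symm

/-- A fixed vector of a monomial map is determined by one coefficient on each orbit. -/
theorem finrank_fixed_le {F : Type*} [Field F] {M ι : Type*} [AddCommGroup M] [Module F M]
    [Finite ι] (bas : Module.Basis ι F M) (φ : M →ₗ[F] M) (σ : Equiv.Perm ι) (c : ι → F)
    (h : ∀ m, φ (bas m) = c m • bas (σ m)) :
    Module.finrank F (LinearMap.ker (φ - LinearMap.id)) ≤
      Nat.card (MulAction.orbitRel.Quotient (Subgroup.zpowers σ) ι) := by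
  classical
  haveI := Fintype.ofFinite ι
  haveI := Fintype.ofFinite (MulAction.orbitRel.Quotient (Subgroup.zpowers σ) ι)
  have hcoef : ∀ b ∈ LinearMap.ker (φ - LinearMap.id), ∀ m, bas.repr b m = 0 →
      bas.repr b (σ m) = 0 := by
    intro b hb m hm
    have hb' : φ b = b := sub_eq_zero.1 hb
    have h1 : φ b = ∑ i, (bas.repr b i * c i) • bas (σ i) := by
      conv_lhs => rw [← bas.sum_repr b, map_sum]
      refine Finset.sum_congr rfl fun i _ => ?_
      rw [map_smul, h, smul_smul]
    rw [hb'] at h1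
    have h2 := congrArg (fun x => bas.repr x (σ m)) h1
    simp only [map_sum, map_smul, Module.Basis.repr_self, Finsupp.smul_single, smul_eq_mul, mul_one,
      Finsupp.finset_sum_apply, Finsupp.single_apply, σ.injective.eq_iff, Finset.sum_ite_eq',
      Finset.mem_univ, if_true] at h2
    rw [h2, hm, zero_mul]
  let E : LinearMap.ker (φ - LinearMap.id) →ₗ[F]
      (MulAction.orbitRel.Quotient (Subgroup.zpowers σ) ι → F) :=
    { toFun := fun b ω => bas.repr (b : M) ω.out
      map_add' := fun b b' => funext fun ω => by simp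
      map_smul' := fun k b => funext fun ω => by simp }
  have hE : Function.Injective E := by
    rw [injective_iff_map_eq_zero]
    intro b hb
    refine Subtype.ext ((LinearEquiv.map_eq_zero_iff bas.repr).1 (Finsupp.ext fun m => ?_))
    set ω : MulAction.orbitRel.Quotient (Subgroup.zpowers σ) ι := Quotient.mk'' m with hω
    have h0 : bas.repr (b : M) ω.out = 0 := congrFun hb ω
    obtain ⟨⟨g, hg⟩, hgm⟩ : m ∈ MulAction.orbit (Subgroup.zpowers σ) ω.out := by
      have := Quotient.mk_out' (s₁ := MulAction.orbitRel (Subgroup.zpowers σ) ι) m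
      exact MulAction.orbitRel_apply.1 ((MulAction.orbitRel (Subgroup.zpowers σ) ι).symm' this)
    obtain ⟨i, hi⟩ := (isOfFinOrder_of_finite σ).mem_powers_iff_mem_zpowers.mpr hg
    have hm' : (σ ^ i) ω.out = m := by
      rw [show σ ^ i = g from hi]; exact hgm
    rw [← hm']
    clear hgm hm' hi
    induction i with
    | zero => exact h0
    | succ i ihi =>
      rw [pow_succ', Equiv.Perm.mul_apply]
      exact hcoef (b : M) b.2 _ ihi
  have h1 := LinearMap.finrank_le_finrank_of_injective hE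
  rwa [Module.finrank_fintype_fun_eq_card, ← Nat.card_eq_fintype_card] at h1

/-- Counting the orbits of a permutation fixing one point and otherwise free. -/
theorem card_orbits_free {ι : Type*} [Finite ι] (σ : Equiv.Perm ι) (N : ℕ) (hN : orderOf σ = N)
    (x₀ : ι) (hx₀ : σ x₀ = x₀) (hfree : ∀ i, 0 < i → i < N → ∀ m, (σ ^ i) m = m → m = x₀) :
    N * Nat.card (MulAction.orbitRel.Quotient (Subgroup.zpowers σ) ι) + 1 = Nat.card ι + N := by
  classical
  haveI := Fintype.ofFinite ι
  set Z := Subgroup.zpowers σ with hZ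
  haveI := Fintype.ofFinite (MulAction.orbitRel.Quotient Z ι)
  have hfix1 : ∀ g : Z, g • x₀ = x₀ := by
    rintro ⟨g, hg⟩
    exact (Subgroup.zpowers_le.2 (show σ ∈ MulAction.stabilizer (Equiv.Perm ι) x₀ from hx₀)) hg
  set ω₁ : MulAction.orbitRel.Quotient Z ι := Quotient.mk'' x₀ with hω₁
  have horb : ∀ ω : MulAction.orbitRel.Quotient Z ι,
      Nat.card ω.orbit = if ω = ω₁ then 1 else N := by
    intro ω
    induction ω using Quotient.inductionOn' with
    | h m =>
      rw [MulAction.orbitRel.Quotient.orbit_mk]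
      by_cases hm : m = x₀
      · subst hm
        rw [if_pos rfl, Nat.card_eq_one_iff_unique]
        exact ⟨⟨fun x y => Subtype.ext (by
          obtain ⟨g, hg⟩ := x.2
          obtain ⟨g', hg'⟩ := y.2
          exact hg.symm.trans ((hfix1 g).trans ((hfix1 g').symm.trans hg')))⟩,
          ⟨⟨m, MulAction.mem_orbit_self _⟩⟩⟩
      · rw [if_neg (fun h0 => hm (by
          obtain ⟨g, hg⟩ : m ∈ MulAction.orbit Z x₀ := Quotient.eq''.1 h0
          exact hg.symm.trans (hfix1 g))),
          Nat.card_congr (MulAction.orbitEquivQuotientStabilizer Z m)]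
        have hst : MulAction.stabilizer Z m = ⊥ := by
          rw [eq_bot_iff]
          rintro ⟨g, hg⟩ hgm
          obtain ⟨i, hi⟩ := (isOfFinOrder_of_finite σ).mem_powers_iff_mem_zpowers.mpr hg
          have hi' : σ ^ (i % N) = g := by rw [← hN, pow_mod_orderOf]; exact hi
          refine Subgroup.mem_bot.2 (Subtype.ext ?_)
          show g = 1
          rw [← hi']
          rcases Nat.eq_zero_or_pos (i % N) with h0 | h0
          · rw [h0, pow_zero]
          · exfalso
            refine hm (hfree _ h0 (Nat.mod_lt _ (hN ▸ orderOf_pos σ)) m ?_)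
            rw [hi']; exact hgm
        rw [hst, Nat.card_congr QuotientGroup.quotientBot.toEquiv, Nat.card_zpowers, hN]
  have h1 : Nat.card ι = ∑ ω : MulAction.orbitRel.Quotient Z ι, Nat.card ω.orbit := by
    rw [Nat.card_congr (MulAction.selfEquivSigmaOrbits' Z ι), Nat.card_sigma]
  rw [Finset.sum_congr rfl fun ω _ => horb ω, ← Finset.add_sum_erase _ _ (Finset.mem_univ ω₁),
    if_pos rfl, Finset.sum_congr rfl (g := fun _ => N) fun ω hω => if_neg (Finset.ne_of_mem_erase hω),
    Finset.sum_const, Finset.card_erase_of_mem (Finset.mem_univ ω₁), Finset.card_univ,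
    smul_eq_mul, ← Nat.card_eq_fintype_card] at h1
  obtain ⟨o, ho⟩ : ∃ o, Nat.card (MulAction.orbitRel.Quotient Z ι) = o + 1 := by
    haveI : Nonempty (MulAction.orbitRel.Quotient Z ι) := ⟨ω₁⟩
    exact ⟨_, (Nat.sub_add_cancel Nat.card_pos).symm⟩
  rw [h1, ho, Nat.add_sub_cancel]
  ring

/-- A unipotent operator over a twisted group algebra. -/
theorem exists_twisted_unipotent (θ : Γ →* Module.End K W) (Q R : Subgroup Γ) [hQn : Q.Normal]
    [hRn : R.Normal] {p : ℕ} [Fact p.Prime] [CharP K p] {e' : ℕ} {s : Γ} {N : ℕ}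
    (hNe : N = p ^ e') (hs : s ^ N = 1)
    (hscalar : ∀ x ∈ R, ∃ c : K, θ x = c • 1)
    (hcentral : ∀ x ∈ Q, (∀ y ∈ Q, θ (x * y) = θ (y * x)) → x ∈ R)
    (hcomm : ∀ x ∈ Q, ∀ y ∈ Q, ∃ c : K, θ ⁅x, y⁆ = c • 1)
    (hfree : ∀ i, 0 < i → i < N → ∀ x ∈ Q, ⁅s ^ i, x⁆ ∈ R → x ∈ R)
    (hQR : ¬ Q ≤ R) {k : ℕ} (hkN : k < N) (hk : (θ s - 1) ^ k = 0) :
    ∃ d : ℕ, R.relIndex Q = d * d ∧ d + 1 = N ∧ d ≤ k := by
  classical
  have hN : 0 < N := by rw [hNe]; exact pow_pos (Fact.out : p.Prime).pos e'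
  haveI hR'n : (R.subgroupOf Q).Normal := hRn.subgroupOf Q
  let Mb := Q ⧸ R.subgroupOf Q
  haveI : Fintype Mb := Fintype.ofFinite _
  let a : Mb → Γ := fun m => ((m.out : Q) : Γ)
  have haQ : ∀ m, a m ∈ Q := fun m => (m.out : Q).2
  have hunit : ∀ g, θ g * θ g⁻¹ = 1 := fun g => by rw [← map_mul, mul_inv_cancel, map_one]
  have hunit' : ∀ g, θ g⁻¹ * θ g = 1 := fun g => by rw [← map_mul, inv_mul_cancel, map_one]
  have hθne : ∀ g, θ g ≠ 0 := fun g h => by
    have := hunit g
    rw [h, zero_mul] at this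
    exact zero_ne_one this
  let u : Mb → Module.End K W := fun m => θ (a m)
  -- every element of `Q` is a multiple of the representative
  have hrep : ∀ y (hy : y ∈ Q), ∃ c : K, θ y = c • u (QuotientGroup.mk (⟨y, hy⟩ : Q)) := by
    intro y hy
    set m : Mb := QuotientGroup.mk (⟨y, hy⟩ : Q) with hm
    have h1 : (a m)⁻¹ * y ∈ R := by
      have : (m.out : Q)⁻¹ * ⟨y, hy⟩ ∈ R.subgroupOf Q := QuotientGroup.eq.mp (by
        rw [QuotientGroup.out_eq'])
      exact this
    obtain ⟨c, hc⟩ := hscalar _ h1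
    refine ⟨c, ?_⟩
    calc θ y = θ (a m) * θ ((a m)⁻¹ * y) := by rw [← map_mul, mul_inv_cancel_left]
      _ = c • u m := by rw [hc, mul_smul_comm, mul_one]
  have hconj : ∀ y ∈ Q, ∀ m, ∃ c : K, θ y * u m * θ y⁻¹ = c • u m := by
    intro y hy m
    obtain ⟨c, hc⟩ := hcomm y hy (a m) (haQ m)
    refine ⟨c, ?_⟩
    calc θ y * u m * θ y⁻¹ = θ (⁅y, a m⁆ * a m) := by
          rw [← map_mul, ← map_mul, commutatorElement_def, inv_mul_cancel_right]
      _ = c • u m := by rw [map_mul, hc, smul_mul_assoc, one_mul]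
  choose χ hχ using hconj
  have hsep : ∀ m m', (∀ y (hy : y ∈ Q), χ y hy m = χ y hy m') → m = m' := by
    intro m m' h
    have hw : (a m)⁻¹ * a m' ∈ R := by
      refine hcentral _ (Q.mul_mem (Q.inv_mem (haQ m)) (haQ m')) fun y hy => ?_
      have e1 : θ y * θ (a m) * θ y⁻¹ = χ y hy m • θ (a m) := hχ y hy m
      have e2 : θ y * θ (a m') * θ y⁻¹ = χ y hy m • θ (a m') := by rw [h y hy]; exact hχ y hy m'
      have e3 : θ y * θ ((a m)⁻¹ * a m') * θ y⁻¹ = θ ((a m)⁻¹ * a m') := by
        have h4 : θ y * θ (a m) * θ y⁻¹ * (θ y * θ ((a m)⁻¹ * a m') * θ y⁻¹) =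
            θ y * θ (a m') * θ y⁻¹ := by
          simp only [← map_mul]; congr 1; group
        rw [e1, e2, smul_mul_assoc] at h4
        have hc0 : χ y hy m ≠ 0 := fun h0 => by
          rw [h0, zero_smul] at e1
          refine hθne (y * a m * y⁻¹) ?_
          rw [map_mul, map_mul]; exact e1
        have h5 := smul_right_injective (Module.End K W) hc0 h4
        calc θ y * θ ((a m)⁻¹ * a m') * θ y⁻¹
            = θ (a m)⁻¹ * (θ (a m) * (θ y * θ ((a m)⁻¹ * a m') * θ y⁻¹)) := by
              rw [← mul_assoc (θ (a m)⁻¹), hunit', one_mul]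
          _ = θ ((a m)⁻¹ * a m') := by rw [h5, ← map_mul]
      calc θ ((a m)⁻¹ * a m' * y) = θ ((a m)⁻¹ * a m') * θ y := map_mul _ _ _
        _ = θ y * θ ((a m)⁻¹ * a m') * θ y⁻¹ * θ y := by rw [e3]
        _ = θ y * θ ((a m)⁻¹ * a m') := by rw [mul_assoc, hunit', mul_one]
        _ = θ (y * ((a m)⁻¹ * a m')) := (map_mul _ _ _).symm
    have : (m.out : Q)⁻¹ * (m'.out : Q) ∈ R.subgroupOf Q := hw
    have h2 := QuotientGroup.eq.mpr this
    rwa [QuotientGroup.out_eq', QuotientGroup.out_eq'] at h2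
  -- invariant subspaces contain a basis element
  have key : ∀ J : Submodule K (Module.End K W),
      (∀ y ∈ Q, ∀ x ∈ J, θ y * x * θ y⁻¹ ∈ J) → ∀ (n : ℕ) (s₀ : Finset Mb), s₀.card = n →
      ∀ c : Mb → K, ∑ m ∈ s₀, c m • u m ∈ J → ∀ m₀ ∈ s₀, c m₀ ≠ 0 → ∃ m', u m' ∈ J := by
    intro J hJ n
    induction n using Nat.strong_induction_on with
    | _ n ihn =>
      intro s₀ hn c hx m₀ hm₀ hc₀
      by_cases hone : ∀ m ∈ s₀, m ≠ m₀ → c m = 0
      · rw [Finset.sum_eq_single_of_mem m₀ hm₀ fun m hm hne => by rw [hone m hm hne, zero_smul]] at hx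
        refine ⟨m₀, ?_⟩
        have := J.smul_mem (c m₀)⁻¹ hx
        rwa [smul_smul, inv_mul_cancel₀ hc₀, one_smul] at this
      push Not at hone
      obtain ⟨m₁, hm₁, hne, hc₁⟩ := hone
      obtain ⟨y, hy, hy'⟩ : ∃ (y : Γ) (hy : y ∈ Q), χ y hy m₁ ≠ χ y hy m₀ := by
        by_contra hno
        push Not at hno
        exact hne (hsep m₁ m₀ hno)
      have hx' : ∑ m ∈ s₀.erase m₀, (c m * (χ y hy m - χ y hy m₀)) • u m ∈ J := by
        have h1 := J.sub_mem (hJ y hy _ hx) (J.smul_mem (χ y hy m₀) hx)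
        have e : θ y * (∑ m ∈ s₀, c m • u m) * θ y⁻¹ - χ y hy m₀ • ∑ m ∈ s₀, c m • u m =
            ∑ m ∈ s₀, (c m * (χ y hy m - χ y hy m₀)) • u m := by
          rw [Finset.mul_sum, Finset.sum_mul, Finset.smul_sum, ← Finset.sum_sub_distrib]
          refine Finset.sum_congr rfl fun m _ => ?_
          rw [mul_smul_comm, smul_mul_assoc, hχ y hy, smul_smul, smul_smul, ← sub_smul]
          congr 1; ring
        rw [e, ← Finset.add_sum_erase _ _ hm₀, sub_self, mul_zero, zero_smul, zero_add] at h1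
        exact h1
      exact ihn _ (hn ▸ Finset.card_erase_lt_of_mem hm₀) _ rfl _ hx' m₁
        (Finset.mem_erase.mpr ⟨hne, hm₁⟩) (mul_ne_zero hc₁ (sub_ne_zero.mpr hy'))
  have hli : LinearIndependent K u := by
    rw [Fintype.linearIndependent_iff]
    intro c hc m
    by_contra hm
    obtain ⟨m', hm'⟩ := key ⊥ (fun y _ x hx => by rw [(Submodule.mem_bot K).mp hx]; simp) _ _ rfl c
      (by rw [hc]; exact Submodule.zero_mem _) m (Finset.mem_univ m) hm
    exact hθne _ ((Submodule.mem_bot K).mp hm')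
  -- the algebra
  have hmem : ∀ y ∈ Q, θ y ∈ Submodule.span K (Set.range u) := fun y hy => by
    obtain ⟨c, hc⟩ := hrep y hy
    rw [hc]
    exact Submodule.smul_mem _ _ (Submodule.subset_span ⟨_, rfl⟩)
  let B : Subalgebra K (Module.End K W) :=
    (Submodule.span K (Set.range u)).toSubalgebra (by rw [← map_one θ]; exact hmem 1 (one_mem Q))
      (fun x y hx hy => by
        induction hx using Submodule.span_induction with
        | zero => rw [zero_mul]; exact Submodule.zero_mem _
        | add v w _ _ hv hw => rw [add_mul]; exact Submodule.add_mem _ hv hw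
        | smul c v _ hv => rw [smul_mul_assoc]; exact Submodule.smul_mem _ c hv
        | mem v hv =>
          obtain ⟨m, rfl⟩ := hv
          induction hy using Submodule.span_induction with
          | zero => rw [mul_zero]; exact Submodule.zero_mem _
          | add v w _ _ hv hw => rw [mul_add]; exact Submodule.add_mem _ hv hw
          | smul c v _ hv => rw [mul_smul_comm]; exact Submodule.smul_mem _ c hv
          | mem w hw =>
            obtain ⟨m', rfl⟩ := hw
            show θ (a m) * θ (a m') ∈ _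
            rw [← map_mul]
            exact hmem _ (Q.mul_mem (haQ m) (haQ m')))
  have hmemB : ∀ y ∈ Q, θ y ∈ B := hmem
  have hBsum : ∀ b ∈ B, ∃ c : Mb → K, b = ∑ m, c m • u m := fun b hb => by
    obtain ⟨c, hc⟩ := (Submodule.mem_span_range_iff_exists_fun K).mp
      (show b ∈ Submodule.span K (Set.range u) from hb)
    exact ⟨c, hc.symm⟩
  have hinB : ∀ J : Submodule K (Module.End K W), (∀ y ∈ Q, ∀ x ∈ J, θ y * x * θ y⁻¹ ∈ J) →
      ∀ b ∈ B, b ∈ J → b ≠ 0 → ∃ m', u m' ∈ J := by
    intro J hJ b hb hbJ hb0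
    obtain ⟨c, rfl⟩ := hBsum b hb
    obtain ⟨m, hm⟩ : ∃ m, c m ≠ 0 := by
      by_contra hno
      push Not at hno
      exact hb0 (Finset.sum_eq_zero fun m _ => by rw [hno m, zero_smul])
    exact key J hJ _ _ rfl c hbJ m (Finset.mem_univ m) hm
  haveI : Nontrivial B := ⟨⟨0, 1, fun h => zero_ne_one (congrArg Subtype.val h)⟩⟩
  haveI : IsSimpleRing B := by
    refine IsSimpleRing.of_eq_bot_or_eq_top fun I => or_iff_not_imp_left.mpr fun hI => ?_
    let J : Submodule K (Module.End K W) :=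
      { carrier := {x | ∃ b ∈ I, (b : Module.End K W) = x}
        zero_mem' := ⟨0, I.zero_mem, rfl⟩
        add_mem' := by
          rintro _ _ ⟨b, hb, rfl⟩ ⟨b', hb', rfl⟩; exact ⟨b + b', I.add_mem hb hb', rfl⟩
        smul_mem' := by
          rintro c _ ⟨b, hb, rfl⟩
          refine ⟨c • b, ?_, rfl⟩
          rw [Algebra.smul_def]; exact I.mul_mem_left _ _ hb }
    obtain ⟨b, hb, hb0⟩ : ∃ b ∈ I, b ≠ 0 := by
      by_contra hno
      push Not at hno
      exact hI (eq_bot_iff.mpr fun x hx => (TwoSidedIdeal.mem_bot _).mpr (hno x hx))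
    obtain ⟨m, b', hb', hbm⟩ := hinB J (fun y hy x hx => by
      obtain ⟨c, hc, rfl⟩ := hx
      exact ⟨⟨θ y, hmemB y hy⟩ * c * ⟨θ y⁻¹, hmemB _ (Q.inv_mem hy)⟩,
        I.mul_mem_right _ _ (I.mul_mem_left _ _ hc), rfl⟩) b b.2 ⟨b, hb, rfl⟩
      (fun h => hb0 (Subtype.ext h))
    rw [← TwoSidedIdeal.one_mem_iff]
    have : (⟨θ (a m)⁻¹, hmemB _ (Q.inv_mem (haQ m))⟩ : B) * b' = 1 := Subtype.ext (by
      show θ (a m)⁻¹ * (b' : Module.End K W) = 1
      rw [hbm]; exact hunit' _)
    rw [← this]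
    exact I.mul_mem_left _ _ hb'
  have hBdim : Module.finrank K B = Fintype.card Mb := finrank_span_eq_card hli
  obtain ⟨d, hd0, ⟨e₀⟩⟩ := IsSimpleRing.exists_algEquiv_matrix_of_isAlgClosed K B
  let e : B ≃ₐ[K] Module.End K (Fin d → K) := e₀.trans (Matrix.toLinAlgEquiv' (R := K))
  have hdd : Fintype.card Mb = d * d := by
    rw [← hBdim, e.toLinearEquiv.finrank_eq, Module.finrank_linearMap,
      Module.finrank_fintype_fun_eq_card, Fintype.card_fin]
  have hrel : R.relIndex Q = d * d := by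
    rw [← hdd, ← Nat.card_eq_fintype_card]; rfl
  -- conjugation by `s`
  have hsQ : ∀ y ∈ Q, s * y * s⁻¹ ∈ Q := fun y hy => hQn.conj_mem y hy s
  let φ₀ : B →ₐ[K] B :=
    { toFun := fun b => ⟨θ s * (b : Module.End K W) * θ s⁻¹, by
        obtain ⟨c, hc⟩ := hBsum b b.2
        rw [hc, Finset.mul_sum, Finset.sum_mul]
        refine Subalgebra.sum_mem _ fun m _ => ?_
        rw [mul_smul_comm, smul_mul_assoc]
        refine Subalgebra.smul_mem _ ?_ _
        show θ s * θ (a m) * θ s⁻¹ ∈ B
        rw [← map_mul, ← map_mul]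
        exact hmemB _ (hsQ _ (haQ m))⟩
      map_one' := Subtype.ext (by show θ s * 1 * θ s⁻¹ = 1; rw [mul_one, hunit])
      map_mul' := fun x y => Subtype.ext (by
        show θ s * ((x : Module.End K W) * y) * θ s⁻¹ = θ s * x * θ s⁻¹ * (θ s * y * θ s⁻¹)
        simp only [mul_assoc]
        rw [← mul_assoc (θ s⁻¹) (θ s), hunit', one_mul])
      map_zero' := Subtype.ext (by show θ s * 0 * θ s⁻¹ = 0; simp)
      map_add' := fun x y => Subtype.ext (by
        show θ s * ((x : Module.End K W) + y) * θ s⁻¹ = θ s * x * θ s⁻¹ + θ s * y * θ s⁻¹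
        rw [mul_add, add_mul])
      commutes' := fun c => Subtype.ext (by
        show θ s * algebraMap K (Module.End K W) c * θ s⁻¹ = algebraMap K (Module.End K W) c
        rw [← Algebra.commutes, mul_assoc, hunit, mul_one]) }
  have hφ₀ : Function.Injective φ₀ := fun x y h => Subtype.ext (by
    have h' : θ s * (x : Module.End K W) * θ s⁻¹ = θ s * y * θ s⁻¹ := congrArg Subtype.val h
    have h'' := congrArg (fun z => θ s⁻¹ * z * θ s) h'
    simpa [mul_assoc, hunit', ← mul_assoc (θ s⁻¹) (θ s)] using h'')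
  let φ : B ≃ₐ[K] B := AlgEquiv.ofBijective φ₀
    ⟨hφ₀, (LinearMap.injective_iff_surjective (f := φ₀.toLinearMap)).mp hφ₀⟩
  have hφ : ∀ b : B, (φ b : Module.End K W) = θ s * b * θ s⁻¹ := fun b => rfl
  obtain ⟨T₀, hT₀⟩ := ((e.symm.trans φ).trans e).eq_linearEquivConjAlgEquiv
  let S' : B := e.symm T₀.toLinearMap
  let S'' : B := e.symm T₀.symm.toLinearMap
  have hSS : S' * S'' = 1 := by
    rw [← map_mul, ← map_one e.symm]; congr 1
    exact LinearMap.ext fun v => T₀.apply_symm_apply v
  have hSS' : S'' * S' = 1 := by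
    rw [← map_mul, ← map_one e.symm]; congr 1
    exact LinearMap.ext fun v => T₀.symm_apply_apply v
  have hφS : ∀ b : B, φ b * S' = S' * b := by
    intro b
    apply e.injective
    rw [map_mul, map_mul, AlgEquiv.apply_symm_apply]
    have h := AlgEquiv.congr_fun hT₀ (e b)
    simp only [AlgEquiv.trans_apply, AlgEquiv.symm_apply_apply, LinearEquiv.conjAlgEquiv_apply] at h
    rw [h]
    refine LinearMap.ext fun v => ?_
    simp [Module.End.mul_apply]
  -- normalise the inner element
  have hφpow : ∀ (i : ℕ) (b : B), θ s ^ i * (b : Module.End K W) * (θ s⁻¹) ^ i * (S' ^ i : B) =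
      (S' ^ i : B) * b := by
    intro i
    induction i with
    | zero => intro b; simp
    | succ i ih =>
      intro b
      have h1 := ih (φ b)
      rw [hφ] at h1
      have h2 : ((φ b : B) : Module.End K W) * (S' : B) = (S' : B) * b :=
        congrArg Subtype.val (hφS b)
      rw [hφ] at h2
      rw [pow_succ, pow_succ', pow_succ' S', Subalgebra.coe_mul]
      calc θ s ^ i * θ s * (b : Module.End K W) * (θ s⁻¹ * (θ s⁻¹) ^ i) *
            ((S' : Module.End K W) * (S' ^ i : B))
          = θ s ^ i * (θ s * b * θ s⁻¹) * (θ s⁻¹) ^ i * ((S' ^ i : B) * (S' : Module.End K W)) := by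
            rw [show (S' : Module.End K W) * (S' ^ i : B) = (S' ^ i : B) * (S' : Module.End K W) by
              rw [← Subalgebra.coe_mul, ← Subalgebra.coe_mul, ← pow_succ, ← pow_succ']]
            simp only [mul_assoc]
        _ = (S' ^ i : B) * (θ s * b * θ s⁻¹ * (S' : Module.End K W)) := by
            rw [← mul_assoc _ ((S' ^ i : B) : Module.End K W), h1]
            simp only [mul_assoc]
        _ = (S' ^ i : B) * ((S' : Module.End K W) * b) := by rw [h2]
        _ = (S' : Module.End K W) * (S' ^ i : B) * b := by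
            rw [← mul_assoc]
            congr 1
            rw [← Subalgebra.coe_mul, ← Subalgebra.coe_mul, ← pow_succ, ← pow_succ']
  have hθsN : θ s ^ N = 1 := by rw [← map_pow, hs, map_one]
  have hθsN' : (θ s⁻¹) ^ N = 1 := by rw [← map_pow, inv_pow, hs, inv_one, map_one]
  obtain ⟨c₀, hc₀⟩ : ∃ c₀ : K, S' ^ N = algebraMap K B c₀ := by
    have hcen : e (S' ^ N) ∈ Subalgebra.center K (Module.End K (Fin d → K)) := by
      rw [Subalgebra.mem_center_iff]
      intro x
      obtain ⟨b, rfl⟩ := e.surjective x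
      rw [← map_mul, ← map_mul]
      congr 1
      apply Subtype.ext
      have h := hφpow N b
      rw [hθsN, hθsN', one_mul, mul_one] at h
      exact h
    rw [Algebra.IsCentral.center_eq_bot, Algebra.mem_bot] at hcen
    obtain ⟨c₀, hc₀⟩ := hcen
    exact ⟨c₀, e.injective (by rw [← hc₀, AlgEquiv.commutes])⟩
  have hc₀0 : c₀ ≠ 0 := by
    rintro rfl
    rw [map_zero] at hc₀
    have hu : IsUnit (S' ^ N) := (IsUnit.pow N ⟨⟨S', S'', hSS, hSS'⟩, rfl⟩)
    exact not_isUnit_zero (hc₀ ▸ hu)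
  obtain ⟨z, hz⟩ := IsAlgClosed.exists_pow_nat_eq c₀⁻¹ hN
  let S : B := z • S'
  have hSN : S ^ N = 1 := by
    rw [smul_pow, hz, hc₀, Algebra.algebraMap_eq_smul_one, smul_smul, inv_mul_cancel₀ hc₀0, one_smul]
  have hφS1 : ∀ b : B, φ b * S = S * b := fun b => by
    rw [mul_smul_comm, hφS, smul_mul_assoc]
  have hSpow : ∀ i, S ^ (N - 1) * S ^ (i + 1) = S ^ i := fun i => by
    rw [← pow_add, show N - 1 + (i + 1) = N + i by omega, pow_add, hSN, one_mul]
  have hSinv : S ^ (N - 1) * S = 1 := by rw [← pow_succ, Nat.sub_add_cancel hN, hSN]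
  have hSinv' : S * S ^ (N - 1) = 1 := by rw [← pow_succ', Nat.sub_add_cancel hN, hSN]
  let t : Module.End K W := θ s * (S ^ (N - 1) : B)
  have htB : ∀ b : B, Commute t b := fun b => by
    have h1 : φ (S ^ (N - 1) * b * S) = b := by
      have h := hφS1 (S ^ (N - 1) * b * S)
      have h2 : S * (S ^ (N - 1) * b * S) = b * S := by
        rw [← mul_assoc, ← mul_assoc, hSinv', one_mul]
      rw [h2] at h
      have h3 := congrArg (· * S ^ (N - 1)) h
      simpa [mul_assoc, hSinv'] using h3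
    have h2 : θ s * ((S ^ (N - 1) * b * S : B) : Module.End K W) * θ s⁻¹ = b := by
      rw [← hφ, h1]
    show θ s * ((S ^ (N - 1) : B) : Module.End K W) * b = b * (θ s * (S ^ (N - 1) : B))
    calc θ s * ((S ^ (N - 1) : B) : Module.End K W) * b
        = θ s * ((S ^ (N - 1) * b * (S * S ^ (N - 1)) : B) : Module.End K W) := by
          rw [hSinv', mul_one, Subalgebra.coe_mul, mul_assoc]
      _ = θ s * ((S ^ (N - 1) * b * S : B) : Module.End K W) * θ s⁻¹ *
          (θ s * (S ^ (N - 1) : B)) := by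
          rw [mul_assoc (θ s * _), ← mul_assoc (θ s⁻¹), hunit', one_mul, mul_assoc (θ s),
            ← Subalgebra.coe_mul, mul_assoc (S ^ (N - 1) * b)]
      _ = b * (θ s * (S ^ (N - 1) : B)) := by rw [h2]
  have hts : θ s = t * (S : Module.End K W) := by
    show θ s = θ s * ((S ^ (N - 1) : B) : Module.End K W) * (S : Module.End K W)
    rw [mul_assoc, ← Subalgebra.coe_mul, hSinv, Subalgebra.coe_one, mul_one]
  have htS : ∀ i, θ s ^ i = t ^ i * ((S ^ i : B) : Module.End K W) := fun i => by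
    rw [hts, (htB S).mul_pow, SubmonoidClass.coe_pow]
  have htN : t ^ N = 1 := by
    have h := htS N
    rw [hθsN, hSN, Subalgebra.coe_one, mul_one] at h
    exact h.symm
  -- the unipotent part commuting with the algebra does not matter
  haveI : CharP (Module.End K W) p := charP_of_injective_algebraMap
    (FaithfulSMul.algebraMap_injective K (Module.End K W)) p
  set ν := t - 1 with hν
  have hνN : ν ^ N = 0 := by
    rw [hν, hNe, sub_pow_char_pow_of_commute p e' (Commute.one_right t), one_pow, ← hNe, htN,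
      sub_self]
  obtain ⟨j, hj, hj1⟩ : ∃ j, ν ^ j ≠ 0 ∧ ν ^ (j + 1) = 0 := by
    have hex : ∃ i, ν ^ i = 0 := ⟨N, hνN⟩
    obtain ⟨j, hj⟩ : ∃ j, Nat.find hex = j + 1 := Nat.exists_eq_succ_of_ne_zero fun h0 => by
      have h1 := Nat.find_spec hex
      rw [h0, pow_zero] at h1
      exact one_ne_zero h1
    exact ⟨j, Nat.find_min hex (by omega), hj ▸ Nat.find_spec hex⟩
  set μ := ν ^ j with hμ
  have hμB : ∀ b : B, Commute μ b := fun b => ((htB b).sub_left (Commute.one_left _)).pow_left j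
  have hμt : μ * t = μ := by
    have h1 : μ * ν = 0 := by rw [hμ, ← pow_succ]; exact hj1
    rwa [hν, mul_sub, mul_one, sub_eq_zero] at h1
  have hμs : ∀ i, μ * (θ s - 1) ^ i = μ * ((S - 1 : B) : Module.End K W) ^ i := by
    intro i
    induction i with
    | zero => rw [pow_zero, pow_zero]
    | succ i ihi =>
      have hc : Commute μ (((S - 1 : B) : Module.End K W) ^ i) := (hμB _).pow_right i
      rw [pow_succ, ← mul_assoc, ihi, pow_succ, ← mul_assoc, hc.eq, mul_assoc, mul_assoc]
      congr 1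
      rw [mul_sub, mul_one, hts, ← mul_assoc, hμt, AddSubgroupClass.coe_sub, Subalgebra.coe_one,
        mul_sub, mul_one]
  have hNil : (S - 1 : B) ^ k = 0 := by
    by_contra hne
    let J : Submodule K (Module.End K W) := LinearMap.ker (LinearMap.mulLeft K μ)
    have hJ : (((S - 1 : B) ^ k : B) : Module.End K W) ∈ J := by
      show μ * (((S - 1 : B) ^ k : B) : Module.End K W) = 0
      rw [SubmonoidClass.coe_pow, ← hμs, hk, mul_zero]
    obtain ⟨m, hm⟩ := hinB J (fun y hy x hx => by
      have hx' : μ * x = 0 := hx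
      show μ * (θ y * x * θ y⁻¹) = 0
      rw [← mul_assoc, ← mul_assoc, (hμB ⟨θ y, hmemB y hy⟩).eq, mul_assoc (θ y), hx', mul_zero,
        zero_mul]) _ ((S - 1 : B) ^ k).2 hJ (fun h0 => hne (Subtype.ext h0))
    have hm' : μ * u m = 0 := hm
    refine hj ?_
    calc μ = μ * u m * θ (a m)⁻¹ := by rw [mul_assoc, hunit, mul_one]
      _ = 0 := by rw [hm', zero_mul]
  set N₁ : Module.End K (Fin d → K) := e (S - 1) with hN₁
  have hN₁k : N₁ ^ k = 0 := by rw [hN₁, ← map_pow, hNil, map_zero]
  obtain ⟨hC1, hC2⟩ := commutant_bounds N₁ hN₁k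
  rw [Module.finrank_fintype_fun_eq_card, Fintype.card_fin] at hC1 hC2
  -- the operator permutes the basis
  have hRs : ∀ g : Γ, ∀ x ∈ R, g * x * g⁻¹ ∈ R := fun g x hx => hRn.conj_mem x hx g
  let σ₀ : Mb → Mb := Quotient.map' (fun y : Q => (⟨s * y * s⁻¹, hsQ y y.2⟩ : Q)) (fun y y' hyy => by
    rw [QuotientGroup.leftRel_apply] at hyy ⊢
    have h1 : (y : Γ)⁻¹ * y' ∈ R := hyy
    show (s * y * s⁻¹)⁻¹ * (s * y' * s⁻¹) ∈ R
    have h2 := hRs s _ h1
    have e' : (s * y * s⁻¹)⁻¹ * (s * y' * s⁻¹) = s * ((y : Γ)⁻¹ * y') * s⁻¹ := by group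
    rw [e']; exact h2)
  have hσmk : ∀ y : Q, σ₀ (QuotientGroup.mk y) = QuotientGroup.mk ⟨s * y * s⁻¹, hsQ y y.2⟩ :=
    fun y => rfl
  have hσiter : ∀ (i : ℕ) (y : Q), σ₀^[i] (QuotientGroup.mk y) =
      QuotientGroup.mk ⟨s ^ i * y * (s ^ i)⁻¹, hQn.conj_mem y y.2 (s ^ i)⟩ := by
    intro i
    induction i with
    | zero => intro y; simp
    | succ i ihi =>
      intro y
      rw [Function.iterate_succ_apply', ihi, hσmk]
      congr 1
      refine Subtype.ext ?_
      show s * (s ^ i * y * (s ^ i)⁻¹) * s⁻¹ = s ^ (i + 1) * y * (s ^ (i + 1))⁻¹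
      rw [pow_succ']; group
  have hσN : ∀ m, σ₀^[N] m = m := by
    intro m
    obtain ⟨y, rfl⟩ := QuotientGroup.mk_surjective m
    rw [hσiter]
    congr 1
    exact Subtype.ext (by show s ^ N * y * (s ^ N)⁻¹ = y; rw [hs, one_mul, inv_one, mul_one])
  have hσfree : ∀ i, 0 < i → i < N → ∀ m, σ₀^[i] m = m → m = 1 := by
    intro i hi hiN m hm
    obtain ⟨y, rfl⟩ := QuotientGroup.mk_surjective m
    rw [hσiter, QuotientGroup.eq] at hm
    have h1 : (s ^ i * y * (s ^ i)⁻¹)⁻¹ * (y : Γ) ∈ R := hm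
    refine (QuotientGroup.eq_one_iff y).2 (hfree i hi hiN y y.2 ?_)
    have e' : ⁅s ^ i, (y : Γ)⁆ = (y : Γ) * ((s ^ i * y * (s ^ i)⁻¹)⁻¹ * (y : Γ))⁻¹ * (y : Γ)⁻¹ := by
      rw [commutatorElement_def]; group
    rw [e']
    exact hRs _ _ (R.inv_mem h1)
  let σ : Equiv.Perm Mb := Equiv.ofBijective σ₀
    (Finite.surjective_iff_bijective.1 fun m => ⟨σ₀^[N - 1] m, by
      have h := hσN m
      rwa [show N = N - 1 + 1 by omega, Function.iterate_succ_apply'] at h⟩)
  have hσpow : ∀ (i : ℕ) (m : Mb), (σ ^ i) m = σ₀^[i] m := fun i m => by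
    rw [Equiv.Perm.coe_pow]; rfl
  -- the coefficients of a fixed vector
  let bas : Module.Basis Mb K B := Module.Basis.span hli
  have hbas : ∀ m, ((bas m : B) : Module.End K W) = u m := fun m => congrArg Subtype.val (Module.Basis.span_apply hli m)
  choose c hc using fun m' : Mb => hrep (s * a m' * s⁻¹) (hsQ _ (haQ m'))
  have hσm : ∀ m', QuotientGroup.mk (⟨s * a m' * s⁻¹, hsQ _ (haQ m')⟩ : Q) = σ₀ m' := fun m' => by
    conv_rhs => rw [← QuotientGroup.out_eq' m']
    exact (hσmk m'.out).symm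
  have hfixC := finrank_commutant_eq e φ.toLinearMap hSinv' hφS1
  have hfixle := finrank_fixed_le bas φ.toLinearMap σ c fun m => Subtype.ext (by
    rw [SetLike.val_smul]
    show ((φ (bas m) : B) : Module.End K W) = c m • ((bas (σ m) : B) : Module.End K W)
    rw [hφ, hbas, hbas, show θ s * u m * θ s⁻¹ = θ (s * a m * s⁻¹) by rw [map_mul, map_mul], hc m,
      hσm]
    rfl)
  -- counting orbits
  obtain ⟨m₁, hm₁⟩ : ∃ m : Mb, m ≠ 1 := by
    by_contra hno
    push Not at hno
    refine hQR fun y hy => ?_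
    exact (QuotientGroup.eq_one_iff (⟨y, hy⟩ : Q)).1 (hno _)
  have hσord : orderOf σ = N := by
    refine (orderOf_eq_iff hN).2 ⟨Equiv.ext fun m => by rw [hσpow, hσN, Equiv.Perm.one_apply],
      fun i hiN hi h1 => hm₁ (hσfree i hi hiN m₁ ?_)⟩
    rw [← hσpow, h1, Equiv.Perm.one_apply]
  have hcount := card_orbits_free σ N hσord 1 (by
    show σ₀ ((1 : Q) : Q ⧸ R.subgroupOf Q) = 1
    refine (hσmk 1).trans ((QuotientGroup.eq_one_iff _).2 ?_)
    show s * ((1 : Q) : Γ) * s⁻¹ ∈ R
    rw [OneMemClass.coe_one, mul_one, mul_inv_cancel]; exact R.one_mem)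
    fun i hi hiN m hm => hσfree i hi hiN m (by rwa [hσpow] at hm)
  rw [Nat.card_eq_fintype_card (α := Mb)] at hcount
  rw [hdd] at hcount
  have hd2 : 2 ≤ d := by
    by_contra hlt
    refine hQR (Subgroup.relIndex_eq_one.1 ?_)
    rw [hrel]
    have hd0' : d ≠ 0 := NeZero.ne d
    have h1 : d = 1 := by omega
    rw [h1, mul_one]
  rw [hfixC] at hC1 hC2
  generalize hCdef : Module.finrank K (LinearMap.ker (φ.toLinearMap - LinearMap.id)) = C at hC1 hC2 hfixle
  have hCo : N * C + 1 ≤ d * d + N := by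
    have := Nat.mul_le_mul_left N hfixle
    omega
  have hNd : N ≤ d + 1 := by
    by_contra hlt
    push Not at hlt
    have h1 : N * d + 1 ≤ d * d + N := by
      have := Nat.mul_le_mul_left N hC1
      omega
    nlinarith
  have hdN : d + 1 ≤ N := by
    by_contra hlt
    push Not at hlt
    have h1 : d * d ≤ (N - 1) * C := hC2.trans (Nat.mul_le_mul_right C (by omega))
    obtain ⟨M, rfl⟩ : ∃ M, N = M + 1 := ⟨N - 1, by omega⟩
    rw [Nat.add_sub_cancel] at h1
    nlinarith
  refine ⟨d, hrel, by omega, ?_⟩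
  have hCd : C ≤ d := by
    by_contra hlt
    push Not at hlt
    have h1 : N * (d + 1) ≤ N * C := Nat.mul_le_mul_left N hlt
    have hNeq : N = d + 1 := by omega
    rw [hNeq] at h1 hCo
    nlinarith
  have h5 : d * d ≤ k * d := hC2.trans (Nat.mul_le_mul_left k hCd)
  exact Nat.le_of_mul_le_mul_right h5 (by omega)

end CfsgLib.Solvable.FPFOperators
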