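import Mathlib.GroupTheory.FiniteAbelian.Duality
import Mathlib.RingTheory.RootsOfUnity.AlgebraicallyClosed
import Mathlib.Algebra.Algebra.Basic

/-!
# Weights of an abelian normal subgroup in an algebra

For `ρ : Γ →* R` into an algebra over an algebraically closed field and an abelian normal
subgroup `Z` of order invertible in the field, the weight idempotents decompose `1` and are
permuted by `Γ`.
-/

set_option autoImplicit false

namespace CfsgLib.Solvable.FPFOperators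

variable {K : Type*} [Field K] {R : Type*} [Ring R] [Algebra K R] {Γ : Type*} [Group Γ]

/-- The idempotent cutting out the weight `χ`. -/
noncomputable def weightIdem (Z : Subgroup Γ) [Fintype Z] (ρ : Γ →* R) (χ : Z →* Kˣ) : R :=
  (Fintype.card Z : K)⁻¹ • ∑ z : Z, (χ z⁻¹ : K) • ρ (z : Γ)

variable {Z : Subgroup Γ} [Fintype Z] (ρ : Γ →* R)

theorem map_mem_mul_weightIdem (χ : Z →* Kˣ) (z : Z) :
    ρ (z : Γ) * weightIdem Z ρ χ = (χ z : K) • weightIdem Z ρ χ := by
  have h : ρ (z : Γ) * ∑ w : Z, (χ w⁻¹ : K) • ρ (w : Γ) =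
      (χ z : K) • ∑ w : Z, (χ w⁻¹ : K) • ρ (w : Γ) := by
    rw [Finset.mul_sum, Finset.smul_sum]
    refine Fintype.sum_equiv (Equiv.mulLeft z) _ _ fun w => ?_
    rw [mul_smul_comm, ← map_mul, smul_smul, ← Units.val_mul, Equiv.coe_mulLeft,
      ← Subgroup.coe_mul, mul_inv_rev, map_mul χ, mul_left_comm, ← map_mul χ, mul_inv_cancel,
      map_one, mul_one]
  rw [weightIdem, mul_smul_comm, h, smul_comm]

theorem weightIdem_mul_mem (χ : Z →* Kˣ) (z : Z) :
    weightIdem Z ρ χ * ρ (z : Γ) = (χ z : K) • weightIdem Z ρ χ := by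
  have h : (∑ w : Z, (χ w⁻¹ : K) • ρ (w : Γ)) * ρ (z : Γ) =
      (χ z : K) • ∑ w : Z, (χ w⁻¹ : K) • ρ (w : Γ) := by
    rw [Finset.sum_mul, Finset.smul_sum]
    refine Fintype.sum_equiv (Equiv.mulRight z) _ _ fun w => ?_
    rw [smul_mul_assoc, ← map_mul, smul_smul, ← Units.val_mul, ← map_mul, Equiv.coe_mulRight,
      ← Subgroup.coe_mul, mul_inv_rev, mul_inv_cancel_left]
  rw [weightIdem, smul_mul_assoc, h, smul_comm]

theorem weightIdem_mul_eq (χ χ' : Z →* Kˣ) :
    weightIdem Z ρ χ * weightIdem Z ρ χ' =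
      ((Fintype.card Z : K)⁻¹ * ∑ z : Z, ((χ' * χ⁻¹ : Z →* Kˣ) z : K)) • weightIdem Z ρ χ' := by
  conv_lhs => rw [weightIdem, smul_mul_assoc, Finset.sum_mul]
  rw [mul_smul, Finset.sum_smul]
  congr 1
  refine Finset.sum_congr rfl fun z _ => ?_
  rw [smul_mul_assoc, map_mem_mul_weightIdem, smul_smul, MonoidHom.mul_apply, MonoidHom.inv_apply,
    Units.val_mul, map_inv, mul_comm]

theorem weightIdem_mul_self (hZ : (Fintype.card Z : K) ≠ 0) (χ : Z →* Kˣ) :
    weightIdem Z ρ χ * weightIdem Z ρ χ = weightIdem Z ρ χ := by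
  rw [weightIdem_mul_eq]
  simp [hZ]

theorem weightIdem_orth {χ χ' : Z →* Kˣ} (h : χ ≠ χ') :
    weightIdem Z ρ χ * weightIdem Z ρ χ' = 0 := by
  rw [weightIdem_mul_eq]
  have hne : (Units.coeHom K).comp (χ' * χ⁻¹) ≠ 1 := fun h1 => h (by
    refine MonoidHom.ext fun z => Units.ext ?_
    have h2 := congrArg (fun f : Z →* K => f z) h1
    simp only [MonoidHom.comp_apply, MonoidHom.mul_apply, MonoidHom.inv_apply, Units.coeHom_apply,
      MonoidHom.one_apply, Units.val_mul, Units.val_inv_eq_inv_val] at h2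
    exact (mul_inv_eq_one₀ (Units.ne_zero _)).mp h2 |>.symm)
  rw [show (∑ z : Z, ((χ' * χ⁻¹ : Z →* Kˣ) z : K)) = 0 from sum_hom_units_eq_zero _ hne, mul_zero,
    zero_smul]

section Dual

variable [IsAlgClosed K]

theorem exists_dual_ne_one (hcomm : IsMulCommutative Z) (hZ : (Fintype.card Z : K) ≠ 0) {z : Z}
    (hz : z ≠ 1) : ∃ φ : Z →* Kˣ, φ z ≠ 1 := by
  haveI := hcomm
  letI : CommGroup Z := { (inferInstance : Group Z) with mul_comm := mul_comm' }
  haveI : NeZero ((Monoid.exponent Z : ℕ) : K) := ⟨fun h => hZ (by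
    obtain ⟨k, hk⟩ := Monoid.exponent_dvd_of_forall_pow_eq_one fun g : Z => pow_card_eq_one (G := Z) (x := g)
    rw [hk, Nat.cast_mul, h, zero_mul])⟩
  exact CommGroup.exists_apply_ne_one_of_hasEnoughRootsOfUnity Z K hz

theorem card_dual (hcomm : IsMulCommutative Z) (hZ : (Fintype.card Z : K) ≠ 0) :
    Finite (Z →* Kˣ) ∧ Nat.card (Z →* Kˣ) = Fintype.card Z := by
  haveI := hcomm
  letI : CommGroup Z := { (inferInstance : Group Z) with mul_comm := mul_comm' }
  haveI : NeZero ((Monoid.exponent Z : ℕ) : K) := ⟨fun h => hZ (by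
    obtain ⟨k, hk⟩ := Monoid.exponent_dvd_of_forall_pow_eq_one fun g : Z => pow_card_eq_one (G := Z) (x := g)
    rw [hk, Nat.cast_mul, h, zero_mul])⟩
  refine ⟨Finite.of_equiv Z
    (CommGroup.monoidHom_mulEquiv_of_hasEnoughRootsOfUnity Z K).some.toEquiv.symm, ?_⟩
  rw [CommGroup.card_monoidHom_of_hasEnoughRootsOfUnity, Nat.card_eq_fintype_card]

theorem sum_weightIdem (hcomm : IsMulCommutative Z) (hZ : (Fintype.card Z : K) ≠ 0)
    [Fintype (Z →* Kˣ)] : ∑ χ : Z →* Kˣ, weightIdem Z ρ χ = 1 := by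
  classical
  have horth : ∀ z : Z, ∑ χ : Z →* Kˣ, (χ z⁻¹ : K) =
      if z = 1 then (Fintype.card Z : K) else 0 := by
    intro z
    split_ifs with h
    · subst h
      simp only [inv_one, map_one, Units.val_one, Finset.sum_const, Finset.card_univ,
        nsmul_eq_mul, mul_one]
      rw [← Nat.card_eq_fintype_card, (card_dual hcomm hZ).2]
    · obtain ⟨φ, hφ⟩ := exists_dual_ne_one (K := K) hcomm hZ (inv_ne_one.mpr h)
      have h1 : ∑ χ : Z →* Kˣ, (χ z⁻¹ : K) = (φ z⁻¹ : K) * ∑ χ : Z →* Kˣ, (χ z⁻¹ : K) := by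
        rw [Finset.mul_sum, ← Equiv.sum_comp (Equiv.mulLeft φ) fun χ : Z →* Kˣ => (χ z⁻¹ : K)]
        exact Finset.sum_congr rfl fun χ _ => by
          rw [Equiv.coe_mulLeft, MonoidHom.mul_apply, Units.val_mul]
      by_contra h0
      exact hφ (Units.ext ((mul_eq_right₀ h0).mp h1.symm))
  simp only [weightIdem]
  rw [← Finset.smul_sum, Finset.sum_comm]
  simp only [← Finset.sum_smul, horth, ite_smul, zero_smul, Finset.sum_ite_eq', Finset.mem_univ,
    if_true, Subgroup.coe_one, map_one, smul_smul, inv_mul_cancel₀ hZ, one_smul]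

theorem eq_of_forall_mul_weightIdem (hcomm : IsMulCommutative Z) (hZ : (Fintype.card Z : K) ≠ 0)
    {x y : R} (h : ∀ χ : Z →* Kˣ, weightIdem Z ρ χ ≠ 0 →
      x * weightIdem Z ρ χ = y * weightIdem Z ρ χ) : x = y := by
  haveI := (card_dual (K := K) hcomm hZ).1
  cases nonempty_fintype (Z →* Kˣ)
  rw [← mul_one x, ← mul_one y, ← sum_weightIdem (K := K) ρ hcomm hZ, Finset.mul_sum,
    Finset.mul_sum]
  refine Finset.sum_congr rfl fun χ _ => ?_
  by_cases h0 : weightIdem Z ρ χ = 0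
  · rw [h0, mul_zero, mul_zero]
  · exact h χ h0

end Dual

section Action

variable [hZn : Z.Normal]

/-- `Γ` acts on the weights of a normal subgroup. -/
noncomputable instance dualAction : MulAction Γ (Z →* Kˣ) where
  smul g χ := χ.comp (MulAut.conjNormal g⁻¹).toMonoidHom
  one_smul χ := MonoidHom.ext fun z => by
    show χ (MulAut.conjNormal (1 : Γ)⁻¹ z) = χ z
    rw [inv_one, map_one, MulAut.one_apply]
  mul_smul g h χ := MonoidHom.ext fun z => by
    show χ (MulAut.conjNormal (g * h)⁻¹ z) = χ (MulAut.conjNormal h⁻¹ (MulAut.conjNormal g⁻¹ z))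
    rw [mul_inv_rev, map_mul, MulAut.mul_apply]

theorem dual_smul_apply (g : Γ) (χ : Z →* Kˣ) (z : Z) :
    (g • χ) z = χ (MulAut.conjNormal g⁻¹ z) := rfl

theorem dual_smul_one (g : Γ) : g • (1 : Z →* Kˣ) = 1 := MonoidHom.ext fun _ => rfl

theorem dual_smul_eq_self_of_commute {g : Γ} (χ : Z →* Kˣ) (h : ∀ z ∈ Z, g * z = z * g) :
    g • χ = χ := MonoidHom.ext fun z => by
  rw [dual_smul_apply]
  refine congrArg χ (Subtype.ext ?_)
  rw [MulAut.conjNormal_apply, inv_inv, mul_assoc, ← h z z.2, inv_mul_cancel_left]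

/-- The weights are permuted. -/
theorem map_mul_weightIdem_smul (g : Γ) (χ : Z →* Kˣ) :
    ρ g * weightIdem Z ρ χ = weightIdem Z ρ (g • χ) * ρ g := by
  have h : ρ g * ∑ w : Z, (χ w⁻¹ : K) • ρ (w : Γ) =
      (∑ w : Z, ((g • χ) w⁻¹ : K) • ρ (w : Γ)) * ρ g := by
    rw [Finset.mul_sum, Finset.sum_mul]
    refine Fintype.sum_equiv (MulAut.conjNormal g : MulAut Z).toEquiv _ _ fun w => ?_
    rw [mul_smul_comm, smul_mul_assoc, ← map_mul, ← map_mul, MulEquiv.toEquiv_eq_coe,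
      EquivLike.coe_coe, MulAut.conjNormal_apply, dual_smul_apply, inv_mul_cancel_right,
      ← map_inv (MulAut.conjNormal g : MulAut Z), ← MulAut.mul_apply, ← map_mul, inv_mul_cancel,
      map_one, MulAut.one_apply]
  rw [weightIdem, weightIdem, mul_smul_comm, smul_mul_assoc, h]

theorem weightIdem_smul_eq_zero_iff (g : Γ) (χ : Z →* Kˣ) :
    weightIdem Z ρ (g • χ) = 0 ↔ weightIdem Z ρ χ = 0 := by
  constructor
  · intro h
    have h1 := map_mul_weightIdem_smul ρ g χ
    rw [h, zero_mul] at h1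
    have h2 := congrArg (ρ g⁻¹ * ·) h1
    simpa [← mul_assoc, ← map_mul] using h2
  · intro h
    have h1 := map_mul_weightIdem_smul ρ g χ
    rw [h, mul_zero] at h1
    have h2 := congrArg (· * ρ g⁻¹) h1
    simpa [mul_assoc, ← map_mul] using h2.symm

end Action

end CfsgLib.Solvable.FPFOperators
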