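import Cfsg.Agent.Lib.Solvable.FPFOperators.PLengthHH
import Cfsg.Prelude.Def_LocalEven

/-!
# A regular orbit on the top layer gives a section `C_p ≀ C_p` of a Sylow subgroup
-/

set_option autoImplicit false

namespace CfsgLib.Solvable.FPFOperators

open Subgroup CfsgLib
open scoped commutatorElement

universe u

variable {p : ℕ} [Fact p.Prime]

/-- The properties of `C_p ≀ C_p` named in the statement. -/
def IsWreath (p : ℕ) (W : Type*) [Group W] : Prop :=
  ∃ (B : Subgroup W) (t : W), B.Normal ∧ IsMulCommutative B ∧ (∀ b ∈ B, b ^ p = 1) ∧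
    Nat.card B = p ^ p ∧ orderOf t = p ∧ t ∉ B ∧ Nat.card W = p ^ (p + 1) ∧
    Nat.card ↥(B ⊓ Subgroup.centralizer ({t} : Set W)) = p

theorem IsWreath.congr {W W' : Type*} [Group W] [Group W'] (e : W ≃* W') (h : IsWreath p W) :
    IsWreath p W' := by
  obtain ⟨B, t, hn, hc, he, hB, ht, htB, hW, hcen⟩ := h
  refine ⟨B.map e.toMonoidHom, e t, hn.map _ e.surjective, ?_, ?_, ?_, ?_, ?_, ?_, ?_⟩
  · refine isMulCommutative_iff.2 ?_
    rintro ⟨_, a, ha, rfl⟩ ⟨_, b, hb, rfl⟩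
    refine Subtype.ext ?_
    show e a * e b = e b * e a
    rw [← map_mul, ← map_mul]
    exact congrArg e (congrArg Subtype.val (isMulCommutative_iff.1 hc ⟨a, ha⟩ ⟨b, hb⟩))
  · rintro _ ⟨b, hb, rfl⟩
    rw [← map_pow, he b hb, map_one]
  · rw [card_map_of_injective e.injective, hB]
  · rw [MulEquiv.orderOf_eq, ht]
  · rintro ⟨b, hb, hbt⟩
    exact htB (e.injective hbt ▸ hb)
  · rw [← Nat.card_congr e.toEquiv, hW]
  · rw [← hcen, ← card_map_of_injective (f := e.toMonoidHom)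
      (K := B ⊓ centralizer ({t} : Set W)) e.injective]
    refine congrArg (fun S : Subgroup W' => Nat.card S) (Subgroup.ext fun w => ?_)
    obtain ⟨w, rfl⟩ := e.surjective w
    rw [Subgroup.mem_map_equiv, e.symm_apply_apply]
    simp only [mem_inf, mem_centralizer_singleton_iff, Subgroup.mem_map_equiv, e.symm_apply_apply]
    exact and_congr_right fun _ => by rw [← map_mul, ← map_mul]; exact e.injective.eq_iff

/-- A finite section transfers to the smallest universe. -/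
theorem exists_small_involves {W : Type u} [Group W] [Finite W] {P : Type u} [Group P]
    (h : Cfsg.Involves W P) :
    ∃ (W' : Type) (_ : Group W') (_ : Finite W') (_ : W ≃* W'), Cfsg.Involves W' P := by
  obtain ⟨K, R, hn, ⟨f⟩⟩ := h
  haveI : Small.{0} W := ⟨⟨Fin (Nat.card W), ⟨Finite.equivFin W⟩⟩⟩
  exact ⟨Shrink.{0} W, inferInstance, Finite.of_equiv W (equivShrink.{0} W), (Shrink.mulEquiv.{0}).symm,
    K, R, hn, ⟨f.trans (Shrink.mulEquiv.{0}).symm⟩⟩

theorem exists_shift_surjective {V : Type u} [AddCommGroup V] [Module (ZMod p) V] [Finite V]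
    (A : Module.End (ZMod p) V) (hA : A ^ p = 1) (hreg : (A - 1) ^ (p - 1) ≠ 0) :
    ∃ f : Module.Dual (ZMod p) V, Function.Surjective fun v (i : Fin p) => f ((A ^ (i : ℕ)) v) := by
  classical
  have hp : p.Prime := Fact.out
  obtain ⟨v₀, hv₀⟩ : ∃ v₀, ((A - 1) ^ (p - 1)) v₀ ≠ 0 := by
    by_contra hno
    push Not at hno
    exact hreg (LinearMap.ext hno)
  obtain ⟨f, hf⟩ := Module.Projective.exists_dual_ne_zero (ZMod p) hv₀
  refine ⟨f, ?_⟩
  let L : V →ₗ[ZMod p] Fin p → ZMod p := LinearMap.pi fun i : Fin p => f.comp (A ^ (i : ℕ))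
  let C : (Fin p → ZMod p) →ₗ[ZMod p] V :=
    ∑ j : Fin p, (LinearMap.proj j).smulRight (((A - 1) ^ (j : ℕ)) v₀)
  have hC : ∀ c, C c = ∑ j : Fin p, c j • ((A - 1) ^ (j : ℕ)) v₀ := fun c => by
    simp [C, LinearMap.sum_apply]
  have hDp : (A - 1) ^ p = 0 := by
    have h := sub_pow_pow_end A 1
    rwa [pow_one, hA, sub_self] at h
  have hinj : Function.Injective (L ∘ₗ C) := by
    rw [injective_iff_map_eq_zero]
    intro c hc
    have h0 : ∀ i : ℕ, f ((A ^ i) (C c)) = 0 := by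
      intro i
      have h1 := congrFun hc ⟨i % p, Nat.mod_lt i hp.pos⟩
      have h2 : A ^ i = A ^ (i % p) := by
        conv_lhs => rw [← Nat.mod_add_div i p]
        rw [pow_add, pow_mul, hA, one_pow, mul_one]
      rw [h2]; exact h1
    have hD : ∀ k i : ℕ, f ((A ^ i) (((A - 1) ^ k) (C c))) = 0 := by
      intro k
      induction k with
      | zero => intro i; rw [pow_zero, Module.End.one_apply]; exact h0 i
      | succ k ih =>
        intro i
        rw [pow_succ', Module.End.mul_apply, LinearMap.sub_apply, Module.End.one_apply, map_sub,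
          ← Module.End.mul_apply, ← pow_succ, map_sub, ih, ih, sub_self]
    by_contra hne
    obtain ⟨j, hj⟩ := Function.ne_iff.1 hne
    let S := Finset.univ.filter fun j : Fin p => c j ≠ 0
    have hS : S.Nonempty := ⟨j, by simpa [S] using hj⟩
    set j₀ := S.min' hS with hj₀
    have hj₀ne : c j₀ ≠ 0 := (Finset.mem_filter.1 (S.min'_mem hS)).2
    have h3 := hD (p - 1 - (j₀ : ℕ)) 0
    rw [pow_zero, Module.End.one_apply, hC, map_sum, map_sum, Finset.sum_eq_single j₀] at h3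
    · rw [map_smul, map_smul, ← Module.End.mul_apply, ← pow_add,
        show p - 1 - (j₀ : ℕ) + j₀ = p - 1 by omega, smul_eq_mul, mul_eq_zero] at h3
      exact h3.elim hj₀ne hf
    · intro b _ hb
      by_cases hcb : c b = 0
      · rw [hcb, zero_smul, map_zero, map_zero]
      · have hlt : (j₀ : ℕ) < b := lt_of_le_of_ne
          (S.min'_le b (Finset.mem_filter.2 ⟨Finset.mem_univ _, hcb⟩))
          fun h => hb (Fin.ext h.symm)
        rw [map_smul, ← Module.End.mul_apply, ← pow_add,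
          pow_eq_zero_of_le (show p ≤ p - 1 - (j₀ : ℕ) + b by omega) hDp, LinearMap.zero_apply,
          smul_zero, map_zero]
    · exact fun h => absurd (Finset.mem_univ _) h
  intro t
  obtain ⟨c, hc⟩ := (LinearMap.injective_iff_surjective.1 hinj) t
  exact ⟨C c, hc⟩

/-- A regular element of order `p` gives a section `C_p ≀ C_p`. -/
theorem exists_wreath_section {G : Type u} [Group G] [Finite G] {U : Subgroup G} [U.Normal]
    {V : Type u} [AddCommGroup V] [Module (ZMod p) V] [Finite V]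
    (ρ₀ : G ⧸ U →* Module.End (ZMod p) V) (π : U → V)
    (hsurj : ∀ (P : Sylow p G) (v : V), ∃ w : U, (w : G) ∈ (P : Subgroup G) ∧ π w = v)
    (hadd : ∀ a b, π (a * b) = π a + π b)
    (hconj : ∀ (g : G) (a b : U), (b : G) = g * a * g⁻¹ → π b = ρ₀ (g : G ⧸ U) (π a))
    (P : Sylow p G) {g : G} (hg : g ∈ (P : Subgroup G)) (hgp : g ^ p ∈ U)
    (hreg : (ρ₀ (g : G ⧸ U) - 1) ^ (p - 1) ≠ 0) :
    ∃ (W : Type) (_ : Group W) (_ : Finite W), IsWreath p W ∧ Cfsg.Involves W ↥(P : Subgroup G) := by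
  classical
  have hp : p.Prime := Fact.out
  set A := ρ₀ (g : G ⧸ U) with hA
  have hApow : A ^ p = 1 := by
    rw [hA, ← map_pow, ← QuotientGroup.mk_pow, (QuotientGroup.eq_one_iff _).2 hgp, map_one]
  have hgU : g ∉ U := fun h => hreg (by
    rw [hA, (QuotientGroup.eq_one_iff g).2 h, map_one, sub_self, zero_pow (Nat.sub_ne_zero_of_lt hp.one_lt)])
  obtain ⟨f, hfs⟩ := exists_shift_surjective A hApow hreg
  set PP := ↥(P : Subgroup G)
  set P₀ := U.subgroupOf (P : Subgroup G) with hP₀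
  let π₀ : P₀ → V := fun a => π ⟨((a : PP) : G), a.2⟩
  have hπ1 : π 1 = 0 := by
    have h := hadd 1 1
    rwa [mul_one, left_eq_add] at h
  let Λ : P₀ →* Multiplicative (Fin p → ZMod p) := MonoidHom.mk'
    (fun a => Multiplicative.ofAdd fun i : Fin p => f ((A ^ (i : ℕ)) (π₀ a))) fun a b => by
      rw [← ofAdd_add]
      refine congrArg Multiplicative.ofAdd (funext fun i => ?_)
      show f ((A ^ (i : ℕ)) (π₀ (a * b))) = _
      rw [show π₀ (a * b) = π₀ a + π₀ b from hadd ⟨((a : PP) : G), a.2⟩ ⟨((b : PP) : G), b.2⟩,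
        map_add, map_add]
      rfl
  have hΛs : Function.Surjective Λ := by
    intro t
    obtain ⟨v, hv⟩ := hfs t.toAdd
    obtain ⟨w, hwP, rfl⟩ := hsurj P v
    exact ⟨⟨⟨w, hwP⟩, w.2⟩, congrArg Multiplicative.ofAdd hv⟩
  set R := Λ.ker.map P₀.subtype with hR
  have hRmem : ∀ a : P₀, (a : PP) ∈ R ↔ Λ a = 1 := fun a => by
    rw [hR]
    exact (mem_map_iff_mem P₀.subtype_injective).trans MonoidHom.mem_ker
  let g' : PP := ⟨g, hg⟩
  haveI hP₀n : P₀.Normal := (inferInstance : U.Normal).subgroupOf _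
  have hconjΛ : ∀ (a : P₀) (i : Fin p), (Λ ⟨g' * a * g'⁻¹, hP₀n.conj_mem _ a.2 g'⟩).toAdd i =
      f ((A ^ ((i : ℕ) + 1)) (π₀ a)) := by
    intro a i
    show f ((A ^ (i : ℕ)) (π₀ _)) = _
    rw [pow_succ, Module.End.mul_apply]
    exact congrArg (fun v => f ((A ^ (i : ℕ)) v)) (hconj g _ _ rfl)
  have hperiod : ∀ i : ℕ, A ^ i = A ^ (i % p) := fun i => by
    conv_lhs => rw [← Nat.mod_add_div i p]
    rw [pow_add, pow_mul, hApow, one_pow, mul_one]
  set Kg := P₀ ⊔ zpowers g' with hKg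
  have hRle : R ≤ P₀ := map_subtype_le _
  have hP₀N : P₀ ≤ normalizer (R : Set PP) := le_normalizer_iff.2 fun b hb x hx => by
    obtain ⟨a, ha, rfl⟩ := hx
    exact ⟨⟨b, hb⟩ * a * ⟨b, hb⟩⁻¹, (inferInstance : Λ.ker.Normal).conj_mem a ha _, rfl⟩
  have hgN : g' ∈ normalizer (R : Set PP) := by
    refine le_normalizer_iff.2 (fun b hb x hx => ?_) (mem_zpowers g')
    obtain ⟨k, rfl⟩ := (isOfFinOrder_of_finite g').mem_powers_iff_mem_zpowers.mpr hb
    show g' ^ k * x * (g' ^ k)⁻¹ ∈ R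
    clear hb
    induction k with
    | zero => simpa using hx
    | succ k ih =>
      rw [show g' ^ (k + 1) * x * (g' ^ (k + 1))⁻¹ = g' * (g' ^ k * x * (g' ^ k)⁻¹) * g'⁻¹ by
        rw [pow_succ']; group]
      obtain ⟨a, ha, he⟩ := ih
      rw [← he]
      refine (hRmem ⟨_, hP₀n.conj_mem _ a.2 g'⟩).2 (Multiplicative.toAdd.injective (funext fun i => ?_))
      rw [hconjΛ, hperiod]
      exact congrFun (congrArg Multiplicative.toAdd (MonoidHom.mem_ker.1 ha)) ⟨_, Nat.mod_lt _ hp.pos⟩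
  have hRK : R ≤ Kg := hRle.trans le_sup_left
  haveI hRn : (R.subgroupOf Kg).Normal :=
    (normal_subgroupOf_iff_le_normalizer hRK).2 (sup_le hP₀N (zpowers_le.2 hgN))
  set mk := QuotientGroup.mk' (R.subgroupOf Kg) with hmk
  have hmks : Function.Surjective mk := QuotientGroup.mk'_surjective _
  let ι : P₀ →* Kg := Subgroup.inclusion le_sup_left
  let β : P₀ →* Kg ⧸ R.subgroupOf Kg := mk.comp ι
  have hβker : ∀ a, β a = 1 ↔ Λ a = 1 := fun a => (QuotientGroup.eq_one_iff (ι a)).trans (hRmem a)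
  have hβeq : ∀ a b, β a = β b ↔ Λ a = Λ b := fun a b => by
    rw [← mul_inv_eq_one, ← map_inv, ← map_mul, hβker, map_mul, map_inv, mul_inv_eq_one]
  -- the element of order `p`
  set μ := f (π ⟨g ^ p, hgp⟩) with hμ
  obtain ⟨a, ha⟩ := hΛs (Multiplicative.ofAdd (Pi.single (⟨0, hp.pos⟩ : Fin p) (-μ)))
  let t₀ : Kg := ⟨(a : PP) * g', mul_mem_sup a.2 (mem_zpowers g')⟩
  set t := mk t₀ with ht
  have hg'p : g' ^ p ∈ P₀ := hgp
  have htp : t ^ p = 1 := by
    obtain ⟨b, hb, hπb⟩ := exists_pow_translate ρ₀ π hadd hconj g ⟨((a : PP) : G), a.2⟩ p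
    rw [ht, ← map_pow]
    refine (QuotientGroup.eq_one_iff (t₀ ^ p)).2 ?_
    have hmem : ((t₀ : PP) ^ p) ∈ P₀ := by
      show ((t₀ : PP) : G) ^ p ∈ U
      rw [show ((t₀ : PP) : G) ^ p = (b : G) * g ^ p from hb]
      exact U.mul_mem b.2 hgp
    refine (hRmem ⟨(t₀ : PP) ^ p, hmem⟩).2 (Multiplicative.toAdd.injective (funext fun i => ?_))
    show f ((A ^ (i : ℕ)) (π ⟨((t₀ : PP) : G) ^ p, hmem⟩)) = 0
    rw [show (⟨((t₀ : PP) : G) ^ p, hmem⟩ : U) = b * ⟨g ^ p, hgp⟩ from Subtype.ext hb, hadd, hπb]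
    have hfixN : A * (∑ k ∈ Finset.range p, A ^ k) = ∑ k ∈ Finset.range p, A ^ k := by
      have h1 := mul_geom_sum A p
      rw [hApow, sub_self, sub_mul, one_mul, sub_eq_zero] at h1
      exact h1
    have hfixg : A (π ⟨g ^ p, hgp⟩) = π ⟨g ^ p, hgp⟩ :=
      (hconj g ⟨g ^ p, hgp⟩ ⟨g ^ p, hgp⟩ (by
        show g ^ p = g * g ^ p * g⁻¹
        rw [← pow_succ', pow_succ, mul_inv_cancel_right])).symm
    have hN : ∀ j : ℕ, A ^ j * (∑ k ∈ Finset.range p, A ^ k) = ∑ k ∈ Finset.range p, A ^ k := by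
      intro j
      induction j with
      | zero => rw [pow_zero, one_mul]
      | succ j ih => rw [pow_succ, mul_assoc, hfixN, ih]
    have hG : ∀ j : ℕ, (A ^ j) (π ⟨g ^ p, hgp⟩) = π ⟨g ^ p, hgp⟩ := by
      intro j
      induction j with
      | zero => rw [pow_zero, Module.End.one_apply]
      | succ j ih => rw [pow_succ, Module.End.mul_apply, hfixg, ih]
    rw [map_add, hG, ← Module.End.mul_apply, ← hA, hN, LinearMap.sum_apply, map_add, map_sum,
      Finset.sum_range (fun k => f ((A ^ k) _))]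
    have hsum : ∑ k : Fin p, (Λ a).toAdd k = -μ := by
      rw [ha, toAdd_ofAdd]
      exact Fintype.sum_pi_single' _ _
    show (∑ k : Fin p, (Λ a).toAdd k) + μ = 0
    rw [hsum, neg_add_cancel]
  set B := β.range with hB
  have htB : t ∉ B := by
    rintro ⟨b, hb⟩
    have h1 : (t₀ : Kg)⁻¹ * ι b ∈ R.subgroupOf Kg := QuotientGroup.eq.1 hb.symm
    have h2 : ((t₀ : Kg)⁻¹ * ι b : Kg).1 ∈ P₀ := hRle h1
    have h3 : (t₀ : PP) ∈ P₀ := by
      have h4 : (t₀ : PP)⁻¹ * (b : PP) ∈ P₀ := h2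
      have h5 := P₀.mul_mem b.2 (P₀.inv_mem h4)
      rwa [mul_inv_rev, inv_inv, ← mul_assoc, mul_inv_cancel, one_mul] at h5
    exact hgU ((P₀.mul_mem_cancel_left a.2).1 h3)
  have htne : t ≠ 1 := fun h => htB (h ▸ B.one_mem)
  have hBcomm : ∀ x ∈ B, ∀ y ∈ B, x * y = y * x := by
    rintro _ ⟨x, rfl⟩ _ ⟨y, rfl⟩
    rw [← map_mul, ← map_mul, hβeq, map_mul, map_mul, mul_comm]
  have hconjt : ∀ (b : P₀) (i : Fin p), ∃ b' : P₀, t * β b * t⁻¹ = β b' ∧
      (Λ b').toAdd i = f ((A ^ ((i : ℕ) + 1)) (π₀ b)) := by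
    intro b i
    let c : P₀ := ⟨g' * b * g'⁻¹, hP₀n.conj_mem _ b.2 g'⟩
    refine ⟨c, ?_, hconjΛ b i⟩
    have h1 : t * β b * t⁻¹ = β (a * c * a⁻¹) := by
      rw [ht]
      show mk t₀ * mk (ι b) * (mk t₀)⁻¹ = mk (ι (a * c * a⁻¹))
      rw [← map_inv, ← map_mul, ← map_mul]
      refine congrArg mk (Subtype.ext ?_)
      show (a : PP) * g' * b * ((a : PP) * g')⁻¹ = a * (g' * b * g'⁻¹) * (a : PP)⁻¹
      simp only [mul_inv_rev, mul_assoc]
    rw [h1, hβeq, map_mul, map_mul, map_inv, mul_inv_cancel_comm]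
  have hBn : B.Normal := by
    refine ⟨fun x hx y => ?_⟩
    obtain ⟨b, rfl⟩ := hx
    obtain ⟨k, rfl⟩ := hmks y
    refine ⟨⟨(k : PP) * b * (k : PP)⁻¹, hP₀n.conj_mem _ b.2 _⟩, ?_⟩
    show mk (ι _) = mk k * mk (ι b) * (mk k)⁻¹
    rw [← map_inv, ← map_mul, ← map_mul]
    exact congrArg mk (Subtype.ext rfl)
  have hpc : ∀ x : Multiplicative (Fin p → ZMod p), x ^ p = 1 := fun x =>
    Multiplicative.toAdd.injective (funext fun i => by simp)
  have hcardB : Nat.card B = p ^ p := by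
    let Θ : Multiplicative (Fin p → ZMod p) → B :=
      fun c => ⟨β (Function.surjInv hΛs c), ⟨_, rfl⟩⟩
    have hΘ : Function.Bijective Θ := by
      refine ⟨fun c d h => ?_, fun ⟨_, b, hb⟩ => ⟨Λ b, Subtype.ext ?_⟩⟩
      · have h1 := (hβeq _ _).1 (congrArg Subtype.val h)
        rwa [Function.surjInv_eq hΛs, Function.surjInv_eq hΛs] at h1
      · exact ((hβeq _ _).2 (Function.surjInv_eq hΛs _)).trans hb
    rw [← Nat.card_eq_of_bijective Θ hΘ, Nat.card_congr Multiplicative.toAdd,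
      Nat.card_pi, Finset.prod_const, Finset.card_univ, Fintype.card_fin, Nat.card_zmod]
  have hcardW : Nat.card (Kg ⧸ R.subgroupOf Kg) = p ^ (p + 1) := by
    let χ : Kg →* G ⧸ U := (QuotientGroup.mk' U).comp ((P : Subgroup G).subtype.comp Kg.subtype)
    have hrange : χ.range = zpowers (g : G ⧸ U) := by
      refine le_antisymm ?_ (zpowers_le.2 ⟨⟨g', le_sup_right (a := P₀) (mem_zpowers g')⟩, rfl⟩)
      rintro _ ⟨⟨k, hk⟩, rfl⟩
      obtain ⟨x, hx, y, hy, rfl⟩ := mem_sup_of_normal_left.1 hk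
      obtain ⟨j, rfl⟩ := mem_zpowers_iff.1 hy
      refine ⟨j, ?_⟩
      show (g : G ⧸ U) ^ j = (((x : G) * ((g' ^ j : PP) : G) : G) : G ⧸ U)
      rw [QuotientGroup.mk_mul, show (((x : G)) : G ⧸ U) = 1 from (QuotientGroup.eq_one_iff _).2 hx, one_mul,
        Subgroup.coe_zpow, QuotientGroup.mk_zpow]
    have hker : χ.ker = P₀.subgroupOf Kg := Subgroup.ext fun k => by
      rw [MonoidHom.mem_ker]
      exact QuotientGroup.eq_one_iff _
    have hog : orderOf (g : G ⧸ U) = p := orderOf_eq_prime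
      (by rw [← QuotientGroup.mk_pow]; exact (QuotientGroup.eq_one_iff _).2 hgp)
      fun h => hgU ((QuotientGroup.eq_one_iff g).1 h)
    have h1 : Nat.card Kg = Nat.card P₀ * p := by
      rw [← card_mul_index χ.ker, index_ker, hrange, Nat.card_zpowers, hog, hker,
        Nat.card_congr (subgroupOfEquivOfLe le_sup_left).toEquiv]
    have h2 : Nat.card P₀ = Nat.card R * p ^ p := by
      rw [← card_mul_index Λ.ker, index_ker, MonoidHom.range_eq_top.2 hΛs, card_top,
        Nat.card_congr Multiplicative.toAdd, Nat.card_pi, Finset.prod_const, Finset.card_univ,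
        Fintype.card_fin, Nat.card_zmod, hR, card_map_of_injective P₀.subtype_injective]
    have h3 := card_mul_index (R.subgroupOf Kg)
    rw [index_eq_card, Nat.card_congr (subgroupOfEquivOfLe hRK).toEquiv, h1, h2, mul_assoc,
      ← pow_succ] at h3
    exact Nat.eq_of_mul_eq_mul_left Nat.card_pos h3
  have hcardC : Nat.card ↥(B ⊓ centralizer ({t} : Set (Kg ⧸ R.subgroupOf Kg))) = p := by
    let Θ : ZMod p → ↥(B ⊓ centralizer ({t} : Set (Kg ⧸ R.subgroupOf Kg))) := fun c =>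
      ⟨β (Function.surjInv hΛs (Multiplicative.ofAdd fun _ => c)), ⟨_, rfl⟩, by
        refine mem_centralizer_singleton_iff.2 ?_
        set b := Function.surjInv hΛs (Multiplicative.ofAdd fun _ => c) with hb
        have hbΛ : Λ b = Multiplicative.ofAdd fun _ => c := Function.surjInv_eq hΛs _
        have h : t * β b * t⁻¹ = β b := by
          obtain ⟨b', hb', -⟩ := hconjt b ⟨0, hp.pos⟩
          rw [hb', hβeq]
          refine Multiplicative.toAdd.injective (funext fun i => ?_)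
          obtain ⟨b'', hb'', hi⟩ := hconjt b i
          rw [(hβeq _ _).1 (hb'.symm.trans hb''), hi, hperiod]
          exact (congrFun (congrArg Multiplicative.toAdd hbΛ) ⟨_, Nat.mod_lt _ hp.pos⟩).trans
            (congrFun (congrArg Multiplicative.toAdd hbΛ) i).symm
        exact (mul_inv_eq_iff_eq_mul.1 h).symm⟩
    have hΘ : Function.Bijective Θ := by
      refine ⟨fun c d h => ?_, ?_⟩
      · have h1 := (hβeq _ _).1 (congrArg Subtype.val h)
        rw [Function.surjInv_eq hΛs, Function.surjInv_eq hΛs] at h1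
        exact congrFun (congrArg Multiplicative.toAdd h1) ⟨0, hp.pos⟩
      · rintro ⟨_, ⟨b, rfl⟩, hbt⟩
        replace hbt := mem_centralizer_singleton_iff.1 hbt
        have hbt' : t * β b * t⁻¹ = β b := mul_inv_eq_iff_eq_mul.2 hbt.symm
        refine ⟨(Λ b).toAdd ⟨0, hp.pos⟩, Subtype.ext ((hβeq _ _).2 ?_)⟩
        rw [Function.surjInv_eq hΛs]
        have hstep : ∀ i : ℕ, f ((A ^ i) (π₀ b)) = f (π₀ b) := by
          intro i
          induction i with
          | zero => rw [pow_zero, Module.End.one_apply]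
          | succ i ih =>
            obtain ⟨b', hb', hi⟩ := hconjt b ⟨i % p, Nat.mod_lt _ hp.pos⟩
            rw [(hβeq _ _).1 (hb'.symm.trans hbt')] at hi
            rw [pow_succ, hperiod i, ← pow_succ]
            refine hi.symm.trans ?_
            show f ((A ^ (i % p)) (π₀ b)) = _
            rw [← hperiod]; exact ih
        refine Multiplicative.toAdd.injective (funext fun i => ?_)
        exact ((hstep i).trans (hstep 0).symm).symm
    rw [← Nat.card_eq_of_bijective Θ hΘ, Nat.card_zmod]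
  haveI hWc : IsMulCommutative B :=
    isMulCommutative_iff.2 fun x y => Subtype.ext (hBcomm x x.2 y y.2)
  have hW : IsWreath p (Kg ⧸ R.subgroupOf Kg) := ⟨B, t, hBn, hWc, (by
    rintro _ ⟨b, rfl⟩
    rw [← map_pow, hβker, map_pow, hpc]), hcardB, orderOf_eq_prime htp htne, htB, hcardW, hcardC⟩
  obtain ⟨W', iW, iF, e, hI⟩ := exists_small_involves (W := Kg ⧸ R.subgroupOf Kg) (P := PP)
    ⟨Kg, R, hRn, ⟨MulEquiv.refl _⟩⟩
  exact ⟨W', iW, iF, hW.congr e, hI⟩

end CfsgLib.Solvable.FPFOperators
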